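import Cfsg.Agent.Lib.Helper93.M24Data

set_option autoImplicit false

namespace Cfsg.Agent.Lib.Helper93.Golay

open Cfsg
open scoped Pointwise

/-- Generic level statement: an orbit tree of generators fixing the mask `m`. -/
theorem level_spec (m : ℕ) (gens : List ℕ) (tree : List (ℕ × ℕ × ℕ)) (root mask : ℕ)
    (hg : gens.all (fun S => isAutC S && fixesMask S m) = true)
    (ht : treeRun gens (1 <<< root) tree = mask) (hroot : root < 24) :
    ∀ i (hi : i < 24), mask.testBit i = true →
      ∃ u ∈ Hfix m, u (ptOf ⟨root, hroot⟩) = ptOf ⟨i, hi⟩ := by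
  rw [← ht]
  apply treeRun_spec (Hfix m) gens
  · intro S hS
    have := List.all_eq_true.1 hg S hS
    rw [Bool.and_eq_true] at this
    exact ⟨isPerm_of_isAutC this.1, permC_mem_Hfix this.1 this.2⟩
  · intro i hi hbit
    rw [Nat.one_shiftLeft, Nat.testBit_two_pow] at hbit
    have : root = i := by simpa using hbit
    subst this
    exact ⟨1, (Hfix m).one_mem, rfl⟩

theorem gens_ok0 : gensL0.all (fun S => isAutC S && fixesMask S 0) = true := by decide +kernel
theorem gens_ok1 : gensL1.all (fun S => isAutC S && fixesMask S 1) = true := by decide +kernel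
theorem gens_ok2 : gensL2.all (fun S => isAutC S && fixesMask S 3) = true := by decide +kernel
theorem gens_ok3 : gensL3.all (fun S => isAutC S && fixesMask S 7) = true := by decide +kernel
theorem gens_ok4 : gensL4.all (fun S => isAutC S && fixesMask S 15) = true := by decide +kernel
theorem gens_ok5 : gensL5.all (fun S => isAutC S && fixesMask S 31) = true := by decide +kernel
theorem gens_ok6 : gensL6.all (fun S => isAutC S && fixesMask S 63) = true := by decide +kernel

theorem tree_ok0 : treeRun gensL0 (1 <<< 0) treeL0 = 16777215 := by decide +kernel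
theorem tree_ok1 : treeRun gensL1 (1 <<< 1) treeL1 = 16777214 := by decide +kernel
theorem tree_ok2 : treeRun gensL2 (1 <<< 2) treeL2 = 16777212 := by decide +kernel
theorem tree_ok3 : treeRun gensL3 (1 <<< 3) treeL3 = 16777208 := by decide +kernel
theorem tree_ok4 : treeRun gensL4 (1 <<< 4) treeL4 = 16777200 := by decide +kernel
theorem tree_ok5 : treeRun gensL5 (1 <<< 5) treeL5 = 16771936 := by decide +kernel
theorem tree_ok6 : treeRun gensL6 (1 <<< 7) treeL6 = 5248 := by decide +kernel

theorem rigid_ok : rigidChain 191 rigidCert = true := by decide +kernel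

/-- An element of `M24` fixing the seven base points is the identity. -/
theorem eq_one_of_mem_Hfix_base {g : Equiv.Perm GolayPt} (hg : g ∈ Hfix 191) : g = 1 :=
  rigid_spec rigid_ok hg.1 hg.2

/-- Two elements of `M24` agreeing on the seven base points are equal. -/
theorem eq_of_agree_on_base {g h : Equiv.Perm GolayPt} (hg : g ∈ M24) (hh : h ∈ M24)
    (hagree : ∀ p ∈ fset 191, g p = h p) : g = h := by
  have : h⁻¹ * g ∈ Hfix 191 := by
    refine ⟨M24.mul_mem (M24.inv_mem hh) hg, fun p hp => ?_⟩
    rw [Equiv.Perm.mul_apply, hagree p hp]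
    simp
  have := eq_one_of_mem_Hfix_base this
  rw [inv_mul_eq_one] at this
  exact this.symm

/-- The point with index `i`. -/
def P (i : ℕ) (hi : i < 24 := by decide) : GolayPt := ptOf ⟨i, hi⟩

theorem ptIdx_P (i : ℕ) (hi : i < 24) : ((ptIdx (P i hi) : Fin 24) : ℕ) = i := by
  unfold P
  rw [ptIdx_ptOf]

theorem P_ptIdx (p : GolayPt) : P (ptIdx p) (ptIdx p).isLt = p := ptOf_ptIdx p

theorem mem_fset_P (m i : ℕ) (hi : i < 24) : P i hi ∈ fset m ↔ m.testBit i = true := by
  rw [mem_fset, ptIdx_P]

theorem testBit_full {i : ℕ} (hi : i < 24) : (16777215 : ℕ).testBit i = true := by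
  have : (16777215 : ℕ) = 2 ^ 24 - 1 := by norm_num
  rw [this, Nat.testBit_two_pow_sub_one]
  simpa using hi

theorem image_not_mem_fixed {m : ℕ} {g : Equiv.Perm GolayPt} (hg : g ∈ Hfix m) {p : GolayPt}
    (hp : p ∉ fset m) : g p ∉ fset m := by
  intro h
  have := hg.2 _ h
  exact hp (g.injective this ▸ h)

theorem Hfix_or (m i : ℕ) (hi : i < 24) :
    Hfix (m ||| (1 <<< i)) = Hfix m ⊓ MulAction.stabilizer (Equiv.Perm GolayPt) (P i hi) := by
  ext g
  rw [Subgroup.mem_inf, MulAction.mem_stabilizer_iff, mem_Hfix, mem_Hfix]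
  constructor
  · rintro ⟨h1, h2⟩
    refine ⟨⟨h1, fun p hp => h2 p ?_⟩, h2 _ ?_⟩
    · rw [mem_fset] at hp ⊢
      rw [Nat.testBit_or, hp, Bool.true_or]
    · rw [mem_fset_P, Nat.testBit_or, Nat.one_shiftLeft, Nat.testBit_two_pow_self, Bool.or_true]
  · rintro ⟨⟨h1, h2⟩, h3⟩
    refine ⟨h1, fun p hp => ?_⟩
    rw [mem_fset, Nat.testBit_or, Bool.or_eq_true] at hp
    rcases hp with hp | hp
    · exact h2 p ((mem_fset _ _).2 hp)
    · rw [Nat.one_shiftLeft, Nat.testBit_two_pow] at hp
      have hip : i = (ptIdx p : ℕ) := by simpa using hp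
      have : p = P i hi := by
        subst hip
        exact (P_ptIdx p).symm
      rw [this]
      exact h3

theorem Hfix_zero : Hfix 0 = M24 := by
  ext g
  rw [mem_Hfix]
  constructor
  · exact fun h => h.1
  · intro h
    refine ⟨h, fun p hp => ?_⟩
    rw [mem_fset] at hp
    simp at hp

theorem Hfix_base_eq_bot : Hfix 191 = ⊥ := by
  rw [eq_bot_iff]
  intro g hg
  exact Subgroup.mem_bot.2 (eq_one_of_mem_Hfix_base hg)

/-- The base octad `{0, 1, 2, 3, 4, 7, 10, 12}`. -/
def O0 : Finset GolayPt := fset 5279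

theorem O0_mem : O0 ∈ octads := fset_mem_octads (by norm_num) (by decide +kernel) (by decide +kernel)

theorem smul_O0_of_mem_Hfix {m : ℕ} (hm : Nat.ble 5 (popcF (5279 &&& m)) = true) (hm' : m < 2 ^ 24)
    {g : Equiv.Perm GolayPt} (hg : g ∈ Hfix m) : g • O0 = O0 := by
  apply smul_octad_eq_of_fix hg.1 O0_mem hg.2
  unfold O0
  rw [← popcF_fmask, fmask_inter, fmask_fset _ (by norm_num), fmask_fset _ hm']
  exact Nat.le_of_ble_eq_true hm

theorem map_mem_O0_iff {g : Equiv.Perm GolayPt} (hO : g • O0 = O0) (p : GolayPt) :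
    g p ∈ O0 ↔ p ∈ O0 := by
  constructor
  · intro h
    rw [← hO, Finset.mem_smul_finset] at h
    obtain ⟨q, hq, hqp⟩ := h
    have : q = p := g.injective hqp
    exact this ▸ hq
  · intro h
    rw [← hO]
    exact Finset.mem_smul_finset.2 ⟨p, h, rfl⟩

/-! ### The orbits at each level -/

theorem orbit_bound_lt5 {m : ℕ} (i : ℕ) (hi : i < 24) (hmi : m.testBit i = false)
    {g : Equiv.Perm GolayPt} (hg : g ∈ Hfix m) :
    (16777215 ^^^ m).testBit (ptIdx (g (P i hi))) = true := by
  have h1 : P i hi ∉ fset m := by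
    rw [mem_fset_P, hmi]; simp
  have h2 := image_not_mem_fixed hg h1
  rw [mem_fset] at h2
  rw [Nat.testBit_xor, testBit_full (ptIdx _).isLt]
  simpa using h2

theorem orbit_bound5 {g : Equiv.Perm GolayPt} (hg : g ∈ Hfix 31) :
    (16771936 : ℕ).testBit (ptIdx (g (P 5))) = true := by
  have hO := smul_O0_of_mem_Hfix (m := 31) (by decide +kernel) (by norm_num) hg
  have h1 : g (P 5) ∉ O0 := by
    rw [map_mem_O0_iff hO]
    unfold O0
    rw [mem_fset_P]
    decide
  unfold O0 at h1
  rw [mem_fset] at h1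
  have : (16771936 : ℕ) = 16777215 ^^^ 5279 := by decide
  rw [this, Nat.testBit_xor, testBit_full (ptIdx _).isLt]
  simpa using h1

theorem orbit_bound6 {g : Equiv.Perm GolayPt} (hg : g ∈ Hfix 31) :
    (5248 : ℕ).testBit (ptIdx (g (P 7))) = true := by
  have hO := smul_O0_of_mem_Hfix (m := 31) (by decide +kernel) (by norm_num) hg
  have h1 : g (P 7) ∈ O0 := by
    rw [map_mem_O0_iff hO]
    unfold O0
    rw [mem_fset_P]
    decide
  have h2 : g (P 7) ∉ fset 31 := by
    apply image_not_mem_fixed hg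
    rw [mem_fset_P]
    decide
  unfold O0 at h1
  rw [mem_fset] at h1 h2
  have : (5248 : ℕ) = 5279 &&& (16777215 ^^^ 31) := by decide
  rw [this, Nat.testBit_and, Nat.testBit_xor, testBit_full (ptIdx _).isLt, h1]
  simpa using h2

/-! ### The order of `M24` -/

theorem card_level (m i mask size : ℕ) (hi : i < 24)
    (hlevel : ∀ t (ht : t < 24), mask.testBit t = true → ∃ u ∈ Hfix m, u (P i hi) = ptOf ⟨t, ht⟩)
    (hbound : ∀ g ∈ Hfix m, mask.testBit (ptIdx (g (P i hi))) = true)
    (hmask : mask < 2 ^ 24) (hsize : popcF mask = size) :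
    Nat.card (Hfix m) = size * Nat.card (Hfix (m ||| (1 <<< i))) := by
  rw [Hfix_or m i hi]
  have := card_eq_ncard_mul_card_inf_stabilizer (G := Equiv.Perm GolayPt) (Hfix m) (P i hi)
    ((fset mask : Finset GolayPt) : Set GolayPt)
    (fun g hg => by
      rw [Finset.mem_coe, mem_fset]
      exact hbound g hg)
    (fun s hs => by
      rw [Finset.mem_coe, mem_fset] at hs
      obtain ⟨u, hu, hus⟩ := hlevel (ptIdx s) (ptIdx s).isLt hs
      refine ⟨u, hu, ?_⟩
      show u (P i hi) = s
      rw [hus]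
      exact ptOf_ptIdx s)
  rw [this, Set.ncard_coe_finset, ← popcF_fmask, fmask_fset _ hmask, hsize]

theorem card_M24 : Nat.card M24 = 244823040 := by
  have c0 := card_level 0 0 16777215 24 (by decide)
    (level_spec 0 gensL0 treeL0 0 16777215 gens_ok0 tree_ok0 (by decide))
    (fun g hg => orbit_bound_lt5 0 (by decide) (by decide) hg) (by norm_num) (by decide +kernel)
  have c1 := card_level 1 1 16777214 23 (by decide)
    (level_spec 1 gensL1 treeL1 1 16777214 gens_ok1 tree_ok1 (by decide))
    (fun g hg => orbit_bound_lt5 1 (by decide) (by decide) hg) (by norm_num) (by decide +kernel)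
  have c2 := card_level 3 2 16777212 22 (by decide)
    (level_spec 3 gensL2 treeL2 2 16777212 gens_ok2 tree_ok2 (by decide))
    (fun g hg => orbit_bound_lt5 2 (by decide) (by decide) hg) (by norm_num) (by decide +kernel)
  have c3 := card_level 7 3 16777208 21 (by decide)
    (level_spec 7 gensL3 treeL3 3 16777208 gens_ok3 tree_ok3 (by decide))
    (fun g hg => orbit_bound_lt5 3 (by decide) (by decide) hg) (by norm_num) (by decide +kernel)
  have c4 := card_level 15 4 16777200 20 (by decide)
    (level_spec 15 gensL4 treeL4 4 16777200 gens_ok4 tree_ok4 (by decide))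
    (fun g hg => orbit_bound_lt5 4 (by decide) (by decide) hg) (by norm_num) (by decide +kernel)
  have c5 := card_level 31 5 16771936 16 (by decide)
    (level_spec 31 gensL5 treeL5 5 16771936 gens_ok5 tree_ok5 (by decide))
    (fun g hg => orbit_bound5 hg) (by norm_num) (by decide +kernel)
  have c6 := card_level 63 7 5248 3 (by decide)
    (level_spec 63 gensL6 treeL6 7 5248 gens_ok6 tree_ok6 (by decide))
    (fun g hg => orbit_bound6 ⟨hg.1, fun p hp => hg.2 p (by
      rw [mem_fset] at hp ⊢
      have : (63 : ℕ) = 31 ||| 32 := by decide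
      rw [this, Nat.testBit_or, hp, Bool.true_or])⟩) (by norm_num) (by decide +kernel)
  have e1 : (0 : ℕ) ||| (1 <<< 0) = 1 := by decide
  have e2 : (1 : ℕ) ||| (1 <<< 1) = 3 := by decide
  have e3 : (3 : ℕ) ||| (1 <<< 2) = 7 := by decide
  have e4 : (7 : ℕ) ||| (1 <<< 3) = 15 := by decide
  have e5 : (15 : ℕ) ||| (1 <<< 4) = 31 := by decide
  have e6 : (31 : ℕ) ||| (1 <<< 5) = 63 := by decide
  have e7 : (63 : ℕ) ||| (1 <<< 7) = 191 := by decide
  rw [e1] at c0
  rw [e2] at c1
  rw [e3] at c2
  rw [e4] at c3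
  rw [e5] at c4
  rw [e6] at c5
  rw [e7] at c6
  have hbot : Nat.card (Hfix 191) = 1 := by
    rw [Hfix_base_eq_bot]
    exact Subgroup.card_bot
  rw [← Hfix_zero, c0, c1, c2, c3, c4, c5, c6, hbot]

/-! ### Five-fold transitivity -/

theorem level_lt5 (k : ℕ) (hk : k < 5) (t : ℕ) (ht : t < 24) (hkt : k ≤ t) :
    ∃ u ∈ Hfix (2 ^ k - 1), u (P k (by omega)) = ptOf ⟨t, ht⟩ := by
  have hbit : ∀ m : ℕ, m = 16777215 ^^^ (2 ^ k - 1) → m.testBit t = true := by
    intro m hm
    rw [hm, Nat.testBit_xor, testBit_full ht, Nat.testBit_two_pow_sub_one]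
    simp
    omega
  interval_cases k
  · exact level_spec 0 gensL0 treeL0 0 16777215 gens_ok0 tree_ok0 (by decide) t ht
      (hbit _ (by decide))
  · exact level_spec 1 gensL1 treeL1 1 16777214 gens_ok1 tree_ok1 (by decide) t ht
      (hbit _ (by decide))
  · exact level_spec 3 gensL2 treeL2 2 16777212 gens_ok2 tree_ok2 (by decide) t ht
      (hbit _ (by decide))
  · exact level_spec 7 gensL3 treeL3 3 16777208 gens_ok3 tree_ok3 (by decide) t ht
      (hbit _ (by decide))
  · exact level_spec 15 gensL4 treeL4 4 16777200 gens_ok4 tree_ok4 (by decide) t ht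
      (hbit _ (by decide))

theorem mem_fset_two_pow_sub_one (k : ℕ) (p : GolayPt) :
    p ∈ fset (2 ^ k - 1) ↔ (ptIdx p : ℕ) < k := by
  rw [mem_fset, Nat.testBit_two_pow_sub_one]
  simp

/-- `M24` is 5-transitive: the points with indices 0, …, 4 can be sent to any five distinct
points. -/
theorem exists_M24_map (q : ℕ → GolayPt)
    (hq : ∀ i j, i < 5 → j < 5 → q i = q j → i = j) (k : ℕ) (hk : k ≤ 5) :
    ∃ g ∈ M24, ∀ i (hi : i < k), g (P i (by omega)) = q i := by
  induction k with
  | zero => exact ⟨1, M24.one_mem, fun i hi => absurd hi (by omega)⟩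
  | succ k ih =>
    obtain ⟨g, hg, hgq⟩ := ih (by omega)
    -- the target index
    set tp : GolayPt := g⁻¹ (q k) with htp
    have htk : k ≤ (ptIdx tp : ℕ) := by
      by_contra hlt
      have hlt' : (ptIdx tp : ℕ) < k := by omega
      have h1 := hgq (ptIdx tp) hlt'
      have h2 : P (ptIdx tp) (by omega) = tp := P_ptIdx tp
      rw [h2, htp] at h1
      have h3 : q k = q (ptIdx tp) := by
        rw [← h1]; simp
      have := hq k (ptIdx tp) (by omega) (by omega) h3
      omega
    obtain ⟨u, hu, hut⟩ := level_lt5 k (by omega) (ptIdx tp) (ptIdx tp).isLt htk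
    refine ⟨g * u, M24.mul_mem hg hu.1, fun i hi => ?_⟩
    rw [Equiv.Perm.mul_apply]
    by_cases hik : i = k
    · subst hik
      rw [hut, ptOf_ptIdx, htp]
      simp
    · have hi' : i < k := by omega
      have : u (P i (by omega)) = P i (by omega) := by
        apply hu.2
        rw [mem_fset_two_pow_sub_one, ptIdx_P]
        exact hi'
      rw [this]
      exact hgq i hi'

/-- `M24` is 5-transitive on ordered 5-tuples of distinct points. -/
theorem five_transitive (p q : Fin 5 → GolayPt) (hp : Function.Injective p)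
    (hq : Function.Injective q) : ∃ g ∈ M24, ∀ i, g (p i) = q i := by
  have key : ∀ r : Fin 5 → GolayPt, Function.Injective r →
      ∃ g ∈ M24, ∀ i : Fin 5, g (P i (by omega)) = r i := by
    intro r hr
    obtain ⟨g, hg, hgr⟩ := exists_M24_map (fun i => if h : i < 5 then r ⟨i, h⟩ else r 0)
      (by
        intro i j hi hj h
        simp only [hi, hj, dite_true] at h
        exact Fin.mk.inj_iff.1 (hr h)) 5 (le_refl 5)
    refine ⟨g, hg, fun i => ?_⟩
    have := hgr i i.isLt
    simp only [i.isLt, dite_true] at this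
    exact this
  obtain ⟨g1, hg1, h1⟩ := key p hp
  obtain ⟨g2, hg2, h2⟩ := key q hq
  refine ⟨g2 * g1⁻¹, M24.mul_mem hg2 (M24.inv_mem hg1), fun i => ?_⟩
  rw [Equiv.Perm.mul_apply, ← h1 i]
  simp [h2 i]

/-! ### The stabiliser of five points of an octad -/

theorem H5_ok : H5list.all (fun S => isAutC S && fixesMask S 31) = true := by decide +kernel

theorem H5_cover : (List.range 24).all (fun i => (List.range 24).all (fun j =>
    !(Nat.testBit 16771936 i && Nat.testBit 5248 j) ||
      H5list.any (fun S => Nat.beq (papp S 5) i && Nat.beq (papp S 7) j))) = true := by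
  decide +kernel

/-- Every element of `M24` fixing the indices 0, …, 4 is one of the 48 listed elements. -/
theorem H5_complete {g : Equiv.Perm GolayPt} (hg : g ∈ Hfix 31) :
    ∃ S ∈ H5list, g = permC S := by
  have h5 := orbit_bound5 hg
  have h6 := orbit_bound6 hg
  set i : ℕ := ((ptIdx (g (P 5)) : Fin 24) : ℕ) with hi
  set j : ℕ := ((ptIdx (g (P 7)) : Fin 24) : ℕ) with hj
  have hi24 : i < 24 := (ptIdx (g (P 5))).isLt
  have hj24 : j < 24 := (ptIdx (g (P 7))).isLt
  have hc := List.all_eq_true.1 (List.all_eq_true.1 H5_cover i (List.mem_range.2 hi24)) j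
    (List.mem_range.2 hj24)
  rw [h5, h6] at hc
  simp only [Bool.and_self, Bool.not_true, Bool.false_or, List.any_eq_true, Bool.and_eq_true] at hc
  obtain ⟨S, hS, hSi, hSj⟩ := hc
  refine ⟨S, hS, ?_⟩
  have hSok := List.all_eq_true.1 H5_ok S hS
  rw [Bool.and_eq_true] at hSok
  have hSH : permC S ∈ Hfix 31 := permC_mem_Hfix hSok.1 hSok.2
  have hperm := isPerm_of_isAutC hSok.1
  apply eq_of_agree_on_base hg.1 hSH.1
  intro p hp
  rw [mem_fset] at hp
  by_cases h31 : (31 : ℕ).testBit (ptIdx p) = true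
  · rw [hg.2 p ((mem_fset _ _).2 h31), hSH.2 p ((mem_fset _ _).2 h31)]
  · have hcases : (ptIdx p : ℕ) = 5 ∨ (ptIdx p : ℕ) = 7 := by
      have : ∀ x : Fin 24, (191 : ℕ).testBit x = true → ¬ (31 : ℕ).testBit x = true →
          (x : ℕ) = 5 ∨ (x : ℕ) = 7 := by decide
      exact this _ hp h31
    rcases hcases with h | h
    · have hp5 : p = P 5 := by
        rw [← P_ptIdx p]
        simp only [h]
      rw [hp5]
      have := permC_ptOf hperm 5 (by decide) i hi24 (Nat.eq_of_beq_eq_true hSi)
      show g (P 5) = permC S (ptOf ⟨5, _⟩)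
      rw [this]
      exact (ptOf_ptIdx (g (P 5))).symm
    · have hp7 : p = P 7 := by
        rw [← P_ptIdx p]
        simp only [h]
      rw [hp7]
      have := permC_ptOf hperm 7 (by decide) j hj24 (Nat.eq_of_beq_eq_true hSj)
      show g (P 7) = permC S (ptOf ⟨7, _⟩)
      rw [this]
      exact (ptOf_ptIdx (g (P 7))).symm

end Cfsg.Agent.Lib.Helper93.Golay
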