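import Cfsg.Agent.Lib.Helper93.Families

set_option autoImplicit false

namespace Cfsg.Agent.Lib.Helper93.Golay

open Cfsg
open scoped Pointwise

/-! ### Encoded actions of the coded permutations -/

/-- An encoding, by codes in `β`, of (part of) a set `α` on which the permutations of the 24
points act, together with the action of coded permutations on codes. -/
structure Enc (α : Type) [MulAction (Equiv.Perm GolayPt) α] (β : Type) where
  /-- decoding -/
  dec : β → α
  /-- codes on which the coded action is correct -/
  small : β → Prop
  /-- canonical codes -/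
  canon : β → Bool
  canon_small : ∀ b, canon b = true → small b
  /-- the coded action -/
  act : ℕ → β → β
  act_small : ∀ S, isPerm S = true → ∀ b, small b → small (act S b)
  act_spec : ∀ S, isPerm S = true → ∀ b, small b → permC S • dec b = dec (act S b)
  /-- equality test on codes -/
  beq : β → β → Bool
  beq_eq : ∀ b b', beq b b' = true → b = b'
  dec_inj : ∀ b b', canon b = true → canon b' = true → dec b = dec b' → b = b'

/-- Equality test for lists of naturals. -/
def beqL : List ℕ → List ℕ → Bool
  | [], [] => true
  | a :: l, b :: l' => Nat.beq a b && beqL l l'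
  | _, _ => false

theorem beqL_eq : ∀ l l' : List ℕ, beqL l l' = true → l = l'
  | [], [], _ => rfl
  | a :: l, b :: l', h => by
    unfold beqL at h
    rw [Bool.and_eq_true] at h
    rw [Nat.eq_of_beq_eq_true h.1, beqL_eq l l' h.2]
  | [], _ :: _, h => by simp [beqL] at h
  | _ :: _, [], h => by simp [beqL] at h

/-- Sets of points coded by masks. -/
def encSet : Enc (Finset GolayPt) ℕ where
  dec := fset
  small := fun m => m < 16777216
  canon := fun m => Nat.blt m 16777216
  canon_small := fun _ h => Nat.le_of_ble_eq_true h
  act := pmask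
  act_small := fun _ hS _ hm => pmask_lt hS hm
  act_spec := fun _ hS _ hm => permC_smul_fset hS hm
  beq := Nat.beq
  beq_eq := fun _ _ h => Nat.eq_of_beq_eq_true h
  dec_inj := fun _ _ h h' he => fset_injOn (Nat.le_of_ble_eq_true h) (Nat.le_of_ble_eq_true h') he

/-- Families of sets of points coded by lists of masks. -/
def encFam : Enc (Finset (Finset GolayPt)) (List ℕ) where
  dec := decFF
  small := fun l => ∀ m ∈ l, m < 16777216
  canon := canonL
  canon_small := fun _ h _ hm => canonL_lt h hm
  act := actL
  act_small := by
    intro S hS l hl m hm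
    unfold actL at hm
    rw [mem_sortB, List.mem_map] at hm
    obtain ⟨m', hm', rfl⟩ := hm
    exact pmask_lt hS (hl m' hm')
  act_spec := fun _ hS _ hl => permC_smul_decFF hS hl
  beq := beqL
  beq_eq := beqL_eq
  dec_inj := fun _ _ h h' he => decFF_inj h h' he

variable {α : Type} [MulAction (Equiv.Perm GolayPt) α] {β : Type}

/-- The code obtained by applying a word in the coded generators. -/
def Enc.word (E : Enc α β) (gens : List ℕ) (w : List ℕ) (b : β) : β :=
  w.foldr (fun j acc => E.act (gens.getD j 0) acc) b

/-- The permutation given by a word in the coded generators. -/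
def wordPerm (gens : List ℕ) (w : List ℕ) : Equiv.Perm GolayPt :=
  w.foldr (fun j acc => permC (gens.getD j 0) * acc) 1

/-- The word only uses valid generator indices. -/
def wordOK (gens : List ℕ) (w : List ℕ) : Bool := w.all fun j => Nat.blt j gens.length

theorem getD_mem_of_lt {gens : List ℕ} {j : ℕ} (hj : j < gens.length) : gens.getD j 0 ∈ gens := by
  rw [List.getD_eq_getElem _ _ hj]
  exact List.getElem_mem hj

theorem wordPerm_mem (H : Subgroup (Equiv.Perm GolayPt)) (gens : List ℕ)
    (hgens : ∀ S ∈ gens, permC S ∈ H) (w : List ℕ) (hw : wordOK gens w = true) :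
    wordPerm gens w ∈ H := by
  induction w with
  | nil => exact H.one_mem
  | cons j w ih =>
    unfold wordOK at hw
    rw [List.all_cons, Bool.and_eq_true] at hw
    have hj : j < gens.length := Nat.le_of_ble_eq_true hw.1
    show permC (gens.getD j 0) * wordPerm gens w ∈ H
    exact H.mul_mem (hgens _ (getD_mem_of_lt hj)) (ih hw.2)

theorem Enc.word_spec (E : Enc α β) (gens : List ℕ) (hgens : ∀ S ∈ gens, isPerm S = true)
    (w : List ℕ) (hw : wordOK gens w = true) (b : β) (hb : E.small b) :
    E.small (E.word gens w b) ∧ wordPerm gens w • E.dec b = E.dec (E.word gens w b) := by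
  induction w with
  | nil => exact ⟨hb, one_smul _ _⟩
  | cons j w ih =>
    unfold wordOK at hw
    rw [List.all_cons, Bool.and_eq_true] at hw
    have hj : j < gens.length := Nat.le_of_ble_eq_true hw.1
    have hS := hgens _ (getD_mem_of_lt hj)
    obtain ⟨ih1, ih2⟩ := ih hw.2
    refine ⟨E.act_small _ hS _ ih1, ?_⟩
    show (permC (gens.getD j 0) * wordPerm gens w) • E.dec b = E.dec (E.act (gens.getD j 0) _)
    rw [mul_smul, ih2]
    exact E.act_spec _ hS _ ih1

/-- Check that each target is the image of the root under the corresponding word. -/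
def Enc.reachOK (E : Enc α β) (gens : List ℕ) (root : β) : List β → List (List ℕ) → Bool
  | [], [] => true
  | t :: ts, w :: ws => wordOK gens w && E.beq (E.word gens w root) t && Enc.reachOK E gens root ts ws
  | _, _ => false

theorem Enc.reach_spec (E : Enc α β) (gens : List ℕ) (root : β) (hroot : E.small root)
    (H : Subgroup (Equiv.Perm GolayPt)) (hgens : ∀ S ∈ gens, isPerm S = true ∧ permC S ∈ H) :
    ∀ (targets : List β) (words : List (List ℕ)), E.reachOK gens root targets words = true →
      ∀ t ∈ targets, ∃ u ∈ H, u • E.dec root = E.dec t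
  | [], _, _ => fun t ht => absurd ht (List.not_mem_nil)
  | t :: ts, w :: ws, h => by
    unfold Enc.reachOK at h
    simp only [Bool.and_eq_true] at h
    obtain ⟨⟨h1, h2⟩, h3⟩ := h
    intro t' ht'
    rcases List.mem_cons.1 ht' with rfl | ht'
    · refine ⟨wordPerm gens w, wordPerm_mem H gens (fun S hS => (hgens S hS).2) w h1, ?_⟩
      rw [(E.word_spec gens (fun S hS => (hgens S hS).1) w h1 root hroot).2, E.beq_eq _ _ h2]
    · exact Enc.reach_spec E gens root hroot H hgens ts ws h3 t' ht'
  | _ :: _, [], h => by simp [Enc.reachOK] at h

end Cfsg.Agent.Lib.Helper93.Golay
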