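import Cfsg.Agent.Lib.Helper93.GolayFacts

set_option autoImplicit false

namespace Cfsg.Agent.Lib.Helper93.Leech

open Cfsg Cfsg.Agent.Lib.Helper93.Golay

/-- The family of supports of words of the code. -/
abbrev CS : Set (Finset GolayPt) := supports (golayCode : Set (GolayPt → ZMod 2))

/-- The class of coordinates congruent to `k` modulo 4. -/
def cls (x : GolayPt → ℤ) (k : ℤ) : Finset GolayPt := Finset.univ.filter fun i => x i ≡ k [ZMOD 4]

theorem mem_cls (x : GolayPt → ℤ) (k : ℤ) (i : GolayPt) : i ∈ cls x k ↔ x i % 4 = k % 4 := by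
  rw [cls, Finset.mem_filter]
  simp [Int.ModEq]

theorem mem_leechSet_iff (x : GolayPt → ℤ) :
    x ∈ leechSet ↔ ∃ m : ℤ, (∀ i, x i % 2 = m % 2) ∧ ((∑ i, x i) % 8 = (4 * m) % 8) ∧
      ∀ k : ℤ, cls x k ∈ CS := Iff.rfl

/-- Reformulation with a single class. -/
theorem mem_leechSet_iff' (x : GolayPt → ℤ) :
    x ∈ leechSet ↔ ∃ m : ℤ, (∀ i, x i % 2 = m % 2) ∧ ((∑ i, x i) % 8 = (4 * m) % 8) ∧
      cls x (m + 2) ∈ CS := by
  rw [mem_leechSet_iff]
  constructor
  · rintro ⟨m, h1, h2, h3⟩
    exact ⟨m, h1, h2, h3 (m + 2)⟩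
  · rintro ⟨m, h1, h2, h3⟩
    refine ⟨m, h1, h2, fun k => ?_⟩
    by_cases hk2 : k % 4 = (m + 2) % 4
    · have : cls x k = cls x (m + 2) := by
        ext i; rw [mem_cls, mem_cls, hk2]
      rw [this]; exact h3
    · by_cases hk0 : k % 4 = m % 4
      · have : cls x k = (cls x (m + 2))ᶜ := by
          ext i
          rw [Finset.mem_compl, mem_cls, mem_cls]
          have := h1 i
          omega
        rw [this]; exact compl_mem_supports h3
      · have : cls x k = ∅ := by
          ext i
          rw [mem_cls]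
          have := h1 i
          simp only [Finset.notMem_empty, iff_false]
          omega
        rw [this]; exact empty_mem_supports

theorem zero_mem_leechSet : (0 : GolayPt → ℤ) ∈ leechSet := by
  rw [mem_leechSet_iff']
  refine ⟨0, fun i => rfl, by simp, ?_⟩
  have : cls 0 (0 + 2) = ∅ := by
    ext i
    rw [mem_cls]
    simp
  rw [this]; exact empty_mem_supports

theorem neg_mem_leechSet {x : GolayPt → ℤ} (hx : x ∈ leechSet) : -x ∈ leechSet := by
  rw [mem_leechSet_iff'] at hx ⊢
  obtain ⟨m, h1, h2, h3⟩ := hx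
  refine ⟨-m, fun i => ?_, ?_, ?_⟩
  · have := h1 i
    simp only [Pi.neg_apply]
    omega
  · simp only [Pi.neg_apply, Finset.sum_neg_distrib]
    omega
  · have : cls (-x) (-m + 2) = cls x (m + 2) := by
      ext i
      rw [mem_cls, mem_cls]
      have := h1 i
      simp only [Pi.neg_apply]
      omega
    rw [this]; exact h3

theorem add_mem_leechSet {x y : GolayPt → ℤ} (hx : x ∈ leechSet) (hy : y ∈ leechSet) :
    x + y ∈ leechSet := by
  rw [mem_leechSet_iff'] at hx hy ⊢
  obtain ⟨m, h1, h2, h3⟩ := hx
  obtain ⟨m', h1', h2', h3'⟩ := hy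
  refine ⟨m + m', fun i => ?_, ?_, ?_⟩
  · have := h1 i
    have := h1' i
    simp only [Pi.add_apply]
    omega
  · simp only [Pi.add_apply, Finset.sum_add_distrib]
    omega
  · have : cls (x + y) (m + m' + 2) = symmDiff (cls x (m + 2)) (cls y (m' + 2)) := by
      ext i
      rw [Finset.mem_symmDiff, mem_cls, mem_cls, mem_cls]
      have := h1 i
      have := h1' i
      simp only [Pi.add_apply]
      omega
    rw [this]; exact symmDiff_mem_supports h3 h3'

/-- The lattice is the set `leechSet` itself. -/
theorem mem_leechLattice_iff (x : GolayPt → ℤ) : x ∈ leechLattice ↔ x ∈ leechSet := by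
  constructor
  · intro hx
    unfold leechLattice at hx
    induction hx using AddSubgroup.closure_induction with
    | mem x hx => exact hx
    | zero => exact zero_mem_leechSet
    | add x y _ _ hx hy => exact add_mem_leechSet hx hy
    | neg x _ hx => exact neg_mem_leechSet hx
  · intro hx
    exact AddSubgroup.subset_closure hx

theorem card_golayPt : Fintype.card GolayPt = 24 := by decide

theorem sq_ge_of_emod_four {a : ℤ} (h : a % 4 = 0) (h0 : a ≠ 0) : 16 ≤ a ^ 2 := by
  rcases lt_or_gt_of_ne h0 with h' | h'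
  · have : a ≤ -4 := by omega
    nlinarith
  · have : 4 ≤ a := by omega
    nlinarith

theorem sq_ge_of_emod_eight {a : ℤ} (h : a % 8 = 0) (h0 : a ≠ 0) : 64 ≤ a ^ 2 := by
  rcases lt_or_gt_of_ne h0 with h' | h'
  · have : a ≤ -8 := by omega
    nlinarith
  · have : 8 ≤ a := by omega
    nlinarith

/-- The minimum norm of the lattice: every nonzero vector has sum of squares at least 32. -/
theorem sqNorm_ge_of_mem_leechSet {x : GolayPt → ℤ} (hx : x ∈ leechSet) (hx0 : x ≠ 0) :
    32 ≤ sqNorm x := by
  obtain ⟨m, h1, h2, h3⟩ := (mem_leechSet_iff x).1 hx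
  unfold sqNorm
  rcases Int.emod_two_eq_zero_or_one m with hm | hm
  · -- even coordinates
    have hX2 := h3 2
    rcases card_of_mem_supports hX2 with h0 | h8
    · have hall : ∀ i, x i % 4 = 0 := by
        intro i
        have hi : i ∉ cls x 2 := by
          rw [Finset.card_eq_zero.1 h0]; exact Finset.notMem_empty i
        rw [mem_cls] at hi
        have := h1 i
        omega
      obtain ⟨j, hj⟩ : ∃ j, x j ≠ 0 := by
        by_contra hcon
        apply hx0
        funext i
        by_contra hi
        exact hcon ⟨i, hi⟩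
      by_cases hl : ∃ l, l ≠ j ∧ x l ≠ 0
      · obtain ⟨l, hlj, hl0⟩ := hl
        have hsum : x j ^ 2 + x l ^ 2 ≤ ∑ i, x i ^ 2 := by
          have : ∑ i ∈ ({j, l} : Finset GolayPt), x i ^ 2 ≤ ∑ i, x i ^ 2 :=
            Finset.sum_le_sum_of_subset_of_nonneg (Finset.subset_univ _)
              (fun i _ _ => sq_nonneg _)
          rwa [Finset.sum_pair hlj.symm] at this
        have := sq_ge_of_emod_four (hall j) hj
        have := sq_ge_of_emod_four (hall l) hl0
        linarith
      · have hl' : ∀ l, l ≠ j → x l = 0 := by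
          intro l hlj
          by_contra h
          exact hl ⟨l, hlj, h⟩
        have hsum1 : ∑ i, x i = x j :=
          Finset.sum_eq_single j (fun i _ hij => hl' i hij)
            (fun h => absurd (Finset.mem_univ j) h)
        have h8 : x j % 8 = 0 := by
          rw [hsum1] at h2
          omega
        have := sq_ge_of_emod_eight h8 hj
        have : x j ^ 2 ≤ ∑ i, x i ^ 2 :=
          Finset.single_le_sum (f := fun i => x i ^ 2) (fun i _ => sq_nonneg (x i))
            (Finset.mem_univ j)
        linarith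
    · have hc8 : 8 ≤ (cls x 2).card := by
        rcases h8 with h | h | h | h <;> omega
      have h4 : ∀ i ∈ cls x 2, (4 : ℤ) ≤ x i ^ 2 := by
        intro i hi
        rw [mem_cls] at hi
        have : x i ≤ -2 ∨ 2 ≤ x i := by omega
        rcases this with h | h <;> nlinarith
      have e1 := Finset.card_nsmul_le_sum (cls x 2) (fun i => x i ^ 2) 4 h4
      have e2 : ∑ i ∈ cls x 2, x i ^ 2 ≤ ∑ i, x i ^ 2 :=
        Finset.sum_le_sum_of_subset_of_nonneg (Finset.subset_univ _) (fun i _ _ => sq_nonneg _)
      rw [nsmul_eq_mul] at e1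
      have : (8 : ℤ) ≤ ((cls x 2).card : ℤ) := by exact_mod_cast hc8
      linarith
  · -- odd coordinates
    have hodd : ∀ i, x i % 2 = 1 := fun i => by
      have := h1 i
      omega
    have h1le : ∀ i, (1 : ℤ) ≤ x i ^ 2 := by
      intro i
      have := hodd i
      have hne : x i ≠ 0 := by omega
      rcases lt_or_gt_of_ne hne with h | h <;> nlinarith
    by_cases hbig : ∃ j, 9 ≤ x j ^ 2
    · obtain ⟨j, hj⟩ := hbig
      have hsplit := Finset.add_sum_erase Finset.univ (fun i => x i ^ 2) (Finset.mem_univ j)
      have h23 : (23 : ℤ) ≤ ∑ i ∈ Finset.univ.erase j, x i ^ 2 := by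
        have := Finset.card_nsmul_le_sum (Finset.univ.erase j) (fun i => x i ^ 2) 1
          (fun i _ => h1le i)
        rw [Finset.card_erase_of_mem (Finset.mem_univ j), Finset.card_univ, card_golayPt] at this
        simpa using this
      linarith
    · have hpm : ∀ i, x i = 1 ∨ x i = -1 := by
        intro i
        have h9 : x i ^ 2 < 9 := by
          by_contra h
          exact hbig ⟨i, not_lt.1 h⟩
        have hlt : -3 < x i ∧ x i < 3 := by constructor <;> nlinarith
        have := hodd i
        omega
      have hsum : ∑ i, x i = 24 - 2 * ((cls x 3).card : ℤ) := by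
        have hpt : ∀ i, x i = 1 - 2 * (if i ∈ cls x 3 then (1 : ℤ) else 0) := by
          intro i
          have hm3 := mem_cls x 3 i
          rcases hpm i with h | h
          · have : i ∉ cls x 3 := by rw [hm3, h]; norm_num
            rw [if_neg this, h]; norm_num
          · have : i ∈ cls x 3 := by rw [hm3, h]; norm_num
            rw [if_pos this, h]; norm_num
        calc ∑ i, x i = ∑ i, (1 - 2 * (if i ∈ cls x 3 then (1 : ℤ) else 0)) :=
              Finset.sum_congr rfl (fun i _ => hpt i)
          _ = 24 - 2 * ((cls x 3).card : ℤ) := by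
              rw [Finset.sum_sub_distrib, ← Finset.mul_sum, Finset.sum_boole]
              simp [card_golayPt]
      obtain ⟨r, hr⟩ := four_dvd_card_of_mem_supports (h3 3)
      rw [hsum, hr] at h2
      push_cast at h2
      omega

theorem sqNorm_ge_of_mem_leechLattice {x : GolayPt → ℤ} (hx : x ∈ leechLattice) (hx0 : x ≠ 0) :
    32 ≤ sqNorm x :=
  sqNorm_ge_of_mem_leechSet ((mem_leechLattice_iff x).1 hx) hx0

end Cfsg.Agent.Lib.Helper93.Leech
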