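import Cfsg.Agent.Lib.Helper93.GolayPerm

set_option autoImplicit false

namespace Cfsg.Agent.Lib.Helper93.Golay

open Cfsg
open scoped Pointwise

/-! ### Single-code permutations -/

/-- The code of the inverse of a coded permutation. -/
def pinv (S : ℕ) : ℕ := (List.range 24).foldl (fun acc i => acc ||| (i <<< (5 * papp S i))) 0

/-- `S` codes a permutation of the 24 indices. -/
def isPerm (S : ℕ) : Bool := isPermPair S (pinv S)

/-- The permutation coded by `S` (the identity if `S` is not a valid code). -/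
def permC (S : ℕ) : Equiv.Perm GolayPt :=
  if h : isPerm S = true then permOfCode S (pinv S) h else 1

theorem permC_eq {S : ℕ} (h : isPerm S = true) : permC S = permOfCode S (pinv S) h := by
  unfold permC
  rw [dif_pos h]

theorem ptIdx_permC {S : ℕ} (h : isPerm S = true) (p : GolayPt) :
    ((ptIdx (permC S p) : Fin 24) : ℕ) = papp S (ptIdx p) := by
  rw [permC_eq h]
  exact ptIdx_permOfCode _ _ _ p

theorem permC_ptOf {S : ℕ} (h : isPerm S = true) (i : ℕ) (hi : i < 24) (j : ℕ) (hj : j < 24)
    (hij : papp S i = j) : permC S (ptOf ⟨i, hi⟩) = ptOf ⟨j, hj⟩ := by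
  apply ptEquiv.injective
  show ptIdx _ = ptIdx _
  apply Fin.ext
  rw [ptIdx_permC h, ptIdx_ptOf, ptIdx_ptOf]
  exact hij

theorem fmask_permC_smul {S : ℕ} (h : isPerm S = true) (b : Finset GolayPt) :
    fmask (permC S • b) = pmask S (fmask b) := by
  rw [permC_eq h]
  exact fmask_smul _ _ _ b

/-- `S` codes an element of `M24`. -/
def isAutC (S : ℕ) : Bool := isPerm S && isAut S

theorem isPerm_of_isAutC {S : ℕ} (h : isAutC S = true) : isPerm S = true :=
  (Bool.and_eq_true _ _ ▸ h).1

theorem permC_mem_M24 {S : ℕ} (h : isAutC S = true) : permC S ∈ M24 := by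
  have h' := (Bool.and_eq_true _ _ ▸ h)
  rw [permC_eq h'.1]
  exact mem_M24_of_isAut _ _ _ h'.2

/-! ### Octads sharing five points -/

theorem octad_eq_of_card_inter {o o' : Finset GolayPt} (ho : o ∈ octads) (ho' : o' ∈ octads)
    (h : 5 ≤ (o ∩ o').card) : o = o' := by
  have hs := symmDiff_mem_supports ho.1 ho'.1
  have hcard : (symmDiff o o').card + 2 * (o ∩ o').card = o.card + o'.card := by
    have e1 : (symmDiff o o').card = (o \ o').card + (o' \ o).card := by
      rw [symmDiff_def, Finset.sup_eq_union, Finset.card_union_of_disjoint]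
      exact disjoint_sdiff_sdiff
    have e2 : (o \ o').card + (o ∩ o').card = o.card := Finset.card_sdiff_add_card_inter o o'
    have e3 : (o' \ o).card + (o' ∩ o).card = o'.card := Finset.card_sdiff_add_card_inter o' o
    rw [Finset.inter_comm o' o] at e3
    omega
  rw [ho.2, ho'.2] at hcard
  have hempty := eq_empty_of_card_lt_eight hs (by omega)
  exact symmDiff_eq_bot.1 hempty

/-- An element of `M24` fixing five points of an octad maps the octad to itself. -/
theorem smul_octad_eq_of_fix {g : Equiv.Perm GolayPt} (hg : g ∈ M24) {o : Finset GolayPt}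
    (ho : o ∈ octads) {X : Finset GolayPt} (hX : ∀ p ∈ X, g p = p) (h5 : 5 ≤ (o ∩ X).card) :
    g • o = o := by
  apply octad_eq_of_card_inter (smul_mem_octads_of_mem_M24 hg ho) ho
  refine le_trans h5 (Finset.card_le_card ?_)
  intro p hp
  rw [Finset.mem_inter] at hp ⊢
  refine ⟨?_, hp.1⟩
  rw [Finset.mem_smul_finset]
  exact ⟨p, hp.1, hX p hp.2⟩

/-! ### Pinning points: rigidity certificates -/

theorem testBit_foldl_and (l : List ℕ) (a r : ℕ) :
    (l.foldl (· &&& ·) a).testBit r = true ↔ a.testBit r = true ∧ ∀ o ∈ l, o.testBit r = true := by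
  induction l generalizing a with
  | nil => simp
  | cons o l ih =>
    rw [List.foldl_cons, ih, Nat.testBit_and, Bool.and_eq_true]
    constructor
    · rintro ⟨⟨h1, h2⟩, h3⟩
      refine ⟨h1, ?_⟩
      intro o' ho'
      rcases List.mem_cons.1 ho' with rfl | h
      · exact h2
      · exact h3 o' h
    · rintro ⟨h1, h2⟩
      exact ⟨⟨h1, h2 o List.mem_cons_self⟩, fun o' ho' => h2 o' (List.mem_cons_of_mem _ ho')⟩

/-- The check for one octad of a pinning step. -/
def pinOct (xm q o : ℕ) : Bool :=
  Nat.blt o 16777216 && isCodeF o && Nat.beq (popcF o) 8 && Nat.ble 5 (popcF (o &&& xm)) &&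
    Nat.testBit o q

/-- A pinning step: the octads `octs` each meet the fixed set `xm` in at least five points and
contain the point `q`, and `q` is the only point outside `xm` common to all of them. -/
def pinOK (xm q : ℕ) (octs : List ℕ) : Bool :=
  Nat.blt q 24 && Nat.blt xm 16777216 && octs.all (pinOct xm q) &&
    Nat.beq ((octs.foldl (· &&& ·) 16777215) &&& (16777215 ^^^ xm)) (1 <<< q)

theorem fset_mem_octads {o : ℕ} (h1 : o < 16777216) (h2 : isCodeF o = true) (h3 : popcF o = 8) :
    fset o ∈ octads := by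
  rw [mem_octads_iff, fmask_fset o (by norm_num; exact h1)]
  exact ⟨h2, h3⟩

theorem pin_spec {xm q : ℕ} {octs : List ℕ} (h : pinOK xm q octs = true)
    {g : Equiv.Perm GolayPt} (hg : g ∈ M24) (hfix : ∀ p ∈ fset xm, g p = p) (hq : q < 24) :
    g (ptOf ⟨q, hq⟩) = ptOf ⟨q, hq⟩ := by
  unfold pinOK at h
  simp only [Bool.and_eq_true] at h
  obtain ⟨⟨⟨_, hxm⟩, hall⟩, hfin⟩ := h
  have hxm' : xm < 2 ^ 24 := by
    have := Nat.le_of_ble_eq_true hxm
    norm_num
    omega
  have hfin' := Nat.eq_of_beq_eq_true hfin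
  set p0 := ptOf ⟨q, hq⟩ with hp0
  set r := ptIdx (g p0) with hr
  -- g p0 lies in every octad of the list
  have hin : ∀ o ∈ octs, o.testBit r = true := by
    intro o ho
    have ho' := List.all_eq_true.1 hall o ho
    unfold pinOct at ho'
    simp only [Bool.and_eq_true] at ho'
    obtain ⟨⟨⟨⟨h1, h2⟩, h3⟩, h4⟩, h5⟩ := ho'
    have h1' : o < 16777216 := Nat.le_of_ble_eq_true h1
    have hoct : fset o ∈ octads := fset_mem_octads h1' h2 (Nat.eq_of_beq_eq_true h3)
    have hcard : 5 ≤ (fset o ∩ fset xm).card := by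
      rw [← popcF_fmask, fmask_inter, fmask_fset o (by norm_num; exact h1'), fmask_fset xm hxm']
      exact Nat.le_of_ble_eq_true h4
    have hsm := smul_octad_eq_of_fix hg hoct hfix hcard
    have hp0o : p0 ∈ fset o := by
      rw [mem_fset, hp0, ptIdx_ptOf]
      exact h5
    have : g p0 ∈ g • fset o := Finset.mem_smul_finset.2 ⟨p0, hp0o, rfl⟩
    rw [hsm, mem_fset] at this
    exact this
  -- g p0 is not in the fixed set
  have hq_not : xm.testBit q = false := by
    have : ((octs.foldl (· &&& ·) 16777215) &&& (16777215 ^^^ xm)).testBit q = true := by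
      rw [hfin', Nat.one_shiftLeft, Nat.testBit_two_pow_self]
    rw [Nat.testBit_and, Nat.testBit_xor, Bool.and_eq_true] at this
    have h2 := this.2
    have h24 : (16777215 : ℕ).testBit q = true := by
      have : (16777215 : ℕ) = 2 ^ 24 - 1 := by norm_num
      rw [this, Nat.testBit_two_pow_sub_one]
      simpa using hq
    rw [h24] at h2
    cases hx : xm.testBit q
    · rfl
    · rw [hx] at h2; simp at h2
  have hp0_not : p0 ∉ fset xm := by
    rw [mem_fset, hp0, ptIdx_ptOf]
    simp [hq_not]
  have hr_not : xm.testBit r = false := by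
    cases hx : xm.testBit r
    · rfl
    · exfalso
      have hmem : g p0 ∈ fset xm := by rw [mem_fset]; exact hx
      have := hfix _ hmem
      have := g.injective this
      exact hp0_not (this ▸ hmem)
  have hr24 : (16777215 : ℕ).testBit r = true := by
    have : (16777215 : ℕ) = 2 ^ 24 - 1 := by norm_num
    rw [this, Nat.testBit_two_pow_sub_one]
    simpa using r.isLt
  have hbit : ((octs.foldl (· &&& ·) 16777215) &&& (16777215 ^^^ xm)).testBit r = true := by
    rw [Nat.testBit_and, Nat.testBit_xor, hr24, hr_not, Bool.and_eq_true]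
    exact ⟨(testBit_foldl_and _ _ _).2 ⟨hr24, hin⟩, rfl⟩
  rw [hfin', Nat.one_shiftLeft, Nat.testBit_two_pow] at hbit
  have hqr : q = r := by simpa using hbit
  apply ptEquiv.injective
  show ptIdx (g p0) = ptIdx p0
  apply Fin.ext
  rw [hp0, ptIdx_ptOf]
  exact hqr.symm

/-- A rigidity certificate: a chain of pinning steps ending with all 24 points fixed. -/
def rigidChain (xm : ℕ) : List (ℕ × List ℕ) → Bool
  | [] => Nat.beq xm 16777215
  | (q, octs) :: rest => pinOK xm q octs && rigidChain (xm ||| (1 <<< q)) rest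

theorem rigid_spec {xm : ℕ} {steps : List (ℕ × List ℕ)} (h : rigidChain xm steps = true)
    {g : Equiv.Perm GolayPt} (hg : g ∈ M24) (hfix : ∀ p ∈ fset xm, g p = p) : g = 1 := by
  induction steps generalizing xm with
  | nil =>
    have hx : xm = 16777215 := Nat.eq_of_beq_eq_true h
    apply Equiv.ext
    intro p
    apply hfix
    rw [mem_fset, hx]
    have : (16777215 : ℕ) = 2 ^ 24 - 1 := by norm_num
    rw [this, Nat.testBit_two_pow_sub_one]
    simpa using (ptIdx p).isLt
  | cons st rest ih =>
    obtain ⟨q, octs⟩ := st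
    unfold rigidChain at h
    rw [Bool.and_eq_true] at h
    obtain ⟨h1, h2⟩ := h
    have hq : q < 24 := by
      unfold pinOK at h1
      simp only [Bool.and_eq_true] at h1
      exact Nat.le_of_ble_eq_true h1.1.1.1
    have hpin := pin_spec h1 hg hfix hq
    apply ih h2
    intro p hp
    rw [mem_fset, Nat.testBit_or, Bool.or_eq_true] at hp
    rcases hp with hp | hp
    · exact hfix p ((mem_fset _ _).2 hp)
    · rw [Nat.one_shiftLeft, Nat.testBit_two_pow] at hp
      have hqp : q = (ptIdx p : ℕ) := by simpa using hp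
      have : p = ptOf ⟨q, hq⟩ := by
        apply ptEquiv.injective
        show ptIdx p = ptIdx (ptOf ⟨q, hq⟩)
        rw [ptIdx_ptOf]
        exact Fin.ext hqp.symm
      rw [this]
      exact hpin

/-! ### Pointwise stabilisers and orbit trees -/

/-- The subgroup of `M24` fixing every point of the set with mask `m`. -/
def Hfix (m : ℕ) : Subgroup (Equiv.Perm GolayPt) where
  carrier := {g | g ∈ M24 ∧ ∀ p ∈ fset m, g p = p}
  mul_mem' := by
    rintro a b ⟨ha, ha'⟩ ⟨hb, hb'⟩
    refine ⟨M24.mul_mem ha hb, fun p hp => ?_⟩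
    rw [Equiv.Perm.mul_apply, hb' p hp, ha' p hp]
  one_mem' := ⟨M24.one_mem, fun p _ => rfl⟩
  inv_mem' := by
    rintro a ⟨ha, ha'⟩
    refine ⟨M24.inv_mem ha, fun p hp => ?_⟩
    rw [Equiv.Perm.inv_eq_iff_eq]
    exact (ha' p hp).symm

theorem mem_Hfix (m : ℕ) (g : Equiv.Perm GolayPt) :
    g ∈ Hfix m ↔ g ∈ M24 ∧ ∀ p ∈ fset m, g p = p := Iff.rfl

/-- The coded map `S` fixes every index in the mask `m`. -/
def fixesMask (S m : ℕ) : Bool :=
  (List.range 24).all fun i => !(m.testBit i) || Nat.beq (papp S i) i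

theorem permC_mem_Hfix {S m : ℕ} (h1 : isAutC S = true) (h2 : fixesMask S m = true) :
    permC S ∈ Hfix m := by
  refine ⟨permC_mem_M24 h1, fun p hp => ?_⟩
  have hp' := (mem_fset m p).1 hp
  have := List.all_eq_true.1 h2 (ptIdx p) (List.mem_range.2 (ptIdx p).isLt)
  rw [hp'] at this
  simp only [Bool.not_true, Bool.false_or] at this
  have h3 := permC_ptOf (isPerm_of_isAutC h1) (ptIdx p) (ptIdx p).isLt (ptIdx p) (ptIdx p).isLt
    (Nat.eq_of_beq_eq_true this)
  have e : ptOf ⟨(ptIdx p : ℕ), (ptIdx p).isLt⟩ = p := ptOf_ptIdx p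
  rw [e] at h3
  exact h3

/-- Run an orbit tree: each entry `(q, p, j)` asserts that generator `j` maps the already
reached index `p` to the index `q`.  The result is the mask of reached indices (0 on failure). -/
def treeRun (gens : List ℕ) : ℕ → List (ℕ × ℕ × ℕ) → ℕ
  | reached, [] => reached
  | reached, (q, p, j) :: rest =>
    if Nat.testBit reached p && Nat.beq (papp (gens.getD j 0) p) q && Nat.blt q 24 && Nat.blt p 24
        && Nat.blt j gens.length then
      treeRun gens (reached ||| (1 <<< q)) rest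
    else 0

theorem treeRun_spec (H : Subgroup (Equiv.Perm GolayPt)) (gens : List ℕ)
    (hgens : ∀ S ∈ gens, isPerm S = true ∧ permC S ∈ H) (root : GolayPt)
    (tree : List (ℕ × ℕ × ℕ)) (reached : ℕ)
    (hreached : ∀ i (hi : i < 24), reached.testBit i = true → ∃ u ∈ H, u root = ptOf ⟨i, hi⟩) :
    ∀ i (hi : i < 24), (treeRun gens reached tree).testBit i = true →
      ∃ u ∈ H, u root = ptOf ⟨i, hi⟩ := by
  induction tree generalizing reached with
  | nil => exact hreached
  | cons e rest ih =>
    obtain ⟨q, p, j⟩ := e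
    unfold treeRun
    split
    · rename_i hcond
      simp only [Bool.and_eq_true] at hcond
      obtain ⟨⟨⟨⟨hp_reached, hmap⟩, hq⟩, hp⟩, hj⟩ := hcond
      have hq' : q < 24 := Nat.le_of_ble_eq_true hq
      have hp' : p < 24 := Nat.le_of_ble_eq_true hp
      have hj' : j < gens.length := Nat.le_of_ble_eq_true hj
      have hS : gens.getD j 0 ∈ gens := by
        rw [List.getD_eq_getElem _ _ hj']
        exact List.getElem_mem hj'
      obtain ⟨hperm, hmemH⟩ := hgens _ hS
      apply ih
      intro i hi hbit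
      rw [Nat.testBit_or, Bool.or_eq_true] at hbit
      rcases hbit with hbit | hbit
      · exact hreached i hi hbit
      · rw [Nat.one_shiftLeft, Nat.testBit_two_pow] at hbit
        have hqi : q = i := by simpa using hbit
        subst hqi
        obtain ⟨u, hu, hur⟩ := hreached p hp' hp_reached
        refine ⟨permC (gens.getD j 0) * u, H.mul_mem hmemH hu, ?_⟩
        rw [Equiv.Perm.mul_apply, hur]
        exact permC_ptOf hperm p hp' q hi (Nat.eq_of_beq_eq_true hmap)
    · intro i hi hbit
      simp at hbit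

end Cfsg.Agent.Lib.Helper93.Golay
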