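import Cfsg.Agent.Lib.Helper93.G23.Crit

/-!
# Safe presentations with extra relators `r ^ e`: triviality of the `p`-part of kernels (helper93)

Corollaries of `StemCyc.exists_surj_ker_x` with the trivial cover `Gam = G`: if the generators `g i` of `G` have
orders prime to `e`, and every finite group generated by elements `t i` satisfying the power relators, the
conjugation relators `srels` and the relators `r ^ e` (`r ∈ xrels` a relator of `G`) has at most `|G|` elements,
then a stem extension of `G` whose kernel has exponent dividing `e` is an isomorphism.  With `e = p ^ a` the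
`p`-part of `|G|` this shows that `p` does not divide the order of any kernel element of any stem extension.

This is the form needed for generators of EVEN order (involutions): their power and conjugation relators always
admit the sign character, which is killed by a relator `r ^ e` with `r` of odd length.
-/

set_option autoImplicit false

namespace Cfsg.Agent.Lib.Helper93.StemCyc

open Cfsg.Agent.Lib.Helper89.CosetCert Cfsg.Agent.Lib.Helper89.StemSafe
open Cfsg.Agent.Lib.Helper89.SafePres Cfsg.Agent.Lib.Helper89.SafePres2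

universe u

/-- kernels of exponent dividing `e` are trivial when the presentation with the extra relators `r ^ e`
bounds the group by `|G|` -/
theorem ker_eq_bot_of_safe_x {G : Type u} [Group G] [Finite G] (e : ℕ) (he : 0 < e)
    (k : ℕ) (g : ℕ → G) (ord : ℕ → ℕ)
    (hord : ∀ i, g i ^ ord i = 1) (hcop : ∀ i, (ord i).Coprime e)
    (hgen : Subgroup.closure {y | ∃ i < k, y = g i} = ⊤)
    (srels : List SRel) (hvalid : ∀ r ∈ srels, ev g r.word = 1)
    (xrels : List Word) (hxvalid : ∀ r ∈ xrels, ev g r = 1)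
    (hbound : ∀ (L : Type u) [Group L] [Finite L] (t : ℕ → L), (∀ i, t i ^ ord i = 1) →
      (∀ r ∈ srels, ev t r.word = 1) → (∀ r ∈ xrels, ev t r ^ e = 1) →
      Nat.card (Subgroup.closure {y | ∃ i < k, y = t i}) ≤ Nat.card G)
    {Γ : Type u} [Group Γ] [Finite Γ] (σ : Γ →* G) (hσ : Cfsg.IsStemExtension σ)
    (hek : ∀ z ∈ σ.ker, z ^ e = 1) : σ.ker = ⊥ := by
  obtain ⟨π, hπ⟩ := exists_surj_ker_x e he k g ord hord hcop hgen srels hvalid xrels hxvalid
    (MonoidHom.id G) g (fun _ => rfl) hord hvalid
    (fun r hr => by rw [hxvalid r hr, one_pow]) hgen hbound σ hσ hek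
  rw [eq_bot_iff]
  intro z hz
  obtain ⟨x, hx⟩ := hπ ⟨z, hz⟩
  have hx1 : x = 1 := by
    apply Subtype.ext
    have := x.2
    rw [MonoidHom.mem_ker, MonoidHom.id_apply] at this
    exact this
  rw [hx1, map_one] at hx
  have : z = 1 := by
    have := congrArg Subtype.val hx
    exact this.symm
  rw [this]
  exact Subgroup.one_mem _

/-- the prime `p` (with `p ^ a` the `p`-part of `|G|`) does not divide the order of a kernel element of any stem
extension, when the presentation with the extra relators `r ^ (p ^ a)` bounds the group by `|G|` -/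
theorem not_dvd_of_safe_x {G : Type u} [Group G] [Finite G] (p : ℕ) [hp : Fact p.Prime] (a m : ℕ)
    (hcard : Nat.card G = p ^ a * m) (hm : ¬ p ∣ m)
    (k : ℕ) (g : ℕ → G) (ord : ℕ → ℕ)
    (hord : ∀ i, g i ^ ord i = 1) (hcop : ∀ i, (ord i).Coprime p)
    (hgen : Subgroup.closure {y | ∃ i < k, y = g i} = ⊤)
    (srels : List SRel) (hvalid : ∀ r ∈ srels, ev g r.word = 1)
    (xrels : List Word) (hxvalid : ∀ r ∈ xrels, ev g r = 1)
    (hbound : ∀ (L : Type u) [Group L] [Finite L] (t : ℕ → L), (∀ i, t i ^ ord i = 1) →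
      (∀ r ∈ srels, ev t r.word = 1) → (∀ r ∈ xrels, ev t r ^ (p ^ a) = 1) →
      Nat.card (Subgroup.closure {y | ∃ i < k, y = t i}) ≤ Nat.card G)
    {Γ : Type u} [Group Γ] [Finite Γ] (σ : Γ →* G) (hσ : Cfsg.IsStemExtension σ) :
    ∀ z ∈ σ.ker, ¬ p ∣ orderOf z := by
  refine not_dvd_orderOf_of_pgroup_case p ?_ σ hσ
  intro Γ' _ _ σ' hσ' hpk
  refine ker_eq_bot_of_safe_x (p ^ a) (pow_pos hp.out.pos a) k g ord hord
    (fun i => Nat.Coprime.pow_right a (hcop i)) hgen srels hvalid xrels hxvalid hbound σ' hσ' ?_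
  intro z hz
  obtain ⟨n, hn⟩ := hpk z hz
  have h1 : orderOf z ∣ p ^ n := orderOf_dvd_of_pow_eq_one hn
  have h2 : orderOf z ∣ p ^ a * m := by
    rw [← hcard]
    exact orderOf_dvd_of_pow_eq_one (pow_card_eq_one σ' hσ' hz)
  obtain ⟨j, -, hj⟩ := (Nat.dvd_prime_pow hp.out).1 h1
  have hcop' : (orderOf z).Coprime m := by
    rw [hj]
    exact Nat.Coprime.pow_left j ((Nat.Prime.coprime_iff_not_dvd hp.out).2 hm)
  have h3 : orderOf z ∣ p ^ a := (Nat.Coprime.dvd_mul_right hcop').1 h2
  exact orderOf_dvd_iff_pow_eq_one.1 h3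

end Cfsg.Agent.Lib.Helper93.StemCyc
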