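import Cfsg.Agent.Lib.Helper6.St.GDefs

/-! # ST-SG3 (helper93, for helper6's Steinberg hive): products of Bruhat cells indexed by the Weyl group -/

set_option autoImplicit false

namespace Cfsg.Agent.Lib.Helper6.St

open Cfsg Cfsg.Agent.Lib.Helper6 Cfsg.Agent.Lib.Helper6.Exch Cfsg.Agent.S0320

section G2
variable {G : Type*} [Group G] (P : Cfsg.BNPair G)

/-! ### SG3 -/

theorem sg3_Cw_sig (s : P.S) : Cw P (S0320.sig P s) = C P (s : G) := by
  unfold S0320.sig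
  rw [Cw_mk]

theorem sg3_Cw_sig_mul (s : P.S) (n : P.N) :
    Cw P (S0320.sig P s * (QuotientGroup.mk n : Wg P)) = C P ((s : G) * (n : G)) := by
  have : S0320.sig P s * (QuotientGroup.mk n : Wg P) =
      (QuotientGroup.mk ((⟨(s : G), P.subset s.2⟩ : P.N) * n) : Wg P) := rfl
  rw [this, Cw_mk]
  rfl

theorem Cw_mul_subset (s : P.S) (w : Wg P) {x y : G} (hx : x ∈ Cw P (S0320.sig P s))
    (hy : y ∈ Cw P w) : x * y ∈ Cw P w ∪ Cw P (S0320.sig P s * w) := by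
  obtain ⟨n, rfl⟩ := QuotientGroup.mk_surjective w
  rw [sg3_Cw_sig] at hx
  rw [sg3_Cw_sig_mul]
  have hy' : y ∈ C P (n : G) := by
    have := hy
    rwa [Cw_mk] at this
  have hCn : Cw P (QuotientGroup.mk n : Wg P) = C P (n : G) := Cw_mk P n
  rw [hCn]
  rw [mem_C] at hx hy'
  obtain ⟨b1, hb1, b2, hb2, rfl⟩ := hx
  obtain ⟨b3, hb3, b4, hb4, rfl⟩ := hy'
  have e : b1 * (s : G) * b2 * (b3 * (n : G) * b4) = b1 * ((s : G) * (b2 * b3) * (n : G)) * b4 := by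
    group
  rw [e]
  rcases T3 P s.2 n.2 (P.B.mul_mem hb2 hb3) with h | h
  · exact Or.inr (mul_mem_C_right P hb4 (mul_mem_C_left P hb1 h))
  · exact Or.inl (mul_mem_C_right P hb4 (mul_mem_C_left P hb1 h))

theorem Cw_mul_of_lt (s : P.S) (w : Wg P) (hlt : ell (S0320.sig P) w < ell (S0320.sig P) (S0320.sig P s * w))
    {x y : G} (hx : x ∈ Cw P (S0320.sig P s)) (hy : y ∈ Cw P w) : x * y ∈ Cw P (S0320.sig P s * w) := by
  obtain ⟨n, rfl⟩ := QuotientGroup.mk_surjective w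
  have hmul : S0320.sig P s * (QuotientGroup.mk n : Wg P) =
      (QuotientGroup.mk ((⟨(s : G), P.subset s.2⟩ : P.N) * n) : Wg P) := rfl
  have hlt' : len P P.S (n : G) < len P P.S ((s : G) * (n : G)) := by
    have h1 := ell_mk P n
    have h2 := ell_mk P ((⟨(s : G), P.subset s.2⟩ : P.N) * n)
    rw [hmul] at hlt
    change ell (sig P) (QuotientGroup.mk n : Wg P) < _ at hlt
    rw [h1, h2] at hlt
    exact hlt
  rw [sg3_Cw_sig] at hx
  rw [sg3_Cw_sig_mul]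
  have hy' : y ∈ C P (n : G) := by
    have := hy
    rwa [Cw_mk] at this
  rw [mem_C] at hx hy'
  obtain ⟨b1, hb1, b2, hb2, rfl⟩ := hx
  obtain ⟨b3, hb3, b4, hb4, rfl⟩ := hy'
  have e : b1 * (s : G) * b2 * (b3 * (n : G) * b4) = b1 * ((s : G) * (b2 * b3) * (n : G)) * b4 := by
    group
  rw [e]
  have h := lemmaA (P := P) (J := P.S) subset_rfl (hasRep_of_mem_N n.2) s.2 hlt'.le
    (P.B.mul_mem hb2 hb3)
  exact mul_mem_C_right P hb4 (mul_mem_C_left P hb1 h)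

theorem Cw_inv (w : Wg P) {x : G} (hx : x ∈ Cw P w) : x⁻¹ ∈ Cw P w⁻¹ := by
  obtain ⟨n, rfl⟩ := QuotientGroup.mk_surjective w
  have hx' : x ∈ C P (n : G) := by
    have := hx
    rwa [Cw_mk] at this
  have : ((QuotientGroup.mk n : Wg P))⁻¹ = (QuotientGroup.mk n⁻¹ : Wg P) := rfl
  rw [this, Cw_mk]
  exact inv_mem_C P hx'

theorem Cw_one : Cw P (1 : Wg P) = (P.B : Set G) := by
  have : (1 : Wg P) = (QuotientGroup.mk (1 : P.N) : Wg P) := rfl
  rw [this, Cw_mk]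
  ext x
  exact mem_C_one_iff P

end G2

end Cfsg.Agent.Lib.Helper6.St
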