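import Cfsg.Agent.Lib.Helper6.St.GDefs

/-! # ST-SG2 (helper93, for helper6's Steinberg hive): Bruhat cells indexed by the Weyl group -/

set_option autoImplicit false

namespace Cfsg.Agent.Lib.Helper6.St

open Cfsg Cfsg.Agent.Lib.Helper6 Cfsg.Agent.Lib.Helper6.Exch Cfsg.Agent.S0320

section G2
variable {G : Type*} [Group G] (P : Cfsg.BNPair G)

/-! ### SG2 -/

theorem exists_unique_Cw (g : G) : ∃! w : Wg P, g ∈ Cw P w := by
  obtain ⟨n, hn, hg⟩ := bruhat_exists (P := P) g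
  refine ⟨(QuotientGroup.mk (⟨n, hn⟩ : P.N) : Wg P), ?_, ?_⟩
  · change g ∈ Cw P (QuotientGroup.mk (⟨n, hn⟩ : P.N) : Wg P)
    rw [Cw_mk]; exact hg
  · intro w' hw'
    obtain ⟨n', rfl⟩ := QuotientGroup.mk_surjective w'
    rw [Cw_mk] at hw'
    have h1 : C P (n' : G) = C P n := by
      rw [← C_eq_of_mem P hw', ← C_eq_of_mem P hg]
    have h2 := bruhat_unique n'.2 hn h1
    exact (mk_eq_iff P n' ⟨n, hn⟩).mpr h2

/-- the lift of `J` to `N` -/
def sg2_JN (J : Set P.S) : Set P.N := (fun s : P.S => (⟨(s : G), P.subset s.2⟩ : P.N)) '' J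

theorem sg2_map_subtype (J : Set P.S) :
    (Subgroup.closure (sg2_JN P J)).map P.N.subtype = Subgroup.closure (Subtype.val '' J) := by
  rw [MonoidHom.map_closure]
  congr 1
  ext x
  simp only [sg2_JN, Set.mem_image]
  constructor
  · rintro ⟨m, ⟨s, hs, rfl⟩, rfl⟩
    exact ⟨s, hs, rfl⟩
  · rintro ⟨s, hs, rfl⟩
    exact ⟨_, ⟨s, hs, rfl⟩, rfl⟩

theorem sg2_map_mk (J : Set P.S) :
    (Subgroup.closure (sg2_JN P J)).map (QuotientGroup.mk' ((P.B ⊓ P.N).subgroupOf P.N)) =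
      WJ (sig P) J := by
  rw [MonoidHom.map_closure]
  unfold WJ
  congr 1
  ext x
  simp only [sg2_JN, Set.mem_image]
  constructor
  · rintro ⟨m, ⟨s, hs, rfl⟩, rfl⟩
    exact ⟨s, hs, rfl⟩
  · rintro ⟨s, hs, rfl⟩
    exact ⟨_, ⟨s, hs, rfl⟩, rfl⟩

theorem parabolic_eq_iUnion (J : Set P.S) :
    (P.parabolic (Subtype.val '' J) : Set G) = ⋃ w ∈ (WJ (S0320.sig P) J : Set (Wg P)), Cw P w := by
  have hJ : (Subtype.val '' J : Set G) ⊆ P.S := by
    rintro x ⟨s, _, rfl⟩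
    exact s.2
  ext g
  simp only [SetLike.mem_coe, Set.mem_iUnion, exists_prop]
  constructor
  · intro hg
    obtain ⟨n, hn, hC⟩ := (mem_parabolic_iff (P := P) hJ).1 hg
    rw [← sg2_map_subtype, Subgroup.mem_map] at hn
    obtain ⟨m, hm, rfl⟩ := hn
    refine ⟨(QuotientGroup.mk m : Wg P), ?_, ?_⟩
    · rw [← sg2_map_mk, Subgroup.mem_map]
      exact ⟨m, hm, rfl⟩
    · rw [Cw_mk]; exact hC
  · rintro ⟨w, hw, hg⟩
    rw [← sg2_map_mk, Subgroup.mem_map] at hw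
    obtain ⟨m, hm, rfl⟩ := hw
    have hg' : g ∈ Cw P (QuotientGroup.mk m : Wg P) := hg
    rw [Cw_mk] at hg'
    have hm' : (m : G) ∈ Subgroup.closure (Subtype.val '' J) := by
      rw [← sg2_map_subtype, Subgroup.mem_map]
      exact ⟨m, hm, rfl⟩
    exact C_subset_parabolic (P := P) hm' hg'

end G2

end Cfsg.Agent.Lib.Helper6.St
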