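import Mathlib

set_option autoImplicit false

namespace Cfsg.Agent.Lib.Helper93

/-- Orbit–stabiliser counting for a subgroup `K` of a group `G` acting on `X`: if `S` is exactly
the set of images of `x` under `K`, then `|K| = |S| * |K ∩ Stab x|`. -/
theorem card_eq_ncard_mul_card_inf_stabilizer {G X : Type*} [Group G] [MulAction G X]
    (K : Subgroup G) (x : X) (S : Set X)
    (h1 : ∀ k ∈ K, k • x ∈ S) (h2 : ∀ s ∈ S, ∃ k ∈ K, k • x = s) :
    Nat.card K = S.ncard * Nat.card ↥(K ⊓ MulAction.stabilizer G x) := by
  have horb : MulAction.orbit K x = S := by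
    ext s
    constructor
    · rintro ⟨k, rfl⟩
      exact h1 k.1 k.2
    · intro hs
      obtain ⟨k, hk, rfl⟩ := h2 s hs
      exact ⟨⟨k, hk⟩, rfl⟩
  have hstab : MulAction.stabilizer K x = (MulAction.stabilizer G x).subgroupOf K := by
    ext k
    rw [MulAction.mem_stabilizer_iff, Subgroup.mem_subgroupOf, MulAction.mem_stabilizer_iff]
    rfl
  have hidx := MulAction.index_stabilizer K x
  rw [horb] at hidx
  have hcard := Subgroup.card_mul_index (MulAction.stabilizer K x)
  rw [hidx] at hcard
  have heq : Nat.card (MulAction.stabilizer K x) = Nat.card ↥(K ⊓ MulAction.stabilizer G x) := by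
    rw [hstab, ← Subgroup.inf_subgroupOf_left]
    exact Nat.card_congr (Subgroup.subgroupOfEquivOfLe inf_le_left).toEquiv
  rw [← hcard, heq, mul_comm]

end Cfsg.Agent.Lib.Helper93
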