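import Mathlib

set_option autoImplicit false

/-!
The centraliser of the transvection `1 + E₀₁` in `SL(5, 2)` has at most `2 ^ 7 * 168` elements.
-/

namespace Cfsg.Agent.Lib.Helper93.CentSL5

open Matrix

abbrev M5 : Type := Matrix (Fin 5) (Fin 5) (ZMod 2)

def T5 : M5 := Matrix.transvection 0 1 1

/-- the shape of a matrix commuting with the transvection -/
structure Shape (A : M5) : Prop where
  col : ∀ i : Fin 5, i ≠ 0 → A i 0 = 0
  row : ∀ j : Fin 5, j ≠ 1 → A 1 j = 0
  diag : A 0 0 = A 1 1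

theorem shape_of_comm {A : M5} (h : A * T5 = T5 * A) : Shape A := by
  have e : ∀ i j : Fin 5, (A * T5) i j = (T5 * A) i j := fun i j => by rw [h]
  simp only [T5, Matrix.transvection, Matrix.mul_add, Matrix.add_mul, Matrix.mul_one,
    Matrix.one_mul, Matrix.add_apply, add_right_inj] at e
  refine ⟨?_, ?_, ?_⟩
  · intro i hi
    have := e i 1
    rw [Matrix.mul_single_apply_same, Matrix.single_mul_apply_of_ne (c := (1 : ZMod 2)) 0 1 i 1 hi]
      at this
    simpa using this
  · intro j hj
    have := e 0 j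
    rw [Matrix.single_mul_apply_same, Matrix.mul_single_apply_of_ne (c := (1 : ZMod 2)) 0 1 0 j hj]
      at this
    simpa using this.symm
  · have := e 0 1
    rw [Matrix.mul_single_apply_same, Matrix.single_mul_apply_same] at this
    simpa using this

abbrev SL5 : Type := Matrix.SpecialLinearGroup (Fin 5) (ZMod 2)

theorem shape_of_mem {s g : SL5} (hs : (s : M5) = T5) (hg : g ∈ Subgroup.centralizer {s}) :
    Shape (g : M5) := by
  apply shape_of_comm
  have h := Subgroup.mem_centralizer_singleton_iff.1 hg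
  have h' := congrArg (fun x : SL5 => (x : M5)) h
  simp only [Matrix.SpecialLinearGroup.coe_mul] at h'
  rw [hs] at h'
  exact h'

theorem corner {g : SL5} (hsh : Shape (g : M5)) : (g : M5) 0 0 = 1 ∧ (g : M5) 1 1 = 1 := by
  have h00 : (g : M5) 0 0 = 1 := by
    by_contra hne
    have h0 : (g : M5) 0 0 = 0 := by
      have : ∀ a : ZMod 2, a ≠ 1 → a = 0 := by decide
      exact this _ hne
    have hdet : (g : M5).det = 0 := by
      apply Matrix.det_eq_zero_of_column_eq_zero 0
      intro i
      by_cases hi : i = 0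
      · rw [hi, h0]
      · exact hsh.col i hi
    rw [g.det_coe] at hdet
    exact one_ne_zero hdet
  exact ⟨h00, by rw [← hsh.diag, h00]⟩

/-- the lower right block -/
def blk (A : M5) : Matrix (Fin 3) (Fin 3) (ZMod 2) := fun i j => A i.succ.succ j.succ.succ

theorem blk_one : blk 1 = 1 := by
  ext i j
  simp [blk, Matrix.one_apply, Fin.succ_inj]

theorem blk_mul {A B : M5} (hA : Shape A) (hB : Shape B) : blk (A * B) = blk A * blk B := by
  ext i j
  simp only [blk, Matrix.mul_apply]
  rw [Fin.sum_univ_succ, Fin.sum_univ_succ]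
  have h1 : A i.succ.succ 0 = 0 := hA.col _ (Fin.succ_ne_zero _)
  have h2 : B 1 j.succ.succ = 0 := hB.row _ (by
    intro h
    have := congrArg Fin.val h
    simp at this)
  rw [h1, Fin.succ_zero_eq_one, h2]
  simp

theorem shape_one : Shape (1 : M5) := by
  refine ⟨?_, ?_, ?_⟩
  · intro i hi
    rw [Matrix.one_apply_ne hi]
  · intro j hj
    rw [Matrix.one_apply_ne (Ne.symm hj)]
  · simp

/-- the block as an invertible matrix -/
def blkU {s : SL5} (hs : (s : M5) = T5) (g : ↥(Subgroup.centralizer {s})) :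
    GL (Fin 3) (ZMod 2) where
  val := blk (g.1 : M5)
  inv := blk ((g⁻¹ : ↥(Subgroup.centralizer {s})).1 : M5)
  val_inv := by
    rw [← blk_mul (shape_of_mem hs g.2) (shape_of_mem hs (g⁻¹).2),
      ← Matrix.SpecialLinearGroup.coe_mul, ← Subgroup.coe_mul, mul_inv_cancel, Subgroup.coe_one,
      Matrix.SpecialLinearGroup.coe_one, blk_one]
  inv_val := by
    rw [← blk_mul (shape_of_mem hs (g⁻¹).2) (shape_of_mem hs g.2),
      ← Matrix.SpecialLinearGroup.coe_mul, ← Subgroup.coe_mul, inv_mul_cancel, Subgroup.coe_one,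
      Matrix.SpecialLinearGroup.coe_one, blk_one]

/-- the parameters of an element of the centraliser -/
def params {s : SL5} (hs : (s : M5) = T5) (g : ↥(Subgroup.centralizer {s})) :
    (Fin 4 → ZMod 2) × (Fin 3 → ZMod 2) × GL (Fin 3) (ZMod 2) :=
  (fun k => (g.1 : M5) 0 k.succ, fun k => (g.1 : M5) k.succ.succ 1, blkU hs g)

theorem params_injective {s : SL5} (hs : (s : M5) = T5) : Function.Injective (params hs) := by
  intro g g' h
  have hsh := shape_of_mem hs g.2
  have hsh' := shape_of_mem hs g'.2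
  have hc := corner hsh
  have hc' := corner hsh'
  have hrow0 : ∀ k : Fin 4, (g.1 : M5) 0 k.succ = (g'.1 : M5) 0 k.succ :=
    fun k => congrFun (congrArg Prod.fst h) k
  have hcol1 : ∀ k : Fin 3, (g.1 : M5) k.succ.succ 1 = (g'.1 : M5) k.succ.succ 1 :=
    fun k => congrFun (congrArg (fun x => x.2.1) h) k
  have hblk : ∀ a b : Fin 3, (g.1 : M5) a.succ.succ b.succ.succ = (g'.1 : M5) a.succ.succ b.succ.succ := by
    intro a b
    have h3 := congrArg (fun x => (x.2.2 : Matrix (Fin 3) (Fin 3) (ZMod 2))) h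
    exact congrFun (congrFun h3 a) b
  apply Subtype.ext
  apply Subtype.ext
  ext i j
  rcases Fin.eq_zero_or_eq_succ i with rfl | ⟨i1, rfl⟩
  · rcases Fin.eq_zero_or_eq_succ j with rfl | ⟨j1, rfl⟩
    · rw [hc.1, hc'.1]
    · exact hrow0 j1
  · rcases Fin.eq_zero_or_eq_succ i1 with rfl | ⟨i2, rfl⟩
    · rw [Fin.succ_zero_eq_one]
      by_cases hj : j = 1
      · rw [hj, hc.2, hc'.2]
      · rw [hsh.row j hj, hsh'.row j hj]
    · rcases Fin.eq_zero_or_eq_succ j with rfl | ⟨j1, rfl⟩
      · rw [hsh.col _ (Fin.succ_ne_zero _), hsh'.col _ (Fin.succ_ne_zero _)]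
      · rcases Fin.eq_zero_or_eq_succ j1 with rfl | ⟨j2, rfl⟩
        · rw [Fin.succ_zero_eq_one]
          exact hcol1 i2
        · exact hblk i2 j2

theorem card_GL3 : Nat.card (GL (Fin 3) (ZMod 2)) = 168 := by
  rw [Matrix.card_GL_field]
  simp [Fin.prod_univ_three, ZMod.card]

theorem card_centralizer_le {s : SL5} (hs : (s : M5) = T5) :
    Nat.card ↥(Subgroup.centralizer {s}) ≤ 21504 := by
  have h := Nat.card_le_card_of_injective (params hs) (params_injective hs)
  rw [Nat.card_prod, Nat.card_prod, card_GL3, Nat.card_fun, Nat.card_fun] at h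
  simpa using h

end Cfsg.Agent.Lib.Helper93.CentSL5
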