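import Cfsg.Agent.Lib.Helper93.L34.ValidL2
import Cfsg.Agent.Lib.Helper93.L34.ValidL3
import Cfsg.Agent.Lib.Helper93.L34.ValidL4
import Cfsg.Agent.Lib.Helper93.L34.ValidS
import Cfsg.Agent.Lib.Helper30.L34.Rels

/-!
# S2088, part (M): a permutation model of the covering group `(4 × 4 × 3).L₃(4)` (helper93 for helper30)

`gm i` (`i < 4`) are permutations of `Fin 959` satisfying all the safe relators `srelsAll` and `gm i ^ 5 = 1`;
`wz3`, `wza`, `wzb` are words whose values are central of orders `3`, `4`, `4` and generate `ℤ/3 × ℤ/4 × ℤ/4`.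
In `SL₃(4)` the words `wza`, `wzb` evaluate to `1` and `wz3` to the scalar `ω`.
-/

set_option autoImplicit false
set_option maxRecDepth 1000000
set_option maxHeartbeats 0
set_option Elab.async false

namespace Cfsg.Agent.Lib.Helper30.L34.Mod

open Cfsg.Agent.Lib.Helper93.BigPerm Cfsg.Agent.Lib.Helper89.TableChain2
open Cfsg.Agent.Lib.Helper89.CosetCert Cfsg.Agent.Lib.Helper89.SafePres
open Cfsg.Agent.Lib.Helper30.L34

/-- the generators of the model -/
noncomputable def gm (i : ℕ) : Equiv.Perm (Fin 959) := Model.gm Md_ok i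

theorem gm_eq_one (i : ℕ) (h : 4 ≤ i) : gm i = 1 := by
  unfold gm Model.gm Model.perm
  rw [dif_neg (by show ¬ 2 * i < 2 * 4; omega)]
  rfl

theorem Md_pow0 : Md.chk (powWord 5 0) 0 959 = true := by decide +kernel

theorem Md_pow1 : Md.chk (powWord 5 1) 0 959 = true := by decide +kernel

theorem Md_pow2 : Md.chk (powWord 5 2) 0 959 = true := by decide +kernel

theorem Md_pow3 : Md.chk (powWord 5 3) 0 959 = true := by decide +kernel

theorem gm_pow (i : ℕ) : gm i ^ ord i = 1 := by
  by_cases h : i < 4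
  · interval_cases i
    · exact Model.gm_pow' Md_ok 0 5 Md_pow0
    · exact Model.gm_pow' Md_ok 1 5 Md_pow1
    · exact Model.gm_pow' Md_ok 2 5 Md_pow2
    · exact Model.gm_pow' Md_ok 3 5 Md_pow3
  · rw [gm_eq_one i (by omega), one_pow]

theorem hvalidM : ∀ r ∈ srelsAll, ev gm r.word = 1 := by
  intro r hr
  unfold srelsAll at hr
  rw [List.mem_append, List.mem_append, List.mem_append] at hr
  rcases hr with ((h | h) | h) | h
  · exact validL2 _ (List.mem_map_of_mem (L2.mem_srels h))
  · exact validL3 _ (List.mem_map_of_mem (L3.mem_srels h))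
  · exact validL4 _ (List.mem_map_of_mem (L4.mem_srels h))
  · exact validS _ (List.mem_map_of_mem h)

/-- a word for a central element of order 3 (the scalar `ω` in `SL₃(4)`) -/
def wz3 : Word := [4, 4, 3, 4, 0, 2, 0]

/-- a word for a central element of order 4 (trivial in `SL₃(4)`) -/
def wza : Word := [7, 4, 7, 4, 7, 4]

/-- a word for a second central element of order 4 (trivial in `SL₃(4)`) -/
def wzb : Word := [6, 4, 0, 6, 4, 0, 6, 4, 0]

theorem wz3_lt : ∀ l ∈ wz3, l < 8 := by decide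

theorem wza_lt : ∀ l ∈ wza, l < 8 := by decide

theorem wzb_lt : ∀ l ∈ wzb, l < 8 := by decide

/-- `n` copies of a word -/
def wrep (n : ℕ) (w : Word) : Word := (List.replicate n w).flatten

theorem ev_wrep {L : Type*} [Group L] (t : ℕ → L) (n : ℕ) (w : Word) : ev t (wrep n w) = ev t w ^ n := by
  unfold wrep
  induction n with
  | zero => simp
  | succ n ih => rw [List.replicate_succ, List.flatten_cons, ev_append, ih, pow_succ']

/-- the relator expressing that the word `w` commutes with the generator `i` -/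
def centRelW (w : Word) (i : ℕ) : Word := 2 * i :: (w ++ (2 * i + 1) :: winv w)

theorem comm_of_relW {L : Type*} [Group L] (t : ℕ → L) (w : Word) (i : ℕ)
    (hv : ev t (centRelW w i) = 1) : t i * ev t w = ev t w * t i := by
  unfold centRelW at hv
  rw [ev_cons, ev_append, ev_cons, ev_winv, lv_two_mul, lv_two_mul_add_one] at hv
  have h2 : t i * ev t w = (t i * (ev t w * ((t i)⁻¹ * (ev t w)⁻¹))) * (ev t w * t i) := by
    group
  rw [h2, hv, one_mul]

theorem Md_cent_wz3_0 : Md.chk (centRelW wz3 0) 0 959 = true := by decide +kernel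

theorem Md_cent_wz3_1 : Md.chk (centRelW wz3 1) 0 959 = true := by decide +kernel

theorem Md_cent_wz3_2 : Md.chk (centRelW wz3 2) 0 959 = true := by decide +kernel

theorem Md_cent_wz3_3 : Md.chk (centRelW wz3 3) 0 959 = true := by decide +kernel

theorem z3_comm (i : ℕ) (h : i < 4) : gm i * ev gm wz3 = ev gm wz3 * gm i := by
  apply comm_of_relW
  interval_cases i
  · exact Model.ev_one_of_chk1 Md_ok _ Md_cent_wz3_0
  · exact Model.ev_one_of_chk1 Md_ok _ Md_cent_wz3_1
  · exact Model.ev_one_of_chk1 Md_ok _ Md_cent_wz3_2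
  · exact Model.ev_one_of_chk1 Md_ok _ Md_cent_wz3_3

theorem Md_cent_wza_0 : Md.chk (centRelW wza 0) 0 959 = true := by decide +kernel

theorem Md_cent_wza_1 : Md.chk (centRelW wza 1) 0 959 = true := by decide +kernel

theorem Md_cent_wza_2 : Md.chk (centRelW wza 2) 0 959 = true := by decide +kernel

theorem Md_cent_wza_3 : Md.chk (centRelW wza 3) 0 959 = true := by decide +kernel

theorem za_comm (i : ℕ) (h : i < 4) : gm i * ev gm wza = ev gm wza * gm i := by
  apply comm_of_relW
  interval_cases i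
  · exact Model.ev_one_of_chk1 Md_ok _ Md_cent_wza_0
  · exact Model.ev_one_of_chk1 Md_ok _ Md_cent_wza_1
  · exact Model.ev_one_of_chk1 Md_ok _ Md_cent_wza_2
  · exact Model.ev_one_of_chk1 Md_ok _ Md_cent_wza_3

theorem Md_cent_wzb_0 : Md.chk (centRelW wzb 0) 0 959 = true := by decide +kernel

theorem Md_cent_wzb_1 : Md.chk (centRelW wzb 1) 0 959 = true := by decide +kernel

theorem Md_cent_wzb_2 : Md.chk (centRelW wzb 2) 0 959 = true := by decide +kernel

theorem Md_cent_wzb_3 : Md.chk (centRelW wzb 3) 0 959 = true := by decide +kernel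

theorem zb_comm (i : ℕ) (h : i < 4) : gm i * ev gm wzb = ev gm wzb * gm i := by
  apply comm_of_relW
  interval_cases i
  · exact Model.ev_one_of_chk1 Md_ok _ Md_cent_wzb_0
  · exact Model.ev_one_of_chk1 Md_ok _ Md_cent_wzb_1
  · exact Model.ev_one_of_chk1 Md_ok _ Md_cent_wzb_2
  · exact Model.ev_one_of_chk1 Md_ok _ Md_cent_wzb_3

theorem Md_pow_wz3 : Md.chk (wrep 3 wz3) 0 959 = true := by decide +kernel

theorem z3_pow : ev gm wz3 ^ 3 = 1 := by
  have := Model.ev_one_of_chk1 Md_ok (wrep 3 wz3) Md_pow_wz3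
  rwa [ev_wrep] at this

theorem Md_pow_wza : Md.chk (wrep 4 wza) 0 959 = true := by decide +kernel

theorem za_pow : ev gm wza ^ 4 = 1 := by
  have := Model.ev_one_of_chk1 Md_ok (wrep 4 wza) Md_pow_wza
  rwa [ev_wrep] at this

theorem Md_pow_wzb : Md.chk (wrep 4 wzb) 0 959 = true := by decide +kernel

theorem zb_pow : ev gm wzb ^ 4 = 1 := by
  have := Model.ev_one_of_chk1 Md_ok (wrep 4 wzb) Md_pow_wzb
  rwa [ev_wrep] at this

theorem z3_ne : ev gm wz3 ≠ 1 :=
  Model.ev_ne_one Md_ok wz3 (by decide) 896 (by decide) (by decide +kernel)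

theorem za_sq_ne : ev gm wza ^ 2 ≠ 1 := by
  rw [← ev_wrep]
  exact Model.ev_ne_one Md_ok (wrep 2 wza) (by decide) 0 (by decide) (by decide +kernel)

theorem zb_sq_ne : ev gm wzb ^ 2 ≠ 1 := by
  rw [← ev_wrep]
  exact Model.ev_ne_one Md_ok (wrep 2 wzb) (by decide) 0 (by decide) (by decide +kernel)

theorem zab_sq_ne : ev gm wza ^ 2 * ev gm wzb ^ 2 ≠ 1 := by
  rw [← ev_wrep, ← ev_wrep, ← ev_append]
  exact Model.ev_ne_one Md_ok (wrep 2 wza ++ wrep 2 wzb) (by decide) 448 (by decide) (by decide +kernel)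

end Cfsg.Agent.Lib.Helper30.L34.Mod
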