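import Mathlib

set_option autoImplicit false

namespace Cfsg.Agent.Lib.Helper93

/-- Binary words of length 24. -/
abbrev W24 : Type := Fin 24 → ZMod 2

/-- The support of a binary word. -/
def supp (w : W24) : Finset (Fin 24) := Finset.univ.filter fun i => w i ≠ 0

theorem hammingNorm_eq_card_supp (w : W24) : hammingNorm w = (supp w).card := rfl

theorem mem_supp (w : W24) (i : Fin 24) : i ∈ supp w ↔ w i ≠ 0 := by
  simp [supp]

/-- The indicator word of a set of coordinates. -/
def ind (s : Finset (Fin 24)) : W24 := fun i => if i ∈ s then 1 else 0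

theorem supp_ind (s : Finset (Fin 24)) : supp (ind s) = s := by
  ext i
  simp [supp, ind]

theorem zmod2_eq_one_of_ne_zero : ∀ a : ZMod 2, a ≠ 0 → a = 1 := by decide

theorem ind_supp (w : W24) : ind (supp w) = w := by
  funext i
  by_cases h : w i = 0
  · simp [ind, supp, h]
  · simp [ind, supp, h, zmod2_eq_one_of_ne_zero _ h]

theorem supp_injective : Function.Injective supp := by
  intro u v h
  rw [← ind_supp u, ← ind_supp v, h]

theorem supp_eq_empty_iff (w : W24) : supp w = ∅ ↔ w = 0 := by
  constructor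
  · intro h
    rw [← ind_supp w, h]
    funext i
    simp [ind]
  · rintro rfl
    ext i
    simp [supp]

theorem zmod2_add_ne_zero : ∀ a b : ZMod 2, a + b ≠ 0 ↔ ((a ≠ 0 ∧ ¬ b ≠ 0) ∨ (b ≠ 0 ∧ ¬ a ≠ 0)) := by
  decide

theorem zmod2_sub_eq_add : ∀ a b : ZMod 2, a - b = a + b := by decide

theorem supp_add (u v : W24) : supp (u + v) = symmDiff (supp u) (supp v) := by
  ext i
  simp only [mem_supp, Finset.mem_symmDiff, Pi.add_apply]
  exact zmod2_add_ne_zero (u i) (v i)

theorem sub_eq_add24 (u v : W24) : u - v = u + v := by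
  funext i
  exact zmod2_sub_eq_add (u i) (v i)

theorem supp_sub (u v : W24) : supp (u - v) = symmDiff (supp u) (supp v) := by
  rw [sub_eq_add24, supp_add]

theorem card_symmDiff_add {α : Type*} [DecidableEq α] (s t : Finset α) :
    (symmDiff s t).card + 2 * (s ∩ t).card = s.card + t.card := by
  have h1 : (symmDiff s t).card = (s \ t).card + (t \ s).card := by
    rw [symmDiff_def, Finset.sup_eq_union, Finset.card_union_of_disjoint]
    exact disjoint_sdiff_sdiff
  have h2 : (s \ t).card + (s ∩ t).card = s.card := Finset.card_sdiff_add_card_inter s t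
  have h3 : (t \ s).card + (t ∩ s).card = t.card := Finset.card_sdiff_add_card_inter t s
  rw [Finset.inter_comm t s] at h3
  omega

theorem zmod2_mul_ne_zero : ∀ a b : ZMod 2, a * b = if (a ≠ 0 ∧ b ≠ 0) then 1 else 0 := by decide

theorem dot_eq_card_inter (u v : W24) :
    ∑ i, u i * v i = (((supp u ∩ supp v).card : ℕ) : ZMod 2) := by
  have : ∀ i, u i * v i = if i ∈ supp u ∩ supp v then (1 : ZMod 2) else 0 := by
    intro i
    rw [zmod2_mul_ne_zero]
    simp [mem_supp]
  simp_rw [this]
  rw [Finset.sum_ite_mem, Finset.univ_inter, Finset.sum_const, nsmul_eq_mul, mul_one]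

theorem weight_add (u v : W24) :
    hammingNorm (u + v) + 2 * (supp u ∩ supp v).card = hammingNorm u + hammingNorm v := by
  rw [hammingNorm_eq_card_supp, hammingNorm_eq_card_supp, hammingNorm_eq_card_supp, supp_add]
  exact card_symmDiff_add _ _

/-- `supp` and `ind` as an equivalence. -/
def suppEquiv : W24 ≃ Finset (Fin 24) := ⟨supp, ind, ind_supp, supp_ind⟩

theorem card_weight_eq (k : ℕ) :
    (Finset.univ.filter fun u : W24 => hammingNorm u = k).card = Nat.choose 24 k := by
  rw [← Finset.card_map suppEquiv.toEmbedding]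
  have : (Finset.univ.filter fun u : W24 => hammingNorm u = k).map suppEquiv.toEmbedding =
      Finset.powersetCard k Finset.univ := by
    ext s
    simp only [Finset.mem_map, Finset.mem_filter, Finset.mem_univ, true_and,
      Equiv.coe_toEmbedding, Finset.mem_powersetCard, Finset.subset_univ]
    constructor
    · rintro ⟨u, hu, rfl⟩
      exact hu
    · intro hs
      exact ⟨ind s, by rw [hammingNorm_eq_card_supp, supp_ind]; exact hs, supp_ind s⟩
  rw [this, Finset.card_powersetCard, Finset.card_univ, Fintype.card_fin]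

theorem card_weight_le (m : ℕ) :
    (Finset.univ.filter fun u : W24 => hammingNorm u ≤ m).card =
      ∑ k ∈ Finset.range (m + 1), Nat.choose 24 k := by
  rw [Finset.card_eq_sum_card_fiberwise (f := fun u : W24 => hammingNorm u)
    (t := Finset.range (m + 1))]
  · refine Finset.sum_congr rfl fun k hk => ?_
    rw [Finset.filter_filter, ← card_weight_eq k]
    congr 1
    ext u
    simp only [Finset.mem_filter, Finset.mem_univ, true_and]
    rw [Finset.mem_range] at hk
    constructor
    · rintro ⟨_, h⟩; exact h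
    · intro h; exact ⟨by omega, h⟩
  · intro u hu
    simp only [Finset.mem_coe, Finset.mem_filter, Finset.mem_univ, true_and] at hu
    simp only [Finset.mem_coe, Finset.mem_range]
    omega

theorem card_weight_le_four :
    (Finset.univ.filter fun u : W24 => hammingNorm u ≤ 4).card = 12951 := by
  rw [card_weight_le]
  decide

theorem card_weight_le_three :
    (Finset.univ.filter fun u : W24 => hammingNorm u ≤ 3).card = 2325 := by
  rw [card_weight_le]
  decide

/-- The hypotheses on an abstract extended binary Golay code. -/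
structure Code24 (C : Submodule (ZMod 2) W24) : Prop where
  hdim : Module.finrank (ZMod 2) C = 12
  horth : ∀ v ∈ C, ∀ w ∈ C, ∑ i, v i * w i = 0
  hmin : ∀ w ∈ C, w ≠ 0 → 8 ≤ hammingNorm w

namespace Code24

variable {C : Submodule (ZMod 2) W24}

/-- Two distinct light words in one coset have weight 4 and disjoint supports. -/
theorem light_pair (hC : Code24 C) {u u' : W24} (hu : hammingNorm u ≤ 4) (hu' : hammingNorm u' ≤ 4)
    (hne : u ≠ u') (hmem : u - u' ∈ C) :
    hammingNorm u = 4 ∧ hammingNorm u' = 4 ∧ Disjoint (supp u) (supp u') := by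
  have h8 : 8 ≤ hammingNorm (u - u') := hC.hmin _ hmem (sub_ne_zero.2 hne)
  rw [sub_eq_add24] at h8
  have hw := weight_add u u'
  have hcard : (supp u ∩ supp u').card = 0 := by omega
  refine ⟨by omega, by omega, ?_⟩
  rw [Finset.disjoint_iff_inter_eq_empty]
  exact Finset.card_eq_zero.1 hcard

theorem card_code (hC : Code24 C) : Nat.card C = 4096 := by
  rw [Module.natCard_eq_pow_finrank (K := ZMod 2), hC.hdim, Nat.card_zmod]
  norm_num

theorem card_quotient (hC : Code24 C) : Nat.card (W24 ⧸ C) = 4096 := by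
  have h := Submodule.card_eq_card_quotient_mul_card C
  rw [hC.card_code] at h
  have hW : Nat.card W24 = 2 ^ 24 := by
    rw [Nat.card_eq_fintype_card, Fintype.card_fun, ZMod.card, Fintype.card_fin]
  rw [hW] at h
  omega

/-- The sextet dichotomy: each coset of the code contains either a single word of weight at
most 4, which has weight at most 3, or exactly six words of weight at most 4, all of weight 4
and with pairwise disjoint supports. -/
theorem fiber_cases (hC : Code24 C) (w : W24) :
    (∃ u : W24, {u : W24 | u - w ∈ C ∧ hammingNorm u ≤ 4} = {u} ∧ hammingNorm u ≤ 3) ∨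
    ({u : W24 | u - w ∈ C ∧ hammingNorm u ≤ 4}.ncard = 6 ∧
      ∀ u ∈ {u : W24 | u - w ∈ C ∧ hammingNorm u ≤ 4}, hammingNorm u = 4 ∧
        ∀ u' ∈ {u : W24 | u - w ∈ C ∧ hammingNorm u ≤ 4}, u ≠ u' →
          Disjoint (supp u) (supp u')) := by
  classical
  letI : Fintype (W24 ⧸ C) := Fintype.ofFinite _
  let mk : W24 → W24 ⧸ C := Submodule.Quotient.mk
  have hmk : ∀ u v : W24, mk u = mk v ↔ u - v ∈ C := fun u v => Submodule.Quotient.eq C
  let S : Finset W24 := Finset.univ.filter fun u => hammingNorm u ≤ 4
  let L : Finset W24 := Finset.univ.filter fun u => hammingNorm u ≤ 3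
  let A : Finset (W24 ⧸ C) := L.image mk
  let F : (W24 ⧸ C) → Finset W24 := fun q => S.filter fun u => mk u = q
  have hS : ∀ u, u ∈ S ↔ hammingNorm u ≤ 4 := fun u => by simp [S]
  have hL : ∀ u, u ∈ L ↔ hammingNorm u ≤ 3 := fun u => by simp [L]
  have hF : ∀ q u, u ∈ F q ↔ hammingNorm u ≤ 4 ∧ mk u = q := fun q u => by simp [F, S]
  have hinj : Set.InjOn mk (L : Set W24) := by
    intro u hu u' hu' h
    by_contra hne
    have hu3 : hammingNorm u ≤ 3 := (hL u).1 hu
    have hu3' : hammingNorm u' ≤ 3 := (hL u').1 hu'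
    have := hC.light_pair (by omega) (by omega) hne ((hmk u u').1 h)
    omega
  have hA : A.card = 2325 := by
    rw [Finset.card_image_of_injOn hinj]
    exact card_weight_le_three
  have hsum : ∑ q, (F q).card = 12951 := by
    rw [← card_weight_le_four]
    exact (Finset.card_eq_sum_card_fiberwise (fun u _ => Finset.mem_coe.2 (Finset.mem_univ _))).symm
  have hFA : ∀ q ∈ A, ∃ u0, hammingNorm u0 ≤ 3 ∧ F q = {u0} := by
    intro q hq
    obtain ⟨u0, hu0L, rfl⟩ := Finset.mem_image.1 hq
    have hu03 : hammingNorm u0 ≤ 3 := (hL u0).1 hu0L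
    refine ⟨u0, hu03, ?_⟩
    ext u
    rw [hF, Finset.mem_singleton]
    constructor
    · rintro ⟨hu4, hmu⟩
      by_contra hne
      have := hC.light_pair hu4 (by omega) hne ((hmk u u0).1 hmu)
      omega
    · rintro rfl
      exact ⟨by omega, rfl⟩
  have hF6 : ∀ q ∈ Aᶜ, (∀ u ∈ F q, hammingNorm u = 4 ∧
      ∀ u' ∈ F q, u ≠ u' → Disjoint (supp u) (supp u')) := by
    intro q hq u hu
    rw [Finset.mem_compl] at hq
    obtain ⟨hu4, hmu⟩ := (hF q u).1 hu
    constructor
    · by_contra hne
      apply hq
      exact Finset.mem_image.2 ⟨u, (hL u).2 (by omega), hmu⟩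
    · intro u' hu' hne
      obtain ⟨hu4', hmu'⟩ := (hF q u').1 hu'
      exact (hC.light_pair hu4 hu4' hne ((hmk u u').1 (hmu.trans hmu'.symm))).2.2
  have hF6card : ∀ q ∈ Aᶜ, (F q).card ≤ 6 := by
    intro q hq
    have hdisj : ((F q : Finset W24) : Set W24).PairwiseDisjoint supp := by
      intro u hu u' hu' hne
      exact (hF6 q hq u hu).2 u' hu' hne
    have h1 := Finset.card_biUnion hdisj
    have h2 : ∑ u ∈ F q, (supp u).card = ∑ u ∈ F q, 4 := by
      refine Finset.sum_congr rfl fun u hu => ?_
      rw [← hammingNorm_eq_card_supp]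
      exact (hF6 q hq u hu).1
    rw [h2, Finset.sum_const, smul_eq_mul] at h1
    have h3 : ((F q).biUnion supp).card ≤ 24 := by
      have := Finset.card_le_univ ((F q).biUnion supp)
      simpa using this
    omega
  have hAc : Aᶜ.card = 1771 := by
    rw [Finset.card_compl, hA, Fintype.card_eq_nat_card, hC.card_quotient]
  have hsplit : ∑ q ∈ A, (F q).card + ∑ q ∈ Aᶜ, (F q).card = 12951 := by
    rw [Finset.sum_add_sum_compl]; exact hsum
  have hA1 : ∑ q ∈ A, (F q).card = 2325 := by
    have : ∑ q ∈ A, (F q).card = ∑ q ∈ A, 1 := by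
      refine Finset.sum_congr rfl fun q hq => ?_
      obtain ⟨u0, -, hu0⟩ := hFA q hq
      rw [hu0, Finset.card_singleton]
    rw [this, Finset.sum_const, smul_eq_mul, mul_one, hA]
  have hAc6 : ∑ q ∈ Aᶜ, (F q).card = ∑ q ∈ Aᶜ, 6 := by
    rw [Finset.sum_const, smul_eq_mul, hAc]
    omega
  have h6 : ∀ q ∈ Aᶜ, (F q).card = 6 := (Finset.sum_eq_sum_iff_of_le hF6card).1 hAc6
  have hset : {u : W24 | u - w ∈ C ∧ hammingNorm u ≤ 4} = ↑(F (mk w)) := by
    ext u
    rw [Finset.mem_coe, hF, Set.mem_setOf_eq, hmk]
    exact and_comm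
  rw [hset]
  by_cases hw : mk w ∈ A
  · left
    obtain ⟨u0, hu03, hu0⟩ := hFA _ hw
    exact ⟨u0, by rw [hu0, Finset.coe_singleton], hu03⟩
  · right
    have hw' : mk w ∈ Aᶜ := Finset.mem_compl.2 hw
    refine ⟨by rw [Set.ncard_coe_finset]; exact h6 _ hw', ?_⟩
    intro u hu
    have := hF6 _ hw' u (Finset.mem_coe.1 hu)
    exact ⟨this.1, fun u' hu' hne => this.2 u' (Finset.mem_coe.1 hu') hne⟩

theorem ind_add_ind_of_disjoint {T T' : Finset (Fin 24)} (h : Disjoint T T') :
    supp (ind T + ind T') = T ∪ T' := by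
  rw [supp_add, supp_ind, supp_ind]
  exact Disjoint.symmDiff_eq_sup h

/-- Every tetrad `T` and point `p` off it: some tetrad `T'` through `p`, disjoint from `T`, has
`T ∪ T'` the support of a code word. -/
theorem exists_tetrad (hC : Code24 C) (T : Finset (Fin 24)) (hT : T.card = 4) (p : Fin 24)
    (hp : p ∉ T) :
    ∃ T' : Finset (Fin 24), T'.card = 4 ∧ p ∈ T' ∧ Disjoint T T' ∧ ind T + ind T' ∈ C := by
  classical
  have hTmem : ind T ∈ {u : W24 | u - ind T ∈ C ∧ hammingNorm u ≤ 4} := by
    refine ⟨by rw [sub_self]; exact C.zero_mem, ?_⟩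
    rw [hammingNorm_eq_card_supp, supp_ind, hT]
  rcases hC.fiber_cases (ind T) with ⟨u0, hu0, hu03⟩ | ⟨h6, hall⟩
  · rw [hu0, Set.mem_singleton_iff] at hTmem
    rw [← hTmem, hammingNorm_eq_card_supp, supp_ind, hT] at hu03
    omega
  · let Ff : Finset W24 := Finset.univ.filter fun u => u - ind T ∈ C ∧ hammingNorm u ≤ 4
    have hFf : (Ff : Set W24) = {u : W24 | u - ind T ∈ C ∧ hammingNorm u ≤ 4} := by
      ext u; simp [Ff]
    rw [← hFf] at h6 hall hTmem
    rw [Set.ncard_coe_finset] at h6
    have hdisj : ((Ff : Finset W24) : Set W24).PairwiseDisjoint supp := by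
      intro u hu u' hu' hne
      exact (hall u hu).2 u' hu' hne
    have h1 := Finset.card_biUnion hdisj
    have h2 : ∑ u ∈ Ff, (supp u).card = ∑ u ∈ Ff, 4 := by
      refine Finset.sum_congr rfl fun u hu => ?_
      rw [← hammingNorm_eq_card_supp]
      exact (hall u (Finset.mem_coe.2 hu)).1
    rw [h2, Finset.sum_const, smul_eq_mul, h6] at h1
    have huniv : Ff.biUnion supp = Finset.univ := by
      apply Finset.eq_univ_of_card
      rw [h1, Fintype.card_fin]
    have hpU : p ∈ Ff.biUnion supp := by rw [huniv]; exact Finset.mem_univ p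
    obtain ⟨u', hu'F, hpu'⟩ := Finset.mem_biUnion.1 hpU
    have hne : ind T ≠ u' := by
      rintro rfl
      rw [supp_ind] at hpu'
      exact hp hpu'
    have hd := (hall (ind T) hTmem).2 u' (Finset.mem_coe.2 hu'F) hne
    rw [supp_ind] at hd
    refine ⟨supp u', ?_, hpu', hd, ?_⟩
    · rw [← hammingNorm_eq_card_supp]
      exact (hall u' (Finset.mem_coe.2 hu'F)).1
    · rw [ind_supp, add_comm, ← sub_eq_add24]
      have : u' ∈ {u : W24 | u - ind T ∈ C ∧ hammingNorm u ≤ 4} := by
        rw [← hFf]; exact Finset.mem_coe.2 hu'F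
      exact this.1

theorem even_card_inter (hC : Code24 C) {v w : W24} (hv : v ∈ C) (hw : w ∈ C) :
    Even (supp v ∩ supp w).card := by
  have h := hC.horth v hv w hw
  rw [dot_eq_card_inter] at h
  exact (ZMod.natCast_eq_zero_iff_even).1 h

/-- The reduction step: a nonzero code word `w` can be shortened by adding a weight-8 code word,
by 4 or 8. -/
theorem exists_reduce (hC : Code24 C) (w : W24) (hw : w ∈ C) (hw0 : w ≠ 0) :
    ∃ o ∈ C, hammingNorm o = 8 ∧
      (hammingNorm (w + o) + 4 = hammingNorm w ∨ hammingNorm (w + o) + 8 = hammingNorm w) := by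
  classical
  have h8 : 8 ≤ (supp w).card := by
    rw [← hammingNorm_eq_card_supp]; exact hC.hmin w hw hw0
  obtain ⟨T, hTs, hT⟩ := Finset.exists_subset_card_eq (show 4 ≤ (supp w).card by omega)
  have hdiff : (supp w \ T).card = (supp w).card - 4 := by
    rw [Finset.card_sdiff_of_subset hTs, hT]
  obtain ⟨p, hp⟩ : (supp w \ T).Nonempty := by
    rw [← Finset.card_pos]; omega
  rw [Finset.mem_sdiff] at hp
  obtain ⟨T', hT', hpT', hd, hmem⟩ := hC.exists_tetrad T hT p hp.2
  have hso : supp (ind T + ind T') = T ∪ T' := ind_add_ind_of_disjoint hd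
  have hwo : hammingNorm (ind T + ind T') = 8 := by
    rw [hammingNorm_eq_card_supp, hso, Finset.card_union_of_disjoint hd, hT, hT']
  have hinter : supp w ∩ supp (ind T + ind T') = T ∪ (supp w ∩ T') := by
    rw [hso, Finset.inter_union_distrib_left, Finset.inter_eq_right.2 hTs]
  have hcard : (supp w ∩ supp (ind T + ind T')).card = 4 + (supp w ∩ T').card := by
    rw [hinter, Finset.card_union_of_disjoint, hT]
    exact Finset.disjoint_of_subset_right Finset.inter_subset_right hd
  have hk1 : 1 ≤ (supp w ∩ T').card := by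
    rw [Nat.one_le_iff_ne_zero, Ne, Finset.card_eq_zero]
    intro h
    have : p ∈ supp w ∩ T' := Finset.mem_inter.2 ⟨hp.1, hpT'⟩
    rw [h] at this
    exact absurd this (Finset.notMem_empty p)
  have hk4 : (supp w ∩ T').card ≤ 4 := by
    rw [← hT']; exact Finset.card_le_card Finset.inter_subset_right
  have heven := hC.even_card_inter hw hmem
  rw [hcard] at heven
  have hwa := weight_add w (ind T + ind T')
  rw [hcard, hwo] at hwa
  refine ⟨ind T + ind T', hmem, hwo, ?_⟩
  obtain ⟨r, hr⟩ := heven
  omega

theorem zmod2_add_self : ∀ a : ZMod 2, a + a = 0 := by decide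

theorem add_self24 (o : W24) : o + o = 0 := by
  funext i
  exact zmod2_add_self (o i)

/-- An abstract extended Golay code is doubly even. -/
theorem doubly_even (hC : Code24 C) : ∀ w ∈ C, 4 ∣ hammingNorm w := by
  have key : ∀ n : ℕ, ∀ w ∈ C, hammingNorm w = n → 4 ∣ n := by
    intro n
    induction n using Nat.strong_induction_on with
    | _ n ih =>
      intro w hw hn
      by_cases hw0 : w = 0
      · subst hw0
        rw [hammingNorm_zero] at hn
        subst hn
        exact dvd_zero 4
      · obtain ⟨o, ho, -, h⟩ := hC.exists_reduce w hw hw0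
        rcases h with h | h
        · have := ih (hammingNorm (w + o)) (by omega) (w + o) (C.add_mem hw ho) rfl
          omega
        · have := ih (hammingNorm (w + o)) (by omega) (w + o) (C.add_mem hw ho) rfl
          omega
  exact fun w hw => key _ w hw rfl

/-- An abstract extended Golay code is spanned by its words of weight 8. -/
theorem span_octads (hC : Code24 C) :
    Submodule.span (ZMod 2) {w : W24 | w ∈ C ∧ hammingNorm w = 8} = C := by
  apply le_antisymm
  · rw [Submodule.span_le]
    intro w hw
    exact hw.1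
  · have key : ∀ n : ℕ, ∀ w ∈ C, hammingNorm w = n →
        w ∈ Submodule.span (ZMod 2) {w : W24 | w ∈ C ∧ hammingNorm w = 8} := by
      intro n
      induction n using Nat.strong_induction_on with
      | _ n ih =>
        intro w hw hn
        by_cases hw0 : w = 0
        · subst hw0
          exact Submodule.zero_mem _
        · obtain ⟨o, ho, ho8, h⟩ := hC.exists_reduce w hw hw0
          have hlt : hammingNorm (w + o) < n := by omega
          have h1 := ih (hammingNorm (w + o)) hlt (w + o) (C.add_mem hw ho) rfl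
          have h2 : o ∈ Submodule.span (ZMod 2) {w : W24 | w ∈ C ∧ hammingNorm w = 8} :=
            Submodule.subset_span ⟨ho, ho8⟩
          have h3 : w = (w + o) + o := by rw [add_assoc, add_self24, add_zero]
          rw [h3]
          exact Submodule.add_mem _ h1 h2
    exact fun w hw => key _ w hw rfl

theorem exists_weight_eight (hC : Code24 C) : ∃ w ∈ C, hammingNorm w = 8 := by
  have hone : (1 : W24) ≠ 0 := by
    intro h
    have := congrFun h 0
    simp at this
  by_cases h1 : (1 : W24) ∈ C
  · obtain ⟨o, ho, ho8, -⟩ := hC.exists_reduce 1 h1 hone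
    exact ⟨o, ho, ho8⟩
  · -- some nonzero word exists since the dimension is 12
    have hne : ∃ w ∈ C, w ≠ 0 := by
      by_contra hcon
      have hbot : C = ⊥ := by
        rw [eq_bot_iff]
        intro w hw
        by_contra hw0
        exact hcon ⟨w, hw, hw0⟩
      have := hC.hdim
      rw [hbot, finrank_bot] at this
      omega
    obtain ⟨w, hw, hw0⟩ := hne
    obtain ⟨o, ho, ho8, -⟩ := hC.exists_reduce w hw hw0
    exact ⟨o, ho, ho8⟩

/-- The supports of the weight-8 words of an abstract extended Golay code cover each 5-set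
exactly once. -/
theorem steiner (hC : Code24 C) (s : Finset (Fin 24)) (hs : s.card = 5) :
    ∃! b : Finset (Fin 24), (∃ c ∈ C, supp c = b ∧ b.card = 8) ∧ s ⊆ b := by
  classical
  obtain ⟨T, hTs, hT⟩ := Finset.exists_subset_card_eq (show 4 ≤ s.card by omega)
  have hdiff : (s \ T).card = 1 := by
    rw [Finset.card_sdiff_of_subset hTs, hT, hs]
  obtain ⟨p, hp⟩ := Finset.card_eq_one.1 hdiff
  have hpm : p ∈ s \ T := by rw [hp]; exact Finset.mem_singleton_self p
  rw [Finset.mem_sdiff] at hpm
  obtain ⟨T', hT', hpT', hd, hmem⟩ := hC.exists_tetrad T hT p hpm.2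
  have hso : supp (ind T + ind T') = T ∪ T' := ind_add_ind_of_disjoint hd
  refine ⟨T ∪ T', ⟨⟨ind T + ind T', hmem, hso, ?_⟩, ?_⟩, ?_⟩
  · rw [Finset.card_union_of_disjoint hd, hT, hT']
  · intro x hx
    by_cases hxT : x ∈ T
    · exact Finset.mem_union_left _ hxT
    · have : x ∈ s \ T := Finset.mem_sdiff.2 ⟨hx, hxT⟩
      rw [hp, Finset.mem_singleton] at this
      rw [this]
      exact Finset.mem_union_right _ hpT'
  · rintro b ⟨⟨c, hc, hcb, hb8⟩, hsb⟩
    have hsb' : s ⊆ supp c := by rw [hcb]; exact hsb
    have hsu : s ⊆ supp (ind T + ind T') := by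
      rw [hso]
      intro x hx
      by_cases hxT : x ∈ T
      · exact Finset.mem_union_left _ hxT
      · have : x ∈ s \ T := Finset.mem_sdiff.2 ⟨hx, hxT⟩
        rw [hp, Finset.mem_singleton] at this
        rw [this]
        exact Finset.mem_union_right _ hpT'
    have h5 : 5 ≤ (supp c ∩ supp (ind T + ind T')).card := by
      rw [← hs]
      exact Finset.card_le_card (Finset.subset_inter hsb' hsu)
    have hwa := weight_add c (ind T + ind T')
    have hc8 : hammingNorm c = 8 := by rw [hammingNorm_eq_card_supp, hcb, hb8]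
    have ho8 : hammingNorm (ind T + ind T') = 8 := by
      rw [hammingNorm_eq_card_supp, hso, Finset.card_union_of_disjoint hd, hT, hT']
    have hzero : c + (ind T + ind T') = 0 := by
      by_contra hne
      have := hC.hmin _ (C.add_mem hc hmem) hne
      omega
    have hceq : c = ind T + ind T' := by
      have : c = (c + (ind T + ind T')) + (ind T + ind T') := by
        rw [add_assoc, add_self24, add_zero]
      rw [this, hzero, zero_add]
    rw [← hcb, hceq, hso]

end Code24

end Cfsg.Agent.Lib.Helper93
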