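import Cfsg.Agent.Lib.Helper93.CosetEngine

set_option autoImplicit false

namespace Cfsg.Agent.Lib.Helper93.Golay

open Cfsg
open scoped Pointwise

/-! ### Boolean predicates on index functions -/

def invF (f : ℕ → ℕ) : Bool := (List.range 24).all fun i => Nat.beq (f (f i)) i
def ord3F (f : ℕ → ℕ) : Bool := (List.range 24).all fun i => Nat.beq (f (f (f i))) i
def fixF (f : ℕ → ℕ) : Bool := (List.range 24).any fun i => Nat.beq (f i) i
def idF (f : ℕ → ℕ) : Bool := (List.range 24).all fun i => Nat.beq (f i) i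
def commF (f f' : ℕ → ℕ) : Bool := (List.range 24).all fun i => Nat.beq (f (f' i)) (f' (f i))

theorem eq_one_of_idF {g : Equiv.Perm GolayPt} {f : ℕ → ℕ}
    (hf : ∀ p, ((ptIdx (g p) : Fin 24) : ℕ) = f (ptIdx p)) (h : idF f = true) : g = 1 := by
  apply eq_of_ptIdx_eq
  intro p
  rw [hf]
  exact Nat.eq_of_beq_eq_true (List.all_eq_true.1 h (ptIdx p) (List.mem_range.2 (ptIdx p).isLt))

theorem comm_chk {a b : Equiv.Perm GolayPt} {f f' : ℕ → ℕ}
    (ha : ∀ p, ((ptIdx (a p) : Fin 24) : ℕ) = f (ptIdx p))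
    (hb : ∀ p, ((ptIdx (b p) : Fin 24) : ℕ) = f' (ptIdx p)) (h : a * b = b * a) :
    commF f f' = true := by
  unfold commF
  rw [List.all_eq_true]
  intro i hi
  have hi' := List.mem_range.1 hi
  have e := congrArg (fun g : Equiv.Perm GolayPt => ((ptIdx (g (ptOf ⟨i, hi'⟩)) : Fin 24) : ℕ)) h
  simp only [Equiv.Perm.mul_apply] at e
  rw [ha, hb, hb, ha, ptIdx_ptOf] at e
  simp only at e
  rw [e]
  exact Nat.beq_refl _

/-- The number of fixed points. -/
def fixcard (g : Equiv.Perm GolayPt) : ℕ := (Finset.univ.filter fun p => g p = p).card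

theorem fixcard_conj (u g : Equiv.Perm GolayPt) : fixcard (u⁻¹ * g * u) = fixcard g := by
  unfold fixcard
  apply Finset.card_bij (fun p _ => u p)
  · intro p hp
    rw [Finset.mem_filter] at hp ⊢
    refine ⟨Finset.mem_univ _, ?_⟩
    have := congrArg u hp.2
    simpa [Equiv.Perm.mul_apply] using this
  · intro p _ p' _ h
    exact u.injective h
  · intro r hr
    rw [Finset.mem_filter] at hr
    refine ⟨u⁻¹ r, ?_, by simp⟩
    rw [Finset.mem_filter]
    refine ⟨Finset.mem_univ _, ?_⟩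
    simp [Equiv.Perm.mul_apply, hr.2]

/-- A check over a whole coset of the stabiliser of four points. -/
theorem coset_all_spec {C0 : ℕ} (hC0 : isAutC C0 = true) (chk : (ℕ → ℕ) → Bool)
    (hchk : cosetPairs.all (fun x => chk (pappL [C0, x.1, x.2])) = true)
    {g : Equiv.Perm GolayPt} (hg : g ∈ M24)
    (h : ∀ i (hi : i < 4), g (P i (by omega)) = permC C0 (P i (by omega))) :
    ∃ f : ℕ → ℕ, (∀ p, ((ptIdx (g p) : Fin 24) : ℕ) = f (ptIdx p)) ∧ chk f = true := by
  obtain ⟨V, hV, S, hS, rfl⟩ := coset_complete hC0 hg h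
  refine ⟨pappL [C0, V, S], fun p => ptIdx_prodC _ (triple_perm hC0 hV hS) p, ?_⟩
  exact List.all_eq_true.1 hchk _ (mem_cosetPairs hV hS)

/-- Conjugating by a map sending the standard points to `q`. -/
theorem conj_coset_apply {g u : Equiv.Perm GolayPt} (q : ℕ → GolayPt) {C0 : ℕ}
    (hC0 : isPerm C0 = true) (hC4 : ∀ i, i < 4 → papp C0 i < 5)
    (huq : ∀ i (hi : i < 5), u (P i (by omega)) = q i)
    (hgq : ∀ i, i < 4 → g (q i) = q (papp C0 i)) :
    ∀ i (hi : i < 4), (u⁻¹ * g * u) (P i (by omega)) = permC C0 (P i (by omega)) := by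
  intro i hi
  have h4 := hC4 i hi
  have hP : permC C0 (P i (by omega)) = P (papp C0 i) (by omega) :=
    permC_ptOf hC0 i (by omega) (papp C0 i) (by omega) rfl
  rw [Equiv.Perm.mul_apply, Equiv.Perm.mul_apply, huq i (by omega), hgq i hi, hP,
    ← huq (papp C0 i) h4]
  simp

theorem mem_Hfix_31 {g : Equiv.Perm GolayPt} (hg : g ∈ M24)
    (h : ∀ i (hi : i < 5), g (P i (by omega)) = P i (by omega)) : g ∈ Hfix 31 := by
  refine ⟨hg, fun r hr => ?_⟩
  rw [mem_fset] at hr
  have hi : ((ptIdx r : Fin 24) : ℕ) < 5 := by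
    have key : ∀ x : Fin 24, (31 : ℕ).testBit x = true → (x : ℕ) < 5 := by decide
    exact key _ hr
  have hr' : r = P (ptIdx r) (by omega) := (P_ptIdx r).symm
  rw [hr']
  exact h _ hi

/-! ### The four cosets -/

def CoA : ℕ := 976704927754019455108229824978684929
def CoB : ℕ := 506846860367747710570244898427078657
def CoC : ℕ := 556527157514952154991793990887637057
def CoD : ℕ := 763984513564622695617825396326793281

theorem CoA_ok : isAutC CoA = true := by decide +kernel
theorem CoB_ok : isAutC CoB = true := by decide +kernel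
theorem CoC_ok : isAutC CoC = true := by decide +kernel
theorem CoD_ok : isAutC CoD = true := by decide +kernel

theorem CoA_act : papp CoA 0 = 1 ∧ papp CoA 1 = 0 ∧ papp CoA 2 = 3 ∧ papp CoA 3 = 2 := by
  decide +kernel
theorem CoB_act : papp CoB 0 = 1 ∧ papp CoB 1 = 0 ∧ papp CoB 2 = 2 ∧ papp CoB 3 = 3 := by
  decide +kernel
theorem CoC_act : papp CoC 0 = 1 ∧ papp CoC 1 = 2 ∧ papp CoC 2 = 0 ∧ papp CoC 3 = 3 := by
  decide +kernel
theorem CoD_act : papp CoD 0 = 1 ∧ papp CoD 1 = 2 ∧ papp CoD 2 = 0 ∧ papp CoD 3 = 4 := by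
  decide +kernel

theorem act_lt5 {C : ℕ} {a b c d : ℕ} (h : papp C 0 = a ∧ papp C 1 = b ∧ papp C 2 = c ∧ papp C 3 = d)
    (ha : a < 5) (hb : b < 5) (hc : c < 5) (hd : d < 5) : ∀ i, i < 4 → papp C i < 5 := by
  obtain ⟨h0, h1, h2, h3⟩ := h
  intro i hi
  interval_cases i
  · rw [h0]; exact ha
  · rw [h1]; exact hb
  · rw [h2]; exact hc
  · rw [h3]; exact hd

def chkInv (f : ℕ → ℕ) : Bool := !(invF f) || Nat.beq (fixCount f) 8 || Nat.beq (fixCount f) 0
def chkOrd3 (f : ℕ → ℕ) : Bool := !(ord3F f) || Nat.beq (fixCount f) 6 || Nat.beq (fixCount f) 0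

theorem tabA : cosetPairs.all (fun x => chkInv (pappL [CoA, x.1, x.2])) = true := by decide +kernel
theorem tabB : cosetPairs.all (fun x => chkInv (pappL [CoB, x.1, x.2])) = true := by decide +kernel
theorem tabC : cosetPairs.all (fun x => chkOrd3 (pappL [CoC, x.1, x.2])) = true := by decide +kernel
theorem tabD : cosetPairs.all (fun x => chkOrd3 (pappL [CoD, x.1, x.2])) = true := by decide +kernel

theorem conj_sq {u g : Equiv.Perm GolayPt} (h : g * g = 1) :
    (u⁻¹ * g * u) * (u⁻¹ * g * u) = 1 := by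
  have : (u⁻¹ * g * u) * (u⁻¹ * g * u) = u⁻¹ * (g * g) * u := by group
  rw [this, h]; group

theorem conj_cube {u g : Equiv.Perm GolayPt} (h : g * g * g = 1) :
    (u⁻¹ * g * u) * (u⁻¹ * g * u) * (u⁻¹ * g * u) = 1 := by
  have : (u⁻¹ * g * u) * (u⁻¹ * g * u) * (u⁻¹ * g * u) = u⁻¹ * (g * g * g) * u := by group
  rw [this, h]; group

theorem conj_mem {u g : Equiv.Perm GolayPt} (hu : u ∈ M24) (hg : g ∈ M24) : u⁻¹ * g * u ∈ M24 :=
  M24.mul_mem (M24.mul_mem (M24.inv_mem hu) hg) hu

/-- Fixed point count of an involution in one of the cosets `A`, `B`. -/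
theorem inv_fix_of_coset {C0 : ℕ} (hC0 : isAutC C0 = true)
    (htab : cosetPairs.all (fun x => chkInv (pappL [C0, x.1, x.2])) = true)
    (hC4 : ∀ i, i < 4 → papp C0 i < 5)
    {s : Equiv.Perm GolayPt} (hs : s ∈ M24) (h2 : s * s = 1) (q : ℕ → GolayPt)
    (hq : ∀ i j, i < 5 → j < 5 → q i = q j → i = j)
    (hsq : ∀ i, i < 4 → s (q i) = q (papp C0 i)) : fixcard s = 8 ∨ fixcard s = 0 := by
  obtain ⟨u, hu, huq⟩ := exists_M24_map q hq 5 (le_refl 5)
  have hcos := conj_coset_apply q (isPerm_of_isAutC hC0) hC4 huq hsq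
  obtain ⟨f, hf, hchk⟩ := coset_all_spec hC0 chkInv htab (conj_mem hu hs) hcos
  rw [← fixcard_conj u s]
  unfold fixcard
  rw [card_fixed_eq hf]
  unfold chkInv at hchk
  have hinv : invF f = true := involution_chk hf (conj_sq h2)
  rw [hinv] at hchk
  simp only [Bool.not_true, Bool.false_or, Bool.or_eq_true] at hchk
  rcases hchk with h | h
  · exact Or.inl (Nat.eq_of_beq_eq_true h)
  · exact Or.inr (Nat.eq_of_beq_eq_true h)

theorem ord3_fix_of_coset {C0 : ℕ} (hC0 : isAutC C0 = true)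
    (htab : cosetPairs.all (fun x => chkOrd3 (pappL [C0, x.1, x.2])) = true)
    (hC4 : ∀ i, i < 4 → papp C0 i < 5)
    {s : Equiv.Perm GolayPt} (hs : s ∈ M24) (h3 : s * s * s = 1) (q : ℕ → GolayPt)
    (hq : ∀ i j, i < 5 → j < 5 → q i = q j → i = j)
    (hsq : ∀ i, i < 4 → s (q i) = q (papp C0 i)) : fixcard s = 6 ∨ fixcard s = 0 := by
  obtain ⟨u, hu, huq⟩ := exists_M24_map q hq 5 (le_refl 5)
  have hcos := conj_coset_apply q (isPerm_of_isAutC hC0) hC4 huq hsq
  obtain ⟨f, hf, hchk⟩ := coset_all_spec hC0 chkOrd3 htab (conj_mem hu hs) hcos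
  rw [← fixcard_conj u s]
  unfold fixcard
  rw [card_fixed_eq hf]
  unfold chkOrd3 at hchk
  have hinv : ord3F f = true := order3_chk hf (conj_cube h3)
  rw [hinv] at hchk
  simp only [Bool.not_true, Bool.false_or, Bool.or_eq_true] at hchk
  rcases hchk with h | h
  · exact Or.inl (Nat.eq_of_beq_eq_true h)
  · exact Or.inr (Nat.eq_of_beq_eq_true h)

/-- A point outside four given ones. -/
theorem exists_ne4 (a b c d : GolayPt) : ∃ p : GolayPt, p ≠ a ∧ p ≠ b ∧ p ≠ c ∧ p ≠ d := by
  obtain ⟨p, hp⟩ := exists_fifth (list5 a b c d d)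
  exact ⟨p, fun h => hp 0 (by norm_num) h.symm, fun h => hp 1 (by norm_num) h.symm,
    fun h => hp 2 (by norm_num) h.symm, fun h => hp 3 (by norm_num) h.symm⟩

theorem exists_moved {g : Equiv.Perm GolayPt} (h : g ≠ 1) : ∃ a, g a ≠ a := by
  by_contra hcon
  push Not at hcon
  exact h (Equiv.ext hcon)

/-- An involution with two distinct transpositions `(a, s a)`, `(c, s c)`. -/
theorem inv_fix_two_swaps {s : Equiv.Perm GolayPt} (hs : s ∈ M24) (h2 : s * s = 1)
    {a c : GolayPt} (ha : s a ≠ a) (hc : s c ≠ c) (hca : c ≠ a) (hcb : c ≠ s a) :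
    fixcard s = 8 ∨ fixcard s = 0 := by
  have hss : ∀ p, s (s p) = p := fun p => by
    have := congrArg (fun f : Equiv.Perm GolayPt => f p) h2
    simpa using this
  have hda : s c ≠ a := fun h => hcb (by rw [← h, hss])
  have hdb : s c ≠ s a := fun h => hca (s.injective h)
  obtain ⟨e, hea, heb, hec, hed⟩ := exists_ne4 a (s a) c (s c)
  have hq := list5_inj (a := a) (b := s a) (c := c) (d := s c) (e := e)
    (Ne.symm ha) (Ne.symm hca) (Ne.symm hda) (Ne.symm hea) (Ne.symm hcb) (Ne.symm hdb)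
    (Ne.symm heb) (Ne.symm hc) (Ne.symm hec) (Ne.symm hed)
  obtain ⟨c0, c1, c2, c3⟩ := CoA_act
  refine inv_fix_of_coset CoA_ok tabA (act_lt5 CoA_act (by norm_num) (by norm_num) (by norm_num)
    (by norm_num)) hs h2 (list5 a (s a) c (s c) e) hq ?_
  intro i hi
  interval_cases i
  · rw [c0]; rfl
  · rw [c1]; exact hss a
  · rw [c2]; rfl
  · rw [c3]; exact hss c

/-- Every involution of `M24` has exactly 8 or no fixed points. -/
theorem inv_fix_cases {s : Equiv.Perm GolayPt} (hs : s ∈ M24) (h2 : s * s = 1) (h1 : s ≠ 1) :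
    fixcard s = 8 ∨ fixcard s = 0 := by
  have hss : ∀ p, s (s p) = p := fun p => by
    have := congrArg (fun f : Equiv.Perm GolayPt => f p) h2
    simpa using this
  obtain ⟨a, ha⟩ := exists_moved h1
  obtain ⟨c, hca, hcb, _⟩ := exists_ne3 a (s a) (s a)
  by_cases hc : s c = c
  · obtain ⟨d, hda, hdb, hdc, _⟩ := exists_ne4 a (s a) c c
    by_cases hd : s d = d
    · obtain ⟨e, hea, heb, hec, hed⟩ := exists_ne4 a (s a) c d
      have hq := list5_inj (a := a) (b := s a) (c := c) (d := d) (e := e)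
        (Ne.symm ha) (Ne.symm hca) (Ne.symm hda) (Ne.symm hea) (Ne.symm hcb) (Ne.symm hdb)
        (Ne.symm heb) (Ne.symm hdc) (Ne.symm hec) (Ne.symm hed)
      obtain ⟨c0, c1, c2, c3⟩ := CoB_act
      refine inv_fix_of_coset CoB_ok tabB (act_lt5 CoB_act (by norm_num) (by norm_num)
        (by norm_num) (by norm_num)) hs h2 (list5 a (s a) c d e) hq ?_
      intro i hi
      interval_cases i
      · rw [c0]; rfl
      · rw [c1]; exact hss a
      · rw [c2]; exact hc
      · rw [c3]; exact hd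
    · exact inv_fix_two_swaps hs h2 ha hd hda hdb
  · exact inv_fix_two_swaps hs h2 ha hc hca hcb

/-- Every element of order 3 of `M24` has exactly 6 or no fixed points. -/
theorem ord3_fix_cases {x : Equiv.Perm GolayPt} (hx : x ∈ M24) (h3 : x * x * x = 1) (h1 : x ≠ 1) :
    fixcard x = 6 ∨ fixcard x = 0 := by
  have hxxx : ∀ p, x (x (x p)) = p := fun p => by
    have := congrArg (fun f : Equiv.Perm GolayPt => f p) h3
    simpa using this
  obtain ⟨a, ha⟩ := exists_moved h1
  have hab : a ≠ x a := Ne.symm ha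
  have hbc : x a ≠ x (x a) := fun h => ha (x.injective h.symm)
  have hac : a ≠ x (x a) := fun h => by
    apply ha
    have := congrArg x h
    rw [hxxx] at this
    exact this
  obtain ⟨d, hda, hdb, hdc⟩ := exists_ne3 a (x a) (x (x a))
  by_cases hd : x d = d
  · obtain ⟨e, hea, heb, hec, hed⟩ := exists_ne4 a (x a) (x (x a)) d
    have hq := list5_inj (a := a) (b := x a) (c := x (x a)) (d := d) (e := e)
      hab hac (Ne.symm hda) (Ne.symm hea) hbc (Ne.symm hdb)
      (Ne.symm heb) (Ne.symm hdc) (Ne.symm hec) (Ne.symm hed)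
    obtain ⟨c0, c1, c2, c3⟩ := CoC_act
    refine ord3_fix_of_coset CoC_ok tabC (act_lt5 CoC_act (by norm_num) (by norm_num)
      (by norm_num) (by norm_num)) hx h3 (list5 a (x a) (x (x a)) d e) hq ?_
    intro i hi
    interval_cases i
    · rw [c0]; rfl
    · rw [c1]; rfl
    · rw [c2]; exact hxxx a
    · rw [c3]; exact hd
  · have hde : d ≠ x d := Ne.symm hd
    have hae : a ≠ x d := fun h => by
      apply hdc
      have := congrArg (fun p => x (x p)) h
      simp only [hxxx] at this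
      exact this.symm
    have hbe : x a ≠ x d := fun h => hda (x.injective h).symm
    have hce : x (x a) ≠ x d := fun h => hdb (x.injective h).symm
    have hq := list5_inj (a := a) (b := x a) (c := x (x a)) (d := d) (e := x d)
      hab hac (Ne.symm hda) hae hbc (Ne.symm hdb) hbe (Ne.symm hdc) hce hde
    obtain ⟨c0, c1, c2, c3⟩ := CoD_act
    refine ord3_fix_of_coset CoD_ok tabD (act_lt5 CoD_act (by norm_num) (by norm_num)
      (by norm_num) (by norm_num)) hx h3 (list5 a (x a) (x (x a)) d (x d)) hq ?_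
    intro i hi
    interval_cases i
    · rw [c0]; rfl
    · rw [c1]; rfl
    · rw [c2]; exact hxxx a
    · rw [c3]; rfl

end Cfsg.Agent.Lib.Helper93.Golay
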