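import Cfsg.Agent.Lib.Helper93.OrbitStab

set_option autoImplicit false

/-! General counting lemmas for subgroups of a finite symmetric group: orbits as finsets,
orbit–stabiliser, the fixed-point congruence for elements of prime-power order on an invariant
finset, Cauchy inside a subgroup, and the fact that a group of order 40 contains commuting
elements of orders 5 and 2. -/

namespace Cfsg.Agent.Lib.Helper93.PermCount

section General

variable {Ω : Type*} [Fintype Ω] [DecidableEq Ω]

open Classical in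
/-- The orbit of `a` under the subgroup `H`, as a finset. -/
noncomputable def orb (H : Subgroup (Equiv.Perm Ω)) (a : Ω) : Finset Ω :=
  Finset.univ.filter (fun b => ∃ h ∈ H, h a = b)

theorem mem_orb {H : Subgroup (Equiv.Perm Ω)} {a b : Ω} : b ∈ orb H a ↔ ∃ h ∈ H, h a = b := by
  unfold orb
  simp only [Finset.mem_filter, Finset.mem_univ, true_and]

theorem self_mem_orb (H : Subgroup (Equiv.Perm Ω)) (a : Ω) : a ∈ orb H a :=
  mem_orb.2 ⟨1, H.one_mem, rfl⟩

theorem orb_card_pos (H : Subgroup (Equiv.Perm Ω)) (a : Ω) : 1 ≤ (orb H a).card :=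
  Finset.card_pos.2 ⟨a, self_mem_orb H a⟩

theorem map_mem_orb_iff {H : Subgroup (Equiv.Perm Ω)} {a : Ω} {x : Equiv.Perm Ω} (hx : x ∈ H)
    (b : Ω) : x b ∈ orb H a ↔ b ∈ orb H a := by
  rw [mem_orb, mem_orb]
  constructor
  · rintro ⟨h, hh, e⟩
    refine ⟨x⁻¹ * h, H.mul_mem (H.inv_mem hx) hh, ?_⟩
    rw [Equiv.Perm.mul_apply, e]
    simp
  · rintro ⟨h, hh, e⟩
    exact ⟨x * h, H.mul_mem hx hh, by rw [Equiv.Perm.mul_apply, e]⟩

/-- Orbit–stabiliser. -/
theorem card_eq_orb_mul (H : Subgroup (Equiv.Perm Ω)) (a : Ω) :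
    Nat.card H = (orb H a).card * Nat.card ↥(H ⊓ MulAction.stabilizer (Equiv.Perm Ω) a) := by
  have := card_eq_ncard_mul_card_inf_stabilizer (G := Equiv.Perm Ω) H a
    ((orb H a : Finset Ω) : Set Ω)
    (fun k hk => by
      rw [Finset.mem_coe, mem_orb]
      exact ⟨k, hk, rfl⟩)
    (fun s hs => by
      rw [Finset.mem_coe, mem_orb] at hs
      obtain ⟨k, hk, e⟩ := hs
      exact ⟨k, hk, e⟩)
  rw [this, Set.ncard_coe_finset]

omit [Fintype Ω] in
/-- The fixed point congruence on an invariant finset. -/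
theorem card_modEq_card_fixed (x : Equiv.Perm Ω) {p n : ℕ} [Fact p.Prime] (hx : x ^ p ^ n = 1)
    (A : Finset Ω) (hA : ∀ b, x b ∈ A ↔ b ∈ A) :
    A.card ≡ (A.filter (fun b => x b = b)).card [MOD p] := by
  classical
  set σ : Equiv.Perm {b // b ∈ A} := x.subtypePerm hA with hσ
  have hpow : ∀ k : ℕ, ∀ b : {b // b ∈ A}, (((σ ^ k) b : {b // b ∈ A}) : Ω) = (x ^ k) b := by
    intro k
    induction k with
    | zero => intro b; simp
    | succ k ih =>
      intro b
      rw [pow_succ, pow_succ, Equiv.Perm.mul_apply, Equiv.Perm.mul_apply, ih]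
      rfl
  have hσ1 : σ ^ p ^ n = 1 := by
    ext b
    rw [hpow, hx]
    rfl
  have h1 := Equiv.Perm.card_compl_support_modEq hσ1
  rw [Fintype.card_coe] at h1
  have h2 : (σ.supportᶜ).card = (A.filter (fun b => x b = b)).card := by
    rw [← Finset.card_map (Function.Embedding.subtype _)]
    congr 1
    ext b
    simp only [Finset.mem_map, Finset.mem_compl, Equiv.Perm.mem_support, not_not,
      Function.Embedding.coe_subtype, Finset.mem_filter]
    constructor
    · rintro ⟨c, hc, rfl⟩
      exact ⟨c.2, congrArg Subtype.val hc⟩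
    · rintro ⟨hb, hxb⟩
      exact ⟨⟨b, hb⟩, Subtype.ext hxb, rfl⟩
  rw [h2] at h1
  exact h1.symm

end General

/-- Cauchy's theorem inside a subgroup. -/
theorem exists_mem_orderOf_eq {G : Type*} [Group G] (H : Subgroup G) [Finite H] (p : ℕ)
    [Fact p.Prime] (hp : p ∣ Nat.card H) : ∃ x ∈ H, orderOf x = p := by
  obtain ⟨x, hx⟩ := exists_prime_orderOf_dvd_card' p hp
  exact ⟨x.1, x.2, by rw [Subgroup.orderOf_coe]; exact hx⟩

/-- If all conjugates of `z` lie in a finite set `T`, the centraliser has index at most `|T|`. -/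
theorem card_le_card_mul_card_centralizer {G : Type*} [Group G] [Finite G] (z : G) (T : Finset G)
    (hT : ∀ x : G, x * z * x⁻¹ ∈ T) :
    Nat.card G ≤ T.card * Nat.card (Subgroup.centralizer {z}) := by
  have h1 := MulAction.index_stabilizer (ConjAct G) z
  have h2 := Subgroup.card_mul_index (MulAction.stabilizer (ConjAct G) z)
  have horb : (MulAction.orbit (ConjAct G) z).ncard ≤ T.card := by
    have hsub : MulAction.orbit (ConjAct G) z ⊆ (T : Set G) := by
      rintro _ ⟨x, rfl⟩
      exact hT (ConjAct.ofConjAct x)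
    calc _ ≤ (T : Set G).ncard := Set.ncard_le_ncard hsub (Finset.finite_toSet T)
      _ = T.card := Set.ncard_coe_finset T
  have hstab : Nat.card (MulAction.stabilizer (ConjAct G) z) =
      Nat.card (Subgroup.centralizer {z}) := by
    apply Nat.card_congr
    refine Equiv.subtypeEquiv ConjAct.ofConjAct.toEquiv ?_
    intro x
    show x ∈ MulAction.stabilizer (ConjAct G) z ↔ ConjAct.ofConjAct x ∈ Subgroup.centralizer {z}
    rw [MulAction.mem_stabilizer_iff, ConjAct.smul_def, Subgroup.mem_centralizer_singleton_iff]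
    constructor
    · intro h
      rw [mul_inv_eq_iff_eq_mul] at h
      exact h
    · intro h
      rw [mul_inv_eq_iff_eq_mul]
      exact h
  have hG : Nat.card (ConjAct G) = Nat.card G := rfl
  rw [h1, hstab, hG] at h2
  rw [← h2, mul_comm]
  exact Nat.mul_le_mul_right _ horb

/-- A group of order 40 contains commuting elements of orders 5 and 2. -/
theorem exists_comm_of_card_eq_40 {L : Type*} [Group L] [Finite L] (h : Nat.card L = 40) :
    ∃ y v : L, orderOf y = 5 ∧ orderOf v = 2 ∧ y * v = v * y := by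
  classical
  have : Fact (Nat.Prime 5) := ⟨by norm_num⟩
  have : Fact (Nat.Prime 2) := ⟨by norm_num⟩
  obtain ⟨P⟩ : Nonempty (Sylow 5 L) := inferInstance
  have hP5 : Nat.card P = 5 := by
    obtain ⟨k, hk⟩ := IsPGroup.exists_card_eq P.isPGroup'
    have hd : Nat.card P ∣ 40 := h ▸ Subgroup.card_subgroup_dvd_card _
    have h5 : 5 ∣ Nat.card P := P.dvd_card_of_dvd_card (by rw [h]; norm_num)
    rw [hk] at hd h5 ⊢
    have hk1 : k = 1 := by
      rcases k with _ | _ | k
      · norm_num at h5
      · rfl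
      · exfalso
        have h25 : 25 ∣ 40 := dvd_trans ⟨5 ^ k, by ring⟩ hd
        norm_num at h25
    rw [hk1]
    norm_num
  have hidx : (P : Subgroup L).index = 8 := by
    have := Subgroup.card_mul_index (P : Subgroup L)
    rw [hP5, h] at this
    omega
  have hn1 : Nat.card (Sylow 5 L) = 1 := by
    have h1 := card_sylow_modEq_one 5 L
    have h2 := P.card_dvd_index
    rw [hidx] at h2
    have h3 : Nat.card (Sylow 5 L) ≤ 8 := Nat.le_of_dvd (by norm_num) h2
    unfold Nat.ModEq at h1
    generalize Nat.card (Sylow 5 L) = n at *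
    interval_cases n <;> omega
  have : Subsingleton (Sylow 5 L) := (Nat.card_eq_one_iff_unique.1 hn1).1
  have hnorm : (P : Subgroup L).Normal := Sylow.normal_of_subsingleton P
  obtain ⟨y, hyP, hy5⟩ := exists_mem_orderOf_eq (P : Subgroup L) 5 (by rw [hP5])
  have hy1 : y ≠ 1 := by
    intro e
    rw [e, orderOf_one] at hy5
    norm_num at hy5
  have hfin : ((P : Subgroup L) : Set L).Finite := Set.toFinite _
  let T : Finset L := hfin.toFinset.erase 1
  have hTcard : T.card = 4 := by
    have h1 : (1 : L) ∈ hfin.toFinset := by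
      rw [Set.Finite.mem_toFinset]
      exact (P : Subgroup L).one_mem
    have h2 : hfin.toFinset.card = 5 := by
      rw [← Set.ncard_eq_toFinset_card _ hfin]
      exact (Nat.card_coe_set_eq _).symm.trans hP5
    show (hfin.toFinset.erase 1).card = 4
    rw [Finset.card_erase_of_mem h1, h2]
  have hT : ∀ g : L, g * y * g⁻¹ ∈ T := by
    intro g
    show g * y * g⁻¹ ∈ hfin.toFinset.erase 1
    rw [Finset.mem_erase, Set.Finite.mem_toFinset]
    refine ⟨?_, hnorm.conj_mem y hyP g⟩
    intro e
    apply hy1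
    have : y = g⁻¹ * (g * y * g⁻¹) * g := by group
    rw [this, e]
    group
  have hle := card_le_card_mul_card_centralizer y T hT
  rw [h, hTcard] at hle
  have hdvd : Nat.card (Subgroup.centralizer {y}) ∣ 40 := h ▸ Subgroup.card_subgroup_dvd_card _
  have hyC : y ∈ Subgroup.centralizer {y} := Subgroup.mem_centralizer_singleton_iff.2 rfl
  have h5dvd : 5 ∣ Nat.card (Subgroup.centralizer {y}) := by
    have := orderOf_dvd_natCard (⟨y, hyC⟩ : Subgroup.centralizer {y})
    rw [← Subgroup.orderOf_coe] at this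
    rwa [hy5] at this
  have h2dvd : 2 ∣ Nat.card (Subgroup.centralizer {y}) := by
    generalize Nat.card (Subgroup.centralizer {y}) = c at *
    obtain ⟨m, rfl⟩ := h5dvd
    have hm8 : m ∣ 8 := by
      have : 5 * m ∣ 5 * 8 := hdvd
      exact Nat.dvd_of_mul_dvd_mul_left (by norm_num) this
    have hm : m ≤ 8 := Nat.le_of_dvd (by norm_num) hm8
    interval_cases m <;> omega
  obtain ⟨v, hvC, hv2⟩ := exists_mem_orderOf_eq (Subgroup.centralizer {y}) 2 h2dvd
  exact ⟨y, v, hy5, hv2, (Subgroup.mem_centralizer_singleton_iff.1 hvC).symm⟩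

/-! ### Automorphisms permuting the point stabilisers are induced by permutations -/

/-- Let `H` be a permutation group on `Ω` moving only the points of `X`. If every automorphism
maps the stabiliser in `H` of a point of `X` to the stabiliser of a point of `X`, and distinct
points of `X` have distinct stabilisers, then every automorphism of `H` is conjugation by a
permutation of `Ω` fixing the points outside `X`. -/
theorem exists_perm_of_aut {Ω : Type*} [Finite Ω] (H : Subgroup (Equiv.Perm Ω)) (X : Ω → Prop)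
    (hfix : ∀ h ∈ H, ∀ a, ¬ X a → h a = a)
    (hpt : ∀ (α : MulAut ↥H) (a : Ω), X a → ∃ b, X b ∧
      ∀ h : ↥H, (h : Equiv.Perm Ω) a = a ↔ ((α h : ↥H) : Equiv.Perm Ω) b = b)
    (huniq : ∀ b b', X b → X b' → (∀ k ∈ H, k b = b ↔ k b' = b') → b = b')
    (α : MulAut ↥H) :
    ∃ τ : Equiv.Perm Ω, (∀ a, ¬ X a → τ a = a) ∧
      ∀ g : ↥H, ((α g : ↥H) : Equiv.Perm Ω) = τ * g * τ⁻¹ := by
  classical
  have hXpres : ∀ h ∈ H, ∀ a, X a → X (h a) := by
    intro h hh a ha
    by_contra hcon
    have h1 := hfix h⁻¹ (H.inv_mem hh) (h a) hcon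
    have h2 : h⁻¹ (h a) = a := by simp
    rw [h2] at h1
    rw [← h1] at hcon
    exact hcon ha
  let π : Ω → Ω := fun a => if hx : X a then Classical.choose (hpt α a hx) else a
  have hπX : ∀ a, X a → X (π a) ∧
      ∀ h : ↥H, (h : Equiv.Perm Ω) a = a ↔ ((α h : ↥H) : Equiv.Perm Ω) (π a) = π a := by
    intro a hx
    have := Classical.choose_spec (hpt α a hx)
    simp only [π, dif_pos hx]
    exact this
  have hπn : ∀ a, ¬ X a → π a = a := by
    intro a hx
    simp only [π, dif_neg hx]
  have hequiv : ∀ (g : ↥H) (a : Ω),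
      ((α g : ↥H) : Equiv.Perm Ω) (π a) = π ((g : Equiv.Perm Ω) a) := by
    intro g a
    by_cases hx : X a
    · symm
      have hxg : X ((g : Equiv.Perm Ω) a) := hXpres g g.2 a hx
      apply huniq _ _ (hπX _ hxg).1 (hXpres _ (α g).2 _ (hπX a hx).1)
      intro k hk
      obtain ⟨h, hh⟩ : ∃ h : ↥H, α h = ⟨k, hk⟩ := α.surjective _
      have hk' : k = ((α h : ↥H) : Equiv.Perm Ω) := by rw [hh]
      rw [hk', ← (hπX _ hxg).2 h]
      have h3 := (hπX a hx).2 (g⁻¹ * h * g)
      rw [map_mul, map_mul, map_inv] at h3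
      simp only [Subgroup.coe_mul, Subgroup.coe_inv, Equiv.Perm.mul_apply] at h3
      rw [Equiv.Perm.inv_eq_iff_eq, Equiv.Perm.inv_eq_iff_eq] at h3
      exact h3
    · rw [hπn a hx, hfix g g.2 a hx, hπn a hx]
      exact hfix _ (α g).2 a hx
  have hinj : Function.Injective π := by
    intro a a' e
    by_cases hx : X a <;> by_cases hx' : X a'
    · apply huniq a a' hx hx'
      intro k hk
      rw [(hπX a hx).2 ⟨k, hk⟩, (hπX a' hx').2 ⟨k, hk⟩, e]
    · exfalso
      have h1 := (hπX a hx).1
      rw [e, hπn a' hx'] at h1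
      exact hx' h1
    · exfalso
      have h1 := (hπX a' hx').1
      rw [← e, hπn a hx] at h1
      exact hx h1
    · rw [hπn a hx, hπn a' hx'] at e
      exact e
  have hbij : Function.Bijective π := Finite.injective_iff_bijective.1 hinj
  refine ⟨Equiv.ofBijective π hbij, fun a hx => hπn a hx, fun g => ?_⟩
  ext p
  obtain ⟨a, rfl⟩ := hbij.2 p
  have h1 : (Equiv.ofBijective π hbij)⁻¹ (π a) = a := by
    rw [Equiv.Perm.inv_eq_iff_eq]
    rfl
  rw [Equiv.Perm.mul_apply, Equiv.Perm.mul_apply, h1, hequiv]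
  rfl

/-- An automorphism of a permutation group induced by one of its elements is inner. -/
theorem conj_eq_of_perm {Ω : Type*} (H : Subgroup (Equiv.Perm Ω)) (α : MulAut ↥H)
    (τ : Equiv.Perm Ω) (hτ : τ ∈ H)
    (h : ∀ g : ↥H, ((α g : ↥H) : Equiv.Perm Ω) = τ * g * τ⁻¹) :
    MulAut.conj (⟨τ, hτ⟩ : ↥H) = α := by
  ext g : 1
  apply Subtype.ext
  rw [h g, MulAut.conj_apply]
  rfl

end Cfsg.Agent.Lib.Helper93.PermCount
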