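import Mathlib
import Cfsg.Agent.Lib.Helper89.TableChain2
import Cfsg.Agent.Lib.Helper89.CosetCert
import Cfsg.Agent.Lib.Helper89.SafePres

/-!
# Table-driven permutation models on `Fin N` for large `N` (helper93)

A `Model` is a list of `2k` packed numerals (letters `2i` = generator `i`, `2i+1` = its inverse), `b` bits per
point.  `Model.ok` is the `Bool` test that the tables are mutually inverse permutations of `{0, …, N-1}`;
from it we get permutations `gm i : Equiv.Perm (Fin N)` and kernel-checkable tests for relators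
(`relsOK_valid`) and for non-triviality of words (`ev_ne_one`), in the style of helper89's `Mult/M23G.lean`.
-/

set_option autoImplicit false

namespace Cfsg.Agent.Lib.Helper93.BigPerm

open Cfsg.Agent.Lib.Helper89.TableChain2 Cfsg.Agent.Lib.Helper89.CosetCert
open Cfsg.Agent.Lib.Helper89.SafePres

/-- packed permutation tables -/
structure Model where
  /-- number of points -/
  N : ℕ
  /-- number of generators -/
  k : ℕ
  /-- bits per entry -/
  b : ℕ
  /-- `2 ^ b - 1` -/
  mask : ℕ
  /-- the `2 * k` packed tables -/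
  tabC : List ℕ

namespace Model

variable (M : Model)

/-- image of the point `x` under the letter `l` -/
def tab (l x : ℕ) : ℕ := Nat.land (Nat.shiftRight (M.tabC.getD l 0) (M.b * x)) M.mask

/-- the tables are mutually inverse permutations of `{0, …, N-1}` -/
def ok : Bool :=
  decide (0 < M.N) && (List.range (2 * M.k)).all fun l => (List.range M.N).all fun x =>
    decide (M.tab l x < M.N) && (M.tab (linv l) (M.tab l x) == x)

theorem linv_lt {l : ℕ} (hl : l < 2 * M.k) : linv l < 2 * M.k := by
  unfold linv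
  split_ifs <;> omega

theorem linv_linv (l : ℕ) : linv (linv l) = l := by
  unfold linv
  split_ifs <;> omega

variable {M}

theorem pos_of_ok (h : M.ok = true) : 0 < M.N := by
  unfold ok at h
  rw [Bool.and_eq_true] at h
  exact of_decide_eq_true h.1

theorem tab_lt_of_ok (h : M.ok = true) {l : ℕ} (hl : l < 2 * M.k) {x : ℕ} (hx : x < M.N) :
    M.tab l x < M.N := by
  unfold ok at h
  rw [Bool.and_eq_true, List.all_eq_true] at h
  have h1 := h.2 l (List.mem_range.2 hl)
  rw [List.all_eq_true] at h1
  have h2 := h1 x (List.mem_range.2 hx)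
  rw [Bool.and_eq_true] at h2
  exact of_decide_eq_true h2.1

theorem tab_linv_of_ok (h : M.ok = true) {l : ℕ} (hl : l < 2 * M.k) {x : ℕ} (hx : x < M.N) :
    M.tab (linv l) (M.tab l x) = x := by
  unfold ok at h
  rw [Bool.and_eq_true, List.all_eq_true] at h
  have h1 := h.2 l (List.mem_range.2 hl)
  rw [List.all_eq_true] at h1
  have h2 := h1 x (List.mem_range.2 hx)
  rw [Bool.and_eq_true] at h2
  exact beq_iff_eq.1 h2.2

theorem tab_linv_of_ok' (h : M.ok = true) {l : ℕ} (hl : l < 2 * M.k) {x : ℕ} (hx : x < M.N) :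
    M.tab l (M.tab (linv l) x) = x := by
  have := tab_linv_of_ok h (M.linv_lt hl) hx
  rwa [linv_linv] at this

/-- the letter `l` as a permutation of `Fin N` -/
def perm (h : M.ok = true) (l : ℕ) : Equiv.Perm (Fin M.N) :=
  if hl : l < 2 * M.k then
    { toFun := fun x => ⟨M.tab l x, tab_lt_of_ok h hl x.2⟩
      invFun := fun x => ⟨M.tab (linv l) x, tab_lt_of_ok h (M.linv_lt hl) x.2⟩
      left_inv := fun x => Fin.ext (tab_linv_of_ok h hl x.2)
      right_inv := fun x => Fin.ext (tab_linv_of_ok' h hl x.2) }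
  else 1

/-- the point of index `x` -/
def pt (h : M.ok = true) (x : ℕ) : Fin M.N := if hx : x < M.N then ⟨x, hx⟩ else ⟨0, pos_of_ok h⟩

theorem pt_val (h : M.ok = true) {x : ℕ} (hx : x < M.N) : (pt h x).val = x := by
  rw [pt, dif_pos hx]

theorem perm_apply (h : M.ok = true) {l : ℕ} (hl : l < 2 * M.k) {x : ℕ} (hx : x < M.N) :
    perm h l (pt h x) = pt h (M.tab l x) := by
  apply Fin.ext
  rw [pt_val h (tab_lt_of_ok h hl hx)]
  rw [perm, dif_pos hl]
  show M.tab l (pt h x).val = _
  rw [pt_val h hx]

theorem perm_symm_apply (h : M.ok = true) {l : ℕ} (hl : l < 2 * M.k) {x : ℕ} (hx : x < M.N) :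
    (perm h l)⁻¹ (pt h x) = pt h (M.tab (linv l) x) := by
  apply Fin.ext
  rw [pt_val h (tab_lt_of_ok h (M.linv_lt hl) hx)]
  rw [perm, dif_pos hl]
  show M.tab (linv l) (pt h x).val = _
  rw [pt_val h hx]

/-- the generators of the model -/
def gm (h : M.ok = true) (i : ℕ) : Equiv.Perm (Fin M.N) := perm h (2 * i)

theorem lv_smul (h : M.ok = true) : ∀ l < 2 * M.k, ∀ x < M.N,
    lv (gm h) l • pt h x = pt h (M.tab l x) := by
  intro l hl x hx
  unfold lv
  by_cases he : l % 2 = 0
  · rw [if_pos he]
    show (gm h (l / 2)) (pt h x) = _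
    rw [gm, show 2 * (l / 2) = l by omega, perm_apply h hl hx]
  · rw [if_neg he]
    show ((gm h (l / 2))⁻¹) (pt h x) = _
    rw [gm, perm_symm_apply h (by omega) hx]
    have : linv (2 * (l / 2)) = l := by
      unfold linv
      rw [if_pos (by omega)]
      omega
    rw [this]

/-- the table-driven action data -/
def D (h : M.ok = true) : Data (Equiv.Perm (Fin M.N)) (Fin M.N) where
  m := 2 * M.k
  N := M.N
  gen := lv (gm h)
  pt := pt h
  tab := M.tab
  chk := List.range M.N
  gen_smul := lv_smul h
  tab_lt := fun _ hl _ hx => tab_lt_of_ok h hl hx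
  chk_lt := fun x hx => List.mem_range.1 hx
  faithful := by
    intro x y hxy
    apply Equiv.ext
    intro p
    have := hxy p.val (List.mem_range.2 p.2)
    have hp : pt h p.val = p := Fin.ext (pt_val h p.2)
    rw [hp] at this
    exact this
  pt_inj := by
    intro x hx y hy hxy
    have := congrArg Fin.val hxy
    rwa [pt_val h hx, pt_val h hy] at this

theorem D_ev (h : M.ok = true) (w : List ℕ) : (D h).ev w = ev (gm h) w := rfl

variable (M)

/-- `Bool` test that all words of a list act trivially -/
def relsOK (rs : List Word) : Bool :=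
  rs.all (fun r => r.all (fun c => decide (c < 2 * M.k)) &&
    (List.range M.N).all (fun x => act M.tab r x == x))

variable {M}

theorem relsOK_valid (h : M.ok = true) (rs : List Word) (hr : M.relsOK rs = true) :
    ∀ r ∈ rs, ev (gm h) r = 1 := by
  intro r hrr
  unfold relsOK at hr
  rw [List.all_eq_true] at hr
  have h1 := hr r hrr
  rw [Bool.and_eq_true, List.all_eq_true, List.all_eq_true] at h1
  rw [← D_ev, ← (D h).ev_nil]
  apply (D h).ev_eq_of_act (fun c hc => of_decide_eq_true (h1.1 c hc)) (fun c hc => by simp at hc)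
  intro x hx
  rw [act_nil]
  exact beq_iff_eq.1 (h1.2 x hx)

theorem ev_ne_one (h : M.ok = true) (w : List ℕ) (hw : ∀ c ∈ w, c < 2 * M.k) (x : ℕ) (hx : x < M.N)
    (hne : act M.tab w x ≠ x) : ev (gm h) w ≠ 1 := by
  intro h1
  have h2 := (D h).ev_smul w hw x hx
  rw [D_ev, h1, one_smul] at h2
  exact hne ((D h).pt_inj _ ((D h).act_lt w hw x hx) _ hx h2.symm)

theorem gm_pow (h : M.ok = true) (i n : ℕ) (hr : M.relsOK [powWord n i] = true) :
    gm h i ^ n = 1 := by
  have := relsOK_valid h _ hr (powWord n i) (List.mem_singleton.2 rfl)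
  rwa [ev_powWord] at this

/-- two words with the same action have the same value -/
theorem ev_eq_of_act (h : M.ok = true) (w w' : List ℕ) (hw : ∀ c ∈ w, c < 2 * M.k)
    (hw' : ∀ c ∈ w', c < 2 * M.k) (he : ∀ x < M.N, act M.tab w x = act M.tab w' x) :
    ev (gm h) w = ev (gm h) w' := by
  rw [← D_ev, ← D_ev]
  exact (D h).ev_eq_of_act hw hw' (fun x hx => he x (List.mem_range.1 hx))

end Model

end Cfsg.Agent.Lib.Helper93.BigPerm
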