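import Cfsg.Agent.Lib.Helper93.RelOrbit

set_option autoImplicit false

namespace Cfsg.Agent.Lib.Helper93.Golay

open Cfsg
open scoped Pointwise

/-! ### Words of coded permutations -/

theorem prodC_cons (S : ℕ) (ws : List ℕ) : prodC (S :: ws) = permC S * prodC ws := by
  show ((S :: ws).map permC).prod = permC S * (ws.map permC).prod
  simp

theorem prodC_nil : prodC [] = 1 := rfl

theorem prodC_append (ws ws' : List ℕ) : prodC (ws ++ ws') = prodC ws * prodC ws' := by
  show ((ws ++ ws').map permC).prod = (ws.map permC).prod * (ws'.map permC).prod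
  rw [List.map_append, List.prod_append]

theorem prodC_singleton (S : ℕ) : prodC [S] = permC S := by
  rw [prodC_cons, prodC_nil, mul_one]

theorem prodC_replicate (S : ℕ) : ∀ k : ℕ, prodC (List.replicate k S) = (permC S) ^ k
  | 0 => rfl
  | k + 1 => by
    rw [List.replicate_succ, prodC_cons, prodC_replicate S k, pow_succ']

/-- Equality of two words as index functions. -/
def eqW (ws ws' : List ℕ) : Bool :=
  (List.range 24).all fun i => Nat.beq (pappL ws i) (pappL ws' i)

theorem prodC_eq_of_eqW {ws ws' : List ℕ} (h : ∀ S ∈ ws, isPerm S = true)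
    (h' : ∀ S ∈ ws', isPerm S = true) (hc : eqW ws ws' = true) : prodC ws = prodC ws' := by
  apply eq_of_ptIdx_eq
  intro p
  rw [ptIdx_prodC ws h, ptIdx_prodC ws' h']
  exact Nat.eq_of_beq_eq_true (List.all_eq_true.1 hc _ (List.mem_range.2 (ptIdx p).isLt))

theorem eqW_of_prodC_eq {ws ws' : List ℕ} (h : ∀ S ∈ ws, isPerm S = true)
    (h' : ∀ S ∈ ws', isPerm S = true) (hc : prodC ws = prodC ws') : eqW ws ws' = true := by
  unfold eqW
  rw [List.all_eq_true]
  intro i hi
  have hi' := List.mem_range.1 hi
  have h1 := ptIdx_prodC ws h (ptOf ⟨i, hi'⟩)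
  have h2 := ptIdx_prodC ws' h' (ptOf ⟨i, hi'⟩)
  rw [ptIdx_ptOf] at h1 h2
  simp only at h1 h2
  rw [← h1, ← h2, hc]
  exact Nat.beq_refl _

theorem perm_append {ws ws' : List ℕ} (h : ∀ S ∈ ws, isPerm S = true)
    (h' : ∀ S ∈ ws', isPerm S = true) : ∀ S ∈ ws ++ ws', isPerm S = true := by
  intro S hS
  rcases List.mem_append.1 hS with h1 | h1
  · exact h S h1
  · exact h' S h1

theorem perm_replicate {S : ℕ} (hS : isPerm S = true) (k : ℕ) :
    ∀ X ∈ List.replicate k S, isPerm X = true := by
  intro X hX
  rw [List.eq_of_mem_replicate hX]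
  exact hS

/-! ### The stabiliser of three points -/

def idCode : ℕ := 984818244535754528103549039458486304
def wList : List ℕ := [984818244535754528103549039458486304, 888233513990054241073186136518690848, 561522443421234221812993158224709664, 196378304979881302315086040428382240, 849900528551554922347717597864364064, 226401735758181211329360001571751968, 357929241303960710003833426886821920, 887425865467986078724213605788878880, 269360011769429823298579892159219744, 668978072848716370024178055290161184, 194196682322620527320570502160222240, 811957173545432817755083890154211360, 192854249804078226385840869585946656, 396525845906080909954890668250236960, 837686699039984914252371557088790560, 135173670464309460712567090874746912, 670098673004153418075281443666888736, 931172009976103275874197319370541088, 590225064779608660462916610449639456, 673955992846291390531691129064851488, 476968001659028043503831948336007200]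

theorem idCode_ok : isAutC idCode = true ∧ idF (papp idCode) = true := by decide +kernel

theorem permC_idCode : permC idCode = 1 :=
  permC_eq_one (isPerm_of_isAutC idCode_ok.1) idCode_ok.2

theorem wList_ok : wList.all (fun W => isAutC W && fixesMask W 7) = true := by decide +kernel

theorem wList_cover : (List.range 24).all (fun j => Nat.blt j 3 ||
    wList.any (fun W => Nat.beq (papp W 3) j)) = true := by decide +kernel

theorem wList_perm {W : ℕ} (hW : W ∈ wList) : isAutC W = true := by
  have := List.all_eq_true.1 wList_ok W hW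
  rw [Bool.and_eq_true] at this
  exact this.1

/-- Every element of `M24` fixing the points of indices `0, 1, 2` is a product `W * V * S`. -/
theorem m21_complete {g : Equiv.Perm GolayPt} (hg : g ∈ M24) (h0 : g (P 0) = P 0)
    (h1 : g (P 1) = P 1) (h2 : g (P 2) = P 2) :
    ∃ W ∈ wList, ∃ V ∈ vList, ∃ S ∈ H5list, g = prodC [W, idCode, V, S] := by
  have hfix : ∀ i (hi : i < 3), g (P i (by omega)) = P i (by omega) := by
    intro i hi
    interval_cases i
    · exact h0
    · exact h1
    · exact h2
  set j : ℕ := ((ptIdx (g (P 3)) : Fin 24) : ℕ) with hj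
  have hj3 : ¬ j < 3 := by
    intro hlt
    have e1 : g (P j (by omega)) = P j (by omega) := hfix j hlt
    have e2 : P j (by omega) = g (P 3) := by
      have := P_ptIdx (g (P 3))
      rw [← this]
    rw [e2] at e1
    have e3 := g.injective e1
    have e4 := congrArg (fun p => ((ptIdx p : Fin 24) : ℕ)) e3
    simp only [ptIdx_P] at e4
    omega
  have hcov := List.all_eq_true.1 wList_cover j (List.mem_range.2 (ptIdx (g (P 3))).isLt)
  rw [Bool.or_eq_true] at hcov
  rcases hcov with hcov | hcov
  · exact absurd (Nat.le_of_ble_eq_true hcov) hj3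
  obtain ⟨W, hW, hWj⟩ := List.any_eq_true.1 hcov
  have hWok := List.all_eq_true.1 wList_ok W hW
  rw [Bool.and_eq_true] at hWok
  have hWP := isPerm_of_isAutC hWok.1
  have hW7 : permC W ∈ Hfix 7 := permC_mem_Hfix hWok.1 hWok.2
  have hW3 : permC W (P 3) = g (P 3) := by
    have := permC_ptOf hWP 3 (by norm_num) j (ptIdx (g (P 3))).isLt (Nat.eq_of_beq_eq_true hWj)
    show permC W (ptOf ⟨3, _⟩) = g (P 3)
    rw [this]
    exact ptOf_ptIdx _
  have hWfix : ∀ i (hi : i < 3), permC W (P i (by omega)) = P i (by omega) := by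
    intro i hi
    apply hW7.2
    rw [mem_fset_P]
    interval_cases i <;> decide
  set k := (permC W)⁻¹ * g with hk
  have hkM : k ∈ M24 := M24.mul_mem (M24.inv_mem hW7.1) hg
  have hk4 : ∀ i (hi : i < 4), k (P i (by omega)) = permC idCode (P i (by omega)) := by
    intro i hi
    rw [permC_idCode, Equiv.Perm.one_apply, hk, Equiv.Perm.mul_apply, Equiv.Perm.inv_eq_iff_eq]
    by_cases h3 : i < 3
    · rw [hfix i h3, hWfix i h3]
    · have : i = 3 := by omega
      subst this
      exact hW3.symm
  obtain ⟨V, hV, S, hS, hkVS⟩ := coset_complete idCode_ok.1 hkM hk4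
  refine ⟨W, hW, V, hV, S, hS, ?_⟩
  rw [prodC_cons, ← hkVS, hk]
  group

/-- A check over the whole stabiliser of three points. -/
theorem m21_all_spec (chk : List ℕ → Bool)
    (htab : wList.all (fun W => cosetPairs.all (fun x => chk [W, idCode, x.1, x.2])) = true)
    {g : Equiv.Perm GolayPt} (hg : g ∈ M24) (h0 : g (P 0) = P 0)
    (h1 : g (P 1) = P 1) (h2 : g (P 2) = P 2) :
    ∃ ws : List ℕ, (∀ X ∈ ws, isPerm X = true) ∧ g = prodC ws ∧ chk ws = true := by
  obtain ⟨W, hW, V, hV, S, hS, rfl⟩ := m21_complete hg h0 h1 h2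
  refine ⟨[W, idCode, V, S], ?_, rfl, ?_⟩
  · intro X hX
    simp only [List.mem_cons, List.mem_nil_iff, or_false] at hX
    rcases hX with rfl | rfl | rfl | rfl
    · exact isPerm_of_isAutC (wList_perm hW)
    · exact isPerm_of_isAutC idCode_ok.1
    · exact isPerm_of_isAutC (vList_perm hV)
    · exact isPerm_of_isAutC (H5list_perm hS)
  · exact List.all_eq_true.1 (List.all_eq_true.1 htab W hW) (V, S) (mem_cosetPairs hV hS)

/-! ### Normalisers of cyclic subgroups -/

theorem mem_normalizer_zpowers_iff {G : Type*} [Group G] [Finite G] (t x : G) :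
    x ∈ Subgroup.normalizer (Subgroup.zpowers t : Set G) ↔
      x * t * x⁻¹ ∈ Subgroup.zpowers t := by
  constructor
  · intro h
    exact (Subgroup.mem_normalizer_iff.1 h t).1 (Subgroup.mem_zpowers t)
  · intro h
    apply Subgroup.mem_normalizer_fintype
    intro n hn
    obtain ⟨k, rfl⟩ := Subgroup.mem_zpowers_iff.1 hn
    have : x * t ^ k * x⁻¹ = (x * t * x⁻¹) ^ k := (conj_zpow).symm
    rw [this]
    exact Subgroup.zpow_mem _ h k

theorem mem_centralizer_zpowers_iff {G : Type*} [Group G] (t x : G) :
    x ∈ Subgroup.centralizer (Subgroup.zpowers t : Set G) ↔ x * t = t * x := by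
  rw [Subgroup.mem_centralizer_iff]
  constructor
  · intro h
    exact (h t (Subgroup.mem_zpowers t)).symm
  · intro h n hn
    obtain ⟨k, rfl⟩ := Subgroup.mem_zpowers_iff.1 hn
    have hc : Commute x t := h
    exact ((hc.zpow_right k).eq).symm

/-- The normaliser in `M24` of the cyclic subgroup generated by a permutation. -/
def normP (t : Equiv.Perm GolayPt) : Subgroup (Equiv.Perm GolayPt) :=
  M24 ⊓ Subgroup.normalizer (Subgroup.zpowers t : Set (Equiv.Perm GolayPt))

theorem mem_normP_iff (t x : Equiv.Perm GolayPt) :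
    x ∈ normP t ↔ x ∈ M24 ∧ x * t * x⁻¹ ∈ Subgroup.zpowers t := by
  unfold normP
  rw [Subgroup.mem_inf, mem_normalizer_zpowers_iff]

theorem mem_normP_conj (t z x : Equiv.Perm GolayPt) (hz : z ∈ M24) :
    x ∈ normP (z * t * z⁻¹) ↔ z⁻¹ * x * z ∈ normP t := by
  rw [mem_normP_iff, mem_normP_iff]
  have hM : x ∈ M24 ↔ z⁻¹ * x * z ∈ M24 := by
    constructor
    · intro h
      exact M24.mul_mem (M24.mul_mem (M24.inv_mem hz) h) hz
    · intro h
      have : x = z * (z⁻¹ * x * z) * z⁻¹ := by group
      rw [this]
      exact M24.mul_mem (M24.mul_mem hz h) (M24.inv_mem hz)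
  rw [hM, Subgroup.mem_zpowers_iff, Subgroup.mem_zpowers_iff]
  apply and_congr Iff.rfl
  constructor
  · rintro ⟨k, hk⟩
    refine ⟨k, ?_⟩
    have e : (z * t * z⁻¹) ^ k = z * t ^ k * z⁻¹ := conj_zpow
    rw [e] at hk
    have : t ^ k = z⁻¹ * (z * t ^ k * z⁻¹) * z := by group
    rw [this, hk]
    group
  · rintro ⟨k, hk⟩
    refine ⟨k, ?_⟩
    have e : (z * t * z⁻¹) ^ k = z * t ^ k * z⁻¹ := conj_zpow
    rw [e, hk]
    group

theorem card_normP_conj (t z : Equiv.Perm GolayPt) (hz : z ∈ M24) :
    Nat.card (normP (z * t * z⁻¹)) = Nat.card (normP t) :=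
  card_subgroup_conj (normP t) (normP (z * t * z⁻¹)) z (fun c => mem_normP_conj t z c hz)

/-- Orbit counting with the orbit inside a given finite set. -/
theorem card_le_mul_stab (K : Subgroup (Equiv.Perm GolayPt)) (x : GolayPt) (F : Finset GolayPt)
    (hF : ∀ k ∈ K, k x ∈ F) :
    Nat.card K ≤ F.card * Nat.card ↥(K ⊓ MulAction.stabilizer (Equiv.Perm GolayPt) x) := by
  have hcard := card_eq_ncard_mul_card_inf_stabilizer (G := Equiv.Perm GolayPt) K x
    {s | ∃ k ∈ K, k • x = s} (fun k hk => ⟨k, hk, rfl⟩) (fun s hs => hs)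
  rw [hcard]
  apply Nat.mul_le_mul_right
  have hsub : ({s | ∃ k ∈ K, k • x = s} : Set GolayPt) ⊆ (F : Set GolayPt) := by
    rintro s ⟨k, hk, rfl⟩
    exact hF k hk
  have := Set.ncard_le_ncard hsub (Finset.finite_toSet F)
  rw [Set.ncard_coe_finset] at this
  exact this

/-- A subgroup all of whose elements are among the listed coded permutations. -/
theorem card_le_of_list (K : Subgroup (Equiv.Perm GolayPt)) (L : List ℕ)
    (h : ∀ g ∈ K, ∃ X ∈ L, permC X = g) : Nat.card K ≤ L.length := by
  have h1 : Nat.card K = ((K : Subgroup (Equiv.Perm GolayPt)) : Set (Equiv.Perm GolayPt)).ncard :=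
    rfl
  rw [h1]
  have hsub : ((K : Subgroup (Equiv.Perm GolayPt)) : Set (Equiv.Perm GolayPt)) ⊆
      {g | ∃ X ∈ L, permC X = g} := fun g hg => h g hg
  refine le_trans (Set.ncard_le_ncard hsub (Set.toFinite _)) ?_
  classical
  have hS : ({a | ∃ b ∈ L, permC b = a} : Set (Equiv.Perm GolayPt)) =
      permC '' (↑L.toFinset : Set ℕ) := by
    ext a
    simp
  rw [hS]
  refine le_trans (Set.ncard_image_le (Set.toFinite _)) ?_
  rw [Set.ncard_coe_finset]
  exact List.toFinset_card_le L

end Cfsg.Agent.Lib.Helper93.Golay
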