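import Cfsg.Agent.Lib.Helper93.BigPerm

/-!
# Additions to `BigPerm` (helper93): strict evaluation and range-wise checks

`BigPerm.lean` is imported as is by landed statements, so the additions live in this separate file.
-/

set_option autoImplicit false

namespace Cfsg.Agent.Lib.Helper93.BigPerm

open Cfsg.Agent.Lib.Helper89.TableChain2 Cfsg.Agent.Lib.Helper89.CosetCert
open Cfsg.Agent.Lib.Helper89.SafePres

namespace Model

/-! ### strict evaluation (forces the intermediate points to literals, so that the kernel's cache is hit) -/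

end Model

/-- application forcing the argument -/
def strictApp (f : ℕ → ℕ) (n : ℕ) : ℕ :=
  match n with
  | 0 => f 0
  | m + 1 => f (m + 1)

theorem strictApp_eq (f : ℕ → ℕ) (n : ℕ) : strictApp f n = f n := by
  cases n <;> rfl

/-- strict version of `act` -/
def sact (tab : ℕ → ℕ → ℕ) (l : List ℕ) (x : ℕ) : ℕ := l.foldr (fun j y => strictApp (tab j) y) x

theorem sact_eq (tab : ℕ → ℕ → ℕ) (l : List ℕ) (x : ℕ) : sact tab l x = act tab l x := by
  induction l with
  | nil => rfl
  | cons j l ih =>
    show strictApp (tab j) (sact tab l x) = tab j (act tab l x)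
    rw [strictApp_eq, ih]

namespace Model

variable (M : Model)

/-- strict `Bool` test that all words of a list act trivially -/
def relsOKs (rs : List Word) : Bool :=
  rs.all (fun r => r.all (fun c => decide (c < 2 * M.k)) &&
    (List.range M.N).all (fun x => sact M.tab r x == x))

variable {M}

theorem relsOKs_eq (rs : List Word) : M.relsOKs rs = M.relsOK rs := by
  unfold relsOKs relsOK
  simp only [sact_eq]

theorem relsOKs_valid (h : M.ok = true) (rs : List Word) (hr : M.relsOKs rs = true) :
    ∀ r ∈ rs, ev (gm h) r = 1 := by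
  rw [relsOKs_eq] at hr
  exact relsOK_valid h rs hr

/-- all elements of a list of known length, from its entries -/
theorem forall_mem_of_getD {α : Type*} (l : List α) (d : α) (P : α → Prop) (n : ℕ)
    (hn : l.length = n) (hP : ∀ j < n, P (l.getD j d)) : ∀ r ∈ l, P r := by
  intro r hr
  obtain ⟨j, hj, rfl⟩ := List.getElem_of_mem hr
  have := hP j (hn ▸ hj)
  rwa [List.getD_eq_getElem _ _ hj] at this

/-! ### checks on ranges of points (small kernel computations: the kernel keeps every intermediate term of one
`decide` in memory, about 11 KB per table lookup) -/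

variable (M)

/-- the word `r` fixes the points `a ≤ x < b` -/
def chk (r : Word) (a b : ℕ) : Bool :=
  r.all (fun c => decide (c < 2 * M.k)) && (List.range' a (b - a)).all (fun x => sact M.tab r x == x)

variable {M}

theorem letters_of_chk {r : Word} {a b : ℕ} (hc : M.chk r a b = true) : ∀ c ∈ r, c < 2 * M.k := by
  unfold chk at hc
  rw [Bool.and_eq_true, List.all_eq_true] at hc
  exact fun c hcr => of_decide_eq_true (hc.1 c hcr)

theorem act_of_chk {r : Word} {a b : ℕ} (hc : M.chk r a b = true) {x : ℕ} (h1 : a ≤ x) (h2 : x < b) :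
    act M.tab r x = x := by
  unfold chk at hc
  rw [Bool.and_eq_true, List.all_eq_true, List.all_eq_true] at hc
  have := hc.2 x (by rw [List.mem_range'_1]; omega)
  rw [sact_eq] at this
  exact beq_iff_eq.1 this

theorem ev_one_of_act (h : M.ok = true) (r : Word) (hl : ∀ c ∈ r, c < 2 * M.k)
    (ha : ∀ x < M.N, act M.tab r x = x) : ev (gm h) r = 1 := by
  rw [← D_ev, ← (D h).ev_nil]
  apply (D h).ev_eq_of_act hl (fun c hc => by simp at hc)
  intro x hx
  rw [act_nil]
  exact ha x (List.mem_range.1 hx)

theorem ev_one_of_chk1 (h : M.ok = true) (r : Word) (h1 : M.chk r 0 M.N = true) : ev (gm h) r = 1 :=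
  ev_one_of_act h r (letters_of_chk h1) (fun _ hx => act_of_chk h1 (Nat.zero_le _) hx)

theorem ev_one_of_chk2 (h : M.ok = true) (r : Word) (a : ℕ) (h1 : M.chk r 0 a = true)
    (h2 : M.chk r a M.N = true) : ev (gm h) r = 1 := by
  refine ev_one_of_act h r (letters_of_chk h1) (fun x hx => ?_)
  by_cases hxa : x < a
  · exact act_of_chk h1 (Nat.zero_le _) hxa
  · exact act_of_chk h2 (by omega) hx

theorem ev_one_of_chk3 (h : M.ok = true) (r : Word) (a b : ℕ) (h1 : M.chk r 0 a = true)
    (h2 : M.chk r a b = true) (h3 : M.chk r b M.N = true) : ev (gm h) r = 1 := by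
  refine ev_one_of_act h r (letters_of_chk h1) (fun x hx => ?_)
  by_cases hxa : x < a
  · exact act_of_chk h1 (Nat.zero_le _) hxa
  · by_cases hxb : x < b
    · exact act_of_chk h2 (by omega) hxb
    · exact act_of_chk h3 (by omega) hx

theorem gm_pow' (h : M.ok = true) (i n : ℕ) (hr : M.chk (powWord n i) 0 M.N = true) :
    gm h i ^ n = 1 := by
  have := ev_one_of_chk1 h _ hr
  rwa [ev_powWord] at this

end Model

end Cfsg.Agent.Lib.Helper93.BigPerm
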