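import Cfsg.Agent.Lib.Helper93.RelStab
import Cfsg.Agent.Lib.Helper93.PermCount
import Cfsg.Agent.Lib.Helper93.NormTools

set_option autoImplicit false

/-! Certificates for "no proper non-trivial strongly closed subgroup" and small group-theoretic
lemmas used for the fusion systems of the Mathieu groups. -/

namespace Cfsg.Agent.Lib.Helper93.Golay

open Cfsg
open scoped Pointwise

/-! ### Generalities -/

/-- if `g` conjugates the finite subgroup `S` into itself, so does `g⁻¹` -/
theorem inv_conj_mem_of_conj_mem {Γ : Type*} [Group Γ] (S : Subgroup Γ) [Finite S] (g : Γ)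
    (h : ∀ x ∈ S, g * x * g⁻¹ ∈ S) : ∀ x ∈ S, g⁻¹ * x * g ∈ S := by
  let f : S → S := fun x => ⟨g * x.1 * g⁻¹, h x.1 x.2⟩
  have hinj : Function.Injective f := by
    intro a b hab
    have h1 : g * a.1 * g⁻¹ = g * b.1 * g⁻¹ := congrArg Subtype.val hab
    apply Subtype.ext
    have h2 : a.1 = g⁻¹ * (g * a.1 * g⁻¹) * g := by group
    rw [h2, h1]
    group
  have hsurj : Function.Surjective f := Finite.injective_iff_surjective.1 hinj
  intro x hx
  obtain ⟨y, hy⟩ := hsurj ⟨x, hx⟩
  have h1 : g * y.1 * g⁻¹ = x := congrArg Subtype.val hy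
  rw [← h1]
  have h2 : g⁻¹ * (g * y.1 * g⁻¹) * g = y.1 := by group
  rw [h2]
  exact y.2

/-- a non-trivial subgroup of a group of order `2 ^ k` contains an involution -/
theorem exists_involution_of_le {Γ : Type*} [Group Γ] (S T : Subgroup Γ) [Finite S] (k : ℕ)
    (hS : Nat.card S = 2 ^ k) (hTS : T ≤ S) (hT : T ≠ ⊥) :
    ∃ t ∈ T, t * t = 1 ∧ t ≠ 1 := by
  have : Finite T := Finite.of_injective (fun x : T => (⟨x.1, hTS x.2⟩ : S))
    (fun a b h => Subtype.ext (congrArg (fun z : S => z.1) h))
  have hdvd : Nat.card T ∣ 2 ^ k := hS ▸ Subgroup.card_dvd_of_le hTS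
  obtain ⟨j, _, hj⟩ := (Nat.dvd_prime_pow Nat.prime_two).1 hdvd
  have hj0 : j ≠ 0 := by
    intro h0
    rw [h0, pow_zero] at hj
    exact hT (Subgroup.card_eq_one.1 hj)
  have h2 : 2 ∣ Nat.card T := by
    rw [hj]
    exact dvd_pow_self 2 hj0
  have : Fact (Nat.Prime 2) := ⟨Nat.prime_two⟩
  obtain ⟨t, ht, ho⟩ := PermCount.exists_mem_orderOf_eq T 2 h2
  refine ⟨t, ht, ?_, ?_⟩
  · rw [← pow_two, ← ho]
    exact pow_orderOf_eq_one t
  · intro e
    rw [e, orderOf_one] at ho
    norm_num at ho

/-! ### Derivation certificates -/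

/-- one derivation step `(g, w, y)`: the coded element `y` of the Sylow subgroup is the conjugate
by `g` of the product of the already derived elements `w` -/
def stepOK (inG inS : ℕ → Bool) (known : List ℕ) (st : ℕ × List ℕ × ℕ) : Bool :=
  inG st.1 && st.2.1.all (fun c => known.any (Nat.beq c)) && inS st.2.2 &&
    eqW (st.1 :: st.2.1) [st.2.2, st.1]

def runSteps (inG inS : ℕ → Bool) : List ℕ → List (ℕ × List ℕ × ℕ) → List ℕ
  | known, [] => known
  | known, st :: rest =>
    if stepOK inG inS known st then runSteps inG inS (st.2.2 :: known) rest else []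

theorem mem_of_any_beq {known : List ℕ} {c : ℕ} (h : known.any (Nat.beq c) = true) :
    c ∈ known := by
  rw [List.any_eq_true] at h
  obtain ⟨x, hx, hcx⟩ := h
  rw [Nat.eq_of_beq_eq_true hcx]
  exact hx

theorem runSteps_spec {G S0 T : Subgroup (Equiv.Perm GolayPt)} {inG inS : ℕ → Bool}
    (hinG : ∀ c, inG c = true → isPerm c = true ∧ permC c ∈ G)
    (hinS : ∀ c, inS c = true → isPerm c = true ∧ permC c ∈ S0)
    (hT : ∀ x ∈ T, ∀ g ∈ G, g * x * g⁻¹ ∈ S0 → g * x * g⁻¹ ∈ T) :
    ∀ (steps : List (ℕ × List ℕ × ℕ)) (known : List ℕ),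
      (∀ c ∈ known, isPerm c = true ∧ permC c ∈ T) →
      ∀ c ∈ runSteps inG inS known steps, isPerm c = true ∧ permC c ∈ T
  | [], known, hk => hk
  | st :: rest, known, hk => by
    unfold runSteps
    split
    · rename_i hok
      apply runSteps_spec hinG hinS hT rest
      intro c hc
      rcases List.mem_cons.1 hc with rfl | hc
      · unfold stepOK at hok
        simp only [Bool.and_eq_true] at hok
        obtain ⟨⟨⟨h1, h2⟩, h3⟩, h4⟩ := hok
        obtain ⟨hgp, hgG⟩ := hinG _ h1
        obtain ⟨hyp, hyS⟩ := hinS _ h3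
        refine ⟨hyp, ?_⟩
        have hw : ∀ c ∈ st.2.1, isPerm c = true ∧ permC c ∈ T := by
          intro c hc
          exact hk c (mem_of_any_beq (List.all_eq_true.1 h2 c hc))
        have hprod : prodC st.2.1 ∈ T := prodC_mem T st.2.1 (fun c hc => (hw c hc).2)
        have heq := prodC_eq_of_eqW (ws := st.1 :: st.2.1) (ws' := [st.2.2, st.1])
          (by
            intro S hS
            rcases List.mem_cons.1 hS with rfl | hS
            · exact hgp
            · exact (hw S hS).1)
          (by
            intro S hS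
            simp only [List.mem_cons, List.not_mem_nil, or_false] at hS
            rcases hS with rfl | rfl
            · exact hyp
            · exact hgp) h4
        rw [prodC_cons, prodC_cons, prodC_singleton] at heq
        have hy : permC st.2.2 = permC st.1 * prodC st.2.1 * (permC st.1)⁻¹ := by
          rw [heq]
          group
        rw [hy]
        apply hT _ hprod _ hgG
        rw [← hy]
        exact hyS
      · exact hk c hc
    · intro c hc
      exact absurd hc (List.not_mem_nil)

/-- the generators are products of derived elements -/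
def gensOK (final : List ℕ) (gw : List (ℕ × List ℕ)) : Bool :=
  gw.all fun x => x.2.all (fun c => final.any (Nat.beq c)) && eqW x.2 [x.1]

theorem gensOK_spec {T : Subgroup (Equiv.Perm GolayPt)} {final : List ℕ}
    (hf : ∀ c ∈ final, isPerm c = true ∧ permC c ∈ T) {gw : List (ℕ × List ℕ)}
    (hgp : ∀ x ∈ gw, isPerm x.1 = true)
    (h : gensOK final gw = true) : ∀ x ∈ gw, permC x.1 ∈ T := by
  intro x hx
  have hx' := List.all_eq_true.1 h x hx
  rw [Bool.and_eq_true] at hx'
  have hw : ∀ c ∈ x.2, isPerm c = true ∧ permC c ∈ T := by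
    intro c hc
    exact hf c (mem_of_any_beq (List.all_eq_true.1 hx'.1 c hc))
  have heq := prodC_eq_of_eqW (ws := x.2) (ws' := [x.1]) (fun S hS => (hw S hS).1)
    (by
      intro S hS
      simp only [List.mem_cons, List.not_mem_nil, or_false] at hS
      rw [hS]
      exact hgp x hx) hx'.2
  rw [prodC_singleton] at heq
  rw [← heq]
  exact prodC_mem T x.2 (fun c hc => (hw c hc).2)

end Cfsg.Agent.Lib.Helper93.Golay
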