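import Cfsg.Agent.Lib.Helper93.Cent2A
import Cfsg.Agent.Lib.Helper93.PermCount

set_option autoImplicit false

/-!
Subgroups of `M24` of index 24 and subgroups of `M23` of index 23 are point stabilisers
(an enumeration-free argument by fixed-point counting), and a permutation mapping the octads
through the extra point to octads belongs to `M24`.
-/

namespace Cfsg.Agent.Lib.Helper93.M24Fix

open Cfsg Cfsg.Agent.Lib.Helper93 Cfsg.Agent.Lib.Helper93.Golay
open Cfsg.Agent.Lib.Helper93.PermCount Cfsg.Agent.Lib.Helper93.Cent2A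
open scoped Pointwise

/-- the stabiliser of a point in the symmetric group -/
abbrev stab (a : GolayPt) : Subgroup (Equiv.Perm GolayPt) :=
  MulAction.stabilizer (Equiv.Perm GolayPt) a

theorem mem_stab {a : GolayPt} {g : Equiv.Perm GolayPt} : g ∈ stab a ↔ g a = a :=
  MulAction.mem_stabilizer_iff

theorem card_pts : (Finset.univ : Finset GolayPt).card = 24 := by
  rw [Finset.card_univ]; decide

/-! ### Elements fixing five points -/

theorem card_Hfix31 : Nat.card (Hfix 31) = 48 := by
  have c5 := card_level 31 5 16771936 16 (by decide)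
    (level_spec 31 gensL5 treeL5 5 16771936 gens_ok5 tree_ok5 (by decide))
    (fun g hg => orbit_bound5 hg) (by norm_num) (by decide +kernel)
  have c6 := card_level 63 7 5248 3 (by decide)
    (level_spec 63 gensL6 treeL6 7 5248 gens_ok6 tree_ok6 (by decide))
    (fun g hg => orbit_bound6 ⟨hg.1, fun p hp => hg.2 p (by
      rw [mem_fset] at hp ⊢
      have : (63 : ℕ) = 31 ||| 32 := by decide
      rw [this, Nat.testBit_or, hp, Bool.true_or])⟩) (by norm_num) (by decide +kernel)
  have e6 : (31 : ℕ) ||| (1 <<< 5) = 63 := by decide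
  have e7 : (63 : ℕ) ||| (1 <<< 7) = 191 := by decide
  rw [e6] at c5
  rw [e7] at c6
  have hbot : Nat.card (Hfix 191) = 1 := by
    rw [Hfix_base_eq_bot]
    exact Subgroup.card_bot
  rw [c5, c6, hbot]

theorem pow48_of_fix5 {g : Equiv.Perm GolayPt} (hg : g ∈ M24) (q : Fin 5 → GolayPt)
    (hq : Function.Injective q) (hfix : ∀ i, g (q i) = q i) : g ^ 48 = 1 := by
  obtain ⟨u, hu, huq⟩ := exists_M24_map (fun i => if h : i < 5 then q ⟨i, h⟩ else q 0)
    (by
      intro i j hi hj h
      simp only [hi, hj, dite_true] at h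
      exact Fin.mk.inj_iff.1 (hq h)) 5 (le_refl 5)
  have hmem : u⁻¹ * g * u ∈ Hfix 31 := by
    apply mem_Hfix_31 (conj_mem hu hg)
    intro i hi
    have h1 := huq i hi
    simp only [hi, dite_true] at h1
    rw [Equiv.Perm.mul_apply, Equiv.Perm.mul_apply, h1, hfix, ← h1]
    simp
  have h48 : (u⁻¹ * g * u) ^ 48 = 1 := by
    have := pow_card_eq_one' (G := ↥(Hfix 31)) (x := ⟨_, hmem⟩)
    rw [card_Hfix31] at this
    have h2 := congrArg Subtype.val this
    rwa [Subgroup.coe_pow] at h2
  have e : g = u * (u⁻¹ * g * u) * u⁻¹ := by group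
  rw [e, conj_pow, h48]
  group

theorem fixcard_le_four {g : Equiv.Perm GolayPt} (hg : g ∈ M24) {p : ℕ}
    (hp : p = 5 ∨ p = 7 ∨ p = 11 ∨ p = 23) (ho : orderOf g = p) : fixcard g ≤ 4 := by
  by_contra hcon
  push Not at hcon
  have h5 : 5 ≤ (Finset.univ.filter fun r => g r = r).card := hcon
  obtain ⟨t, ht, htc⟩ := Finset.exists_subset_card_eq h5
  let e := Finset.equivFinOfCardEq htc
  have h48 := pow48_of_fix5 hg (fun i => ((e.symm i : ↥t) : GolayPt))
    (fun i j h => e.symm.injective (Subtype.ext h)) (fun i => by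
      have := ht (e.symm i).2
      rw [Finset.mem_filter] at this
      exact this.2)
  have hd := orderOf_dvd_of_pow_eq_one h48
  rw [ho] at hd
  rcases hp with rfl | rfl | rfl | rfl <;> norm_num at hd

theorem prime_of_cases {p : ℕ} (hp : p = 5 ∨ p = 7 ∨ p = 11 ∨ p = 23) : p.Prime := by
  rcases hp with rfl | rfl | rfl | rfl <;> norm_num

theorem pow_prime_eq_one {g : Equiv.Perm GolayPt} {p : ℕ} (ho : orderOf g = p) :
    g ^ p ^ 1 = 1 := by
  rw [pow_one, ← ho]
  exact pow_orderOf_eq_one g

/-- An element of order 5, 7, 11, 23 of `M24` has exactly 4, 3, 2, 1 fixed points. -/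
theorem fixcard_eq_mod {g : Equiv.Perm GolayPt} (hg : g ∈ M24) {p : ℕ}
    (hp : p = 5 ∨ p = 7 ∨ p = 11 ∨ p = 23) (ho : orderOf g = p) : fixcard g = 24 % p := by
  have h4 := fixcard_le_four hg hp ho
  have : Fact p.Prime := ⟨prime_of_cases hp⟩
  have h := card_modEq_card_fixed g (pow_prime_eq_one ho) Finset.univ (fun b => by simp)
  rw [card_pts] at h
  unfold Nat.ModEq at h
  change 24 % p = fixcard g % p at h
  rcases hp with rfl | rfl | rfl | rfl <;> omega

/-! ### Orbits of subgroups fixing some points -/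

theorem orb_disjoint {H : Subgroup (Equiv.Perm GolayPt)} (F : Finset GolayPt)
    (hF : ∀ h ∈ H, ∀ r ∈ F, h r = r) (c : GolayPt) (hc : c ∉ F) : Disjoint (orb H c) F := by
  rw [Finset.disjoint_left]
  intro b hb hbF
  rw [mem_orb] at hb
  obtain ⟨h, hh, e⟩ := hb
  apply hc
  have h1 : h⁻¹ b = b := hF _ (H.inv_mem hh) b hbF
  rw [← e] at h1
  have h2 : h⁻¹ (h c) = c := by simp
  rw [h2] at h1
  rw [h1, e]
  exact hbF

theorem orb_add_le {H : Subgroup (Equiv.Perm GolayPt)} (F : Finset GolayPt)
    (hF : ∀ h ∈ H, ∀ r ∈ F, h r = r) (c : GolayPt) (hc : c ∉ F) :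
    (orb H c).card + F.card ≤ 24 := by
  rw [← Finset.card_union_of_disjoint (orb_disjoint F hF c hc), ← card_pts]
  exact Finset.card_le_card (Finset.subset_univ _)

theorem orb_mod_le {H : Subgroup (Equiv.Perm GolayPt)} (hH : H ≤ M24) (F : Finset GolayPt)
    (hF : ∀ h ∈ H, ∀ r ∈ F, h r = r) (c : GolayPt) (hc : c ∉ F) {p : ℕ}
    (hp : p = 5 ∨ p = 7 ∨ p = 11 ∨ p = 23) (hdvd : p ∣ Nat.card H) :
    (orb H c).card % p + F.card ≤ 24 % p := by
  have : Fact p.Prime := ⟨prime_of_cases hp⟩
  obtain ⟨x, hxH, hxo⟩ := exists_mem_orderOf_eq H p hdvd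
  have hfix := fixcard_eq_mod (hH hxH) hp hxo
  have hmod := card_modEq_card_fixed x (pow_prime_eq_one hxo) (orb H c) (map_mem_orb_iff hxH)
  have hdisj : Disjoint ((orb H c).filter (fun b => x b = b)) F :=
    Finset.disjoint_of_subset_left (Finset.filter_subset _ _) (orb_disjoint F hF c hc)
  have hsub : (orb H c).filter (fun b => x b = b) ∪ F ⊆ Finset.univ.filter (fun r => x r = r) := by
    intro r hr
    rw [Finset.mem_union] at hr
    rw [Finset.mem_filter]
    refine ⟨Finset.mem_univ _, ?_⟩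
    rcases hr with hr | hr
    · exact (Finset.mem_filter.1 hr).2
    · exact hF x hxH r hr
  have hcard := Finset.card_le_card hsub
  rw [Finset.card_union_of_disjoint hdisj] at hcard
  have hfc : (Finset.univ.filter (fun r => x r = r)).card = 24 % p := hfix
  rw [hfc] at hcard
  unfold Nat.ModEq at hmod
  rcases hp with rfl | rfl | rfl | rfl <;> omega

/-! ### No subgroup of order 40 fixing four points -/

theorem not_card_40 {L : Subgroup (Equiv.Perm GolayPt)} (hL : L ≤ M24) (F : Finset GolayPt)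
    (hFc : F.card = 4) (hF : ∀ h ∈ L, ∀ r ∈ F, h r = r) (hcard : Nat.card L = 40) : False := by
  obtain ⟨y, v, hy5, hv2, hyv⟩ := exists_comm_of_card_eq_40 hcard
  have hy5' : orderOf (y : Equiv.Perm GolayPt) = 5 := by rw [Subgroup.orderOf_coe]; exact hy5
  have hv2' : orderOf (v : Equiv.Perm GolayPt) = 2 := by rw [Subgroup.orderOf_coe]; exact hv2
  have hcomm : (y : Equiv.Perm GolayPt) * v = v * y := by
    have := congrArg Subtype.val hyv
    simpa only [Subgroup.coe_mul] using this
  have hyfix : fixcard (y : Equiv.Perm GolayPt) = 4 :=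
    fixcard_eq_mod (hL y.2) (Or.inl rfl) hy5'
  have hFy : F = Finset.univ.filter (fun r => (y : Equiv.Perm GolayPt) r = r) := by
    apply Finset.eq_of_subset_of_card_le
    · intro r hr
      rw [Finset.mem_filter]
      exact ⟨Finset.mem_univ _, hF y y.2 r hr⟩
    · rw [hFc]
      exact le_of_eq hyfix
  have hvv : (v : Equiv.Perm GolayPt) * v = 1 := by
    rw [← pow_two, ← hv2']
    exact pow_orderOf_eq_one _
  have hv1 : (v : Equiv.Perm GolayPt) ≠ 1 := by
    intro e
    rw [e, orderOf_one] at hv2'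
    norm_num at hv2'
  obtain ⟨a, ha⟩ : F.Nonempty := Finset.card_pos.1 (by rw [hFc]; norm_num)
  have hv8 : fixcard (v : Equiv.Perm GolayPt) = 8 := by
    rcases inv_fix_cases (hL v.2) hvv hv1 with h | h
    · exact h
    · exfalso
      unfold fixcard at h
      rw [Finset.card_eq_zero] at h
      have hmem : a ∈ Finset.univ.filter (fun r => (v : Equiv.Perm GolayPt) r = r) := by
        rw [Finset.mem_filter]
        exact ⟨Finset.mem_univ _, hF v v.2 a ha⟩
      rw [h] at hmem
      exact absurd hmem (Finset.notMem_empty _)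
  have hAinv : ∀ b, (y : Equiv.Perm GolayPt) b ∈
      Finset.univ.filter (fun r => (v : Equiv.Perm GolayPt) r = r) ↔
      b ∈ Finset.univ.filter (fun r => (v : Equiv.Perm GolayPt) r = r) := by
    intro b
    simp only [Finset.mem_filter, Finset.mem_univ, true_and]
    have := congrArg (fun f : Equiv.Perm GolayPt => f b) hcomm
    simp only [Equiv.Perm.mul_apply] at this
    rw [← this]
    exact (y : Equiv.Perm GolayPt).injective.eq_iff
  have : Fact (Nat.Prime 5) := ⟨by norm_num⟩
  have hmod := card_modEq_card_fixed (y : Equiv.Perm GolayPt) (p := 5) (n := 1)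
    (pow_prime_eq_one hy5') _ hAinv
  have hfil : (Finset.univ.filter (fun r => (v : Equiv.Perm GolayPt) r = r)).filter
      (fun b => (y : Equiv.Perm GolayPt) b = b) =
      Finset.univ.filter (fun r => (y : Equiv.Perm GolayPt) r = r) := by
    ext r
    simp only [Finset.mem_filter, Finset.mem_univ, true_and]
    constructor
    · exact fun h => h.2
    · intro h
      refine ⟨?_, h⟩
      apply hF v v.2
      rw [hFy, Finset.mem_filter]
      exact ⟨Finset.mem_univ _, h⟩
  rw [hfil] at hmod
  have h8 : (Finset.univ.filter (fun r => (v : Equiv.Perm GolayPt) r = r)).card = 8 := hv8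
  have h4 : (Finset.univ.filter (fun r => (y : Equiv.Perm GolayPt) r = r)).card = 4 := hyfix
  rw [h8, h4] at hmod
  unfold Nat.ModEq at hmod
  omega

/-! ### Transitivity -/

theorem exists_map3 {a b c c' : GolayPt} (hab : a ≠ b) (hac : a ≠ c) (hbc : b ≠ c)
    (hac' : a ≠ c') (hbc' : b ≠ c') : ∃ g ∈ M24, g a = a ∧ g b = b ∧ g c = c' := by
  obtain ⟨d, hda, hdb, hdc, _⟩ := exists_ne4 a b c c
  obtain ⟨e, hea, heb, hec, hed⟩ := exists_ne4 a b c d
  obtain ⟨d', hda', hdb', hdc', _⟩ := exists_ne4 a b c' c'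
  obtain ⟨e', hea', heb', hec', hed'⟩ := exists_ne4 a b c' d'
  have hq := list5_inj (a := a) (b := b) (c := c) (d := d) (e := e) hab hac (Ne.symm hda)
    (Ne.symm hea) hbc (Ne.symm hdb) (Ne.symm heb) (Ne.symm hdc) (Ne.symm hec) (Ne.symm hed)
  have hq' := list5_inj (a := a) (b := b) (c := c') (d := d') (e := e') hab hac' (Ne.symm hda')
    (Ne.symm hea') hbc' (Ne.symm hdb') (Ne.symm heb') (Ne.symm hdc') (Ne.symm hec') (Ne.symm hed')
  obtain ⟨u, hu, huq⟩ := exists_M24_map _ hq 5 (le_refl 5)
  obtain ⟨u', hu', huq'⟩ := exists_M24_map _ hq' 5 (le_refl 5)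
  refine ⟨u' * u⁻¹, M24.mul_mem hu' (M24.inv_mem hu), ?_, ?_, ?_⟩
  · have h1 : u (P 0) = a := huq 0 (by norm_num)
    have h2 : u' (P 0) = a := huq' 0 (by norm_num)
    rw [Equiv.Perm.mul_apply, ← h1]
    simpa using h2.trans h1.symm
  · have h1 : u (P 1) = b := huq 1 (by norm_num)
    have h2 : u' (P 1) = b := huq' 1 (by norm_num)
    rw [Equiv.Perm.mul_apply, ← h1]
    simpa using h2.trans h1.symm
  · have h1 : u (P 2) = c := huq 2 (by norm_num)
    have h2 : u' (P 2) = c' := huq' 2 (by norm_num)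
    rw [Equiv.Perm.mul_apply, ← h1]
    simpa using h2

theorem exists_map2 {a b b' : GolayPt} (hab : a ≠ b) (hab' : a ≠ b') :
    ∃ g ∈ M24, g a = a ∧ g b = b' := by
  obtain ⟨z, hza, hzb, hzb'⟩ := exists_ne3 a b b'
  obtain ⟨g, hg, _, h2, h3⟩ := exists_map3 (a := z) (b := a) (c := b) (c' := b') hza hzb hab
    hzb' hab'
  exact ⟨g, hg, h2, h3⟩

theorem exists_map1 (a b : GolayPt) : ∃ g ∈ M24, g a = b := by
  by_cases h : a = b
  · exact ⟨1, M24.one_mem, h⟩
  · obtain ⟨z, hza, hzb, _⟩ := exists_ne3 a b b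
    obtain ⟨g, hg, _, h2⟩ := exists_map2 (a := z) (b := a) (b' := b) hza hzb
    exact ⟨g, hg, h2⟩

theorem orb_M24 (a : GolayPt) : orb M24 a = Finset.univ := by
  ext b
  rw [mem_orb]
  simp only [Finset.mem_univ, iff_true]
  exact exists_map1 a b

theorem card_stab_pt (a : GolayPt) : Nat.card ↥(M24 ⊓ stab a) = 10200960 := by
  have h := card_eq_orb_mul M24 a
  rw [orb_M24, card_pts, card_M24] at h
  unfold stab
  omega

theorem orb_stab {a b : GolayPt} (hab : a ≠ b) : orb (M24 ⊓ stab a) b = Finset.univ.erase a := by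
  ext c
  rw [mem_orb, Finset.mem_erase]
  simp only [Finset.mem_univ, and_true]
  constructor
  · rintro ⟨g, hg, rfl⟩ e
    have hga : g a = a := mem_stab.1 hg.2
    rw [← hga] at e
    exact hab (g.injective e).symm
  · intro hca
    obtain ⟨g, hg, h1, h2⟩ := exists_map2 (a := a) (b := b) (b' := c) hab (Ne.symm hca)
    exact ⟨g, ⟨hg, mem_stab.2 h1⟩, h2⟩

theorem card_stab_pt2 {a b : GolayPt} (hab : a ≠ b) :
    Nat.card ↥(M24 ⊓ stab a ⊓ stab b) = 443520 := by
  have h := card_eq_orb_mul (M24 ⊓ stab a) b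
  rw [orb_stab hab, Finset.card_erase_of_mem (Finset.mem_univ _), card_pts, card_stab_pt] at h
  unfold stab at h ⊢
  omega

/-! ### Subgroups of index 24 in `M24` -/

theorem fix_insert {H : Subgroup (Equiv.Perm GolayPt)} {F : Finset GolayPt}
    (hF : ∀ h ∈ H, ∀ r ∈ F, h r = r) (c : GolayPt) :
    ∀ h ∈ H ⊓ stab c, ∀ r ∈ insert c F, h r = r := by
  intro h hh r hr
  rw [Finset.mem_insert] at hr
  rcases hr with rfl | hr
  · exact mem_stab.1 hh.2
  · exact hF h hh.1 r hr

theorem fix_singleton (K : Subgroup (Equiv.Perm GolayPt)) (a : GolayPt) :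
    ∀ h ∈ K ⊓ stab a, ∀ r ∈ ({a} : Finset GolayPt), h r = r := by
  intro h hh r hr
  rw [Finset.mem_singleton] at hr
  rw [hr]
  exact mem_stab.1 hh.2

theorem orb_card_le (K : Subgroup (Equiv.Perm GolayPt)) (a : GolayPt) : (orb K a).card ≤ 24 := by
  rw [← card_pts]
  exact Finset.card_le_card (Finset.subset_univ _)

theorem le_stab_of_orb_card {K : Subgroup (Equiv.Perm GolayPt)} {a : GolayPt}
    (h1 : (orb K a).card = 1) : K ≤ stab a := by
  intro k hk
  rw [mem_stab]
  obtain ⟨e, he⟩ := Finset.card_eq_one.1 h1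
  have h1' : a ∈ orb K a := self_mem_orb K a
  have h2' : k a ∈ orb K a := mem_orb.2 ⟨k, hk, rfl⟩
  rw [he, Finset.mem_singleton] at h1' h2'
  rw [h2', h1']

/-- The transitive case is impossible. -/
theorem not_transitive {K : Subgroup (Equiv.Perm GolayPt)} (hK : K ≤ M24)
    (hcard : Nat.card K = 10200960) (a : GolayPt) (h24 : (orb K a).card = 24) : False := by
  have c0 := card_eq_orb_mul K a
  rw [h24, hcard] at c0
  have hK1card : Nat.card ↥(K ⊓ stab a) = 425040 := by unfold stab; omega
  have hK1 : K ⊓ stab a ≤ M24 := fun k hk => hK hk.1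
  have hF1 := fix_singleton K a
  obtain ⟨b, hba, _⟩ := exists_ne3 a a a
  have hb : b ∉ ({a} : Finset GolayPt) := by rw [Finset.mem_singleton]; exact hba
  have m1 := orb_mod_le hK1 {a} hF1 b hb (p := 23) (by right; right; right; rfl)
    (by rw [hK1card]; norm_num)
  have a1 := orb_add_le {a} hF1 b hb
  have p1 := orb_card_pos (K ⊓ stab a) b
  rw [Finset.card_singleton] at m1 a1
  have hB : (orb (K ⊓ stab a) b).card = 23 := by omega
  have c1 := card_eq_orb_mul (K ⊓ stab a) b
  rw [hB, hK1card] at c1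
  have hK2card : Nat.card ↥(K ⊓ stab a ⊓ stab b) = 18480 := by unfold stab at c1 ⊢; omega
  have hK2 : K ⊓ stab a ⊓ stab b ≤ M24 := fun k hk => hK1 hk.1
  have hF2 := fix_insert hF1 b
  have hF2c : (insert b ({a} : Finset GolayPt)).card = 2 := by
    rw [Finset.card_insert_of_notMem hb, Finset.card_singleton]
  obtain ⟨c, hca, hcb, _⟩ := exists_ne3 a b b
  have hc : c ∉ insert b ({a} : Finset GolayPt) := by
    rw [Finset.mem_insert, Finset.mem_singleton]
    rintro (h | h)
    · exact hcb h
    · exact hca h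
  have m2 := orb_mod_le hK2 _ hF2 c hc (p := 11) (by right; right; left; rfl)
    (by rw [hK2card]; norm_num)
  have m2' := orb_mod_le hK2 _ hF2 c hc (p := 7) (by right; left; rfl)
    (by rw [hK2card]; norm_num)
  have a2 := orb_add_le _ hF2 c hc
  have p2 := orb_card_pos (K ⊓ stab a ⊓ stab b) c
  rw [hF2c] at m2 m2' a2
  have hC : (orb (K ⊓ stab a ⊓ stab b) c).card = 22 := by omega
  have c2 := card_eq_orb_mul (K ⊓ stab a ⊓ stab b) c
  rw [hC, hK2card] at c2
  have hK3card : Nat.card ↥(K ⊓ stab a ⊓ stab b ⊓ stab c) = 840 := by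
    unfold stab at c2 ⊢; omega
  have hK3 : K ⊓ stab a ⊓ stab b ⊓ stab c ≤ M24 := fun k hk => hK2 hk.1
  have hF3 := fix_insert hF2 c
  have hF3c : (insert c (insert b ({a} : Finset GolayPt))).card = 3 := by
    rw [Finset.card_insert_of_notMem hc, hF2c]
  obtain ⟨d, hda, hdb, hdc⟩ := exists_ne3 a b c
  have hd : d ∉ insert c (insert b ({a} : Finset GolayPt)) := by
    rw [Finset.mem_insert, Finset.mem_insert, Finset.mem_singleton]
    rintro (h | h | h)
    · exact hdc h
    · exact hdb h
    · exact hda h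
  have m3 := orb_mod_le hK3 _ hF3 d hd (p := 7) (by right; left; rfl)
    (by rw [hK3card]; norm_num)
  have m3' := orb_mod_le hK3 _ hF3 d hd (p := 5) (by left; rfl)
    (by rw [hK3card]; norm_num)
  have a3 := orb_add_le _ hF3 d hd
  have p3 := orb_card_pos (K ⊓ stab a ⊓ stab b ⊓ stab c) d
  rw [hF3c] at m3 m3' a3
  have hD7 : (orb (K ⊓ stab a ⊓ stab b ⊓ stab c) d).card = 7 ∨
      (orb (K ⊓ stab a ⊓ stab b ⊓ stab c) d).card = 14 ∨
      (orb (K ⊓ stab a ⊓ stab b ⊓ stab c) d).card = 21 := by omega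
  have hD : (orb (K ⊓ stab a ⊓ stab b ⊓ stab c) d).card = 21 := by
    rcases hD7 with h | h | h
    · rw [h] at m3'; omega
    · rw [h] at m3'; omega
    · exact h
  have c3 := card_eq_orb_mul (K ⊓ stab a ⊓ stab b ⊓ stab c) d
  rw [hD, hK3card] at c3
  have hK4card : Nat.card ↥(K ⊓ stab a ⊓ stab b ⊓ stab c ⊓ stab d) = 40 := by
    unfold stab at c3 ⊢; omega
  have hK4 : K ⊓ stab a ⊓ stab b ⊓ stab c ⊓ stab d ≤ M24 := fun k hk => hK3 hk.1
  have hF4 := fix_insert hF3 d
  have hF4c : (insert d (insert c (insert b ({a} : Finset GolayPt)))).card = 4 := by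
    rw [Finset.card_insert_of_notMem hd, hF3c]
  exact not_card_40 hK4 _ hF4c hF4 hK4card

/-- A subgroup of `M24` of index 24 is a point stabiliser. -/
theorem eq_stab_of_card {K : Subgroup (Equiv.Perm GolayPt)} (hK : K ≤ M24)
    (hcard : Nat.card K = 10200960) : ∃ a, K = M24 ⊓ stab a := by
  have : Fact (Nat.Prime 23) := ⟨by norm_num⟩
  obtain ⟨x, hxK, hx23⟩ := exists_mem_orderOf_eq K 23 (by rw [hcard]; norm_num)
  have hfix : fixcard x = 1 := fixcard_eq_mod (hK hxK) (Or.inr (Or.inr (Or.inr rfl))) hx23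
  obtain ⟨a, ha⟩ := Finset.card_eq_one.1 hfix
  have hxa : x a = a := by
    have : a ∈ Finset.univ.filter (fun r => x r = r) := by
      rw [ha]; exact Finset.mem_singleton_self a
    exact (Finset.mem_filter.1 this).2
  have hmod := card_modEq_card_fixed x (pow_prime_eq_one hx23) (orb K a) (map_mem_orb_iff hxK)
  have hfil : (orb K a).filter (fun b => x b = b) = {a} := by
    ext r
    rw [Finset.mem_filter, Finset.mem_singleton]
    constructor
    · rintro ⟨_, hr⟩
      have : r ∈ Finset.univ.filter (fun r => x r = r) := by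
        rw [Finset.mem_filter]; exact ⟨Finset.mem_univ _, hr⟩
      rw [ha] at this
      exact Finset.mem_singleton.1 this
    · rintro rfl
      exact ⟨self_mem_orb K r, hxa⟩
  rw [hfil, Finset.card_singleton] at hmod
  unfold Nat.ModEq at hmod
  have hle := orb_card_le K a
  have hpos := orb_card_pos K a
  have hcases : (orb K a).card = 1 ∨ (orb K a).card = 24 := by omega
  rcases hcases with h1 | h24
  · refine ⟨a, ?_⟩
    apply Subgroup.eq_of_le_of_card_ge
    · intro k hk
      exact ⟨hK hk, le_stab_of_orb_card h1 hk⟩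
    · rw [card_stab_pt, hcard]
  · exact absurd (not_transitive hK hcard a h24) id

/-! ### Subgroups of index 23 in `M23` -/

theorem eq_stab_of_card_M23 {K : Subgroup (Equiv.Perm GolayPt)} (hK : K ≤ M24 ⊓ stab none)
    (hcard : Nat.card K = 443520) : ∃ a, a ≠ none ∧ K = M24 ⊓ stab none ⊓ stab a := by
  have : Fact (Nat.Prime 11) := ⟨by norm_num⟩
  have hK' : K ≤ M24 := fun k hk => (hK hk).1
  obtain ⟨y, hyK, hy11⟩ := exists_mem_orderOf_eq K 11 (by rw [hcard]; norm_num)
  have hfix : fixcard y = 2 := fixcard_eq_mod (hK' hyK) (by right; right; left; rfl) hy11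
  obtain ⟨u, v, huv, huvF⟩ := Finset.card_eq_two.1 hfix
  have hinf : (none : GolayPt) ∈ Finset.univ.filter (fun r => y r = r) := by
    rw [Finset.mem_filter]; exact ⟨Finset.mem_univ _, mem_stab.1 (hK hyK).2⟩
  obtain ⟨a, hane, hFa⟩ : ∃ a, a ≠ none ∧
      Finset.univ.filter (fun r => y r = r) = {none, a} := by
    rw [huvF] at hinf ⊢
    rw [Finset.mem_insert, Finset.mem_singleton] at hinf
    rcases hinf with h | h
    · exact ⟨v, by rw [h]; exact Ne.symm huv, by rw [h]⟩
    · exact ⟨u, by rw [h]; exact huv, by rw [h, Finset.pair_comm]⟩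
  have hF : ∀ h ∈ K, ∀ r ∈ ({none} : Finset GolayPt), h r = r := by
    intro h hh r hr
    rw [Finset.mem_singleton] at hr
    rw [hr]
    exact mem_stab.1 (hK hh).2
  have ha : a ∉ ({none} : Finset GolayPt) := by rw [Finset.mem_singleton]; exact hane
  have hmod := card_modEq_card_fixed y (pow_prime_eq_one hy11) (orb K a) (map_mem_orb_iff hyK)
  have hya : y a = a := by
    have : a ∈ Finset.univ.filter (fun r => y r = r) := by
      rw [hFa]; simp
    exact (Finset.mem_filter.1 this).2
  have hfil : (orb K a).filter (fun b => y b = b) = {a} := by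
    ext r
    rw [Finset.mem_filter, Finset.mem_singleton]
    constructor
    · rintro ⟨hrA, hr⟩
      have : r ∈ Finset.univ.filter (fun r => y r = r) := by
        rw [Finset.mem_filter]; exact ⟨Finset.mem_univ _, hr⟩
      rw [hFa, Finset.mem_insert, Finset.mem_singleton] at this
      rcases this with h | h
      · exfalso
        have hd := orb_disjoint {none} hF a ha
        rw [Finset.disjoint_left] at hd
        exact hd hrA (by rw [h]; exact Finset.mem_singleton_self _)
      · exact h
    · rintro rfl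
      exact ⟨self_mem_orb K r, hya⟩
  rw [hfil, Finset.card_singleton] at hmod
  unfold Nat.ModEq at hmod
  have m7 := orb_mod_le hK' {none} hF a ha (p := 7) (by right; left; rfl)
    (by rw [hcard]; norm_num)
  have a7 := orb_add_le {none} hF a ha
  have hpos := orb_card_pos K a
  rw [Finset.card_singleton] at m7 a7
  have c0 := card_eq_orb_mul K a
  rw [hcard] at c0
  have hcases : (orb K a).card = 1 ∨ (orb K a).card = 23 := by omega
  rcases hcases with h1 | h23
  · refine ⟨a, hane, ?_⟩
    apply Subgroup.eq_of_le_of_card_ge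
    · intro k hk
      exact ⟨hK hk, le_stab_of_orb_card h1 hk⟩
    · rw [card_stab_pt2 (Ne.symm hane), hcard]
  · exfalso
    rw [h23] at c0
    omega

/-! ### Octads are the fixed point sets of the involutions with a fixed point -/

theorem H5_inv_fix : H5list.all (fun S => !(invF (papp S)) || idF (papp S) ||
    (List.range 24).all (fun i => (Nat.beq (papp S i) i) == (Nat.testBit 5279 i))) = true := by
  decide +kernel

/-- An involution fixing the first five points has the base octad as its set of fixed points. -/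
theorem fix_iff_of_mem_Hfix31 {s : Equiv.Perm GolayPt} (hs : s ∈ Hfix 31) (h2 : s * s = 1)
    (h1 : s ≠ 1) (p : GolayPt) : s p = p ↔ p ∈ O0 := by
  obtain ⟨S, hS, rfl⟩ := H5_complete hs
  have hSok := List.all_eq_true.1 H5_ok S hS
  rw [Bool.and_eq_true] at hSok
  have hperm := isPerm_of_isAutC hSok.1
  have hf : ∀ p, ((ptIdx (permC S p) : Fin 24) : ℕ) = papp S (ptIdx p) := ptIdx_permC hperm
  have hchk := List.all_eq_true.1 H5_inv_fix S hS
  have hinv : invF (papp S) = true := involution_chk hf h2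
  rw [hinv] at hchk
  simp only [Bool.not_true, Bool.false_or, Bool.or_eq_true] at hchk
  rcases hchk with hid | hfix
  · exact absurd (eq_one_of_idF hf hid) h1
  · have hb := List.all_eq_true.1 hfix (ptIdx p) (List.mem_range.2 (ptIdx p).isLt)
    rw [beq_iff_eq] at hb
    unfold O0
    rw [mem_fset, ← hb]
    constructor
    · intro h
      have h3 := hf p
      rw [h] at h3
      rw [← h3]
      exact Nat.beq_refl _
    · intro h3
      apply ptEquiv.injective
      show ptIdx _ = ptIdx _
      apply Fin.ext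
      rw [hf]
      exact Nat.eq_of_beq_eq_true h3

/-- The set of fixed points of an involution of `M24` with a fixed point is an octad. -/
theorem fix_mem_octads {s : Equiv.Perm GolayPt} (hs : s ∈ M24) (h2 : s * s = 1) (h1 : s ≠ 1)
    {a : GolayPt} (ha : s a = a) : Finset.univ.filter (fun p => s p = p) ∈ octads := by
  have h8 : fixcard s = 8 := by
    rcases inv_fix_cases hs h2 h1 with h | h
    · exact h
    · exfalso
      unfold fixcard at h
      rw [Finset.card_eq_zero] at h
      have hmem : a ∈ Finset.univ.filter (fun r => s r = r) := by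
        rw [Finset.mem_filter]
        exact ⟨Finset.mem_univ _, ha⟩
      rw [h] at hmem
      exact absurd hmem (Finset.notMem_empty _)
  have h5 : 5 ≤ (Finset.univ.filter fun r => s r = r).card := by
    have : (Finset.univ.filter fun r => s r = r).card = 8 := h8
    omega
  obtain ⟨t, ht, htc⟩ := Finset.exists_subset_card_eq h5
  let e := Finset.equivFinOfCardEq htc
  have hq : Function.Injective (fun i : Fin 5 => ((e.symm i : ↥t) : GolayPt)) :=
    fun i j h => e.symm.injective (Subtype.ext h)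
  have hfix : ∀ i : Fin 5, s ((e.symm i : ↥t) : GolayPt) = ((e.symm i : ↥t) : GolayPt) := by
    intro i
    have := ht (e.symm i).2
    rw [Finset.mem_filter] at this
    exact this.2
  obtain ⟨u, hu, huq⟩ := exists_M24_map
    (fun i => if h : i < 5 then ((e.symm ⟨i, h⟩ : ↥t) : GolayPt) else ((e.symm 0 : ↥t) : GolayPt))
    (by
      intro i j hi hj h
      simp only [hi, hj, dite_true] at h
      exact Fin.mk.inj_iff.1 (hq h)) 5 (le_refl 5)
  have hmem : u⁻¹ * s * u ∈ Hfix 31 := by
    apply mem_Hfix_31 (conj_mem hu hs)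
    intro i hi
    have h1 := huq i hi
    simp only [hi, dite_true] at h1
    rw [Equiv.Perm.mul_apply, Equiv.Perm.mul_apply, h1, hfix, ← h1]
    simp
  have hne : u⁻¹ * s * u ≠ 1 := by
    intro e1
    apply h1
    have : s = u * (u⁻¹ * s * u) * u⁻¹ := by group
    rw [this, e1]
    group
  have key := fix_iff_of_mem_Hfix31 hmem (conj_sq h2) hne
  have heq : Finset.univ.filter (fun p => s p = p) = u • O0 := by
    ext p
    rw [Finset.mem_filter, ← Finset.inv_smul_mem_iff, ← key]
    simp only [Finset.mem_univ, true_and, Equiv.Perm.mul_apply, Equiv.Perm.smul_def]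
    constructor
    · intro h
      simp [h]
    · intro h
      have := congrArg u h
      simpa using this
  rw [heq]
  exact smul_mem_octads_of_mem_M24 hu O0_mem

/-- Every octad is the set of fixed points of an involution of `M24`. -/
theorem exists_inv_fix_eq {O : Finset GolayPt} (hO : O ∈ octads) :
    ∃ t ∈ M24, t * t = 1 ∧ t ≠ 1 ∧ ∀ p, t p = p ↔ p ∈ O := by
  obtain ⟨g, hg, rfl⟩ := exists_smul_O0_eq hO
  refine ⟨g * permC Zc * g⁻¹, M24.mul_mem (M24.mul_mem hg (permC_mem_M24 Zc_ok.1))
    (M24.inv_mem hg), ?_, ?_, ?_⟩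
  · have : g * permC Zc * g⁻¹ * (g * permC Zc * g⁻¹) = g * (permC Zc * permC Zc) * g⁻¹ := by group
    rw [this, Zc_sq]
    group
  · intro e1
    apply Zc_ne_one
    have : permC Zc = g⁻¹ * (g * permC Zc * g⁻¹) * g := by group
    rw [this, e1]
    group
  · intro p
    rw [← Finset.inv_smul_mem_iff, ← Zc_fix_iff]
    simp only [Equiv.Perm.mul_apply, Equiv.Perm.smul_def]
    constructor
    · intro h
      have := congrArg (g⁻¹ : Equiv.Perm GolayPt) h
      simpa using this
    · intro h
      rw [h]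
      simp

/-! ### Permutations preserving the octads through the extra point -/

def octPairs : List (ℕ × ℕ) :=
  [(8391797, 8394986), (8391797, 8398155), (8391797, 8407702), (8391797, 8421811),
   (8391797, 8455014), (8391797, 8521420), (8391797, 8654232), (8394986, 8919856),
   (8391797, 9440193), (8391797, 10486557), (8391797, 12584506)]

def goodOct (o : ℕ) : Bool :=
  Nat.blt o 16777216 && isCodeF o && Nat.beq (popcF o) 8 && Nat.testBit o 23

theorem goodOct_spec {o : ℕ} (h : goodOct o = true) : fset o ∈ octads ∧ none ∈ fset o := by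
  unfold goodOct at h
  simp only [Bool.and_eq_true] at h
  obtain ⟨⟨⟨h1, h2⟩, h3⟩, h4⟩ := h
  refine ⟨fset_mem_octads (by simpa using h1) h2 (Nat.eq_of_beq_eq_true h3), ?_⟩
  rw [mem_fset]
  exact h4

theorem basis_decomp : basisList.all (fun b =>
    if Nat.testBit b 23 then goodOct b
    else octPairs.any (fun x => goodOct x.1 && goodOct x.2 && Nat.beq (x.1 ^^^ x.2) b)) = true := by
  decide +kernel

theorem fset_xor {m m' : ℕ} (hm : m < 2 ^ 24) (hm' : m' < 2 ^ 24) :
    fset (m ^^^ m') = symmDiff (fset m) (fset m') := by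
  rw [← fset_fmask (symmDiff (fset m) (fset m')), fmask_symmDiff, fmask_fset _ hm,
    fmask_fset _ hm']

theorem goodOct_lt {o : ℕ} (h : goodOct o = true) : o < 2 ^ 24 := by
  unfold goodOct at h
  simp only [Bool.and_eq_true] at h
  have := h.1.1.1
  simpa using this

/-- A permutation mapping every octad through the extra point to an octad lies in `M24`. -/
theorem mem_M24_of_octads (π : Equiv.Perm GolayPt)
    (h : ∀ O ∈ octads, none ∈ O → π • O ∈ octads) : π ∈ M24 := by
  show π ∈ MulAction.stabilizer (Equiv.Perm GolayPt)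
    (supports (golayCode : Set (GolayPt → ZMod 2)))
  rw [MulAction.mem_stabilizer_set' (Set.toFinite _)]
  intro β hβ
  apply smul_mem_supports_of_basis π _ β hβ
  intro b hb
  have hchk := List.all_eq_true.1 basis_decomp b hb
  by_cases h23 : Nat.testBit b 23 = true
  · rw [if_pos h23] at hchk
    obtain ⟨ho, hn⟩ := goodOct_spec hchk
    exact (h _ ho hn).1
  · rw [if_neg h23, List.any_eq_true] at hchk
    obtain ⟨x, _, hx⟩ := hchk
    simp only [Bool.and_eq_true] at hx
    obtain ⟨⟨hx1, hx2⟩, hx3⟩ := hx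
    have hb' : b = x.1 ^^^ x.2 := (Nat.eq_of_beq_eq_true hx3).symm
    obtain ⟨ho1, hn1⟩ := goodOct_spec hx1
    obtain ⟨ho2, hn2⟩ := goodOct_spec hx2
    rw [hb', fset_xor (goodOct_lt hx1) (goodOct_lt hx2), Finset.smul_finset_symmDiff]
    exact symmDiff_mem_supports (h _ ho1 hn1).1 (h _ ho2 hn2).1

/-- A permutation conjugating the elements of `M24` fixing the extra point into `M24` lies in
`M24`. -/
theorem mem_M24_of_normalizes (τ : Equiv.Perm GolayPt)
    (hτ : ∀ t ∈ M24, t none = none → τ * t * τ⁻¹ ∈ M24) : τ ∈ M24 := by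
  apply mem_M24_of_octads
  intro O hO hnone
  obtain ⟨t, ht, htt, ht1, hfix⟩ := exists_inv_fix_eq hO
  have hs := hτ t ht ((hfix none).2 hnone)
  have hss : τ * t * τ⁻¹ * (τ * t * τ⁻¹) = 1 := by
    have : τ * t * τ⁻¹ * (τ * t * τ⁻¹) = τ * (t * t) * τ⁻¹ := by group
    rw [this, htt]
    group
  have hs1 : τ * t * τ⁻¹ ≠ 1 := by
    intro e1
    apply ht1
    have : t = τ⁻¹ * (τ * t * τ⁻¹) * τ := by group
    rw [this, e1]
    group
  have hsfix : ∀ p, (τ * t * τ⁻¹) p = p ↔ p ∈ τ • O := by
    intro p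
    rw [← Finset.inv_smul_mem_iff, ← hfix]
    simp only [Equiv.Perm.mul_apply, Equiv.Perm.smul_def]
    constructor
    · intro h
      have := congrArg (τ⁻¹ : Equiv.Perm GolayPt) h
      simpa using this
    · intro h
      rw [h]
      simp
  have hfixed : (τ * t * τ⁻¹) (τ none) = τ none := by
    rw [hsfix]
    exact Finset.smul_mem_smul_finset hnone
  have hoct := fix_mem_octads hs hss hs1 hfixed
  have heq : Finset.univ.filter (fun p => (τ * t * τ⁻¹) p = p) = τ • O := by
    ext p
    rw [Finset.mem_filter, hsfix]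
    simp
  rw [heq] at hoct
  exact hoct

end Cfsg.Agent.Lib.Helper93.M24Fix
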