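import Cfsg.Agent.Lib.Helper93.Syl22Data
import Cfsg.Agent.Lib.Helper93.FusionCert
import Cfsg.Agent.Lib.Helper93.M24Fix
import Cfsg.Prelude.Def_Spor_Mathieu

set_option autoImplicit false

/-! A Sylow 2-subgroup `S0` of `M22` (and of `M23`): its order, its normalisers in `M22` and
`M23`, and the absence of proper non-trivial strongly closed subgroups. -/

namespace Cfsg.Agent.Lib.Helper93.Syl22

open Cfsg Cfsg.Agent.Lib.Helper93.Golay Cfsg.Agent.Lib.Helper93.Cent2A
open scoped Pointwise

/-! ### Membership in `M22` and `M23` -/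

theorem mem_M23 {g : Equiv.Perm GolayPt} : g ∈ Cfsg.Spor.M23 ↔ g ∈ M24 ∧ g none = none := by
  show g ∈ M24 ⊓ MulAction.stabilizer (Equiv.Perm GolayPt) (none : GolayPt) ↔ _
  rw [Subgroup.mem_inf, MulAction.mem_stabilizer_iff]
  rfl

theorem mem_M22 {g : Equiv.Perm GolayPt} :
    g ∈ Cfsg.Spor.M22 ↔ g ∈ M24 ∧ g none = none ∧ g (some 0) = some 0 := by
  show g ∈ Cfsg.Spor.M23 ⊓ MulAction.stabilizer (Equiv.Perm GolayPt) (some 0 : GolayPt) ↔ _
  rw [Subgroup.mem_inf, mem_M23, MulAction.mem_stabilizer_iff, and_assoc]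
  rfl

theorem M22_le_M23 : Cfsg.Spor.M22 ≤ Cfsg.Spor.M23 := fun _ hg => hg.1

theorem card_M22 : Nat.card Cfsg.Spor.M22 = 443520 :=
  M24Fix.card_stab_pt2 (a := none) (b := some 0) (by decide)

theorem card_M23 : Nat.card Cfsg.Spor.M23 = 10200960 := M24Fix.card_stab_pt none

def inM22 (c : ℕ) : Bool := isAutC c && Nat.beq (papp c 23) 23 && Nat.beq (papp c 0) 0

theorem P23_eq : P 23 = (none : GolayPt) := by decide
theorem P0_eq : P 0 = (some 0 : GolayPt) := by decide

theorem inM22_spec {c : ℕ} (h : inM22 c = true) : isPerm c = true ∧ permC c ∈ Cfsg.Spor.M22 := by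
  unfold inM22 at h
  simp only [Bool.and_eq_true] at h
  obtain ⟨⟨h1, h2⟩, h3⟩ := h
  have hp := isPerm_of_isAutC h1
  refine ⟨hp, mem_M22.2 ⟨permC_mem_M24 h1, ?_, ?_⟩⟩
  · have := permC_ptOf hp 23 (by norm_num) 23 (by norm_num) (Nat.eq_of_beq_eq_true h2)
    rw [← P23_eq]
    exact this
  · have := permC_ptOf hp 0 (by norm_num) 0 (by norm_num) (Nat.eq_of_beq_eq_true h3)
    rw [← P0_eq]
    exact this

/-! ### The Sylow subgroup -/

def S0 : Subgroup (Equiv.Perm GolayPt) :=
  Cfsg.Spor.M22 ⊓ MulAction.stabilizer (Equiv.Perm GolayPt) (encFam.dec rhoCode)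

def sylGens : List ℕ := chainGens sylLevels

def inS0 (c : ℕ) : Bool := inM22 c && beqL (actL c rhoCode) rhoCode

theorem rho_canon : canonL rhoCode = true := by decide +kernel

theorem rho_small : encFam.small rhoCode := fun _ hm => canonL_lt rho_canon hm

theorem inS0_spec {c : ℕ} (h : inS0 c = true) : isPerm c = true ∧ permC c ∈ S0 := by
  unfold inS0 at h
  rw [Bool.and_eq_true] at h
  obtain ⟨hp, hm⟩ := inM22_spec h.1
  refine ⟨hp, hm, ?_⟩
  show permC c ∈ MulAction.stabilizer (Equiv.Perm GolayPt) (encFam.dec rhoCode)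
  rw [MulAction.mem_stabilizer_iff, encFam.act_spec c hp rhoCode rho_small]
  exact congrArg encFam.dec (beqL_eq _ _ h.2)

set_option maxRecDepth 1000000 in
theorem targets_canon : rhoTargets.all canonL = true := by decide +kernel

/-- a key for sorting families -/
def famKey (l : List ℕ) : ℕ := l.foldl (fun acc m => acc <<< 24 ||| m) 0

set_option maxRecDepth 1000000 in
theorem targets_chain : chainLt (rhoTargets.map famKey) = true := by decide +kernel

theorem targets_nodup : rhoTargets.Nodup :=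
  List.Nodup.of_map famKey (nodup_of_chainLt targets_chain)

theorem m22Gens_ok : m22Gens.all inM22 = true := by decide +kernel

set_option maxRecDepth 1000000 in
theorem rho_reach : encFam.reachOK m22Gens rhoCode rhoTargets rhoWords = true := by
  decide +kernel

theorem sylGens_ok : sylGens.all inS0 = true := by decide +kernel

set_option maxRecDepth 1000000 in
theorem syl_prod : rhoTargets.length * chainProd 0 sylLevels = 443520 := by decide +kernel

theorem chainProd_syl : chainProd 0 sylLevels = 128 := by decide +kernel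

theorem S0_facts :
    S0 = genSubgroup sylGens ∧ Nat.card S0 = chainProd 0 sylLevels ∧
      Nat.card Cfsg.Spor.M22 = 443520 ∧
      ∀ h ∈ Cfsg.Spor.M22, ∃ b ∈ rhoTargets, encFam.dec b = h • encFam.dec rhoCode :=
  rel_stab_eq_gen encFam Cfsg.Spor.M22 443520 (le_of_eq card_M22) m22Gens
    (fun S hS => inM22_spec (List.all_eq_true.1 m22Gens_ok S hS))
    rhoCode rho_small rhoTargets targets_nodup
    (fun b hb => List.all_eq_true.1 targets_canon b hb) rhoWords rho_reach sylLevels
    (fun S hS => by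
      have h := List.all_eq_true.1 sylGens_ok S hS
      have hs := inS0_spec h
      unfold inS0 at h
      rw [Bool.and_eq_true] at h
      exact ⟨hs.1, hs.2.1, h.2⟩)
    syl_prod (by norm_num)

theorem card_S0 : Nat.card S0 = 2 ^ 7 := by
  rw [S0_facts.2.1, chainProd_syl]
  norm_num

theorem S0_le_M22 : S0 ≤ Cfsg.Spor.M22 := fun _ hx => hx.1

theorem S0_le_M24 : S0 ≤ M24 := fun _ hx => (mem_M22.1 hx.1).1

instance : Finite S0 := Nat.finite_of_card_ne_zero (by rw [card_S0]; norm_num)

theorem sylGens_mem {s : ℕ} (hs : s ∈ sylGens) : isPerm s = true ∧ permC s ∈ S0 :=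
  inS0_spec (List.all_eq_true.1 sylGens_ok s hs)

/-! ### The normalisers -/

set_option maxRecDepth 1000000 in
theorem rho_unique : rhoTargets.all (fun t => beqL t rhoCode ||
    sylGens.any (fun s => !(beqL (actL s t) t))) = true := by decide +kernel

theorem normalizer_le {g : Equiv.Perm GolayPt} (hg : g ∈ Cfsg.Spor.M22)
    (hn : ∀ x ∈ S0, g * x * g⁻¹ ∈ S0) : g ∈ S0 := by
  have hn' := inv_conj_mem_of_conj_mem S0 g hn
  have hfixR : ∀ s ∈ sylGens, permC s • (g • encFam.dec rhoCode) = g • encFam.dec rhoCode := by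
    intro s hs
    have hk := hn' _ (sylGens_mem hs).2
    have hk' : (g⁻¹ * permC s * g) • encFam.dec rhoCode = encFam.dec rhoCode := hk.2
    have : permC s * g = g * (g⁻¹ * permC s * g) := by group
    rw [← mul_smul, this, mul_smul, hk']
  obtain ⟨b, hb, hbe⟩ := S0_facts.2.2.2 g hg
  have hbc : canonL b = true := List.all_eq_true.1 targets_canon b hb
  have hbs : encFam.small b := fun _ hm => canonL_lt hbc hm
  have hchk2 := List.all_eq_true.1 rho_unique b hb
  have hb_eq : b = rhoCode := by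
    rw [Bool.or_eq_true] at hchk2
    rcases hchk2 with h | h
    · exact beqL_eq _ _ h
    · exfalso
      rw [List.any_eq_true] at h
      obtain ⟨s, hs, hne⟩ := h
      have hsp := (sylGens_mem hs).1
      have h1 := encFam.act_spec s hsp b hbs
      rw [hbe, hfixR s hs, ← hbe] at h1
      have h2 : actL s b = b :=
        (encFam.dec_inj b (actL s b) hbc (canonL_actL hsp hbc) h1).symm
      rw [h2, beqL_refl] at hne
      simp at hne
  refine ⟨hg, ?_⟩
  show g ∈ MulAction.stabilizer (Equiv.Perm GolayPt) (encFam.dec rhoCode)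
  rw [MulAction.mem_stabilizer_iff, ← hbe, hb_eq]

/-- the only points fixed by the Sylow subgroup are the two base points -/
theorem fixed_pts : (List.range 24).all (fun i => Nat.beq i 23 || Nat.beq i 0 ||
    sylGens.any (fun s => !(Nat.beq (papp s i) i))) = true := by decide +kernel

theorem normalizer_le_M23 {g : Equiv.Perm GolayPt} (hg : g ∈ Cfsg.Spor.M23)
    (hn : ∀ x ∈ S0, g * x * g⁻¹ ∈ S0) : g ∈ S0 := by
  have hn' := inv_conj_mem_of_conj_mem S0 g hn
  obtain ⟨hgM, hgn⟩ := mem_M23.1 hg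
  apply normalizer_le _ hn
  refine mem_M22.2 ⟨hgM, hgn, ?_⟩
  -- the point `g (some 0)` is fixed by all generators
  have hfix : ∀ s ∈ sylGens, permC s (g (some 0)) = g (some 0) := by
    intro s hs
    have hk := hn' _ (sylGens_mem hs).2
    have hk' : (g⁻¹ * permC s * g) (some 0) = some 0 := (mem_M22.1 hk.1).2.2
    have : permC s * g = g * (g⁻¹ * permC s * g) := by group
    rw [← Equiv.Perm.mul_apply, this, Equiv.Perm.mul_apply, hk']
  have hchk := List.all_eq_true.1 fixed_pts (ptIdx (g (some 0)))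
    (List.mem_range.2 (ptIdx (g (some 0))).isLt)
  simp only [Bool.or_eq_true] at hchk
  rcases hchk with (h | h) | h
  · exfalso
    have h1 : ((ptIdx (g (some 0)) : Fin 24) : ℕ) = 23 := Nat.eq_of_beq_eq_true h
    have h2 : g (some 0) = none := by
      rw [← P_ptIdx (g (some 0))]
      rw [← P23_eq]
      congr 1
    rw [← hgn] at h2
    exact absurd (g.injective h2) (by decide)
  · have h1 : ((ptIdx (g (some 0)) : Fin 24) : ℕ) = 0 := Nat.eq_of_beq_eq_true h
    rw [← P_ptIdx (g (some 0)), ← P0_eq]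
    congr 1
  · exfalso
    rw [List.any_eq_true] at h
    obtain ⟨s, hs, hne⟩ := h
    have h1 := ptIdx_permC (sylGens_mem hs).1 (g (some 0))
    rw [hfix s hs] at h1
    rw [← h1, Nat.beq_refl] at hne
    simp at hne

/-! ### Involutions of `M22` -/

set_option maxRecDepth 1000000 in
theorem oct77_complete : octList.all (fun o => !(Nat.testBit o 23 && Nat.testBit o 0) ||
    oct77.any (Nat.beq o)) = true := by decide +kernel

theorem oct77_reach : encSet.reachOK m22Gens ohMask oct77 oct77Words = true := by decide +kernel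

theorem cOh_ok : isAutC cOh = true ∧ pmask cOh 5279 = ohMask := by decide +kernel

theorem ohMask_lt : ohMask < 16777216 := by decide +kernel

theorem repR_ok : inS0 repR = true := by decide +kernel

theorem e15_ok : E15.all (fun S => e15Table.any (fun x => Nat.beq x.1 S &&
    eqW [cOh, S] [x.2.1, cOh] && inM22 x.2.2 && isPerm x.2.1 &&
    eqW [x.2.2, x.2.1] [repR, x.2.2])) = true := by decide +kernel

theorem E15_perm {S : ℕ} (hS : S ∈ E15) : isPerm S = true := by
  unfold E15 at hS
  rw [List.mem_filter] at hS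
  have := List.all_eq_true.1 H5_ok S hS.1
  rw [Bool.and_eq_true] at this
  exact isPerm_of_isAutC this.1

theorem perm_pair {a b : ℕ} (ha : isPerm a = true) (hb : isPerm b = true) :
    ∀ S ∈ [a, b], isPerm S = true := by
  intro S hS
  simp only [List.mem_cons, List.not_mem_nil, or_false] at hS
  rcases hS with rfl | rfl
  · exact ha
  · exact hb

/-- every involution of `M22` is conjugate in `M22` to the representative -/
theorem inv_conj_rep {t : Equiv.Perm GolayPt} (ht : t ∈ Cfsg.Spor.M22) (htt : t * t = 1)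
    (ht1 : t ≠ 1) : ∃ w ∈ Cfsg.Spor.M22, permC repR = w * t * w⁻¹ := by
  obtain ⟨htM, htn, ht0⟩ := mem_M22.1 ht
  have hF := M24Fix.fix_mem_octads htM htt ht1 htn
  set F : Finset GolayPt := Finset.univ.filter (fun p => t p = p) with hFdef
  have hnF : (none : GolayPt) ∈ F := by
    rw [hFdef, Finset.mem_filter]
    exact ⟨Finset.mem_univ _, htn⟩
  have h0F : (some 0 : GolayPt) ∈ F := by
    rw [hFdef, Finset.mem_filter]
    exact ⟨Finset.mem_univ _, ht0⟩
  have hmemL : fmask F ∈ octList := (fmask_mem_octList_iff _).2 hF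
  have hb23 : (fmask F).testBit 23 = true := by
    have := testBit_fmask F none
    rw [decide_eq_true hnF] at this
    exact this
  have hb0 : (fmask F).testBit 0 = true := by
    have := testBit_fmask F (some 0)
    rw [decide_eq_true h0F] at this
    exact this
  have hchk := List.all_eq_true.1 oct77_complete _ hmemL
  rw [hb23, hb0] at hchk
  simp only [Bool.and_self, Bool.not_true, Bool.false_or] at hchk
  have hmem77 : fmask F ∈ oct77 := mem_of_any_beq hchk
  obtain ⟨u, hu, hud⟩ := encSet.reach_spec m22Gens ohMask ohMask_lt Cfsg.Spor.M22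
    (fun S hS => inM22_spec (List.all_eq_true.1 m22Gens_ok S hS)) oct77 oct77Words oct77_reach
    (fmask F) hmem77
  have huF : u • fset ohMask = F := by
    have : encSet.dec (fmask F) = F := fset_fmask F
    rw [← this]
    exact hud
  -- `t1 = u⁻¹ t u` fixes the octad `fset ohMask` pointwise
  have ht1fix : ∀ p ∈ fset ohMask, (u⁻¹ * t * u) p = p := by
    intro p hp
    have h1 : u p ∈ F := by
      rw [← huF]
      exact Finset.smul_mem_smul_finset hp
    rw [hFdef, Finset.mem_filter] at h1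
    rw [Equiv.Perm.mul_apply, Equiv.Perm.mul_apply, h1.2]
    simp
  have hcp := isPerm_of_isAutC cOh_ok.1
  have hcO : permC cOh • fset 5279 = fset ohMask := by
    rw [permC_smul_fset hcp (by norm_num), cOh_ok.2]
  have hcM : permC cOh ∈ M24 := permC_mem_M24 cOh_ok.1
  have huM : u ∈ M24 := (mem_M22.1 hu).1
  have ht2 : (permC cOh)⁻¹ * (u⁻¹ * t * u) * permC cOh ∈ Hfix 5279 := by
    refine ⟨M24.mul_mem (M24.mul_mem (M24.inv_mem hcM)
      (M24.mul_mem (M24.mul_mem (M24.inv_mem huM) htM) huM)) hcM, ?_⟩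
    intro p hp
    have h1 : permC cOh p ∈ fset ohMask := by
      rw [← hcO]
      exact Finset.smul_mem_smul_finset hp
    rw [Equiv.Perm.mul_apply, Equiv.Perm.mul_apply, ht1fix _ h1]
    simp
  have ht2ne : (permC cOh)⁻¹ * (u⁻¹ * t * u) * permC cOh ≠ 1 := by
    intro e1
    apply ht1
    have : t = (u * permC cOh) * ((permC cOh)⁻¹ * (u⁻¹ * t * u) * permC cOh) *
        (u * permC cOh)⁻¹ := by group
    rw [this, e1]
    group
  obtain ⟨S, hS, hSe⟩ := Hfix_O0_cases ht2 ht2ne
  have hSp := E15_perm hS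
  have htab := List.all_eq_true.1 e15_ok S hS
  rw [List.any_eq_true] at htab
  obtain ⟨x, _, hx⟩ := htab
  simp only [Bool.and_eq_true] at hx
  obtain ⟨⟨⟨⟨hx1, hx2⟩, hx3⟩, hx4⟩, hx5⟩ := hx
  obtain ⟨hvp, hvM⟩ := inM22_spec hx3
  have e1 := prodC_eq_of_eqW (perm_pair hcp hSp) (perm_pair hx4 hcp) hx2
  have e2 := prodC_eq_of_eqW (perm_pair hvp hx4) (perm_pair (inS0_spec repR_ok).1 hvp) hx5
  rw [prodC_cons, prodC_singleton, prodC_cons, prodC_singleton] at e1 e2
  refine ⟨permC x.2.2 * u⁻¹, Subgroup.mul_mem _ hvM (Subgroup.inv_mem _ hu), ?_⟩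
  have e3 : permC x.2.1 = u⁻¹ * t * u := by
    have : permC x.2.1 = permC cOh * permC S * (permC cOh)⁻¹ := by
      rw [e1]; group
    rw [this, ← hSe]
    group
  have e4 : permC repR = permC x.2.2 * permC x.2.1 * (permC x.2.2)⁻¹ := by
    rw [e2]; group
  rw [e4, e3]
  group

/-! ### Strongly closed subgroups -/

theorem steps_ok : gensOK (runSteps inM22 inS0 [repR] steps) genWords = true := by
  decide +kernel

theorem genWords_fst : genWords.map Prod.fst = sylGens := by decide +kernel

theorem strongly_closed_eq {T : Subgroup (Equiv.Perm GolayPt)} (hTS : T ≤ S0) (hT : T ≠ ⊥)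
    (hcl : ∀ x ∈ T, ∀ g ∈ Cfsg.Spor.M22, g * x * g⁻¹ ∈ S0 → g * x * g⁻¹ ∈ T) : T = S0 := by
  obtain ⟨t, htT, htt, ht1⟩ := exists_involution_of_le S0 T 7 card_S0 hTS hT
  have htM : t ∈ Cfsg.Spor.M22 := S0_le_M22 (hTS htT)
  obtain ⟨w, hw, e⟩ := inv_conj_rep htM htt ht1
  have hR : permC repR ∈ T := by
    rw [e]
    apply hcl t htT w hw
    rw [← e]
    exact (inS0_spec repR_ok).2
  have hfinal := runSteps_spec (G := Cfsg.Spor.M22) (S0 := S0) (T := T)
    (fun c hc => inM22_spec hc) (fun c hc => inS0_spec hc) hcl steps [repR] (by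
      intro c hc
      rw [List.mem_singleton] at hc
      rw [hc]
      exact ⟨(inS0_spec repR_ok).1, hR⟩)
  have hgp : ∀ x ∈ genWords, isPerm x.1 = true := by
    intro x hx
    have : x.1 ∈ sylGens := by
      rw [← genWords_fst]
      exact List.mem_map.2 ⟨x, hx, rfl⟩
    exact (sylGens_mem this).1
  have hmem := gensOK_spec hfinal hgp steps_ok
  apply le_antisymm hTS
  rw [S0_facts.1]
  apply genSubgroup_le
  intro s hs
  rw [← genWords_fst] at hs
  obtain ⟨x, hx, rfl⟩ := List.mem_map.1 hs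
  exact hmem x hx

theorem strongly_closed_eq_M23 {T : Subgroup (Equiv.Perm GolayPt)} (hTS : T ≤ S0) (hT : T ≠ ⊥)
    (hcl : ∀ x ∈ T, ∀ g ∈ Cfsg.Spor.M23, g * x * g⁻¹ ∈ S0 → g * x * g⁻¹ ∈ T) : T = S0 :=
  strongly_closed_eq hTS hT (fun x hx g hg h => hcl x hx g (M22_le_M23 hg) h)

end Cfsg.Agent.Lib.Helper93.Syl22
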