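import Cfsg.Agent.Lib.Helper93.Blk22Data
import Cfsg.Agent.Lib.Helper93.Syl22

set_option autoImplicit false

/-! Explicit facts on `M22` used for its `2`-blocks: the centraliser `H` of an involution `r`
(order `384`, all elements listed), an element `x0` of order three in `H`, the four-group
`V = O_2(C_H(x0))`, the elementary abelian group `R0` of order sixteen of involutions centralising
`V`, a subgroup `3^2`, and the stabiliser of the fixed points of `x0`. -/

namespace Cfsg.Agent.Lib.Helper93.Blk22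

open Cfsg Cfsg.Agent.Lib.Helper93.Golay Cfsg.Agent.Lib.Helper93.Cent2A
  Cfsg.Agent.Lib.Helper93.Syl22
open scoped Pointwise

/-! ### Codes are determined by their permutation -/

theorem testBit_papp' (c i r : ℕ) (hr : r < 5) :
    (papp c i).testBit r = c.testBit (5 * i + r) := by
  unfold papp
  rw [Nat.testBit_and, Nat.testBit_shiftRight]
  have h31 : (31 : ℕ).testBit r = true := by
    interval_cases r <;> decide
  rw [h31, Bool.and_true]

theorem eq_of_papp_eq' {c c' : ℕ} (h : c < 2 ^ 120) (h' : c' < 2 ^ 120)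
    (hp : ∀ i < 24, papp c i = papp c' i) : c = c' := by
  apply Nat.eq_of_testBit_eq
  intro j
  by_cases hj : j < 120
  · have h1 := testBit_papp' c (j / 5) (j % 5) (Nat.mod_lt _ (by norm_num))
    have h2 := testBit_papp' c' (j / 5) (j % 5) (Nat.mod_lt _ (by norm_num))
    rw [Nat.div_add_mod] at h1 h2
    rw [← h1, ← h2, hp (j / 5) (by omega)]
  · have hj' : 120 ≤ j := by omega
    have e1 : c < 2 ^ j := lt_of_lt_of_le h (Nat.pow_le_pow_right (by norm_num) hj')
    have e2 : c' < 2 ^ j := lt_of_lt_of_le h' (Nat.pow_le_pow_right (by norm_num) hj')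
    rw [Nat.testBit_lt_two_pow e1, Nat.testBit_lt_two_pow e2]

theorem code_inj' {c c' : ℕ} (h : c < 2 ^ 120) (h' : c' < 2 ^ 120) (hc : isPerm c = true)
    (hc' : isPerm c' = true) (he : permC c = permC c') : c = c' := by
  apply eq_of_papp_eq' h h'
  intro i hi
  have h1 := ptIdx_permC hc (ptOf ⟨i, hi⟩)
  have h2 := ptIdx_permC hc' (ptOf ⟨i, hi⟩)
  rw [ptIdx_ptOf] at h1 h2
  simp only at h1 h2
  rw [← h1, ← h2, he]

/-! ### The centraliser of an involution lies in the stabiliser of its transpositions -/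

/-- the coded family consists exactly of the transpositions of the coded involution -/
def pairsOK (c : ℕ) (fam : List ℕ) : Bool :=
  (List.range 24).all (fun i => Nat.beq (papp c i) i ||
    fam.any (Nat.beq ((1 <<< i) ||| (1 <<< papp c i)))) &&
  fam.all (fun m => (List.range 24).any (fun i => !(Nat.beq (papp c i) i) &&
    Nat.blt (papp c i) 24 && Nat.beq m ((1 <<< i) ||| (1 <<< papp c i))))

theorem papp_lt_of_isPerm {c : ℕ} (hc : isPerm c = true) (p : GolayPt) : papp c (ptIdx p) < 24 := by
  rw [← ptIdx_permC hc p]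
  exact (ptIdx (permC c p)).isLt

theorem smul_decFF_of_commute {c : ℕ} (hc : isPerm c = true) {fam : List ℕ}
    (hok : pairsOK c fam = true) {g : Equiv.Perm GolayPt}
    (hg : g * permC c = permC c * g) : g • decFF fam = decFF fam := by
  unfold pairsOK at hok
  rw [Bool.and_eq_true] at hok
  obtain ⟨hok1, hok2⟩ := hok
  have hcomm : ∀ p, g (permC c p) = permC c (g p) := by
    intro p
    have := congrArg (fun f : Equiv.Perm GolayPt => f p) hg
    simpa [Equiv.Perm.mul_apply] using this
  -- the pair of a moved point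
  have hpair : ∀ q : GolayPt, permC c q ≠ q → ({q, permC c q} : Finset GolayPt) ∈ decFF fam := by
    intro q hq
    have h1 := List.all_eq_true.1 hok1 (ptIdx q) (List.mem_range.2 (ptIdx q).isLt)
    rw [Bool.or_eq_true] at h1
    rcases h1 with h1 | h1
    · exfalso
      apply hq
      have h2 := Nat.eq_of_beq_eq_true h1
      rw [← ptIdx_permC hc q] at h2
      exact ptEquiv.injective (Fin.ext h2)
    · have hm := mem_of_any_beq h1
      rw [mem_decFF]
      refine ⟨_, hm, ?_⟩
      have hlt := papp_lt_of_isPerm hc q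
      have := fset_pair (ptIdx q) ⟨papp c (ptIdx q), hlt⟩
      simp only at this
      rw [this, ptOf_ptIdx]
      congr 2
      apply ptEquiv.injective
      show ptIdx _ = ptIdx _
      rw [ptIdx_ptOf]
      apply Fin.ext
      rw [ptIdx_permC hc q]
  have hsub : g • decFF fam ⊆ decFF fam := by
    intro b hb
    rw [Finset.mem_smul_finset] at hb
    obtain ⟨a, ha, rfl⟩ := hb
    rw [mem_decFF] at ha
    obtain ⟨m, hm, rfl⟩ := ha
    have h2 := List.all_eq_true.1 hok2 m hm
    rw [List.any_eq_true] at h2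
    obtain ⟨i, hi, h3⟩ := h2
    simp only [Bool.and_eq_true] at h3
    obtain ⟨⟨h3a, h3b⟩, h3c⟩ := h3
    have hi24 : i < 24 := List.mem_range.1 hi
    have hj24 : papp c i < 24 := Nat.le_of_ble_eq_true h3b
    have hmeq := Nat.eq_of_beq_eq_true h3c
    have hfs := fset_pair ⟨i, hi24⟩ ⟨papp c i, hj24⟩
    simp only at hfs
    rw [hmeq, hfs]
    set q := ptOf ⟨i, hi24⟩ with hq
    have hq2 : ptOf ⟨papp c i, hj24⟩ = permC c q := by
      rw [hq]
      exact (permC_ptOf hc i hi24 (papp c i) hj24 rfl).symm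
    rw [hq2]
    have hmoved : permC c q ≠ q := by
      intro h
      have h4 := ptIdx_permC hc q
      rw [h, hq, ptIdx_ptOf] at h4
      simp only at h4
      rw [← h4, Nat.beq_refl] at h3a
      simp at h3a
    have : g • ({q, permC c q} : Finset GolayPt) = {g q, permC c (g q)} := by
      rw [Finset.smul_finset_insert, Finset.smul_finset_singleton]
      show ({g q, g (permC c q)} : Finset GolayPt) = _
      rw [hcomm]
    rw [this]
    apply hpair
    intro h
    apply hmoved
    apply g.injective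
    rw [hcomm]
    exact h
  exact Finset.eq_of_subset_of_card_le hsub (by rw [Finset.card_smul_finset])

/-! ### The centraliser `H` of the involution `r` -/

/-- the stabiliser of the transpositions of `r` -/
def HS : Subgroup (Equiv.Perm GolayPt) :=
  Cfsg.Spor.M22 ⊓ MulAction.stabilizer (Equiv.Perm GolayPt) (encFam.dec rFam)

def inH (c : ℕ) : Bool := inM22 c && beqL (actL c rFam) rFam

theorem rFam_canon : canonL rFam = true := by decide +kernel

theorem rFam_small : encFam.small rFam := fun _ hm => canonL_lt rFam_canon hm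

theorem inH_spec {c : ℕ} (h : inH c = true) : isPerm c = true ∧ permC c ∈ HS := by
  unfold inH at h
  rw [Bool.and_eq_true] at h
  obtain ⟨hp, hm⟩ := inM22_spec h.1
  refine ⟨hp, hm, ?_⟩
  show permC c ∈ MulAction.stabilizer (Equiv.Perm GolayPt) (encFam.dec rFam)
  rw [MulAction.mem_stabilizer_iff, encFam.act_spec c hp rFam rFam_small]
  exact congrArg encFam.dec (beqL_eq _ _ h.2)

set_option maxRecDepth 1000000 in
theorem rTargets_canon : rTargets.all canonL = true := by decide +kernel

set_option maxRecDepth 1000000 in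
theorem rTargets_chain : chainLt (rTargets.map famKey) = true := by decide +kernel

theorem rTargets_nodup : rTargets.Nodup :=
  List.Nodup.of_map famKey (nodup_of_chainLt rTargets_chain)

set_option maxRecDepth 1000000 in
theorem r_reach : encFam.reachOK m22Gens rFam rTargets rWords = true := by decide +kernel

def hGens : List ℕ := chainGens hLevels

theorem hGens_ok : hGens.all inH = true := by decide +kernel

set_option maxRecDepth 1000000 in
theorem h_prod : rTargets.length * chainProd 0 hLevels = 443520 := by decide +kernel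

theorem chainProd_h : chainProd 0 hLevels = 384 := by decide +kernel

theorem HS_facts :
    HS = genSubgroup hGens ∧ Nat.card HS = chainProd 0 hLevels ∧
      Nat.card Cfsg.Spor.M22 = 443520 ∧
      ∀ h ∈ Cfsg.Spor.M22, ∃ b ∈ rTargets, encFam.dec b = h • encFam.dec rFam :=
  rel_stab_eq_gen encFam Cfsg.Spor.M22 443520 (le_of_eq card_M22) m22Gens
    (fun S hS => inM22_spec (List.all_eq_true.1 m22Gens_ok S hS))
    rFam rFam_small rTargets rTargets_nodup
    (fun b hb => List.all_eq_true.1 rTargets_canon b hb) rWords r_reach hLevels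
    (fun S hS => by
      have h := List.all_eq_true.1 hGens_ok S hS
      have hs := inH_spec h
      unfold inH at h
      rw [Bool.and_eq_true] at h
      exact ⟨hs.1, hs.2.1, h.2⟩)
    h_prod (by norm_num)

theorem card_HS : Nat.card HS = 384 := by
  rw [HS_facts.2.1, chainProd_h]

instance : Finite HS := Nat.finite_of_card_ne_zero (by rw [card_HS]; norm_num)

/-! ### The list of elements of `H` -/

set_option maxRecDepth 1000000 in
theorem hElems_chain : chainLt hElems = true := by decide +kernel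

set_option maxRecDepth 1000000 in
theorem hElems_length : hElems.length = 384 := by decide +kernel

set_option maxRecDepth 1000000 in
theorem hElems_ok : hElems.all (fun c => inH c && Nat.blt c (2 ^ 120)) = true := by
  decide +kernel

theorem hElems_mem {c : ℕ} (hc : c ∈ hElems) : inH c = true ∧ c < 2 ^ 120 := by
  have h := List.all_eq_true.1 hElems_ok c hc
  rw [Bool.and_eq_true] at h
  exact ⟨h.1, Nat.le_of_ble_eq_true h.2⟩

theorem exists_code {x : Equiv.Perm GolayPt} (hx : x ∈ HS) : ∃ c ∈ hElems, permC c = x := by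
  set S' : Set (Equiv.Perm GolayPt) := {a | ∃ c ∈ hElems, permC c = a} with hS'
  have hcard : S'.ncard = hElems.length :=
    ncard_eq_length permC hElems (nodup_of_chainLt hElems_chain)
      (fun c hc c' hc' he => code_inj' (hElems_mem hc).2 (hElems_mem hc').2
        (inH_spec (hElems_mem hc).1).1 (inH_spec (hElems_mem hc').1).1 he) S' (fun a => Iff.rfl)
  have hsub : S' ⊆ (HS : Set (Equiv.Perm GolayPt)) := by
    rintro a ⟨c, hc, rfl⟩
    exact (inH_spec (hElems_mem hc).1).2
  have hH : (HS : Set (Equiv.Perm GolayPt)).ncard = 384 := by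
    rw [← Nat.card_coe_set_eq]
    exact card_HS
  have heq : S' = (HS : Set (Equiv.Perm GolayPt)) :=
    Set.eq_of_subset_of_ncard_le hsub (by rw [hH, hcard, hElems_length]) (Set.toFinite _)
  have hx' : x ∈ S' := by
    rw [heq]
    exact hx
  exact hx'

/-! ### The involution `r` -/

/-- the involution -/
def R : Equiv.Perm GolayPt := permC repR

theorem repR_perm : isPerm repR = true := (inS0_spec repR_ok).1

theorem R_mem : R ∈ Cfsg.Spor.M22 := S0_le_M22 (inS0_spec repR_ok).2

theorem r_pairs : pairsOK repR rFam = true := by decide +kernel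

theorem centR_le {g : Equiv.Perm GolayPt} (hg : g ∈ Cfsg.Spor.M22) (hc : g * R = R * g) :
    g ∈ HS := by
  refine ⟨hg, ?_⟩
  show g ∈ MulAction.stabilizer (Equiv.Perm GolayPt) (encFam.dec rFam)
  rw [MulAction.mem_stabilizer_iff]
  exact smul_decFF_of_commute repR_perm r_pairs hc

theorem perm_pair' {a b : ℕ} (ha : isPerm a = true) (hb : isPerm b = true) :
    ∀ S ∈ [a, b], isPerm S = true := by
  intro S hS
  simp only [List.mem_cons, List.not_mem_nil, or_false] at hS
  rcases hS with rfl | rfl
  · exact ha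
  · exact hb

theorem prodC_two (c c' : ℕ) : prodC [c, c'] = permC c * permC c' := by
  rw [prodC_cons, prodC_singleton]

theorem mul_eq_of_eqW {a b c d : ℕ} (ha : isPerm a = true) (hb : isPerm b = true)
    (hc : isPerm c = true) (hd : isPerm d = true) (h : eqW [a, b] [c, d] = true) :
    permC a * permC b = permC c * permC d := by
  have := prodC_eq_of_eqW (perm_pair' ha hb) (perm_pair' hc hd) h
  rwa [prodC_two, prodC_two] at this

theorem eqW_of_mul_eq {a b c d : ℕ} (ha : isPerm a = true) (hb : isPerm b = true)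
    (hc : isPerm c = true) (hd : isPerm d = true)
    (h : permC a * permC b = permC c * permC d) : eqW [a, b] [c, d] = true := by
  apply eqW_of_prodC_eq (perm_pair' ha hb) (perm_pair' hc hd)
  rwa [prodC_two, prodC_two]

theorem perm_single {a : ℕ} (ha : isPerm a = true) : ∀ S ∈ [a], isPerm S = true := by
  intro S hS
  rw [List.mem_singleton] at hS
  rw [hS]
  exact ha

theorem eqW_one_of_eq_one {a : ℕ} (ha : isPerm a = true) (h : permC a = 1) :
    eqW [a] [] = true := by
  apply eqW_of_prodC_eq (perm_single ha) (by simp)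
  rw [prodC_singleton, prodC_nil]
  exact h

theorem eq_one_of_eqW_one {a : ℕ} (ha : isPerm a = true) (h : eqW [a] [] = true) :
    permC a = 1 := by
  have := prodC_eq_of_eqW (perm_single ha) (by simp) h
  rwa [prodC_singleton, prodC_nil] at this

theorem pow_eq_one_of_eqW {a : ℕ} (ha : isPerm a = true) (k : ℕ)
    (h : eqW (List.replicate k a) [] = true) : permC a ^ k = 1 := by
  have := prodC_eq_of_eqW (perm_replicate ha k) (by simp) h
  rwa [prodC_replicate, prodC_nil] at this

theorem eqW_of_pow_eq_one {a : ℕ} (ha : isPerm a = true) (k : ℕ) (h : permC a ^ k = 1) :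
    eqW (List.replicate k a) [] = true := by
  apply eqW_of_prodC_eq (perm_replicate ha k) (by simp)
  rw [prodC_replicate, prodC_nil]
  exact h

/-! ### Subgroups given by closed lists of coded involutions -/

/-- a list of coded involutions containing the identity and closed under products -/
def listOK (L : List ℕ) : Bool :=
  L.all isPerm && L.any (fun c => eqW [c] []) &&
    L.all (fun a => eqW [a, a] [] && L.all (fun b => L.any (fun c => eqW [a, b] [c])))

theorem listOK_perm {L : List ℕ} (h : listOK L = true) {c : ℕ} (hc : c ∈ L) : isPerm c = true := by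
  unfold listOK at h
  simp only [Bool.and_eq_true] at h
  exact List.all_eq_true.1 h.1.1 c hc

theorem listOK_sq {L : List ℕ} (h : listOK L = true) {c : ℕ} (hc : c ∈ L) :
    permC c * permC c = 1 := by
  have hp := listOK_perm h hc
  unfold listOK at h
  simp only [Bool.and_eq_true] at h
  have h1 := List.all_eq_true.1 h.2 c hc
  rw [Bool.and_eq_true] at h1
  have := prodC_eq_of_eqW (perm_pair' hp hp) (by simp) h1.1
  rwa [prodC_two, prodC_nil] at this

/-- the subgroup of the listed elements -/
def listSubgroup (L : List ℕ) (h : listOK L = true) : Subgroup (Equiv.Perm GolayPt) where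
  carrier := {g | ∃ c ∈ L, permC c = g}
  one_mem' := by
    have h' := h
    unfold listOK at h'
    simp only [Bool.and_eq_true] at h'
    obtain ⟨c, hc, hc1⟩ := List.any_eq_true.1 h'.1.2
    exact ⟨c, hc, eq_one_of_eqW_one (listOK_perm h hc) hc1⟩
  mul_mem' := by
    rintro _ _ ⟨a, ha, rfl⟩ ⟨b, hb, rfl⟩
    have h' := h
    unfold listOK at h'
    simp only [Bool.and_eq_true] at h'
    have h1 := List.all_eq_true.1 h'.2 a ha
    rw [Bool.and_eq_true] at h1
    have h2 := List.all_eq_true.1 h1.2 b hb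
    obtain ⟨c, hc, hc1⟩ := List.any_eq_true.1 h2
    refine ⟨c, hc, ?_⟩
    have := prodC_eq_of_eqW (perm_pair' (listOK_perm h ha) (listOK_perm h hb))
      (perm_single (listOK_perm h hc)) hc1
    rw [prodC_two, prodC_singleton] at this
    exact this.symm
  inv_mem' := by
    rintro _ ⟨a, ha, rfl⟩
    refine ⟨a, ha, ?_⟩
    exact (inv_eq_of_mul_eq_one_left (listOK_sq h ha)).symm

theorem mem_listSubgroup {L : List ℕ} {h : listOK L = true} {g : Equiv.Perm GolayPt} :
    g ∈ listSubgroup L h ↔ ∃ c ∈ L, permC c = g := Iff.rfl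

theorem listSubgroup_sq {L : List ℕ} {h : listOK L = true} {g : Equiv.Perm GolayPt}
    (hg : g ∈ listSubgroup L h) : g * g = 1 := by
  obtain ⟨c, hc, rfl⟩ := hg
  exact listOK_sq h hc

theorem listSubgroup_isPGroup {L : List ℕ} {h : listOK L = true} :
    IsPGroup 2 (listSubgroup L h) := by
  intro g
  refine ⟨1, ?_⟩
  apply Subtype.ext
  rw [pow_one, pow_two]
  exact listSubgroup_sq g.2

/-! ### The element `x0`, the four-group `V` and the group `R0` -/

/-- the element of order three -/
def X0 : Equiv.Perm GolayPt := permC x0Code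

theorem x0_facts : inH x0Code = true ∧ inH x0iCode = true ∧
    eqW (List.replicate 3 x0Code) [] = true ∧ eqW [x0Code, x0iCode] [] = true ∧
    eqW [x0Code] [] = false := by decide +kernel

theorem x0_perm : isPerm x0Code = true := (inH_spec x0_facts.1).1

theorem x0i_perm : isPerm x0iCode = true := (inH_spec x0_facts.2.1).1

theorem X0_mem : X0 ∈ Cfsg.Spor.M22 := (inH_spec x0_facts.1).2.1

theorem X0_pow : X0 ^ 3 = 1 := pow_eq_one_of_eqW x0_perm 3 x0_facts.2.2.1

theorem X0_inv : permC x0iCode = X0⁻¹ := by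
  have := prodC_eq_of_eqW (perm_pair' x0_perm x0i_perm) (by simp) x0_facts.2.2.2.1
  rw [prodC_two, prodC_nil] at this
  exact (inv_eq_of_mul_eq_one_right this).symm

theorem X0_ne : X0 ≠ 1 := by
  intro h
  have := eqW_one_of_eq_one x0_perm h
  rw [x0_facts.2.2.2.2] at this
  exact Bool.false_ne_true this

theorem v_ok : listOK vCodes = true := by decide +kernel

theorem r0_ok : listOK r0Codes = true := by decide +kernel

/-- the four-group -/
def V : Subgroup (Equiv.Perm GolayPt) := listSubgroup vCodes v_ok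

/-- the elementary abelian group of order sixteen -/
def R0 : Subgroup (Equiv.Perm GolayPt) := listSubgroup r0Codes r0_ok

theorem v_facts : vCodes.all (fun v => inH v && eqW [v, x0Code] [x0Code, v]) = true ∧
    vCodes.any (Nat.beq repR) = true := by decide +kernel

theorem r0_facts : r0Codes.all (fun a => inH a && vCodes.all (fun v => eqW [a, v] [v, a])) = true ∧
    r0Codes.any (Nat.beq rOut) = true ∧ vCodes.all (fun v => !(eqW [rOut] [v])) = true := by
  decide +kernel

theorem V_le : V ≤ Cfsg.Spor.M22 := by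
  rintro _ ⟨c, hc, rfl⟩
  have h := List.all_eq_true.1 v_facts.1 c hc
  rw [Bool.and_eq_true] at h
  exact (inH_spec h.1).2.1

theorem R0_le : R0 ≤ Cfsg.Spor.M22 := by
  rintro _ ⟨c, hc, rfl⟩
  have h := List.all_eq_true.1 r0_facts.1 c hc
  rw [Bool.and_eq_true] at h
  exact (inH_spec h.1).2.1

theorem R_mem_V : R ∈ V := ⟨repR, mem_of_any_beq v_facts.2, rfl⟩

theorem V_comm_X0 {v : Equiv.Perm GolayPt} (hv : v ∈ V) : v * X0 = X0 * v := by
  obtain ⟨c, hc, rfl⟩ := hv
  have h := List.all_eq_true.1 v_facts.1 c hc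
  rw [Bool.and_eq_true] at h
  exact mul_eq_of_eqW (inH_spec h.1).1 x0_perm x0_perm (inH_spec h.1).1 h.2

theorem R0_comm_V {g : Equiv.Perm GolayPt} (hg : g ∈ R0) {v : Equiv.Perm GolayPt} (hv : v ∈ V) :
    g * v = v * g := by
  obtain ⟨a, ha, rfl⟩ := hg
  obtain ⟨c, hc, rfl⟩ := hv
  have h := List.all_eq_true.1 r0_facts.1 a ha
  rw [Bool.and_eq_true] at h
  have hcp := listOK_perm v_ok hc
  exact mul_eq_of_eqW (inH_spec h.1).1 hcp hcp (inH_spec h.1).1 (List.all_eq_true.1 h.2 c hc)

theorem R0_not_le : ¬ R0 ≤ V := by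
  intro hle
  have hm : rOut ∈ r0Codes := mem_of_any_beq r0_facts.2.1
  obtain ⟨v, hv, he⟩ := hle (⟨rOut, hm, rfl⟩ : permC rOut ∈ R0)
  have h1 := List.all_eq_true.1 r0_facts.2.2 v hv
  have h2 : eqW [rOut] [v] = true := by
    apply eqW_of_prodC_eq (perm_single (listOK_perm r0_ok hm)) (perm_single (listOK_perm v_ok hv))
    rw [prodC_singleton, prodC_singleton]
    exact he.symm
  rw [h2] at h1
  simp at h1

/-! ### The three checks on the elements of `H` -/

set_option maxRecDepth 1000000 in
theorem o3_ok : hElems.all (fun c => !(eqW (List.replicate 3 c) []) || eqW [c] [] ||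
    o3Table.any (fun e => Nat.beq e.1 c && inH e.2 && eqW [e.2, repR] [repR, e.2] &&
      (eqW [e.2, c] [x0Code, e.2] || eqW [e.2, c] [x0iCode, e.2]))) = true := by decide +kernel

set_option maxRecDepth 1000000 in
theorem b3_ok : hElems.all (fun c => !(eqW [c, x0Code] [x0Code, c]) ||
    !(eqW (List.replicate 128 c) []) || vCodes.any (Nat.beq c)) = true := by decide +kernel

set_option maxRecDepth 1000000 in
theorem b4_ok : hElems.all (fun c => !(vCodes.all (fun v => eqW [c, v] [v, c])) ||
    !(eqW [c, c] []) || r0Codes.any (Nat.beq c)) = true := by decide +kernel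

theorem orderOf_dvd_384 {g : Equiv.Perm GolayPt} (hg : g ∈ HS) : orderOf g ∣ 384 := by
  have h1 : orderOf (⟨g, hg⟩ : HS) ∣ Nat.card HS := orderOf_dvd_natCard _
  rw [card_HS] at h1
  have h2 : orderOf (⟨g, hg⟩ : HS) = orderOf g := Subgroup.orderOf_mk g hg
  rwa [h2] at h1

/-- `b2`: elements of odd order of `H` -/
theorem odd_conj {g : Equiv.Perm GolayPt} (hg : g ∈ Cfsg.Spor.M22) (hc : g * R = R * g)
    (hodd : ¬ 2 ∣ orderOf g) (hg1 : g ≠ 1) :
    ∃ c ∈ Cfsg.Spor.M22, c * R = R * c ∧ (c * g * c⁻¹ = X0 ∨ c * g * c⁻¹ = X0⁻¹) := by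
  have hH := centR_le hg hc
  obtain ⟨c0, hc0, rfl⟩ := exists_code hH
  have hp := (inH_spec (hElems_mem hc0).1).1
  have h3 : permC c0 ^ 3 = 1 := by
    rw [← orderOf_dvd_iff_pow_eq_one]
    have h1 := orderOf_dvd_384 hH
    have hcop : Nat.Coprime (orderOf (permC c0)) 128 := by
      have : Nat.Coprime (orderOf (permC c0)) 2 :=
        (Nat.coprime_comm.1 ((Nat.Prime.coprime_iff_not_dvd Nat.prime_two).2 hodd))
      exact (this.pow_right 7)
    have h384 : (384 : ℕ) = 128 * 3 := by norm_num
    rw [h384] at h1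
    exact hcop.dvd_of_dvd_mul_left h1
  have hchk := List.all_eq_true.1 o3_ok c0 hc0
  simp only [Bool.or_eq_true] at hchk
  rcases hchk with (h | h) | h
  · rw [eqW_of_pow_eq_one hp 3 h3] at h
    simp at h
  · exact absurd (eq_one_of_eqW_one hp h) hg1
  · rw [List.any_eq_true] at h
    obtain ⟨e, _, he⟩ := h
    simp only [Bool.and_eq_true, Bool.or_eq_true] at he
    obtain ⟨⟨⟨_, he2⟩, he3⟩, he4⟩ := he
    have hw := inH_spec he2
    refine ⟨permC e.2, hw.2.1, mul_eq_of_eqW hw.1 repR_perm repR_perm hw.1 he3, ?_⟩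
    rcases he4 with h4 | h4
    · left
      have := mul_eq_of_eqW hw.1 hp x0_perm hw.1 h4
      rw [this]
      show X0 * permC e.2 * (permC e.2)⁻¹ = X0
      group
    · right
      have := mul_eq_of_eqW hw.1 hp x0i_perm hw.1 h4
      rw [this, X0_inv]
      group

/-- `b3`: the `2`-elements of `C_H(x0)` -/
theorem two_elt_mem_V {g : Equiv.Perm GolayPt} (hg : g ∈ Cfsg.Spor.M22) (hc : g * R = R * g)
    (hx : g * X0 = X0 * g) (h2 : ∃ k : ℕ, g ^ (2 ^ k) = 1) : g ∈ V := by
  have hH := centR_le hg hc
  obtain ⟨c0, hc0, rfl⟩ := exists_code hH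
  have hp := (inH_spec (hElems_mem hc0).1).1
  have h128 : permC c0 ^ 128 = 1 := by
    rw [← orderOf_dvd_iff_pow_eq_one]
    obtain ⟨k, hk⟩ := h2
    have h1 : orderOf (permC c0) ∣ 2 ^ k := orderOf_dvd_of_pow_eq_one hk
    obtain ⟨j, _, hj⟩ := (Nat.dvd_prime_pow Nat.prime_two).1 h1
    have h3 := orderOf_dvd_384 hH
    rw [hj] at h3 ⊢
    have hj7 : j ≤ 7 := by
      by_contra hlt
      have : 2 ^ 8 ∣ 384 := dvd_trans (pow_dvd_pow 2 (by omega)) h3
      norm_num at this
    have : (128 : ℕ) = 2 ^ 7 := by norm_num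
    rw [this]
    exact pow_dvd_pow 2 hj7
  have hchk := List.all_eq_true.1 b3_ok c0 hc0
  simp only [Bool.or_eq_true] at hchk
  rcases hchk with (h | h) | h
  · rw [eqW_of_mul_eq hp x0_perm x0_perm hp hx] at h
    simp at h
  · rw [eqW_of_pow_eq_one hp 128 h128] at h
    simp at h
  · exact ⟨c0, mem_of_any_beq h, rfl⟩

/-- `b4`: the involutions centralising `V` -/
theorem inv_cent_mem_R0 {g : Equiv.Perm GolayPt} (hg : g ∈ Cfsg.Spor.M22)
    (hc : ∀ v ∈ V, g * v = v * g) (hsq : g * g = 1) : g ∈ R0 := by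
  have hH := centR_le hg (hc R R_mem_V)
  obtain ⟨c0, hc0, rfl⟩ := exists_code hH
  have hp := (inH_spec (hElems_mem hc0).1).1
  have hchk := List.all_eq_true.1 b4_ok c0 hc0
  simp only [Bool.or_eq_true] at hchk
  rcases hchk with (h | h) | h
  · exfalso
    have : vCodes.all (fun v => eqW [c0, v] [v, c0]) = true := by
      rw [List.all_eq_true]
      intro v hv
      have hvp := listOK_perm v_ok hv
      exact eqW_of_mul_eq hp hvp hvp hp (hc _ ⟨v, hv, rfl⟩)
    rw [this] at h
    simp at h
  · exfalso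
    have : eqW [c0, c0] [] = true := by
      apply eqW_of_prodC_eq (perm_pair' hp hp) (by simp)
      rw [prodC_two, prodC_nil]
      exact hsq
    rw [this] at h
    simp at h
  · exact ⟨c0, mem_of_any_beq h, rfl⟩

/-! ### The groups `3^2` and `3 × 2^2` -/

def Y0 : Equiv.Perm GolayPt := permC y0Code

def T1 : Equiv.Perm GolayPt := permC t1Code

def T2 : Equiv.Perm GolayPt := permC t2Code

theorem yt_facts : inM22 y0Code = true ∧ inM22 t1Code = true ∧ inM22 t2Code = true ∧
    eqW (List.replicate 3 y0Code) [] = true ∧ eqW [x0Code, y0Code] [y0Code, x0Code] = true ∧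
    eqW (List.replicate 2 t1Code) [] = true ∧ eqW (List.replicate 2 t2Code) [] = true ∧
    eqW [t1Code, t2Code] [t2Code, t1Code] = true ∧
    eqW [x0Code, t1Code] [t1Code, x0Code] = true ∧
    eqW [x0Code, t2Code] [t2Code, x0Code] = true ∧
    eqW [t1Code] [] = false ∧ eqW [t2Code] [] = false ∧ eqW [t1Code, t2Code] [] = false := by
  decide +kernel

theorem y0_perm : isPerm y0Code = true := (inM22_spec yt_facts.1).1

theorem t1_perm : isPerm t1Code = true := (inM22_spec yt_facts.2.1).1

theorem t2_perm : isPerm t2Code = true := (inM22_spec yt_facts.2.2.1).1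

theorem Y0_mem : Y0 ∈ Cfsg.Spor.M22 := (inM22_spec yt_facts.1).2

theorem T1_mem : T1 ∈ Cfsg.Spor.M22 := (inM22_spec yt_facts.2.1).2

theorem T2_mem : T2 ∈ Cfsg.Spor.M22 := (inM22_spec yt_facts.2.2.1).2

theorem Y0_pow : Y0 ^ 3 = 1 := pow_eq_one_of_eqW y0_perm 3 yt_facts.2.2.2.1

theorem X0_Y0 : X0 * Y0 = Y0 * X0 :=
  mul_eq_of_eqW x0_perm y0_perm y0_perm x0_perm yt_facts.2.2.2.2.1

theorem T1_pow : T1 ^ 2 = 1 := pow_eq_one_of_eqW t1_perm 2 yt_facts.2.2.2.2.2.1

theorem T2_pow : T2 ^ 2 = 1 := pow_eq_one_of_eqW t2_perm 2 yt_facts.2.2.2.2.2.2.1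

theorem T1_T2 : T1 * T2 = T2 * T1 :=
  mul_eq_of_eqW t1_perm t2_perm t2_perm t1_perm yt_facts.2.2.2.2.2.2.2.1

theorem X0_T1 : X0 * T1 = T1 * X0 :=
  mul_eq_of_eqW x0_perm t1_perm t1_perm x0_perm yt_facts.2.2.2.2.2.2.2.2.1

theorem X0_T2 : X0 * T2 = T2 * X0 :=
  mul_eq_of_eqW x0_perm t2_perm t2_perm x0_perm yt_facts.2.2.2.2.2.2.2.2.2.1

theorem T1_ne : T1 ≠ 1 := by
  intro h
  have := eqW_one_of_eq_one t1_perm h
  rw [yt_facts.2.2.2.2.2.2.2.2.2.2.1] at this
  exact Bool.false_ne_true this

theorem T2_ne : T2 ≠ 1 := by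
  intro h
  have := eqW_one_of_eq_one t2_perm h
  rw [yt_facts.2.2.2.2.2.2.2.2.2.2.2.1] at this
  exact Bool.false_ne_true this

theorem T1_T2_ne : T1 * T2 ≠ 1 := by
  intro h
  have : eqW [t1Code, t2Code] [] = true := by
    apply eqW_of_prodC_eq (perm_pair' t1_perm t2_perm) (by simp)
    rw [prodC_two, prodC_nil]
    exact h
  rw [yt_facts.2.2.2.2.2.2.2.2.2.2.2.2] at this
  exact Bool.false_ne_true this

theorem tTable_ok : tTable.all (fun e => inM22 e.2.2 &&
    eqW ([e.2.2] ++ (List.replicate e.1 x0Code ++ List.replicate e.2.1 y0Code))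
      [x0Code, e.2.2]) = true := by decide +kernel

theorem tTable_cover : ∀ i < 3, ∀ j < 3, (i ≠ 0 ∨ j ≠ 0) →
    tTable.any (fun e => Nat.beq e.1 i && Nat.beq e.2.1 j) = true := by decide +kernel

theorem conj_X0 (i j : ℕ) (hi : i < 3) (hj : j < 3) (hij : i ≠ 0 ∨ j ≠ 0) :
    ∃ w ∈ Cfsg.Spor.M22, w * (X0 ^ i * Y0 ^ j) * w⁻¹ = X0 := by
  have h := tTable_cover i hi j hj hij
  rw [List.any_eq_true] at h
  obtain ⟨e, he, h1⟩ := h
  rw [Bool.and_eq_true] at h1
  have e1 : e.1 = i := Nat.eq_of_beq_eq_true h1.1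
  have e2 : e.2.1 = j := Nat.eq_of_beq_eq_true h1.2
  have h2 := List.all_eq_true.1 tTable_ok e he
  rw [Bool.and_eq_true] at h2
  obtain ⟨hwp, hwm⟩ := inM22_spec h2.1
  refine ⟨permC e.2.2, hwm, ?_⟩
  have h3 := prodC_eq_of_eqW (perm_append (perm_single hwp)
    (perm_append (perm_replicate x0_perm _) (perm_replicate y0_perm _)))
    (perm_pair' x0_perm hwp) h2.2
  rw [prodC_append, prodC_append, prodC_replicate, prodC_replicate, prodC_singleton, prodC_two,
    e1, e2] at h3
  have h4 : permC e.2.2 * (X0 ^ i * Y0 ^ j) = X0 * permC e.2.2 := h3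
  rw [h4]
  group

/-! ### The centraliser of `x0` -/

/-- the stabiliser of the set of fixed points of `x0` -/
def KS : Subgroup (Equiv.Perm GolayPt) :=
  Cfsg.Spor.M22 ⊓ MulAction.stabilizer (Equiv.Perm GolayPt) (encSet.dec fxMask)

def inK (c : ℕ) : Bool := inM22 c && Nat.beq (pmask c fxMask) fxMask

theorem fx_small : encSet.small fxMask := by
  show fxMask < 16777216
  decide +kernel

theorem inK_spec {c : ℕ} (h : inK c = true) : isPerm c = true ∧ permC c ∈ KS := by
  unfold inK at h
  rw [Bool.and_eq_true] at h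
  obtain ⟨hp, hm⟩ := inM22_spec h.1
  refine ⟨hp, hm, ?_⟩
  show permC c ∈ MulAction.stabilizer (Equiv.Perm GolayPt) (encSet.dec fxMask)
  rw [MulAction.mem_stabilizer_iff, encSet.act_spec c hp fxMask fx_small]
  exact congrArg encSet.dec (Nat.eq_of_beq_eq_true h.2)

set_option maxRecDepth 1000000 in
theorem fTargets_canon : fTargets.all encSet.canon = true := by decide +kernel

set_option maxRecDepth 1000000 in
theorem fTargets_chain : chainLt fTargets = true := by decide +kernel

set_option maxRecDepth 1000000 in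
theorem f_reach : encSet.reachOK m22Gens fxMask fTargets fWords = true := by decide +kernel

theorem fGens_ok : (chainGens fLevels).all inK = true := by decide +kernel

set_option maxRecDepth 1000000 in
theorem f_prod : fTargets.length * chainProd 0 fLevels = 443520 := by decide +kernel

theorem chainProd_f : chainProd 0 fLevels = 72 := by decide +kernel

theorem KS_facts :
    KS = genSubgroup (chainGens fLevels) ∧ Nat.card KS = chainProd 0 fLevels ∧
      Nat.card Cfsg.Spor.M22 = 443520 ∧
      ∀ h ∈ Cfsg.Spor.M22, ∃ b ∈ fTargets, encSet.dec b = h • encSet.dec fxMask :=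
  rel_stab_eq_gen encSet Cfsg.Spor.M22 443520 (le_of_eq card_M22) m22Gens
    (fun S hS => inM22_spec (List.all_eq_true.1 m22Gens_ok S hS))
    fxMask fx_small fTargets (nodup_of_chainLt fTargets_chain)
    (fun b hb => List.all_eq_true.1 fTargets_canon b hb) fWords f_reach fLevels
    (fun S hS => by
      have h := List.all_eq_true.1 fGens_ok S hS
      have hs := inK_spec h
      unfold inK at h
      rw [Bool.and_eq_true] at h
      exact ⟨hs.1, hs.2.1, h.2⟩)
    f_prod (by norm_num)

theorem card_KS : Nat.card KS = 72 := by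
  rw [KS_facts.2.1, chainProd_f]

theorem fx_fixed : (List.range 24).all (fun i =>
    (fxMask.testBit i) == Nat.beq (papp x0Code i) i) = true := by decide +kernel

theorem mem_fx_iff (p : GolayPt) : p ∈ fset fxMask ↔ X0 p = p := by
  rw [mem_fset]
  have h := List.all_eq_true.1 fx_fixed (ptIdx p) (List.mem_range.2 (ptIdx p).isLt)
  rw [beq_iff_eq] at h
  rw [h]
  constructor
  · intro h1
    have h2 := Nat.eq_of_beq_eq_true h1
    rw [← ptIdx_permC x0_perm p] at h2
    exact ptEquiv.injective (Fin.ext h2)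
  · intro h1
    have h2 := ptIdx_permC x0_perm p
    show Nat.beq (papp x0Code (ptIdx p)) (ptIdx p) = true
    rw [← h2]
    show Nat.beq ((ptIdx (X0 p) : Fin 24) : ℕ) (ptIdx p) = true
    rw [h1, Nat.beq_refl]

theorem centX0_le {g : Equiv.Perm GolayPt} (hg : g ∈ Cfsg.Spor.M22) (hc : g * X0 = X0 * g) :
    g ∈ KS := by
  refine ⟨hg, ?_⟩
  show g ∈ MulAction.stabilizer (Equiv.Perm GolayPt) (fset fxMask)
  rw [MulAction.mem_stabilizer_iff]
  have hsub : g • fset fxMask ⊆ fset fxMask := by
    intro q hq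
    rw [Finset.mem_smul_finset] at hq
    obtain ⟨p, hp, rfl⟩ := hq
    rw [mem_fx_iff] at hp ⊢
    show X0 (g p) = g p
    have := congrArg (fun f : Equiv.Perm GolayPt => f p) hc
    simp only [Equiv.Perm.mul_apply] at this
    rw [← this, hp]
  exact Finset.eq_of_subset_of_card_le hsub (by rw [Finset.card_smul_finset])

end Cfsg.Agent.Lib.Helper93.Blk22
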