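import Cfsg.Agent.Lib.Helper74.DZ4
import Cfsg.Agent.Lib.Helper79.Basic
import Cfsg.Agent.Lib.Helper25.CharUtil
import Cfsg.Agent.Lib.Helper3.Ortho
import Cfsg.Agent.Lib.Helper81.Irr

set_option autoImplicit false

/-! A group of order `443520` with a suitable `3^2`, a suitable `3 × 2^2` and one class of
elements of order three with small centraliser has no irreducible character of `2`-defect zero. -/

namespace Cfsg.Agent.Lib.Helper93.DefZero

open Cfsg
open scoped ComplexConjugate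

/-- the homomorphism from a finite cyclic group given by an element of suitable order -/
def cycHom {G : Type*} [Group G] (n : ℕ) [NeZero n] (x : G) (hx : x ^ n = 1) :
    Multiplicative (ZMod n) →* G where
  toFun i := x ^ (Multiplicative.toAdd i).val
  map_one' := by simp
  map_mul' i j := by
    show x ^ (Multiplicative.toAdd (i * j)).val = _
    rw [toAdd_mul, ZMod.val_add, ← pow_eq_pow_mod _ hx, pow_add]

theorem cycHom_apply {G : Type*} [Group G] (n : ℕ) [NeZero n] (x : G) (hx : x ^ n = 1)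
    (i : Multiplicative (ZMod n)) : cycHom n x hx i = x ^ (Multiplicative.toAdd i).val := rfl

theorem cycHom_ofAdd_one {G : Type*} [Group G] (n : ℕ) [NeZero n] (hn : 1 < n) (x : G)
    (hx : x ^ n = 1) : cycHom n x hx (Multiplicative.ofAdd 1) = x := by
  have : Fact (1 < n) := ⟨hn⟩
  rw [cycHom_apply, toAdd_ofAdd, ZMod.val_one, pow_one]

theorem cycHom_commute {G : Type*} [Group G] (n m : ℕ) [NeZero n] [NeZero m] (x y : G)
    (hx : x ^ n = 1) (hy : y ^ m = 1) (h : Commute x y) (i : Multiplicative (ZMod n))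
    (j : Multiplicative (ZMod m)) : Commute (cycHom n x hx i) (cycHom m y hy j) := by
  rw [cycHom_apply, cycHom_apply]
  exact h.pow_pow _ _

theorem val_eq_zero_iff_eq_one {n : ℕ} [NeZero n] (i : Multiplicative (ZMod n)) :
    (Multiplicative.toAdd i).val = 0 ↔ i = 1 := by
  rw [ZMod.val_eq_zero]
  exact Iff.rfl

/-- character sums against a non-trivial linear character, one exceptional value -/
theorem sum_mul_conj_of_const {A : Type*} [Group A] [Fintype A] (f : A → ℂ) (μ : A →* ℂˣ)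
    (hμ : ∃ a, μ a ≠ 1) (c : ℂ) (hf : ∀ a, a ≠ 1 → f a = c) :
    ∑ a, f a * conj ((μ a : ℂˣ) : ℂ) = f 1 - c := by
  classical
  have h0 : ∑ a, ((μ a : ℂˣ) : ℂ) = 0 := by
    have := sum_hom_units_eq_zero ((Units.coeHom ℂ).comp μ) (by
      obtain ⟨a, ha⟩ := hμ
      intro h
      apply ha
      have := DFunLike.congr_fun h a
      simp only [MonoidHom.coe_comp, Function.comp_apply, Units.coeHom_apply,
        MonoidHom.one_apply] at this
      exact Units.ext this)
    simpa using this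
  have h1 : ∑ a, conj ((μ a : ℂˣ) : ℂ) = 0 := by
    rw [← map_sum, h0, map_zero]
  have h2 : ∀ a, f a * conj ((μ a : ℂˣ) : ℂ) =
      c * conj ((μ a : ℂˣ) : ℂ) + (if a = 1 then f 1 - c else 0) := by
    intro a
    by_cases ha : a = 1
    · subst ha
      simp
    · rw [if_neg ha, hf a ha]
      ring
  rw [Finset.sum_congr rfl (fun a _ => h2 a), Finset.sum_add_distrib, ← Finset.mul_sum, h1]
  simp

/-- the same for a product, the function vanishing off the first factor -/
theorem sum_prod_mul_conj {A1 A2 : Type*} [Group A1] [Fintype A1] [Group A2] [Fintype A2]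
    (f : A1 × A2 → ℂ) (μ1 : A1 →* ℂˣ) (hμ : ∃ a, μ1 a ≠ 1) (c : ℂ)
    (hf1 : ∀ i, i ≠ 1 → f (i, 1) = c) (hf0 : ∀ i j, j ≠ 1 → f (i, j) = 0) :
    ∑ a : A1 × A2, f a * conj ((μ1 a.1 : ℂˣ) : ℂ) = f (1, 1) - c := by
  classical
  rw [Fintype.sum_prod_type]
  have h : ∀ i, ∑ j, f (i, j) * conj ((μ1 i : ℂˣ) : ℂ) = f (i, 1) * conj ((μ1 i : ℂˣ) : ℂ) := by
    intro i
    rw [Finset.sum_eq_single 1]
    · intro j _ hj
      rw [hf0 i j hj, zero_mul]
    · simp
  rw [Finset.sum_congr rfl (fun i _ => h i)]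
  exact sum_mul_conj_of_const (fun i => f (i, 1)) μ1 hμ c hf1

/-- multiplicities of linear characters of a finite group mapping to `G` -/
theorem char_sum_nat {G A : Type} [Group G] [Group A] [Fintype A] {χ : G → ℂ}
    (hχ : IsCharacter G χ) (φ : A →* G) (μ : A →* ℂˣ) :
    ∃ n : ℕ, ∑ a, χ (φ a) * conj ((μ a : ℂˣ) : ℂ) = (n : ℂ) * (Nat.card A : ℂ) := by
  have h1 : IsCharacter A (fun a => χ (φ a)) := Cfsg.Agent.Lib.Helper79.isCharacter_comp hχ φ
  have h2 : IsCharacter A (fun a => ((μ a : ℂˣ) : ℂ)) :=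
    Cfsg.Agent.Lib.Helper3.IsIrrCharacter.isCharacter
      (Cfsg.Agent.Lib.Helper79.isIrrCharacter_of_monoidHom μ)
  obtain ⟨n, hn⟩ := Cfsg.Agent.Lib.Helper25.classInner_char_nat h1 h2
  refine ⟨n, ?_⟩
  unfold classInner at hn
  have hc : (Nat.card A : ℂ) ≠ 0 := by exact_mod_cast Nat.card_pos.ne'
  rw [← hn]
  field_simp

/-- the bound from the first orthogonality relation -/
theorem class_bound {G : Type*} [Group G] [Fintype G] (χ : IrrCharacter G) (x : G) (hx : x ≠ 1) :
    Complex.normSq ((χ : G → ℂ) 1) +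
      ((Subgroup.centralizer ({x} : Set G)).index : ℝ) * Complex.normSq ((χ : G → ℂ) x) ≤
      (Nat.card G : ℝ) := by
  classical
  have h1 := Cfsg.Agent.Lib.Helper3.classInner_irr χ.2 χ.2
  rw [if_pos rfl] at h1
  unfold classInner at h1
  have hc : (Nat.card G : ℂ) ≠ 0 := by exact_mod_cast Nat.card_pos.ne'
  have h2 : ∑ g : G, (χ : G → ℂ) g * conj ((χ : G → ℂ) g) = (Nat.card G : ℂ) := by
    field_simp at h1
    exact h1
  have h3 : ∑ g : G, Complex.normSq ((χ : G → ℂ) g) = (Nat.card G : ℝ) := by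
    have : ((∑ g : G, Complex.normSq ((χ : G → ℂ) g) : ℝ) : ℂ) = ((Nat.card G : ℝ) : ℂ) := by
      push_cast
      rw [← h2]
      apply Finset.sum_congr rfl
      intro g _
      rw [Complex.mul_conj]
    exact_mod_cast this
  set K : Finset G := Finset.univ.filter (fun g : G => IsConj g x) with hK
  have hcl := Cfsg.Agent.Lib.Helper3.IsCharacter.isClassFunction
    (Cfsg.Agent.Lib.Helper3.IsIrrCharacter.isCharacter χ.2)
  have h1K : (1 : G) ∉ K := by
    rw [hK, Finset.mem_filter]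
    rintro ⟨_, h⟩
    rw [isConj_one_right] at h
    exact hx h
  have hsub : insert (1 : G) K ⊆ Finset.univ := Finset.subset_univ _
  have h4 : ∑ g ∈ insert (1 : G) K, Complex.normSq ((χ : G → ℂ) g) ≤
      ∑ g : G, Complex.normSq ((χ : G → ℂ) g) :=
    Finset.sum_le_sum_of_subset_of_nonneg hsub (fun g _ _ => Complex.normSq_nonneg _)
  rw [Finset.sum_insert h1K, h3] at h4
  have h5 : ∑ g ∈ K, Complex.normSq ((χ : G → ℂ) g) =
      (K.card : ℝ) * Complex.normSq ((χ : G → ℂ) x) := by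
    rw [Finset.sum_congr rfl (g := fun _ => Complex.normSq ((χ : G → ℂ) x))]
    · rw [Finset.sum_const, nsmul_eq_mul]
    · intro g hg
      rw [hK, Finset.mem_filter] at hg
      rw [Cfsg.Agent.Lib.Helper3.IsClassFunction.eq_of_isConj hcl hg.2]
  rw [h5, hK, Cfsg.Agent.Lib.Helper3.card_filter_isConj] at h4
  exact h4

/-! ### The main statement -/

theorem fact_two_443520 : (443520 : ℕ).factorization 2 = 7 := by
  have h : (443520 : ℕ) = 2 ^ 7 * 3465 := by norm_num
  rw [h, Nat.factorization_mul (by norm_num) (by norm_num),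
    Nat.Prime.factorization_pow (by norm_num)]
  simp
  rw [Nat.factorization_eq_zero_of_not_dvd (by norm_num)]

/-- a primitive cube root of unity, as a unit -/
noncomputable def omegaU : ℂˣ :=
  Units.mk0 (Complex.exp (2 * Real.pi * Complex.I / 3))
    ((Complex.isPrimitiveRoot_exp 3 (by norm_num)).ne_zero (by norm_num))

theorem omegaU_pow : omegaU ^ 3 = 1 := by
  apply Units.ext
  rw [Units.val_pow_eq_pow_val]
  exact (Complex.isPrimitiveRoot_exp 3 (by norm_num)).pow_eq_one

theorem omegaU_ne : omegaU ≠ 1 := by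
  intro h
  have h1 : ((omegaU : ℂˣ) : ℂ) = 1 := by rw [h]; rfl
  exact (Complex.isPrimitiveRoot_exp 3 (by norm_num)).ne_one (by norm_num) h1

theorem card_mz (n : ℕ) [NeZero n] : Nat.card (Multiplicative (ZMod n)) = n := by
  rw [Nat.card_congr Multiplicative.toAdd, Nat.card_eq_fintype_card, ZMod.card]

theorem zmod2_val_cases (j : Multiplicative (ZMod 2)) :
    (Multiplicative.toAdd j).val = 0 ∨ (Multiplicative.toAdd j).val = 1 := by
  have := ZMod.val_lt (Multiplicative.toAdd j)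
  omega

theorem arith_contra (d n1 n2 : ℕ) (h1 : d ∣ 443520) (h2 : 2 ^ 7 ∣ d)
    (h3 : (d : ℤ) * d + 6160 * (((d : ℤ) - 9 * n1) * ((d : ℤ) - 9 * n1)) ≤ 443520)
    (h4 : (9 : ℤ) * n1 = 12 * n2) : False := by
  obtain ⟨k, rfl⟩ := h2
  have hee : 0 ≤ (((2 ^ 7 * k : ℕ) : ℤ) - 9 * n1) * (((2 ^ 7 * k : ℕ) : ℤ) - 9 * n1) :=
    mul_self_nonneg _
  have hk5 : k ≤ 5 := by
    by_contra hlt
    have : (6 : ℤ) ≤ k := by
      have : 6 ≤ k := by omega
      exact_mod_cast this
    push_cast at h3 hee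
    nlinarith
  interval_cases k
  · norm_num at h1
  · norm_num at h3
    set e : ℤ := 128 - 9 * n1 with he
    have h5 : e * e ≤ 69 := by omega
    have h6 : -8 ≤ e ∧ e ≤ 8 := by constructor <;> nlinarith
    omega
  · norm_num at h1
  · norm_num at h3
    set e : ℤ := 384 - 9 * n1 with he
    have h5 : e * e ≤ 48 := by omega
    have h6 : -6 ≤ e ∧ e ≤ 6 := by constructor <;> nlinarith
    omega
  · norm_num at h1
  · norm_num at h3
    set e : ℤ := 640 - 9 * n1 with he
    have h5 : e * e ≤ 5 := by omega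
    have h6 : -2 ≤ e ∧ e ≤ 2 := by constructor <;> nlinarith
    omega

theorem no_defect_zero {G : Type} [Group G] [Fintype G]
    (hG : Nat.card G = 443520)
    (x0 y0 t1 t2 : G)
    (hx3 : x0 ^ 3 = 1) (hy3 : y0 ^ 3 = 1) (hxy : Commute x0 y0)
    (ht1 : t1 ^ 2 = 1) (ht2 : t2 ^ 2 = 1) (ht12 : Commute t1 t2)
    (hxt1 : Commute x0 t1) (hxt2 : Commute x0 t2)
    (ht1ne : t1 ≠ 1) (ht2ne : t2 ≠ 1) (ht12ne : t1 * t2 ≠ 1) (hx1 : x0 ≠ 1)
    (hconj : ∀ i j : ℕ, i < 3 → j < 3 → (i ≠ 0 ∨ j ≠ 0) → IsConj (x0 ^ i * y0 ^ j) x0)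
    (hcent : Nat.card (Subgroup.centralizer ({x0} : Set G)) ≤ 72)
    (χ : IrrCharacter G) (hχ : 2 ^ 7 ∣ charDegree (χ : G → ℂ)) : False := by
  classical
  set d := charDegree (χ : G → ℂ) with hd
  have hd1 : (χ : G → ℂ) 1 = (d : ℂ) := Cfsg.Agent.Lib.Helper81.irr_apply_one_eq_charDegree χ
  have hdvd : d ∣ 443520 := by
    rw [← hG]
    exact Cfsg.Agent.Lib.Helper74.irr_charDegree_dvd_card χ
  have hvan : ∀ g : G, 2 ∣ orderOf g → (χ : G → ℂ) g = 0 := fun g hg =>
    Cfsg.Agent.Lib.Helper74.dz_vanish χ 2 Nat.prime_two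
      (by rw [hG, fact_two_443520]; exact hχ) g hg
  have hχc : IsCharacter G (χ : G → ℂ) := Cfsg.Agent.Lib.Helper3.IsIrrCharacter.isCharacter χ.2
  have hcl := Cfsg.Agent.Lib.Helper3.IsCharacter.isClassFunction hχc
  set a := (χ : G → ℂ) x0 with ha
  have hval : ∀ i j : ℕ, i < 3 → j < 3 → (i ≠ 0 ∨ j ≠ 0) → (χ : G → ℂ) (x0 ^ i * y0 ^ j) = a :=
    fun i j hi hj hij =>
      Cfsg.Agent.Lib.Helper3.IsClassFunction.eq_of_isConj hcl (hconj i j hi hj hij)
  -- the linear character
  set μ1 : Multiplicative (ZMod 3) →* ℂˣ := cycHom 3 omegaU omegaU_pow with hμ1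
  have hμ1ne : ∃ i, μ1 i ≠ 1 := ⟨Multiplicative.ofAdd 1, by
    rw [hμ1, cycHom_ofAdd_one 3 (by norm_num)]
    exact omegaU_ne⟩
  -- the elementary abelian group of order nine
  set φT : Multiplicative (ZMod 3) × Multiplicative (ZMod 3) →* G :=
    (cycHom 3 x0 hx3).noncommCoprod (cycHom 3 y0 hy3)
      (cycHom_commute 3 3 x0 y0 hx3 hy3 hxy) with hφT
  obtain ⟨n1, hn1⟩ := char_sum_nat hχc φT (μ1.comp (MonoidHom.fst _ _))
  have hT : ∑ p : Multiplicative (ZMod 3) × Multiplicative (ZMod 3),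
      (χ : G → ℂ) (φT p) * conj (((μ1.comp (MonoidHom.fst _ _)) p : ℂˣ) : ℂ) = (d : ℂ) - a := by
    have := sum_mul_conj_of_const (fun p => (χ : G → ℂ) (φT p))
      (μ1.comp (MonoidHom.fst _ _)) (by
        obtain ⟨i, hi⟩ := hμ1ne
        exact ⟨(i, 1), by simpa using hi⟩) a (by
        rintro ⟨i, j⟩ hp
        show (χ : G → ℂ) (φT (i, j)) = a
        rw [hφT, MonoidHom.noncommCoprod_apply, cycHom_apply, cycHom_apply]
        apply hval _ _ (ZMod.val_lt _) (ZMod.val_lt _)
        by_contra hcon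
        push_neg at hcon
        apply hp
        rw [val_eq_zero_iff_eq_one, val_eq_zero_iff_eq_one] at hcon
        exact Prod.ext hcon.1 hcon.2)
    rw [this]
    show (χ : G → ℂ) (φT 1) - a = _
    rw [map_one, hd1]
  -- the group of order twelve
  set φ2 : Multiplicative (ZMod 2) × Multiplicative (ZMod 2) →* G :=
    (cycHom 2 t1 ht1).noncommCoprod (cycHom 2 t2 ht2)
      (cycHom_commute 2 2 t1 t2 ht1 ht2 ht12) with hφ2
  have hφ2c : ∀ i : Multiplicative (ZMod 3), ∀ j, Commute (cycHom 3 x0 hx3 i) (φ2 j) := by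
    rintro i ⟨j1, j2⟩
    rw [hφ2, MonoidHom.noncommCoprod_apply, cycHom_apply, cycHom_apply, cycHom_apply]
    exact ((hxt1.pow_pow _ _).mul_right (hxt2.pow_pow _ _))
  set φV : Multiplicative (ZMod 3) × (Multiplicative (ZMod 2) × Multiplicative (ZMod 2)) →* G :=
    (cycHom 3 x0 hx3).noncommCoprod φ2 hφ2c with hφV
  obtain ⟨n2, hn2⟩ := char_sum_nat hχc φV (μ1.comp (MonoidHom.fst _ _))
  have hφ2ne : ∀ j, j ≠ 1 → φ2 j ≠ 1 ∧ φ2 j ^ 2 = 1 := by
    rintro ⟨j1, j2⟩ hj
    rw [hφ2, MonoidHom.noncommCoprod_apply, cycHom_apply, cycHom_apply]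
    rcases zmod2_val_cases j1 with h1 | h1 <;> rcases zmod2_val_cases j2 with h2 | h2
    · exfalso
      apply hj
      rw [val_eq_zero_iff_eq_one] at h1 h2
      rw [h1, h2]
      rfl
    · rw [h1, h2, pow_zero, one_mul, pow_one]
      exact ⟨ht2ne, ht2⟩
    · rw [h1, h2, pow_zero, mul_one, pow_one]
      exact ⟨ht1ne, ht1⟩
    · rw [h1, h2, pow_one, pow_one]
      refine ⟨ht12ne, ?_⟩
      rw [ht12.mul_pow, ht1, ht2, mul_one]
  have hV : ∑ p : Multiplicative (ZMod 3) × (Multiplicative (ZMod 2) × Multiplicative (ZMod 2)),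
      (χ : G → ℂ) (φV p) * conj (((μ1.comp (MonoidHom.fst _ _)) p : ℂˣ) : ℂ) = (d : ℂ) - a := by
    have := sum_prod_mul_conj (fun p => (χ : G → ℂ) (φV p)) μ1 hμ1ne a (by
        intro i hi
        show (χ : G → ℂ) (φV (i, 1)) = a
        rw [hφV, MonoidHom.noncommCoprod_apply, map_one, cycHom_apply]
        have := hval (Multiplicative.toAdd i).val 0 (ZMod.val_lt _) (by norm_num) (Or.inl (by
          intro h
          rw [val_eq_zero_iff_eq_one] at h
          exact hi h))
        rw [pow_zero] at this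
        exact this) (by
        intro i j hj
        show (χ : G → ℂ) (φV (i, j)) = 0
        apply hvan
        rw [hφV, MonoidHom.noncommCoprod_apply]
        obtain ⟨hs1, hs2⟩ := hφ2ne j hj
        set s := φ2 j
        set u := cycHom 3 x0 hx3 i with hu
        have hu3 : u ^ 3 = 1 := by
          rw [hu, ← map_pow]
          have : i ^ 3 = 1 := by
            apply Multiplicative.toAdd.injective
            rw [toAdd_pow, toAdd_one]
            have h3 : ((3 : ℕ) : ZMod 3) = 0 := ZMod.natCast_self 3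
            rw [nsmul_eq_mul, h3, zero_mul]
          rw [this, map_one]
        have hus : Commute u s := hφ2c i j
        have h3 : (u * s) ^ 3 = s := by
          rw [hus.mul_pow, hu3, one_mul, pow_succ, hs2, one_mul]
        have hos : orderOf s = 2 := orderOf_eq_prime hs2 hs1
        have := orderOf_pow_dvd (x := u * s) 3
        rw [h3, hos] at this
        exact this)
    simp only [MonoidHom.coe_comp, MonoidHom.coe_fst, Function.comp_apply]
    rw [this]
    show (χ : G → ℂ) (φV 1) - a = _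
    rw [map_one, hd1]
  rw [hT] at hn1
  rw [hV] at hn2
  have hc9 : Nat.card (Multiplicative (ZMod 3) × Multiplicative (ZMod 3)) = 9 := by
    rw [Nat.card_prod, card_mz]
  have hc12 : Nat.card (Multiplicative (ZMod 3) × (Multiplicative (ZMod 2) ×
      Multiplicative (ZMod 2))) = 12 := by
    rw [Nat.card_prod, Nat.card_prod, card_mz, card_mz]
  rw [hc9] at hn1
  rw [hc12] at hn2
  -- the integer `e = χ(x0)`
  have hae : a = (((d : ℤ) - 9 * n1 : ℤ) : ℂ) := by
    push_cast
    have : (d : ℂ) - a = (n1 : ℂ) * 9 := by exact_mod_cast hn1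
    linear_combination -this
  have h912 : (9 : ℤ) * n1 = 12 * n2 := by
    have : ((n1 : ℂ) * 9 : ℂ) = (n2 : ℂ) * 12 := by
      have h1 : (d : ℂ) - a = (n1 : ℂ) * 9 := by exact_mod_cast hn1
      have h2 : (d : ℂ) - a = (n2 : ℂ) * 12 := by exact_mod_cast hn2
      rw [← h1, h2]
    have : ((9 * n1 : ℤ) : ℂ) = ((12 * n2 : ℤ) : ℂ) := by
      push_cast
      linear_combination this
    exact_mod_cast this
  -- the orthogonality bound
  have hb := class_bound χ x0 hx1
  rw [hd1, ← ha, hae, hG] at hb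
  set e : ℤ := (d : ℤ) - 9 * n1 with he
  have hns1 : Complex.normSq ((d : ℂ)) = ((d : ℤ) : ℝ) * ((d : ℤ) : ℝ) := by
    have : ((d : ℂ)) = (((d : ℤ) : ℝ) : ℂ) := by push_cast; rfl
    rw [this, Complex.normSq_ofReal]
  have hns2 : Complex.normSq ((e : ℂ)) = (e : ℝ) * (e : ℝ) := by
    have : ((e : ℂ)) = ((e : ℝ) : ℂ) := by push_cast; rfl
    rw [this, Complex.normSq_ofReal]
  rw [hns1, hns2] at hb
  set idx := (Subgroup.centralizer ({x0} : Set G)).index with hidx
  have hidx1 : Nat.card (Subgroup.centralizer ({x0} : Set G)) * idx = 443520 := by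
    rw [hidx, Subgroup.card_mul_index, hG]
  have hidx2 : 6160 ≤ idx := by
    by_contra hlt
    push_neg at hlt
    have : Nat.card (Subgroup.centralizer ({x0} : Set G)) * idx ≤ 72 * 6159 :=
      Nat.mul_le_mul hcent (by omega)
    omega
  have hbZ : (d : ℤ) * d + (idx : ℤ) * (e * e) ≤ 443520 := by
    have : (((d : ℤ) * d + (idx : ℤ) * (e * e) : ℤ) : ℝ) ≤ ((443520 : ℤ) : ℝ) := by
      push_cast
      push_cast at hb
      linarith
    exact_mod_cast this
  have hee : 0 ≤ e * e := mul_self_nonneg e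
  have hbZ2 : (d : ℤ) * d + 6160 * (e * e) ≤ 443520 := by
    have : (6160 : ℤ) ≤ idx := by exact_mod_cast hidx2
    nlinarith
  exact arith_contra d n1 n2 hdvd hχ (by rw [he] at hbZ2; exact hbZ2) h912

end Cfsg.Agent.Lib.Helper93.DefZero
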