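import Cfsg.Agent.Lib.Helper95.FusionSimple

set_option autoImplicit false

/-! Bridge from facts about one explicit Sylow subgroup `S0` of a subgroup `G` of an ambient
group (no proper non-trivial strongly closed subgroup, self-normalising) to the simplicity of the
fusion system of `G` on every Sylow subgroup. -/

namespace Cfsg.Agent.Lib.Helper93.FusionBridge

open Cfsg

theorem mem_smul_sylow_iff {H : Type*} [Group H] {p : ℕ} (g : H) (P : Sylow p H) (x : H) :
    x ∈ ((g • P : Sylow p H) : Subgroup H) ↔ g⁻¹ * x * g ∈ (P : Subgroup H) := by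
  rw [Sylow.coe_subgroup_smul, Subgroup.mem_pointwise_smul_iff_inv_smul_mem, MulAut.smul_def,
    ← map_inv, MulAut.conj_apply, inv_inv]

variable {Γ : Type*} [Group Γ]

theorem isSimple_of_subgroup (G : Subgroup Γ) [Finite G] {p : ℕ} [Fact p.Prime]
    (S0 : Subgroup Γ) (hS0G : S0 ≤ G)
    (hcard : Nat.card S0 = p ^ (Nat.card G).factorization p) (hne : S0 ≠ ⊥)
    (hA : ∀ T : Subgroup Γ, T ≤ S0 → T ≠ ⊥ →
      (∀ x ∈ T, ∀ g ∈ G, g * x * g⁻¹ ∈ S0 → g * x * g⁻¹ ∈ T) → T = S0)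
    (hB : ∀ g ∈ G, (∀ x ∈ S0, g * x * g⁻¹ ∈ S0) → g ∈ S0)
    (S : Sylow p G) : (groupFusionSystem (S : Subgroup G)).IsSimple p := by
  have hc' : Nat.card (S0.subgroupOf G) = p ^ (Nat.card G).factorization p := by
    rw [← hcard]
    exact Nat.card_congr (Subgroup.subgroupOfEquivOfLe hS0G).toEquiv
  obtain ⟨g, hg⟩ := MulAction.exists_smul_eq G (Sylow.ofCard (S0.subgroupOf G) hc') S
  have hmemS : ∀ x : G, x ∈ (S : Subgroup G) ↔ ((g⁻¹ * x * g : G) : Γ) ∈ S0 := by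
    intro x
    rw [← hg, mem_smul_sylow_iff]
    exact Subgroup.mem_subgroupOf
  apply Cfsg.Agent.Lib.Helper95.Fusion.isSimple_of_selfNormalizing S
  · intro hbot
    apply hne
    rw [eq_bot_iff]
    intro x hx
    have hy : g * ⟨x, hS0G hx⟩ * g⁻¹ ∈ (S : Subgroup G) := by
      rw [hmemS]
      have : g⁻¹ * (g * ⟨x, hS0G hx⟩ * g⁻¹) * g = (⟨x, hS0G hx⟩ : G) := by group
      rw [this]
      exact hx
    rw [hbot, Subgroup.mem_bot] at hy
    have h1 : (⟨x, hS0G hx⟩ : G) = 1 := by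
      have : (⟨x, hS0G hx⟩ : G) = g⁻¹ * (g * ⟨x, hS0G hx⟩ * g⁻¹) * g := by group
      rw [this, hy]
      group
    rw [Subgroup.mem_bot]
    exact congrArg Subtype.val h1
  · intro T hTS hT hclosed
    let T0 : Subgroup Γ := (T.map (MulAut.conj g⁻¹).toMonoidHom).map G.subtype
    have hmemT0 : ∀ y : Γ, y ∈ T0 ↔ ∃ x ∈ T, ((g⁻¹ * x * g : G) : Γ) = y := by
      intro y
      constructor
      · rintro ⟨z, ⟨x, hx, rfl⟩, rfl⟩
        refine ⟨x, hx, ?_⟩
        show ((g⁻¹ * x * g : G) : Γ) = G.subtype ((MulAut.conj g⁻¹) x)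
        rw [MulAut.conj_apply, inv_inv]
        rfl
      · rintro ⟨x, hx, rfl⟩
        refine ⟨g⁻¹ * x * g, ⟨x, hx, ?_⟩, rfl⟩
        show (MulAut.conj g⁻¹) x = g⁻¹ * x * g
        rw [MulAut.conj_apply, inv_inv]
    have hT0 : T0 = S0 := by
      apply hA
      · intro y hy
        obtain ⟨x, hx, rfl⟩ := (hmemT0 y).1 hy
        exact (hmemS x).1 (hTS hx)
      · intro hbot
        apply hT
        rw [eq_bot_iff]
        intro x hx
        have : ((g⁻¹ * x * g : G) : Γ) ∈ T0 := (hmemT0 _).2 ⟨x, hx, rfl⟩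
        rw [hbot, Subgroup.mem_bot] at this
        have h1 : g⁻¹ * x * g = 1 := Subtype.ext this
        have h2 : x = g * (g⁻¹ * x * g) * g⁻¹ := by group
        rw [Subgroup.mem_bot, h2, h1]
        group
      · intro y hy γ hγ hγy
        obtain ⟨x, hx, rfl⟩ := (hmemT0 y).1 hy
        set γ' : G := ⟨γ, hγ⟩ with hγ'
        have hk : (g * γ' * g⁻¹) * x * (g * γ' * g⁻¹)⁻¹ ∈ T := by
          apply hclosed x hx
          rw [hmemS]
          have : g⁻¹ * ((g * γ' * g⁻¹) * x * (g * γ' * g⁻¹)⁻¹) * g =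
              γ' * (g⁻¹ * x * g) * γ'⁻¹ := by group
          rw [this]
          exact hγy
        rw [hmemT0]
        refine ⟨_, hk, ?_⟩
        have : g⁻¹ * ((g * γ' * g⁻¹) * x * (g * γ' * g⁻¹)⁻¹) * g =
            γ' * (g⁻¹ * x * g) * γ'⁻¹ := by group
        rw [this]
        rfl
    apply le_antisymm hTS
    intro x hx
    have h1 := (hmemS x).1 hx
    rw [← hT0, hmemT0] at h1
    obtain ⟨x', hx', he⟩ := h1
    have h2 : g⁻¹ * x' * g = g⁻¹ * x * g := Subtype.ext he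
    have h3 : x' = x := by
      have : x' = g * (g⁻¹ * x' * g) * g⁻¹ := by group
      rw [this, h2]
      group
    rw [← h3]
    exact hx'
  · intro h hh
    rw [hmemS]
    apply hB _ (g⁻¹ * h * g).2
    intro x hx
    have hx' : g * ⟨x, hS0G hx⟩ * g⁻¹ ∈ (S : Subgroup G) := by
      rw [hmemS]
      have : g⁻¹ * (g * ⟨x, hS0G hx⟩ * g⁻¹) * g = (⟨x, hS0G hx⟩ : G) := by group
      rw [this]
      exact hx
    have h1 := (hmemS _).1 (hh _ hx')
    have h2 : g⁻¹ * (h * (g * ⟨x, hS0G hx⟩ * g⁻¹) * h⁻¹) * g =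
        (g⁻¹ * h * g) * ⟨x, hS0G hx⟩ * (g⁻¹ * h * g)⁻¹ := by group
    rw [h2] at h1
    exact h1

end Cfsg.Agent.Lib.Helper93.FusionBridge
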