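import Cfsg.Agent.S0908
import Cfsg.Agent.S0953
import Cfsg.Agent.S0955
import Cfsg.Agent.S0956
import Cfsg.Agent.S4652
import Cfsg.Agent.Lib.Helper77.DefectGroup
import Cfsg.Agent.Lib.Helper81.OneIrr
import Cfsg.Agent.Lib.Helper81.LocalRing

set_option autoImplicit false

/-! A criterion for a finite group to have a single `2`-block, in terms of defect groups, and a
group-theoretic criterion excluding defect groups of intermediate order. -/

namespace Cfsg.Agent.Lib.Helper93.SingleBlk

open Cfsg

/-! ### Excluding radical subgroups -/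

/-- local data around an involution `r` and an element `x0` of odd order commuting with it -/
structure RadData {G : Type*} [Group G] (r x0 : G) (V R0 : Subgroup G) : Prop where
  hV2 : IsPGroup 2 V
  hVx : ∀ v ∈ V, v * x0 = x0 * v
  b3 : ∀ g : G, g * r = r * g → g * x0 = x0 * g → (∃ k : ℕ, g ^ (2 ^ k) = 1) → g ∈ V
  hR2 : IsPGroup 2 R0
  hRV : ¬ R0 ≤ V
  hRc : ∀ g ∈ R0, ∀ v ∈ V, g * v = v * g
  b4 : ∀ g : G, (∀ v ∈ V, g * v = v * g) → g * g = 1 → g ∈ R0
  hRsq : ∀ g ∈ R0, g * g = 1

theorem commute_inv_iff {G : Type*} [Group G] (g x : G) : g * x⁻¹ = x⁻¹ * g ↔ g * x = x * g := by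
  constructor
  · intro h
    have h1 : Commute g x⁻¹ := h
    have h2 := h1.inv_right
    rw [inv_inv] at h2
    exact h2.eq
  · intro h
    have : Commute g x := h
    exact this.inv_right.eq

theorem RadData.inv {G : Type*} [Group G] {r x0 : G} {V R0 : Subgroup G}
    (h : RadData r x0 V R0) : RadData r x0⁻¹ V R0 where
  hV2 := h.hV2
  hVx := fun v hv => (commute_inv_iff v x0).2 (h.hVx v hv)
  b3 := fun g h1 h2 h3 => h.b3 g h1 ((commute_inv_iff g x0).1 h2) h3
  hR2 := h.hR2
  hRV := h.hRV
  hRc := h.hRc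
  b4 := h.b4
  hRsq := h.hRsq

theorem RadData.map {G : Type*} [Group G] {r x0 : G} {V R0 : Subgroup G}
    (h : RadData r x0 V R0) (σ : G ≃* G) :
    RadData (σ r) (σ x0) (V.map σ.toMonoidHom) (R0.map σ.toMonoidHom) where
  hV2 := h.hV2.map _
  hVx := by
    rintro _ ⟨v, hv, rfl⟩
    show σ v * σ x0 = σ x0 * σ v
    rw [← map_mul, ← map_mul, h.hVx v hv]
  b3 := by
    intro g h1 h2 h3
    refine ⟨σ.symm g, ?_, by simp⟩
    apply h.b3
    · apply σ.injective
      rw [map_mul, map_mul, MulEquiv.apply_symm_apply]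
      exact h1
    · apply σ.injective
      rw [map_mul, map_mul, MulEquiv.apply_symm_apply]
      exact h2
    · obtain ⟨k, hk⟩ := h3
      refine ⟨k, ?_⟩
      rw [← map_pow, hk, map_one]
  hR2 := h.hR2.map _
  hRV := by
    intro hle
    apply h.hRV
    intro g hg
    obtain ⟨v, hv, hvg⟩ := hle (Subgroup.mem_map_of_mem σ.toMonoidHom hg)
    have : v = g := σ.injective hvg
    rw [← this]
    exact hv
  hRc := by
    rintro _ ⟨g, hg, rfl⟩ _ ⟨v, hv, rfl⟩
    show σ g * σ v = σ v * σ g
    rw [← map_mul, ← map_mul, h.hRc g hg v hv]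
  b4 := by
    intro g h1 h2
    refine ⟨σ.symm g, ?_, by simp⟩
    apply h.b4
    · intro v hv
      apply σ.injective
      rw [map_mul, map_mul, MulEquiv.apply_symm_apply]
      exact h1 (σ v) (Subgroup.mem_map_of_mem σ.toMonoidHom hv)
    · apply σ.injective
      rw [map_mul, MulEquiv.apply_symm_apply, map_one]
      exact h2
  hRsq := by
    rintro _ ⟨g, hg, rfl⟩
    show σ g * σ g = 1
    rw [← map_mul, h.hRsq g hg, map_one]

/-- the core step: no conjugation needed -/
theorem RadData.core {G : Type*} [Group G] [Finite G] {t x : G} {V R0 : Subgroup G}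
    (h : RadData t x V R0)
    (Sx : Sylow 2 (Subgroup.centralizer ({x} : Set G)))
    (D : Subgroup G)
    (hD : D = (Sx : Subgroup _).map (Subgroup.centralizer ({x} : Set G)).subtype)
    (htc : ∀ g ∈ D, g * t = t * g) :
    (Cfsg.pCore 2 (Subgroup.normalizer (D : Set G))).map
      (Subgroup.normalizer (D : Set G)).subtype ≠ D := by
  intro hrad
  have hDle : D ≤ Subgroup.centralizer ({x} : Set G) := by
    rw [hD]
    exact Subgroup.map_subtype_le _
  have hDp : IsPGroup 2 D := by
    rw [hD]
    exact Sx.2.map _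
  -- `D ≤ V`
  have hDV : D ≤ V := by
    intro g hg
    apply h.b3 g (htc g hg) (Subgroup.mem_centralizer_singleton_iff.1 (hDle hg))
    obtain ⟨k, hk⟩ := hDp ⟨g, hg⟩
    refine ⟨k, ?_⟩
    have := congrArg Subtype.val hk
    simpa using this
  -- `V ≤ C(x)` is a `2`-group, hence `V = D`
  have hVC : V ≤ Subgroup.centralizer ({x} : Set G) := fun v hv =>
    Subgroup.mem_centralizer_singleton_iff.2 (h.hVx v hv)
  have hVD : V = D := by
    have h1 : IsPGroup 2 (V.subgroupOf (Subgroup.centralizer ({x} : Set G))) :=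
      h.hV2.comap_subtype
    have h2 : (Sx : Subgroup _) ≤ V.subgroupOf (Subgroup.centralizer ({x} : Set G)) := by
      intro s hs
      rw [Subgroup.mem_subgroupOf]
      apply hDV
      rw [hD]
      exact Subgroup.mem_map_of_mem _ hs
    have h3 := Sx.is_maximal' h1 h2
    rw [hD, ← h3, Subgroup.subgroupOf_map_subtype, inf_of_le_left hVC]
  -- `R0` is a normal `2`-subgroup of the normaliser
  have hRN : R0 ≤ Subgroup.normalizer (D : Set G) := by
    intro g hg
    rw [← hVD, Subgroup.mem_normalizer_iff]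
    intro v
    have key : ∀ u ∈ V, g * u * g⁻¹ = u := by
      intro u hu
      rw [h.hRc g hg u hu]
      group
    constructor
    · intro hv
      rw [key v hv]
      exact hv
    · intro hv
      have h1 := key _ hv
      have : v = g⁻¹ * (g * v * g⁻¹) * g := by group
      rw [this]
      have h2 : g⁻¹ * (g * v * g⁻¹) * g = g * v * g⁻¹ := by
        have := h.hRc g hg _ hv
        calc g⁻¹ * (g * v * g⁻¹) * g = g⁻¹ * ((g * v * g⁻¹) * g) := by group
          _ = g⁻¹ * (g * (g * v * g⁻¹)) := by rw [this]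
          _ = g * v * g⁻¹ := by group
      rw [h2]
      exact hv
  have hnorm : (R0.subgroupOf (Subgroup.normalizer (D : Set G))).Normal := by
    constructor
    intro ρ hρ n
    rw [Subgroup.mem_subgroupOf] at hρ ⊢
    push_cast
    apply h.b4
    · intro v hv
      have hnv : (n : G)⁻¹ * v * ((n : G)⁻¹)⁻¹ ∈ V := by
        have hn := (Subgroup.normalizer (D : Set G)).inv_mem n.2
        have hn' : (n : G)⁻¹ ∈ Subgroup.normalizer (V : Set G) := by
          rw [hVD]
          exact hn
        exact (Subgroup.mem_normalizer_iff.1 hn' v).1 hv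
      rw [inv_inv] at hnv
      have h1 := h.hRc _ hρ _ hnv
      calc (n : G) * ρ * (n : G)⁻¹ * v = (n : G) * (ρ * ((n : G)⁻¹ * v * n)) * (n : G)⁻¹ := by group
        _ = (n : G) * (((n : G)⁻¹ * v * n) * ρ) * (n : G)⁻¹ := by rw [h1]
        _ = v * ((n : G) * ρ * (n : G)⁻¹) := by group
    · calc (n : G) * ρ * (n : G)⁻¹ * ((n : G) * ρ * (n : G)⁻¹) = (n : G) * (ρ * ρ) * (n : G)⁻¹ := by
            group
        _ = 1 := by rw [h.hRsq _ hρ]; group
  have hp : IsPGroup 2 (R0.subgroupOf (Subgroup.normalizer (D : Set G))) := h.hR2.comap_subtype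
  have hle : R0.subgroupOf (Subgroup.normalizer (D : Set G)) ≤
      Cfsg.pCore 2 (Subgroup.normalizer (D : Set G)) := le_sSup ⟨hnorm, hp⟩
  have hRD : R0 ≤ D := by
    rw [← hrad]
    intro g hg
    exact ⟨⟨g, hRN hg⟩, hle (by rw [Subgroup.mem_subgroupOf]; exact hg), rfl⟩
  apply h.hRV
  rw [hVD]
  exact hRD

/-- no radical subgroup arises as a Sylow `2`-subgroup of the centraliser of a non-trivial element
of odd order -/
theorem not_radical {G : Type*} [Group G] [Finite G] {r x0 : G} {V R0 : Subgroup G}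
    (h : RadData r x0 V R0)
    (b1 : ∀ t : G, t * t = 1 → t ≠ 1 → ∃ w, w * t * w⁻¹ = r)
    (b2 : ∀ g : G, g * r = r * g → ¬ 2 ∣ orderOf g → g ≠ 1 →
      ∃ c, c * r = r * c ∧ (c * g * c⁻¹ = x0 ∨ c * g * c⁻¹ = x0⁻¹))
    (x : G) (hx2 : ¬ 2 ∣ orderOf x) (hx1 : x ≠ 1)
    (Sx : Sylow 2 (Subgroup.centralizer ({x} : Set G)))
    (D : Subgroup G)
    (hD : D = (Sx : Subgroup _).map (Subgroup.centralizer ({x} : Set G)).subtype)
    (hne : D ≠ ⊥) :
    (Cfsg.pCore 2 (Subgroup.normalizer (D : Set G))).map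
      (Subgroup.normalizer (D : Set G)).subtype ≠ D := by
  have : Fact (Nat.Prime 2) := ⟨Nat.prime_two⟩
  have hDle : D ≤ Subgroup.centralizer ({x} : Set G) := by
    rw [hD]
    exact Subgroup.map_subtype_le _
  have hDp : IsPGroup 2 D := by
    rw [hD]
    exact Sx.2.map _
  -- a central involution of `D`
  have hnt : Nontrivial D := (Subgroup.nontrivial_iff_ne_bot D).2 hne
  have hZnt : Nontrivial (Subgroup.center D) := hDp.center_nontrivial
  have hZp : IsPGroup 2 (Subgroup.center D) := hDp.to_subgroup _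
  obtain ⟨k, hk⟩ := IsPGroup.iff_card.1 hZp
  have hk0 : k ≠ 0 := by
    intro h0
    rw [h0, pow_zero] at hk
    have := Finite.one_lt_card (α := Subgroup.center D)
    omega
  have hdvd : 2 ∣ Nat.card (Subgroup.center D) := by
    rw [hk]
    exact dvd_pow_self 2 hk0
  obtain ⟨z, hz⟩ := exists_prime_orderOf_dvd_card' 2 hdvd
  set t : G := ((z : D) : G) with ht
  have htD : t ∈ D := (z : D).2
  have hzz : z ^ 2 = 1 := by rw [← hz]; exact pow_orderOf_eq_one z
  have htt : t * t = 1 := by
    have h1 := congrArg (fun u : Subgroup.center D => ((u : D) : G)) hzz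
    simpa [pow_two] using h1
  have ht1 : t ≠ 1 := by
    intro h1
    have : z = 1 := by
      apply Subtype.ext
      apply Subtype.ext
      exact h1
    rw [this, orderOf_one] at hz
    norm_num at hz
  have htc : ∀ g ∈ D, g * t = t * g := by
    intro g hg
    have h1 := Subgroup.mem_center_iff.1 z.2 ⟨g, hg⟩
    exact congrArg Subtype.val h1
  obtain ⟨w, hw⟩ := b1 t htt ht1
  have htx : t * x = x * t := Subgroup.mem_centralizer_singleton_iff.1 (hDle htD)
  have hcr : w * x * w⁻¹ * r = r * (w * x * w⁻¹) := by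
    rw [← hw]
    calc w * x * w⁻¹ * (w * t * w⁻¹) = w * (x * t) * w⁻¹ := by group
      _ = w * (t * x) * w⁻¹ := by rw [htx]
      _ = w * t * w⁻¹ * (w * x * w⁻¹) := by group
  have hord : orderOf (w * x * w⁻¹) = orderOf x := by
    have := (MulAut.conj w).orderOf_eq x
    rwa [MulAut.conj_apply] at this
  obtain ⟨c, hc, hcx⟩ := b2 (w * x * w⁻¹) hcr (by rw [hord]; exact hx2) (by
    intro h1
    apply hx1
    have : x = w⁻¹ * (w * x * w⁻¹) * w := by group
    rw [this, h1]
    group)
  set σ : G ≃* G := MulAut.conj (c * w)⁻¹ with hσ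
  have hσr : σ r = t := by
    rw [hσ, MulAut.conj_apply, inv_inv]
    have h1 : c⁻¹ * r * c = r := by
      calc c⁻¹ * r * c = c⁻¹ * (r * c) := by group
        _ = c⁻¹ * (c * r) := by rw [hc]
        _ = r := by group
    calc (c * w)⁻¹ * r * (c * w) = w⁻¹ * (c⁻¹ * r * c) * w := by group
      _ = w⁻¹ * r * w := by rw [h1]
      _ = w⁻¹ * (w * t * w⁻¹) * w := by rw [hw]
      _ = t := by group
  have hσc : σ (c * (w * x * w⁻¹) * c⁻¹) = x := by
    rw [hσ, MulAut.conj_apply, inv_inv]
    group
  rcases hcx with hcx | hcx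
  · have hdat := h.map σ
    rw [hσr, ← hcx, hσc] at hdat
    exact hdat.core Sx D hD htc
  · have hdat := h.inv.map σ
    rw [hσr, ← hcx, hσc] at hdat
    exact hdat.core Sx D hD htc

/-! ### The single block criterion -/

theorem single_block {G : Type*} [Group G] [Finite G] (M : Ideal AlgInt) (hM : IsPModular 2 M)
    (hZero : ∀ χ : IrrCharacter G,
      ¬ 2 ^ (Nat.card G).factorization 2 ∣ charDegree (χ : G → ℂ))
    (hSyl : ∀ P : Sylow 2 G, ∀ n : G, n ∈ Subgroup.normalizer ((P : Subgroup G) : Set G) →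
      ¬ 2 ∣ orderOf n → n = 1)
    (hMid : ∀ x : G, ¬ 2 ∣ orderOf x → x ≠ 1 →
      ∀ Sx : Sylow 2 (Subgroup.centralizer ({x} : Set G)), ∀ D : Subgroup G,
        D = (Sx : Subgroup _).map (Subgroup.centralizer ({x} : Set G)).subtype → D ≠ ⊥ →
        (Cfsg.pCore 2 (Subgroup.normalizer (D : Set G))).map
          (Subgroup.normalizer (D : Set G)).subtype ≠ D)
    (χ ψ : IrrCharacter G) : SameBlock M (χ : G → ℂ) (ψ : G → ℂ) := by
  classical
  have := Fintype.ofFinite G
  have : Fact (Nat.Prime 2) := ⟨Nat.prime_two⟩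
  have hMp : M.IsPrime := Cfsg.Agent.Lib.Helper81.isPrime_of_isPModular hM
  have key : ∀ χ : IrrCharacter G, blockOf M (χ : G → ℂ) = principalBlock M G := by
    intro χ
    obtain ⟨D, hD⟩ := Cfsg.Agent.Lib.Helper77.exists_isDefectGroup hM χ
    have hB : IsPBlock M (blockOf M (χ : G → ℂ)) := ⟨χ, rfl⟩
    have hcard := Cfsg.Agent.S0908.result 2 M hM _ hB D hD
    have hDp : IsPGroup 2 D := IsPGroup.of_card hcard
    obtain ⟨P, hDP⟩ := hDp.exists_le_sylow
    obtain ⟨x, hx2, ⟨Sx, hSx⟩, hPx⟩ := Cfsg.Agent.S0956.result 2 M hM _ hB D hD P hDP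
    have hrad := Cfsg.Agent.S0955.result 2 M hM _ hB D hD
    by_cases hx1 : x = 1
    · subst hx1
      have hPD : (P : Subgroup G) = D := by
        rw [← hPx]
        have e : (MulAut.conj (1 : G)).toMonoidHom = MonoidHom.id G := by
          ext g
          simp [MulAut.conj_apply]
        rw [e, Subgroup.map_id, inf_idem]
      have h1 : IsDefectGroup 2 M (blockOf M (χ : G → ℂ)) (P : Subgroup G) := by
        rw [hPD]
        exact hD
      have h2 : IsDefectGroup 2 M (principalBlock M G) (P : Subgroup G) :=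
        (Cfsg.Agent.S4652.result 2 M hM (P : Subgroup G)).2 ⟨P, rfl⟩
      have hcount := Cfsg.Agent.S0953.result 2 M hM P
      have hsub : Subsingleton {C : ConjClasses (Subgroup.normalizer ((P : Subgroup G) : Set G)) //
          ∀ n : Subgroup.normalizer ((P : Subgroup G) : Set G), ConjClasses.mk n = C →
            ¬ 2 ∣ orderOf n ∧ (n : G) ∈ Subgroup.centralizer ((P : Subgroup G) : Set G)} := by
        constructor
        rintro ⟨C1, h1⟩ ⟨C2, h2⟩
        apply Subtype.ext
        show C1 = C2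
        obtain ⟨n1, rfl⟩ := ConjClasses.mk_surjective C1
        obtain ⟨n2, rfl⟩ := ConjClasses.mk_surjective C2
        have e1 : n1 = 1 := by
          apply Subtype.ext
          apply hSyl P n1 n1.2
          rw [Subgroup.orderOf_coe]
          exact (h1 n1 rfl).1
        have e2 : n2 = 1 := by
          apply Subtype.ext
          apply hSyl P n2 n2.2
          rw [Subgroup.orderOf_coe]
          exact (h2 n2 rfl).1
        rw [e1, e2]
      have hle : Nat.card {B : Set (IrrCharacter G) // IsPBlock M B ∧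
          IsDefectGroup 2 M B (P : Subgroup G)} ≤ 1 := by
        rw [hcount]
        exact Finite.card_le_one_iff_subsingleton.2 hsub
      have hsub2 := Finite.card_le_one_iff_subsingleton.1 hle
      have := hsub2.elim ⟨blockOf M (χ : G → ℂ), hB, h1⟩
        ⟨principalBlock M G, Cfsg.Agent.Lib.Helper81.isPBlock_principalBlock M, h2⟩
      exact congrArg Subtype.val this
    · exfalso
      by_cases hbot : D = ⊥
      · apply hZero χ
        rw [hbot, Subgroup.card_bot] at hcard
        have hdef : blockDefect 2 (blockOf M (χ : G → ℂ)) = 0 := by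
          by_contra h0
          have : 2 ≤ 2 ^ blockDefect 2 (blockOf M (χ : G → ℂ)) := by
            calc 2 = 2 ^ 1 := by norm_num
              _ ≤ 2 ^ blockDefect 2 (blockOf M (χ : G → ℂ)) :=
                Nat.pow_le_pow_right (by norm_num) (Nat.one_le_iff_ne_zero.2 h0)
          omega
        unfold blockDefect at hdef
        have hχB : χ ∈ blockOf M (χ : G → ℂ) :=
          Cfsg.Agent.Lib.Helper81.sameBlock_refl hMp _
        have hmem : (charDegree (χ : G → ℂ)).factorization 2 ∈
            (fun χ' : IrrCharacter G => (charDegree (χ' : G → ℂ)).factorization 2) ''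
              blockOf M (χ : G → ℂ) := ⟨χ, hχB, rfl⟩
        have hinf := Nat.sInf_le hmem
        have hle : (Nat.card G).factorization 2 ≤ (charDegree (χ : G → ℂ)).factorization 2 := by
          omega
        exact dvd_trans (pow_dvd_pow 2 hle) (Nat.ordProj_dvd _ 2)
      · exact hMid x hx2 hx1 Sx D hSx.symm hbot hrad
  have h1 := key χ
  have h2 := key ψ
  have hψ : ψ ∈ blockOf M (ψ : G → ℂ) := Cfsg.Agent.Lib.Helper81.sameBlock_refl hMp _
  rw [h2, ← h1] at hψ
  exact hψ

end Cfsg.Agent.Lib.Helper93.SingleBlk
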