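import Cfsg.Agent.Lib.Helper93.Blk22
import Cfsg.Agent.Lib.Helper93.SingleBlk
import Cfsg.Agent.Lib.Helper93.DefZero
import Cfsg.Agent.Lib.Helper93.FusionBridge

set_option autoImplicit false

/-! `M22` has a single `2`-block: assembling the explicit facts of `Blk22` with the criteria of
`SingleBlk` and `DefZero`. -/

namespace Cfsg.Agent.Lib.Helper93.Blk22

open Cfsg Cfsg.Agent.Lib.Helper93.Golay Cfsg.Agent.Lib.Helper93.Syl22
  Cfsg.Agent.Lib.Helper93.SingleBlk Cfsg.Agent.Lib.Helper93.DefZero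
  Cfsg.Agent.Lib.Helper93.FusionBridge

/-- elements of odd order normalising a Sylow `2`-subgroup, when one Sylow `2`-subgroup is
self-normalising -/
theorem sylow_normalizer_odd {Γ : Type*} [Group Γ] (G : Subgroup Γ) [Finite G]
    (S0 : Subgroup Γ) (hS0G : S0 ≤ G)
    (hcard : Nat.card S0 = 2 ^ (Nat.card G).factorization 2)
    (hB : ∀ g ∈ G, (∀ x ∈ S0, g * x * g⁻¹ ∈ S0) → g ∈ S0)
    (P : Sylow 2 G) (n : G) (hn : n ∈ Subgroup.normalizer ((P : Subgroup G) : Set G))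
    (hodd : ¬ 2 ∣ orderOf n) : n = 1 := by
  have : Fact (Nat.Prime 2) := ⟨Nat.prime_two⟩
  have hc' : Nat.card (S0.subgroupOf G) = 2 ^ (Nat.card G).factorization 2 := by
    rw [← hcard]
    exact Nat.card_congr (Subgroup.subgroupOfEquivOfLe hS0G).toEquiv
  obtain ⟨g, hg⟩ := MulAction.exists_smul_eq G (Sylow.ofCard (S0.subgroupOf G) hc') P
  have hmemS : ∀ x : G, x ∈ (P : Subgroup G) ↔ ((g⁻¹ * x * g : G) : Γ) ∈ S0 := by
    intro x
    rw [← hg, mem_smul_sylow_iff]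
    exact Subgroup.mem_subgroupOf
  have hn' : ((g⁻¹ * n * g : G) : Γ) ∈ S0 := by
    apply hB _ (g⁻¹ * n * g).2
    intro x hx
    have hx' : g * ⟨x, hS0G hx⟩ * g⁻¹ ∈ (P : Subgroup G) := by
      rw [hmemS]
      have : g⁻¹ * (g * ⟨x, hS0G hx⟩ * g⁻¹) * g = (⟨x, hS0G hx⟩ : G) := by group
      rw [this]
      exact hx
    have h1 := (hmemS _).1 ((Subgroup.mem_normalizer_iff.1 hn _).1 hx')
    have h2 : g⁻¹ * (n * (g * ⟨x, hS0G hx⟩ * g⁻¹) * n⁻¹) * g =
        (g⁻¹ * n * g) * ⟨x, hS0G hx⟩ * (g⁻¹ * n * g)⁻¹ := by group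
    rw [h2] at h1
    exact h1
  have hfin : Finite S0 := Nat.finite_of_card_ne_zero (by rw [hcard]; positivity)
  have h1 : orderOf (⟨_, hn'⟩ : S0) ∣ Nat.card S0 := orderOf_dvd_natCard _
  rw [Subgroup.orderOf_mk, Subgroup.orderOf_coe, hcard] at h1
  have h2 : orderOf (g⁻¹ * n * g) = orderOf n := by
    have := (MulAut.conj g⁻¹).orderOf_eq n
    rwa [MulAut.conj_apply, inv_inv] at this
  rw [h2] at h1
  obtain ⟨j, _, hj⟩ := (Nat.dvd_prime_pow Nat.prime_two).1 h1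
  have hj0 : j = 0 := by
    by_contra h0
    apply hodd
    rw [hj]
    exact dvd_pow_self 2 h0
  rw [hj0, pow_zero, orderOf_eq_one_iff] at hj
  exact hj

/-! ### The group `M22` as a type -/

instance finite_M22 : Finite ↥Cfsg.Spor.M22 :=
  Nat.finite_of_card_ne_zero (by rw [card_M22]; norm_num)

instance : Finite KS := Nat.finite_of_card_ne_zero (by rw [card_KS]; norm_num)

/-- the elements as elements of `M22` -/
def r' : ↥Cfsg.Spor.M22 := ⟨R, R_mem⟩

def x0' : ↥Cfsg.Spor.M22 := ⟨X0, X0_mem⟩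

def y0' : ↥Cfsg.Spor.M22 := ⟨Y0, Y0_mem⟩

def t1' : ↥Cfsg.Spor.M22 := ⟨T1, T1_mem⟩

def t2' : ↥Cfsg.Spor.M22 := ⟨T2, T2_mem⟩

theorem radData : RadData r' x0' (V.subgroupOf Cfsg.Spor.M22) (R0.subgroupOf Cfsg.Spor.M22) where
  hV2 := listSubgroup_isPGroup.comap_subtype
  hVx := by
    intro v hv
    apply Subtype.ext
    exact V_comm_X0 (Subgroup.mem_subgroupOf.1 hv)
  b3 := by
    intro g h1 h2 h3
    rw [Subgroup.mem_subgroupOf]
    apply two_elt_mem_V g.2 (congrArg Subtype.val h1) (congrArg Subtype.val h2)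
    obtain ⟨k, hk⟩ := h3
    refine ⟨k, ?_⟩
    have := congrArg Subtype.val hk
    simpa using this
  hR2 := listSubgroup_isPGroup.comap_subtype
  hRV := by
    intro hle
    apply R0_not_le
    intro g hg
    have : (⟨g, R0_le hg⟩ : ↥Cfsg.Spor.M22) ∈ V.subgroupOf Cfsg.Spor.M22 :=
      hle (Subgroup.mem_subgroupOf.2 hg)
    exact Subgroup.mem_subgroupOf.1 this
  hRc := by
    intro g hg v hv
    apply Subtype.ext
    exact R0_comm_V (Subgroup.mem_subgroupOf.1 hg) (Subgroup.mem_subgroupOf.1 hv)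
  b4 := by
    intro g h1 h2
    rw [Subgroup.mem_subgroupOf]
    apply inv_cent_mem_R0 g.2
    · intro v hv
      exact congrArg Subtype.val (h1 ⟨v, V_le hv⟩ (Subgroup.mem_subgroupOf.2 hv))
    · exact congrArg Subtype.val h2
  hRsq := by
    intro g hg
    apply Subtype.ext
    exact listSubgroup_sq (Subgroup.mem_subgroupOf.1 hg)

theorem b1' (t : ↥Cfsg.Spor.M22) (htt : t * t = 1) (ht1 : t ≠ 1) : ∃ w, w * t * w⁻¹ = r' := by
  obtain ⟨w, hw, e⟩ := inv_conj_rep t.2 (congrArg Subtype.val htt)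
    (fun h => ht1 (Subtype.ext h))
  exact ⟨⟨w, hw⟩, Subtype.ext e.symm⟩

theorem b2' (g : ↥Cfsg.Spor.M22) (hc : g * r' = r' * g) (hodd : ¬ 2 ∣ orderOf g) (hg1 : g ≠ 1) :
    ∃ c, c * r' = r' * c ∧ (c * g * c⁻¹ = x0' ∨ c * g * c⁻¹ = x0'⁻¹) := by
  obtain ⟨c, hcm, h1, h2⟩ := odd_conj g.2 (congrArg Subtype.val hc)
    (by rw [Subgroup.orderOf_coe]; exact hodd) (fun h => hg1 (Subtype.ext h))
  refine ⟨⟨c, hcm⟩, Subtype.ext h1, ?_⟩
  rcases h2 with h2 | h2
  · left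
    exact Subtype.ext h2
  · right
    exact Subtype.ext h2

theorem card_centralizer_le : Nat.card (Subgroup.centralizer ({x0'} : Set ↥Cfsg.Spor.M22)) ≤ 72 := by
  rw [← card_KS]
  apply Nat.card_le_card_of_injective
    (fun g : Subgroup.centralizer ({x0'} : Set ↥Cfsg.Spor.M22) =>
      (⟨((g : ↥Cfsg.Spor.M22) : Equiv.Perm GolayPt), centX0_le (g : ↥Cfsg.Spor.M22).2
        (congrArg Subtype.val (Subgroup.mem_centralizer_singleton_iff.1 g.2))⟩ : KS))
  intro a b hab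
  apply Subtype.ext
  apply Subtype.ext
  exact congrArg (fun k : KS => (k : Equiv.Perm GolayPt)) hab

theorem no_defect_zero_M22 (χ : IrrCharacter ↥Cfsg.Spor.M22) :
    ¬ 2 ^ (Nat.card ↥Cfsg.Spor.M22).factorization 2 ∣ charDegree (χ : ↥Cfsg.Spor.M22 → ℂ) := by
  intro hdiv
  rw [card_M22, fact_two_443520] at hdiv
  have := Fintype.ofFinite ↥Cfsg.Spor.M22
  refine no_defect_zero card_M22 x0' y0' t1' t2' ?_ ?_ ?_ ?_ ?_ ?_ ?_ ?_ ?_ ?_ ?_ ?_ ?_
    card_centralizer_le χ hdiv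
  · exact Subtype.ext X0_pow
  · exact Subtype.ext Y0_pow
  · exact Subtype.ext X0_Y0
  · exact Subtype.ext T1_pow
  · exact Subtype.ext T2_pow
  · exact Subtype.ext T1_T2
  · exact Subtype.ext X0_T1
  · exact Subtype.ext X0_T2
  · exact fun h => T1_ne (congrArg Subtype.val h)
  · exact fun h => T2_ne (congrArg Subtype.val h)
  · exact fun h => T1_T2_ne (congrArg Subtype.val h)
  · exact fun h => X0_ne (congrArg Subtype.val h)
  · intro i j hi hj hij
    obtain ⟨w, hw, e⟩ := conj_X0 i j hi hj hij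
    rw [isConj_iff]
    exact ⟨⟨w, hw⟩, Subtype.ext e⟩

theorem single_block_M22 (M : Ideal AlgInt) (hM : IsPModular 2 M)
    (χ ψ : IrrCharacter ↥Cfsg.Spor.M22) :
    SameBlock M (χ : ↥Cfsg.Spor.M22 → ℂ) (ψ : ↥Cfsg.Spor.M22 → ℂ) := by
  apply single_block M hM no_defect_zero_M22
  · intro P n hn hodd
    exact sylow_normalizer_odd Cfsg.Spor.M22 S0 S0_le_M22
      (by rw [card_M22, fact_two_443520]; exact card_S0)
      (fun g hg h => normalizer_le hg h) P n hn hodd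
  · intro x hx2 hx1 Sx D hD hne
    exact not_radical radData b1' b2' x hx2 hx1 Sx D hD hne

end Cfsg.Agent.Lib.Helper93.Blk22
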