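import Cfsg.Agent.Lib.Helper93.SingleBlk

set_option autoImplicit false

/-! A more flexible variant of the exclusion of radical subgroups of `SingleBlk`: the normal
`2`-subgroup of the normaliser is given by any `2`-subgroup normalised by the normaliser, together
with an element of it normalising `V` and lying outside `V`. -/

namespace Cfsg.Agent.Lib.Helper93.SingleBlk

open Cfsg

/-- local data around an involution `r` and an element `x0` of odd order commuting with it -/
structure RadData2 {G : Type*} [Group G] (r x0 : G) (V R0 : Subgroup G) : Prop where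
  hV2 : IsPGroup 2 V
  hVx : ∀ v ∈ V, v * x0 = x0 * v
  b3 : ∀ g : G, g * r = r * g → g * x0 = x0 * g → (∃ k : ℕ, g ^ (2 ^ k) = 1) → g ∈ V
  hR2 : IsPGroup 2 R0
  hRn : ∀ n : G, n ∈ Subgroup.normalizer (V : Set G) → ∀ ρ ∈ R0, n * ρ * n⁻¹ ∈ R0
  hρ : ∃ ρ ∈ R0, ρ ∈ Subgroup.normalizer (V : Set G) ∧ ρ ∉ V

theorem RadData2.inv {G : Type*} [Group G] {r x0 : G} {V R0 : Subgroup G}
    (h : RadData2 r x0 V R0) : RadData2 r x0⁻¹ V R0 where
  hV2 := h.hV2
  hVx := fun v hv => (commute_inv_iff v x0).2 (h.hVx v hv)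
  b3 := fun g h1 h2 h3 => h.b3 g h1 ((commute_inv_iff g x0).1 h2) h3
  hR2 := h.hR2
  hRn := h.hRn
  hρ := h.hρ

theorem mem_normalizer_map_iff {G : Type*} [Group G] (σ : G ≃* G) (V : Subgroup G) (n : G) :
    σ n ∈ Subgroup.normalizer ((V.map σ.toMonoidHom : Subgroup G) : Set G) ↔
      n ∈ Subgroup.normalizer (V : Set G) := by
  have h := Subgroup.map_equiv_normalizer_eq V σ
  have h' : (Subgroup.normalizer (V : Set G)).map σ.toMonoidHom =
      Subgroup.normalizer ((V.map σ.toMonoidHom : Subgroup G) : Set G) := h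
  rw [← h']
  constructor
  · rintro ⟨m, hm, hmn⟩
    have : m = n := σ.injective hmn
    rw [← this]
    exact hm
  · intro hn
    exact Subgroup.mem_map_of_mem σ.toMonoidHom hn

theorem RadData2.map {G : Type*} [Group G] {r x0 : G} {V R0 : Subgroup G}
    (h : RadData2 r x0 V R0) (σ : G ≃* G) :
    RadData2 (σ r) (σ x0) (V.map σ.toMonoidHom) (R0.map σ.toMonoidHom) where
  hV2 := h.hV2.map _
  hVx := by
    rintro _ ⟨v, hv, rfl⟩
    show σ v * σ x0 = σ x0 * σ v
    rw [← map_mul, ← map_mul, h.hVx v hv]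
  b3 := by
    intro g h1 h2 h3
    refine ⟨σ.symm g, ?_, by simp⟩
    apply h.b3
    · apply σ.injective
      rw [map_mul, map_mul, MulEquiv.apply_symm_apply]
      exact h1
    · apply σ.injective
      rw [map_mul, map_mul, MulEquiv.apply_symm_apply]
      exact h2
    · obtain ⟨k, hk⟩ := h3
      refine ⟨k, ?_⟩
      rw [← map_pow, hk, map_one]
  hR2 := h.hR2.map _
  hRn := by
    rintro n hn _ ⟨ρ, hρ, rfl⟩
    have hn' : σ.symm n ∈ Subgroup.normalizer (V : Set G) := by
      rw [← mem_normalizer_map_iff σ V, MulEquiv.apply_symm_apply]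
      exact hn
    refine ⟨σ.symm n * ρ * (σ.symm n)⁻¹, h.hRn _ hn' ρ hρ, ?_⟩
    show σ (σ.symm n * ρ * (σ.symm n)⁻¹) = n * σ ρ * n⁻¹
    rw [map_mul, map_mul, map_inv, MulEquiv.apply_symm_apply]
  hρ := by
    obtain ⟨ρ, h1, h2, h3⟩ := h.hρ
    refine ⟨σ ρ, Subgroup.mem_map_of_mem σ.toMonoidHom h1, (mem_normalizer_map_iff σ V ρ).2 h2, ?_⟩
    rintro ⟨v, hv, hvρ⟩
    have : v = ρ := σ.injective hvρ
    rw [this] at hv
    exact h3 hv

/-- the core step: no conjugation needed -/
theorem RadData2.core {G : Type*} [Group G] [Finite G] {t x : G} {V R0 : Subgroup G}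
    (h : RadData2 t x V R0)
    (Sx : Sylow 2 (Subgroup.centralizer ({x} : Set G)))
    (D : Subgroup G)
    (hD : D = (Sx : Subgroup _).map (Subgroup.centralizer ({x} : Set G)).subtype)
    (htc : ∀ g ∈ D, g * t = t * g) :
    (Cfsg.pCore 2 (Subgroup.normalizer (D : Set G))).map
      (Subgroup.normalizer (D : Set G)).subtype ≠ D := by
  intro hrad
  have hDle : D ≤ Subgroup.centralizer ({x} : Set G) := by
    rw [hD]
    exact Subgroup.map_subtype_le _
  have hDp : IsPGroup 2 D := by
    rw [hD]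
    exact Sx.2.map _
  -- `D ≤ V`
  have hDV : D ≤ V := by
    intro g hg
    apply h.b3 g (htc g hg) (Subgroup.mem_centralizer_singleton_iff.1 (hDle hg))
    obtain ⟨k, hk⟩ := hDp ⟨g, hg⟩
    refine ⟨k, ?_⟩
    have := congrArg Subtype.val hk
    simpa using this
  -- `V ≤ C(x)` is a `2`-group, hence `V = D`
  have hVC : V ≤ Subgroup.centralizer ({x} : Set G) := fun v hv =>
    Subgroup.mem_centralizer_singleton_iff.2 (h.hVx v hv)
  have hVD : V = D := by
    have h1 : IsPGroup 2 (V.subgroupOf (Subgroup.centralizer ({x} : Set G))) :=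
      h.hV2.comap_subtype
    have h2 : (Sx : Subgroup _) ≤ V.subgroupOf (Subgroup.centralizer ({x} : Set G)) := by
      intro s hs
      rw [Subgroup.mem_subgroupOf]
      apply hDV
      rw [hD]
      exact Subgroup.mem_map_of_mem _ hs
    have h3 := Sx.is_maximal' h1 h2
    rw [hD, ← h3, Subgroup.subgroupOf_map_subtype, inf_of_le_left hVC]
  -- `R0 ⊓ N(D)` is a normal `2`-subgroup of the normaliser
  set R : Subgroup G := R0 ⊓ Subgroup.normalizer (D : Set G) with hR
  have hnorm : (R.subgroupOf (Subgroup.normalizer (D : Set G))).Normal := by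
    constructor
    intro ρ hρ n
    rw [Subgroup.mem_subgroupOf] at hρ ⊢
    push_cast
    refine ⟨?_, ?_⟩
    · apply h.hRn
      · rw [hVD]
        exact n.2
      · exact hρ.1
    · exact (Subgroup.normalizer (D : Set G)).mul_mem
        ((Subgroup.normalizer (D : Set G)).mul_mem n.2 hρ.2)
        ((Subgroup.normalizer (D : Set G)).inv_mem n.2)
  have hp : IsPGroup 2 (R.subgroupOf (Subgroup.normalizer (D : Set G))) :=
    (h.hR2.to_le inf_le_left).comap_subtype
  have hle : R.subgroupOf (Subgroup.normalizer (D : Set G)) ≤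
      Cfsg.pCore 2 (Subgroup.normalizer (D : Set G)) := le_sSup ⟨hnorm, hp⟩
  have hRD : R ≤ D := by
    rw [← hrad]
    intro g hg
    exact ⟨⟨g, hg.2⟩, hle (by rw [Subgroup.mem_subgroupOf]; exact hg), rfl⟩
  obtain ⟨ρ, h1, h2, h3⟩ := h.hρ
  apply h3
  rw [hVD]
  apply hRD
  refine ⟨h1, ?_⟩
  rw [← hVD]
  exact h2

/-- no radical subgroup arises as a Sylow `2`-subgroup of the centraliser of a non-trivial element
of odd order -/
theorem not_radical2 {G : Type*} [Group G] [Finite G]
    (hb : ∀ t x : G, t * t = 1 → t ≠ 1 → t * x = x * t → ¬ 2 ∣ orderOf x → x ≠ 1 →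
      ∃ (w : G) (V R0 : Subgroup G), RadData2 (w * t * w⁻¹) (w * x * w⁻¹) V R0)
    (x : G) (hx2 : ¬ 2 ∣ orderOf x) (hx1 : x ≠ 1)
    (Sx : Sylow 2 (Subgroup.centralizer ({x} : Set G)))
    (D : Subgroup G)
    (hD : D = (Sx : Subgroup _).map (Subgroup.centralizer ({x} : Set G)).subtype)
    (hne : D ≠ ⊥) :
    (Cfsg.pCore 2 (Subgroup.normalizer (D : Set G))).map
      (Subgroup.normalizer (D : Set G)).subtype ≠ D := by
  have : Fact (Nat.Prime 2) := ⟨Nat.prime_two⟩
  have hDle : D ≤ Subgroup.centralizer ({x} : Set G) := by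
    rw [hD]
    exact Subgroup.map_subtype_le _
  have hDp : IsPGroup 2 D := by
    rw [hD]
    exact Sx.2.map _
  -- a central involution of `D`
  have hnt : Nontrivial D := (Subgroup.nontrivial_iff_ne_bot D).2 hne
  have hZnt : Nontrivial (Subgroup.center D) := hDp.center_nontrivial
  have hZp : IsPGroup 2 (Subgroup.center D) := hDp.to_subgroup _
  obtain ⟨k, hk⟩ := IsPGroup.iff_card.1 hZp
  have hk0 : k ≠ 0 := by
    intro h0
    rw [h0, pow_zero] at hk
    have := Finite.one_lt_card (α := Subgroup.center D)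
    omega
  have hdvd : 2 ∣ Nat.card (Subgroup.center D) := by
    rw [hk]
    exact dvd_pow_self 2 hk0
  obtain ⟨z, hz⟩ := exists_prime_orderOf_dvd_card' 2 hdvd
  set t : G := ((z : D) : G) with ht
  have htD : t ∈ D := (z : D).2
  have hzz : z ^ 2 = 1 := by rw [← hz]; exact pow_orderOf_eq_one z
  have htt : t * t = 1 := by
    have h1 := congrArg (fun u : Subgroup.center D => ((u : D) : G)) hzz
    simpa [pow_two] using h1
  have ht1 : t ≠ 1 := by
    intro h1
    have : z = 1 := by
      apply Subtype.ext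
      apply Subtype.ext
      exact h1
    rw [this, orderOf_one] at hz
    norm_num at hz
  have htc : ∀ g ∈ D, g * t = t * g := by
    intro g hg
    have h1 := Subgroup.mem_center_iff.1 z.2 ⟨g, hg⟩
    exact congrArg Subtype.val h1
  have htx : t * x = x * t := Subgroup.mem_centralizer_singleton_iff.1 (hDle htD)
  obtain ⟨w, V, R0, hdat⟩ := hb t x htt ht1 htx hx2 hx1
  set σ : G ≃* G := MulAut.conj w⁻¹ with hσ
  have hσt : σ (w * t * w⁻¹) = t := by
    rw [hσ, MulAut.conj_apply, inv_inv]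
    group
  have hσx : σ (w * x * w⁻¹) = x := by
    rw [hσ, MulAut.conj_apply, inv_inv]
    group
  have hdat' := hdat.map σ
  rw [hσt, hσx] at hdat'
  exact hdat'.core Sx D hD htc

end Cfsg.Agent.Lib.Helper93.SingleBlk
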