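import Cfsg.Agent.Lib.Helper93.Cent24BChk1
import Cfsg.Agent.Lib.Helper93.Cent24BChk2
import Cfsg.Agent.Lib.Helper93.SingleBlk2

set_option autoImplicit false

/-! The centraliser in `M24` of a fixed point free involution: the elements of odd order, and the
local data excluding radical subgroups. -/

namespace Cfsg.Agent.Lib.Helper93.Cent24B

open Cfsg Cfsg.Agent.Lib.Helper93.Golay
  Cfsg.Agent.Lib.Helper93.CentEnum Cfsg.Agent.Lib.Helper93.SingleBlk
open scoped Pointwise

theorem table_ok : hTableN.all entChk = true := by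
  unfold hTableN
  simp only [List.all_append, chunk0_ok, chunk1_ok, chunk2_ok, chunk3_ok, Bool.and_self]

theorem tAll_mem : ∀ S ∈ tAll, isPerm S = true ∧ permC S ∈ HS :=
  fun S hS => inH_spec (List.all_eq_true.1 tAll_ok S hS)

theorem hElems_mem {c : ℕ} (hc : c ∈ hElems) :
    isPerm c = true ∧ permC c ∈ HS ∧ c < 2 ^ 120 := by
  obtain ⟨n, hn, rfl⟩ := List.mem_map.1 hc
  have := List.all_eq_true.1 table_ok n hn
  unfold entChk at this
  rw [Bool.and_eq_true] at this
  exact factOK_spec HS tAll tAll_mem this.1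

theorem exists_code {x : Equiv.Perm GolayPt} (hx : x ∈ HS) : ∃ c ∈ hElems, permC c = x :=
  exists_code_of_list HS 7680 (by rw [card_HS]; norm_num) hElems hElems_chain hElems_length
    (fun _ hc => hElems_mem hc) hx

theorem hTable_ok : hTable.all (entryOK 15 cGens xTargets) = true := by
  unfold hTable
  rw [List.all_eq_true]
  intro e he
  obtain ⟨n, hn, rfl⟩ := List.mem_map.1 he
  have := List.all_eq_true.1 table_ok n hn
  unfold entChk at this
  rw [Bool.and_eq_true] at this
  exact entryOK_of_entryOKF _ _ _ _ this.2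

/-! ### The involution -/

theorem r_facts : isAutC rCode = true ∧ eqW [rCode, rCode] [] = true ∧
    isAutC uCode = true ∧ eqW [uCode, Cfsg.Agent.S5606.T0] [rCode, uCode] = true ∧
    S0code.all (fun t => Nat.beq (pmask rCode t) t) = true := by decide +kernel

theorem rCode_perm : isPerm rCode = true := isPerm_of_isAutC r_facts.1

theorem R_mem : R ∈ M24 := permC_mem_M24 r_facts.1

theorem R_sq : R * R = 1 := by
  have := prodC_eq_of_eqW (Blk22.perm_pair' rCode_perm rCode_perm) (by simp) r_facts.2.1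
  rwa [Blk22.prodC_two, prodC_nil] at this

theorem R_conj : R = permC uCode * permC Cfsg.Agent.S5606.T0 * (permC uCode)⁻¹ := by
  have hu := isPerm_of_isAutC r_facts.2.2.1
  have hT := isPerm_of_isAutC Cfsg.Agent.S5606.T0_ok
  have := Blk22.mul_eq_of_eqW hu hT rCode_perm hu r_facts.2.2.2.1
  rw [this]
  show R = R * permC uCode * (permC uCode)⁻¹
  group

theorem r_pairs : Blk22.pairsOK rCode rFam = true := by decide +kernel

set_option maxRecDepth 1000000 in
set_option maxHeartbeats 0 in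
theorem sext_unique : sextetList.all (fun l => beqL l S0code ||
    l.any (fun t => !(Nat.beq (pmask rCode t) t))) = true := by decide +kernel

theorem R_smul_fset {m : ℕ} (hm : m < 16777216) (h : pmask rCode m = m) :
    R • fset m = fset m := by
  have h1 := fmask_permC_smul rCode_perm (fset m)
  rw [fmask_fset' hm, h] at h1
  have h2 := fset_fmask (permC rCode • fset m)
  rw [h1] at h2
  exact h2.symm

theorem centR_le {g : Equiv.Perm GolayPt} (hg : g ∈ M24) (hc : g * R = R * g) : g ∈ HS := by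
  have hS0 : decFF S0code ∈ sextets := decFF_mem_sextets S0code_ok
  have hcan0 : canonL S0code = true := canonL_of_sextetOK S0code_ok
  have hsext : g • decFF S0code ∈ sextets := smul_mem_sextets hg hS0
  obtain ⟨l, hl, hle⟩ := sextetFamily.complete _ hsext
  have hlc : canonL l = true := sextetList_canon l hl
  have hchk := List.all_eq_true.1 sext_unique l hl
  have hl0 : l = S0code := by
    rw [Bool.or_eq_true] at hchk
    rcases hchk with h | h
    · exact beqL_eq _ _ h
    · exfalso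
      obtain ⟨m, hm, hne⟩ := List.any_eq_true.1 h
      have hmlt : m < 16777216 := canonL_lt hlc hm
      have hmem : fset m ∈ g • decFF S0code := by
        rw [← hle]
        exact (mem_decFF _ _).2 ⟨m, hm, rfl⟩
      obtain ⟨A, hA, hgA⟩ := Finset.mem_smul_finset.1 hmem
      obtain ⟨m0, hm0, rfl⟩ := (mem_decFF _ _).1 hA
      have hm0lt : m0 < 16777216 := canonL_lt hcan0 hm0
      have hfix0 : R • fset m0 = fset m0 :=
        R_smul_fset hm0lt (Nat.eq_of_beq_eq_true (List.all_eq_true.1 r_facts.2.2.2.2 m0 hm0))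
      have hfix : R • fset m = fset m := by
        rw [← hgA, ← mul_smul, ← hc, mul_smul, hfix0]
      have h1 := fmask_permC_smul rCode_perm (fset m)
      have hfix' : permC rCode • fset m = fset m := hfix
      rw [hfix', fmask_fset' hmlt] at h1
      rw [← h1, Nat.beq_refl] at hne
      simp at hne
  refine ⟨(mem_stabM _ _).2 ⟨hg, ?_⟩, ?_⟩
  · rw [← hle, hl0]
    rfl
  · show g ∈ MulAction.stabilizer (Equiv.Perm GolayPt) (encFam.dec rFam)
    rw [MulAction.mem_stabilizer_iff]
    exact Blk22.smul_decFF_of_commute rCode_perm r_pairs hc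

theorem hGens_comm : hGens.all (fun s => eqW [s, rCode] [rCode, s]) = true := by decide +kernel

theorem HS_le_M24 : HS ≤ M24 := fun _ hx => hx.1.1

theorem HS_comm {g : Equiv.Perm GolayPt} (hg : g ∈ HS) : g * R = R * g := by
  have hle : HS ≤ Subgroup.centralizer ({R} : Set (Equiv.Perm GolayPt)) := by
    rw [HS_facts.1]
    apply genSubgroup_le
    intro S hS
    rw [Subgroup.mem_centralizer_singleton_iff]
    have hp := (inH_spec (List.all_eq_true.1 hGens_ok S hS)).1
    exact (Blk22.mul_eq_of_eqW hp rCode_perm rCode_perm hp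
      (List.all_eq_true.1 hGens_comm S hS))
  exact Subgroup.mem_centralizer_singleton_iff.1 (hle hg)

theorem cGens_mem : ∀ S ∈ cGens, isPerm S = true ∧ permC S ∈ HS := by
  intro S hS
  have := List.all_eq_true.1 cGens_ok S hS
  rw [Bool.and_eq_true] at this
  exact inH_spec this.1

theorem xTargets_perm : ∀ S ∈ xTargets, isPerm S = true :=
  fun S hS => (inH_spec (List.all_eq_true.1 xTargets_ok S hS)).1

/-- `b2`: the elements of odd order of the centraliser -/
theorem odd_conj {g : Equiv.Perm GolayPt} (hg : g ∈ M24) (hc : g * R = R * g)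
    (hodd : ¬ 2 ∣ orderOf g) (hg1 : g ≠ 1) :
    ∃ c ∈ M24, c * R = R * c ∧ ∃ t ∈ xTargets, c * g * c⁻¹ = permC t := by
  obtain ⟨c, hcH, t, ht, e⟩ := odd_conj_of_table HS 9 15 card_HS cGens xTargets cGens_mem
    xTargets_perm hTable hTable_ok
    (table_perm hTableN (fun c hc => (hElems_mem hc).1))
    (table_complete HS hTableN (fun x hx => exists_code hx)) (centR_le hg hc) hodd hg1
  exact ⟨c, HS_le_M24 hcH, HS_comm hcH, t, ht, e⟩

/-! ### The canonical `2`-subgroup attached to a `2`-subgroup -/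

/-- the elements of `M24` centralising `V` and moving every point like some element of `V` -/
def RV (V : Subgroup (Equiv.Perm GolayPt)) : Subgroup (Equiv.Perm GolayPt) where
  carrier := {g | g ∈ M24 ∧ (∀ v ∈ V, g * v = v * g) ∧ ∀ p, ∃ v ∈ V, g p = v p}
  one_mem' := ⟨M24.one_mem, fun v _ => by rw [one_mul, mul_one], fun p => ⟨1, V.one_mem, rfl⟩⟩
  mul_mem' := by
    rintro a b ⟨ha, hac, hap⟩ ⟨hb, hbc, hbp⟩
    refine ⟨M24.mul_mem ha hb, ?_, ?_⟩
    · intro v hv
      rw [mul_assoc, hbc v hv, ← mul_assoc, hac v hv, mul_assoc]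
    · intro p
      obtain ⟨v, hv, e⟩ := hbp p
      obtain ⟨v', hv', e'⟩ := hap (v p)
      refine ⟨v' * v, V.mul_mem hv' hv, ?_⟩
      rw [Equiv.Perm.mul_apply, e, e', Equiv.Perm.mul_apply]
  inv_mem' := by
    rintro a ⟨ha, hac, hap⟩
    refine ⟨M24.inv_mem ha, ?_, ?_⟩
    · intro v hv
      have := hac v hv
      calc a⁻¹ * v = a⁻¹ * (v * a) * a⁻¹ := by group
        _ = a⁻¹ * (a * v) * a⁻¹ := by rw [this]
        _ = v * a⁻¹ := by group
    · intro p
      obtain ⟨v, hv, e⟩ := hap (a⁻¹ p)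
      refine ⟨v⁻¹, V.inv_mem hv, ?_⟩
      have e1 : a (a⁻¹ p) = p := by simp
      rw [e1] at e
      have e2 : v⁻¹ p = v⁻¹ (v (a⁻¹ p)) := by rw [← e]
      rw [e2]
      simp

theorem RV_pow {V : Subgroup (Equiv.Perm GolayPt)} {N : ℕ} (hV : ∀ v ∈ V, v ^ N = 1)
    {g : Equiv.Perm GolayPt} (hg : g ∈ RV V) : g ^ N = 1 := by
  obtain ⟨_, hgc, hgp⟩ := hg
  apply Equiv.ext
  intro p
  obtain ⟨v, hv, e⟩ := hgp p
  have hcomm : Commute g v := hgc v hv
  have key : ∀ k : ℕ, (g ^ k) p = (v ^ k) p := by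
    intro k
    induction k with
    | zero => rfl
    | succ k ih =>
      have h1 : (g ^ (k + 1)) p = (g ^ k) (g p) := by
        rw [pow_succ, Equiv.Perm.mul_apply]
      have h2 : (g ^ k) (v p) = v ((g ^ k) p) := by
        have := (hcomm.pow_left k).eq
        have h3 := congrArg (fun f : Equiv.Perm GolayPt => f p) this
        simpa [Equiv.Perm.mul_apply] using h3
      rw [h1, e, h2, ih, pow_succ', Equiv.Perm.mul_apply]
  rw [key N, hV v hv]

theorem RV_isPGroup {e : ℕ} {L : List ℕ} {h : grpOK e L = true} :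
    IsPGroup 2 (RV (listGrp e L h)) := by
  intro g
  refine ⟨e, ?_⟩
  apply Subtype.ext
  have := RV_pow (V := listGrp e L h) (N := 2 ^ e) (fun v hv => listGrp_pow hv) g.2
  simpa using this

/-- the checks on an element `x` of odd order, the group `vC` and the element `rho` -/
def chkB (x : ℕ) (vC : List ℕ) (rho : ℕ) : Bool :=
  inH x &&
  vC.all (fun v => inH v && Nat.blt v (2 ^ 120) && eqW [v, x] [x, v]) &&
  isAutC rho && Nat.blt rho (2 ^ 120) &&
  vC.all (fun v => eqW [rho, v] [v, rho]) &&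
  (List.range 24).all (fun i => vC.any (fun v => Nat.beq (papp rho i) (papp v i))) &&
  !(vC.any (Nat.beq rho))

def b3chk (x : ℕ) (vC : List ℕ) : Bool :=
  hElems.all (fun c => !(eqW [c, x] [x, c]) || !(eqW (List.replicate (2 ^ 9) c) []) ||
    vC.any (Nat.beq c))

/-- the involution as an element of `M24` -/
def r' : ↥M24 := ⟨R, R_mem⟩

theorem radB (x : ℕ) (vC : List ℕ) (rho : ℕ) (h1 : chkB x vC rho = true)
    (h2 : b3chk x vC = true) (hv : grpOK 3 vC = true) (hx : permC x ∈ M24) :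
    RadData2 r' (⟨permC x, hx⟩ : ↥M24) ((listGrp 3 vC hv).subgroupOf M24)
      ((RV (listGrp 3 vC hv)).subgroupOf M24) := by
  unfold chkB at h1
  simp only [Bool.and_eq_true] at h1
  obtain ⟨⟨⟨⟨⟨⟨hxH, hvall⟩, hrA⟩, hrlt⟩, hrc⟩, hrp⟩, hrnot⟩ := h1
  have hxp : isPerm x = true := (inH_spec hxH).1
  have hvfacts : ∀ v ∈ vC, isPerm v = true ∧ permC v ∈ M24 ∧ v < 2 ^ 120 ∧
      permC v * permC x = permC x * permC v := by
    intro v hvm
    have := List.all_eq_true.1 hvall v hvm
    simp only [Bool.and_eq_true] at this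
    obtain ⟨⟨a1, a2⟩, a3⟩ := this
    have hp := (inH_spec a1).1
    exact ⟨hp, HS_le_M24 (inH_spec a1).2, Nat.le_of_ble_eq_true a2,
      Blk22.mul_eq_of_eqW hp hxp hxp hp a3⟩
  have hVM : listGrp 3 vC hv ≤ M24 := by
    rintro _ ⟨c, hc, rfl⟩
    exact (hvfacts c hc).2.1
  have hρp : isPerm rho = true := isPerm_of_isAutC hrA
  have hρM : permC rho ∈ M24 := permC_mem_M24 hrA
  have hρc : ∀ v ∈ listGrp 3 vC hv, permC rho * v = v * permC rho := by
    rintro _ ⟨c, hc, rfl⟩
    exact Blk22.mul_eq_of_eqW hρp (hvfacts c hc).1 (hvfacts c hc).1 hρp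
      (List.all_eq_true.1 hrc c hc)
  have hρRV : permC rho ∈ RV (listGrp 3 vC hv) := by
    refine ⟨hρM, hρc, ?_⟩
    intro p
    have := List.all_eq_true.1 hrp (ptIdx p) (List.mem_range.2 (ptIdx p).isLt)
    obtain ⟨c, hc, e⟩ := List.any_eq_true.1 this
    refine ⟨permC c, ⟨c, hc, rfl⟩, ?_⟩
    apply ptEquiv.injective
    show ptIdx _ = ptIdx _
    apply Fin.ext
    rw [ptIdx_permC hρp, ptIdx_permC (hvfacts c hc).1]
    exact Nat.eq_of_beq_eq_true e
  refine
    { hV2 := listGrp_isPGroup.comap_subtype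
      hVx := ?_
      b3 := ?_
      hR2 := RV_isPGroup.comap_subtype
      hRn := ?_
      hρ := ?_ }
  · intro v hv'
    obtain ⟨c, hc, e⟩ := Subgroup.mem_subgroupOf.1 hv'
    apply Subtype.ext
    show (v : Equiv.Perm GolayPt) * permC x = permC x * v
    rw [← e]
    exact (hvfacts c hc).2.2.2
  · intro g hg1 hg2 hg3
    rw [Subgroup.mem_subgroupOf]
    have hgH : (g : Equiv.Perm GolayPt) ∈ HS := centR_le g.2 (congrArg Subtype.val hg1)
    obtain ⟨v, hvm, e⟩ := two_elt_of_list HS 9 15 (by norm_num) card_HS hElems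
      (fun c hc => (hElems_mem hc).1) (fun y hy => exists_code hy) x hxp vC h2 hgH
      (congrArg Subtype.val hg2) (by
        obtain ⟨k, hk⟩ := hg3
        refine ⟨k, ?_⟩
        have := congrArg Subtype.val hk
        simpa using this)
    exact ⟨v, hvm, e⟩
  · intro n hn ρ hρ
    rw [Subgroup.mem_subgroupOf] at hρ ⊢
    push_cast
    obtain ⟨hρ1, hρ2, hρ3⟩ := hρ
    have hn' := Subgroup.mem_normalizer_iff.1 hn
    have hni := Subgroup.mem_normalizer_iff.1 ((Subgroup.normalizer _).inv_mem hn)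
    -- conjugation by `n` and by `n⁻¹` preserves the group
    have hconj : ∀ v ∈ listGrp 3 vC hv,
        (n : Equiv.Perm GolayPt) * v * (n : Equiv.Perm GolayPt)⁻¹ ∈ listGrp 3 vC hv := by
      intro v hvm
      have h3 := (hn' ⟨v, hVM hvm⟩).1 (Subgroup.mem_subgroupOf.2 hvm)
      exact Subgroup.mem_subgroupOf.1 h3
    have hconji : ∀ v ∈ listGrp 3 vC hv,
        (n : Equiv.Perm GolayPt)⁻¹ * v * (n : Equiv.Perm GolayPt) ∈ listGrp 3 vC hv := by
      intro v hvm
      have h3 := (hni ⟨v, hVM hvm⟩).1 (Subgroup.mem_subgroupOf.2 hvm)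
      have h4 := Subgroup.mem_subgroupOf.1 h3
      have e : ((n⁻¹ * ⟨v, hVM hvm⟩ * n⁻¹⁻¹ : ↥M24) : Equiv.Perm GolayPt) =
          (n : Equiv.Perm GolayPt)⁻¹ * v * (n : Equiv.Perm GolayPt) := by
        rw [inv_inv]
        rfl
      rw [e] at h4
      exact h4
    refine ⟨M24.mul_mem (M24.mul_mem n.2 hρ1) (M24.inv_mem n.2), ?_, ?_⟩
    · intro v hvm
      have h3 := hρ2 _ (hconji v hvm)
      set a := (n : Equiv.Perm GolayPt)⁻¹ * v * (n : Equiv.Perm GolayPt) with ha
      have hv_eq : v = (n : Equiv.Perm GolayPt) * a * (n : Equiv.Perm GolayPt)⁻¹ := by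
        rw [ha]
        group
      rw [hv_eq]
      calc (n : Equiv.Perm GolayPt) * (ρ : Equiv.Perm GolayPt) * (n : Equiv.Perm GolayPt)⁻¹ *
            ((n : Equiv.Perm GolayPt) * a * (n : Equiv.Perm GolayPt)⁻¹)
          = (n : Equiv.Perm GolayPt) * ((ρ : Equiv.Perm GolayPt) * a) *
            (n : Equiv.Perm GolayPt)⁻¹ := by group
        _ = (n : Equiv.Perm GolayPt) * (a * (ρ : Equiv.Perm GolayPt)) *
            (n : Equiv.Perm GolayPt)⁻¹ := by rw [h3]
        _ = (n : Equiv.Perm GolayPt) * a * (n : Equiv.Perm GolayPt)⁻¹ *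
            ((n : Equiv.Perm GolayPt) * (ρ : Equiv.Perm GolayPt) *
              (n : Equiv.Perm GolayPt)⁻¹) := by group
    · intro p
      obtain ⟨v, hvm, e⟩ := hρ3 ((n : Equiv.Perm GolayPt)⁻¹ p)
      refine ⟨_, hconj v hvm, ?_⟩
      simp only [Equiv.Perm.mul_apply]
      rw [e]
  · refine ⟨⟨permC rho, hρM⟩, Subgroup.mem_subgroupOf.2 hρRV, ?_, ?_⟩
    · rw [Subgroup.mem_normalizer_iff]
      intro v
      have key : ∀ w : ↥M24, (w : Equiv.Perm GolayPt) ∈ listGrp 3 vC hv →
          ((⟨permC rho, hρM⟩ * w * (⟨permC rho, hρM⟩ : ↥M24)⁻¹ : ↥M24) : Equiv.Perm GolayPt) =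
            (w : Equiv.Perm GolayPt) := by
        intro w hw
        show permC rho * (w : Equiv.Perm GolayPt) * (permC rho)⁻¹ = w
        rw [hρc _ hw]
        group
      constructor
      · intro hvm
        rw [Subgroup.mem_subgroupOf] at hvm ⊢
        rw [key v hvm]
        exact hvm
      · intro hvm
        rw [Subgroup.mem_subgroupOf] at hvm ⊢
        -- conjugate back
        have hw := hvm
        set w : ↥M24 := ⟨permC rho, hρM⟩ * v * (⟨permC rho, hρM⟩ : ↥M24)⁻¹ with hw'
        have e : (v : Equiv.Perm GolayPt) =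
            (permC rho)⁻¹ * (w : Equiv.Perm GolayPt) * permC rho := by
          rw [hw']
          show (v : Equiv.Perm GolayPt) =
            (permC rho)⁻¹ * (permC rho * (v : Equiv.Perm GolayPt) * (permC rho)⁻¹) * permC rho
          group
        rw [e]
        have : (permC rho)⁻¹ * (w : Equiv.Perm GolayPt) * permC rho = (w : Equiv.Perm GolayPt) := by
          have := hρc _ hw
          calc (permC rho)⁻¹ * (w : Equiv.Perm GolayPt) * permC rho
              = (permC rho)⁻¹ * ((w : Equiv.Perm GolayPt) * permC rho) := by group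
            _ = (permC rho)⁻¹ * (permC rho * (w : Equiv.Perm GolayPt)) := by rw [this]
            _ = w := by group
        rw [this]
        exact hw
    · intro hmem
      obtain ⟨c, hc, e⟩ := Subgroup.mem_subgroupOf.1 hmem
      have e' : permC c = permC rho := e
      have hcf := hvfacts c hc
      have := Blk22.code_inj' hcf.2.2.1 (Nat.le_of_ble_eq_true hrlt) hcf.1 hρp e'
      rw [this] at hc
      have hany : vC.any (Nat.beq rho) = true :=
        List.any_eq_true.2 ⟨rho, hc, Nat.beq_refl rho⟩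
      rw [hany] at hrnot
      simp at hrnot

/-! ### The two classes of elements of odd order -/

theorem va_ok : grpOK 3 vCodesa = true := by decide +kernel

theorem vb_ok : grpOK 3 vCodesb = true := by decide +kernel

theorem chkB_a : chkB x0aCode vCodesa rhoa = true := by decide +kernel

theorem chkB_b : chkB x0bCode vCodesb rhob = true := by decide +kernel

set_option maxRecDepth 1000000 in
set_option maxHeartbeats 0 in
theorem b3_a : b3chk x0aCode vCodesa = true := by decide +kernel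

set_option maxRecDepth 1000000 in
set_option maxHeartbeats 0 in
theorem b3_b : b3chk x0bCode vCodesb = true := by decide +kernel

theorem inv_ok : eqW [x0aCode, x0aiCode] [] = true ∧ eqW [x0bCode, x0biCode] [] = true := by
  decide +kernel

theorem target_perm {t : ℕ} (ht : t ∈ xTargets) : isPerm t = true := xTargets_perm t ht

theorem target_mem {t : ℕ} (ht : t ∈ xTargets) : permC t ∈ M24 :=
  HS_le_M24 (inH_spec (List.all_eq_true.1 xTargets_ok t ht)).2

theorem inv_of_eqW {a b : ℕ} (ha : isPerm a = true) (hb : isPerm b = true)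
    (h : eqW [a, b] [] = true) : permC b = (permC a)⁻¹ := by
  have := prodC_eq_of_eqW (Blk22.perm_pair' ha hb) (by simp) h
  rw [Blk22.prodC_two, prodC_nil] at this
  exact (inv_eq_of_mul_eq_one_right this).symm

theorem rad_of_target {t : ℕ} (ht : t ∈ xTargets) :
    ∃ V R0 : Subgroup ↥M24, RadData2 r' (⟨permC t, target_mem ht⟩ : ↥M24) V R0 := by
  have hmem := ht
  unfold xTargets at hmem
  simp only [List.mem_cons, List.not_mem_nil, or_false] at hmem
  have ha : x0aCode ∈ xTargets := by unfold xTargets; simp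
  have hai : x0aiCode ∈ xTargets := by unfold xTargets; simp
  have hb : x0bCode ∈ xTargets := by unfold xTargets; simp
  have hbi : x0biCode ∈ xTargets := by unfold xTargets; simp
  rcases hmem with rfl | rfl | rfl | rfl
  · exact ⟨_, _, radB x0aCode vCodesa rhoa chkB_a b3_a va_ok (target_mem ha)⟩
  · have h := (radB x0aCode vCodesa rhoa chkB_a b3_a va_ok (target_mem ha)).inv
    have e : (⟨permC x0aiCode, target_mem hai⟩ : ↥M24) =
        (⟨permC x0aCode, target_mem ha⟩ : ↥M24)⁻¹ :=
      Subtype.ext (inv_of_eqW (target_perm ha) (target_perm hai) inv_ok.1)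
    rw [e]
    exact ⟨_, _, h⟩
  · exact ⟨_, _, radB x0bCode vCodesb rhob chkB_b b3_b vb_ok (target_mem hb)⟩
  · have h := (radB x0bCode vCodesb rhob chkB_b b3_b vb_ok (target_mem hb)).inv
    have e : (⟨permC x0biCode, target_mem hbi⟩ : ↥M24) =
        (⟨permC x0bCode, target_mem hb⟩ : ↥M24)⁻¹ :=
      Subtype.ext (inv_of_eqW (target_perm hb) (target_perm hbi) inv_ok.2)
    rw [e]
    exact ⟨_, _, h⟩

/-- the local data for a fixed point free involution -/
theorem rad_exists {t x : Equiv.Perm GolayPt} (ht : t ∈ M24) (hx : x ∈ M24) (htt : t * t = 1)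
    (hfpf : ∀ p, t p ≠ p) (htx : t * x = x * t) (hodd : ¬ 2 ∣ orderOf x)
    (hx1 : x ≠ 1) :
    ∃ (w : ↥M24) (V R0 : Subgroup ↥M24),
      RadData2 (w * ⟨t, ht⟩ * w⁻¹) (w * ⟨x, hx⟩ * w⁻¹) V R0 := by
  obtain ⟨u0, hu0, e0⟩ := Cfsg.Agent.S5606.fpf_conj_std ht htt hfpf
  have huM : permC uCode ∈ M24 := permC_mem_M24 r_facts.2.2.1
  -- `t = u R u⁻¹` with `u = u0 * uCode⁻¹`
  set u := u0 * (permC uCode)⁻¹ with hu'
  have hu : u ∈ M24 := M24.mul_mem hu0 (M24.inv_mem huM)
  have e' : t = u * R * u⁻¹ := by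
    rw [e0, hu', R_conj]
    group
  set x1 := u⁻¹ * x * u with hx1'
  have hx1M : x1 ∈ M24 := M24.mul_mem (M24.mul_mem (M24.inv_mem hu) hx) hu
  have hcomm : x1 * R = R * x1 := by
    have h1 : R = u⁻¹ * t * u := by rw [e']; group
    rw [h1, hx1']
    calc u⁻¹ * x * u * (u⁻¹ * t * u) = u⁻¹ * (x * t) * u := by group
      _ = u⁻¹ * (t * x) * u := by rw [htx]
      _ = u⁻¹ * t * u * (u⁻¹ * x * u) := by group
  have hord : orderOf x1 = orderOf x := by
    have := (MulAut.conj u⁻¹).orderOf_eq x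
    rwa [MulAut.conj_apply, inv_inv] at this
  have hx1ne : x1 ≠ 1 := by
    intro h
    apply hx1
    have : x = u * x1 * u⁻¹ := by rw [hx1']; group
    rw [this, h]
    group
  obtain ⟨c, hcM, hcR, tg, htg, hconj⟩ := odd_conj hx1M hcomm (by rw [hord]; exact hodd) hx1ne
  obtain ⟨V, R0, hdat⟩ := rad_of_target htg
  refine ⟨⟨c * u⁻¹, M24.mul_mem hcM (M24.inv_mem hu)⟩, V, R0, ?_⟩
  have e1 : (⟨c * u⁻¹, M24.mul_mem hcM (M24.inv_mem hu)⟩ : ↥M24) * ⟨t, ht⟩ *
      (⟨c * u⁻¹, M24.mul_mem hcM (M24.inv_mem hu)⟩ : ↥M24)⁻¹ = r' := by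
    apply Subtype.ext
    show c * u⁻¹ * t * (c * u⁻¹)⁻¹ = R
    rw [e']
    calc c * u⁻¹ * (u * R * u⁻¹) * (c * u⁻¹)⁻¹ = c * R * c⁻¹ := by group
      _ = R * c * c⁻¹ := by rw [hcR]
      _ = R := by group
  have e2 : (⟨c * u⁻¹, M24.mul_mem hcM (M24.inv_mem hu)⟩ : ↥M24) * ⟨x, hx⟩ *
      (⟨c * u⁻¹, M24.mul_mem hcM (M24.inv_mem hu)⟩ : ↥M24)⁻¹ =
      ⟨permC tg, target_mem htg⟩ := by
    apply Subtype.ext
    show c * u⁻¹ * x * (c * u⁻¹)⁻¹ = permC tg
    rw [← hconj, hx1']
    group
  rw [e1, e2]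
  exact hdat

end Cfsg.Agent.Lib.Helper93.Cent24B
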