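import Cfsg.Agent.Lib.Helper93.Cent24AMain
import Cfsg.Agent.Lib.Helper93.Cent24BMain
import Cfsg.Agent.Lib.Helper93.Blk22Main

set_option autoImplicit false

/-! `M24` has a single `2`-block, given that it has no irreducible character of `2`-defect zero:
assembling the explicit facts on the centralisers of involutions with the criteria of
`SingleBlk`. -/

namespace Cfsg.Agent.Lib.Helper93.Blk24

open Cfsg Cfsg.Agent.Lib.Helper93.Golay Cfsg.Agent.Lib.Helper93.SingleBlk

theorem fact_two_card : (244823040 : ℕ).factorization 2 = 10 := by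
  have h : (244823040 : ℕ) = 2 ^ 10 * 239085 := by norm_num
  rw [h, Nat.factorization_mul (by norm_num) (by norm_num),
    Nat.Prime.factorization_pow (by norm_num)]
  simp
  rw [Nat.factorization_eq_zero_of_not_dvd (by norm_num)]

instance finite_M24 : Finite ↥Cfsg.M24 :=
  Nat.finite_of_card_ne_zero (by rw [card_M24]; norm_num)

/-- the local data at every pair of an involution and a commuting element of odd order -/
theorem rad_data (t x : ↥Cfsg.M24) (htt : t * t = 1) (ht1 : t ≠ 1) (htx : t * x = x * t)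
    (hodd : ¬ 2 ∣ orderOf x) (hx1 : x ≠ 1) :
    ∃ (w : ↥Cfsg.M24) (V R0 : Subgroup ↥Cfsg.M24), RadData2 (w * t * w⁻¹) (w * x * w⁻¹) V R0 := by
  have htt' : (t : Equiv.Perm GolayPt) * t = 1 := congrArg Subtype.val htt
  have ht1' : (t : Equiv.Perm GolayPt) ≠ 1 := fun h => ht1 (Subtype.ext h)
  have htx' : (t : Equiv.Perm GolayPt) * x = x * t := congrArg Subtype.val htx
  have hodd' : ¬ 2 ∣ orderOf (x : Equiv.Perm GolayPt) := by
    rw [Subgroup.orderOf_coe]
    exact hodd
  have hx1' : (x : Equiv.Perm GolayPt) ≠ 1 := fun h => hx1 (Subtype.ext h)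
  rcases inv_fix_cases t.2 htt' ht1' with h8 | h0
  · exact Cent24A.rad_exists t.2 x.2 htt' ht1' h8 htx' hodd' hx1'
  · have hfpf : ∀ p, (t : Equiv.Perm GolayPt) p ≠ p := by
      intro p hp
      unfold fixcard at h0
      rw [Finset.card_eq_zero] at h0
      have : p ∈ Finset.univ.filter (fun r => (t : Equiv.Perm GolayPt) r = r) := by
        rw [Finset.mem_filter]
        exact ⟨Finset.mem_univ _, hp⟩
      rw [h0] at this
      exact absurd this (Finset.notMem_empty _)
    exact Cent24B.rad_exists t.2 x.2 htt' hfpf htx' hodd' hx1'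

/-- `M24` has a single `2`-block, once characters of defect zero are excluded -/
theorem single_block_M24_of
    (hZero : ∀ χ : IrrCharacter ↥Cfsg.M24,
      ¬ 2 ^ (Nat.card ↥Cfsg.M24).factorization 2 ∣ charDegree (χ : ↥Cfsg.M24 → ℂ))
    (M : Ideal AlgInt) (hM : IsPModular 2 M) (χ ψ : IrrCharacter ↥Cfsg.M24) :
    SameBlock M (χ : ↥Cfsg.M24 → ℂ) (ψ : ↥Cfsg.M24 → ℂ) := by
  apply single_block M hM hZero
  · intro P n hn hodd
    exact Blk22.sylow_normalizer_odd Cfsg.M24 Syl24.S0 Syl24.S0_le_M24
      (by rw [card_M24, fact_two_card]; exact Syl24.card_S0)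
      (fun g hg h => Syl24.normalizer_le hg h) P n hn hodd
  · intro x hx2 hx1 Sx D hD hne
    exact not_radical2 rad_data x hx2 hx1 Sx D hD hne

end Cfsg.Agent.Lib.Helper93.Blk24
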