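import Cfsg.Agent.Lib.Helper93.OrbitClass

set_option autoImplicit false

namespace Cfsg.Agent.Lib.Helper93.Golay

open Cfsg
open scoped Pointwise

/-! ### The family of octads and the stabiliser of the base octad -/

/-- The octads as an enumerated family. -/
def octFamily : Family encSet where
  Y := octads
  L := octList
  inv := fun _ hg _ hy => smul_mem_octads_of_mem_M24 hg hy
  canon := fun l hl => Nat.ble_eq_true_of_le ((mem_octList_iff l).1 hl).1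
  sound := fun _ hl => fset_mem_octads_of_mem hl
  complete := fun y hy => ⟨fmask y, (fmask_mem_octList_iff y).2 hy, fset_fmask y⟩
  nodup := octList_nodup

/-- The dodecads as an enumerated family. -/
def dodFamily : Family encSet where
  Y := dodecads
  L := dodList
  inv := fun _ hg _ hy => smul_mem_dodecads_of_mem_M24 hg hy
  canon := fun l hl => Nat.ble_eq_true_of_le ((mem_dodList_iff l).1 hl).1
  sound := fun _ hl => fset_mem_dodecads_of_mem hl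
  complete := fun y hy => ⟨fmask y, (fmask_mem_dodList_iff y).2 hy, fset_fmask y⟩
  nodup := dodList_nodup

def mgens8 : List ℕ := [956302485175575353788796878166559809, 1795248432537898728475572672376535, 974380510768821363662145534143076928, 983435072843990828779021698901151808, 672489013089383201796946417805440498, 469093494444711436813721036783634050, 886885761356866359606018169391843446, 667958474934398990135899582347226528]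
def octWords : List (List ℕ) := [[], [0], [7, 7, 0, 1], [0, 5, 5, 1], [0, 0], [3, 2, 6, 0], [6, 5, 7], [4, 2, 2, 0], [0, 0, 0], [1, 3, 1], [6, 3, 0], [0, 6, 3], [7, 0, 5, 2], [3, 3, 3], [1, 5, 7, 5], [7, 2, 7], [5, 6, 0, 1], [0, 0, 0, 0], [3, 4], [3, 2], [6, 2, 0], [7, 6, 4], [4, 6, 1], [2, 6, 2, 2], [5, 1, 0, 6], [0, 3, 0], [7, 6], [2, 3, 2], [3, 3, 6, 0], [7, 3, 5, 3], [2, 6, 2], [5, 6, 3, 0], [7, 2, 4], [3, 4, 1, 5], [6, 7, 1], [4, 4], [0, 3, 2], [0, 6, 2, 0], [3, 3], [0, 7, 6, 4], [2, 5, 6], [5, 6], [1, 0, 6, 0], [1, 0, 2, 0], [5, 0, 6, 1], [2], [3, 0, 0], [2, 2, 3], [0, 7, 6], [6, 0], [3, 6, 2, 0], [7, 2, 7, 0], [7, 5, 2], [7, 4, 2, 2], [7, 6, 7], [4], [2, 4, 7, 1], [4, 7], [3, 2, 4], [0, 4, 7, 1], [7, 5, 2, 3], [1, 6, 4, 0], [2, 4], [0, 4, 4], [3, 0, 2], [7, 5, 7], [5, 1, 0], [5, 5, 2, 5], [1,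 7, 6, 1], [1, 3, 1, 0], [0, 5, 6], [6, 3, 4], [1, 6, 4], [2, 3], [2, 6, 0], [4, 2, 7, 2], [2, 4, 4], [7, 0, 5], [0, 2], [6, 0, 0], [0, 3, 0, 0], [4, 4, 3], [1, 4, 4, 1], [6, 7, 3, 0], [6, 6, 1, 5], [0, 6, 0], [6, 2, 6], [4, 5, 5], [2, 1, 0], [5, 2, 4], [3, 4, 0], [3, 2, 0, 0], [5, 1, 0, 0], [5, 1, 3], [0, 4], [7, 0, 1], [2, 7, 2, 0], [3, 5, 2], [7, 3, 3], [4, 6, 5], [2, 6, 6], [2, 6, 5, 0], [3, 5, 0, 2], [4, 4, 2], [4, 1, 6, 5], [4, 2, 0, 0], [2, 1, 5, 5], [4, 1, 3], [7, 7, 2], [5, 5, 2], [1, 0, 0, 0], [5, 4, 3, 2], [5, 3, 1, 0], [6, 2, 2, 0], [3, 0, 3], [1, 3, 3, 1], [3, 2, 0], [3, 1, 7, 0], [5, 2, 4, 4], [1, 6, 6], [4, 5], [7, 3, 7], [3, 2, 5, 1], [4, 0, 0, 1], [5, 5], [6, 0, 7, 0], [0, 2, 6, 0], [7, 4, 7, 2], [3, 3, 3, 0], [1, 3, 0, 3], [0, 0, 2], [3, 3, 2], [0, 6, 0, 0], [3, 2, 3], [3], [3, 0, 0,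 0], [7, 3], [1, 6], [3, 4, 5], [3, 4, 4, 2], [1, 4, 2, 2], [3, 3, 0, 3], [3, 4, 4], [0, 0, 6, 0], [7, 7, 5], [3, 3, 0, 0], [6, 6], [2, 5, 2, 2], [0, 2, 1, 0], [0, 5, 2, 4], [7, 4, 1], [1, 6, 5], [2, 5, 0, 2], [6, 5, 3], [7, 1, 6], [0, 4, 1], [0, 5, 1, 3], [0, 0, 4], [6, 5, 5], [6, 3, 1, 4], [6, 0, 2, 0], [5, 2, 7, 0], [3, 6, 7, 0], [0, 6], [0, 7, 3, 3], [6, 4, 2], [7, 7, 3, 2], [6, 6, 5], [7, 2, 0], [7, 0, 5, 0], [7, 4, 5, 0], [2, 2, 0, 0], [3, 6, 0], [3, 3, 2, 4], [4, 1, 0, 1], [4, 0, 7], [2, 5, 3], [7, 2, 2], [6, 4, 3, 0], [0, 7, 7, 2], [4, 3], [3, 0, 0, 2], [6, 7, 6], [1, 4, 6], [5, 0, 1, 5], [6, 2, 0, 0], [7, 7, 0, 0], [7, 3, 0, 2], [4, 5, 3], [2, 2, 4, 0], [6, 7, 0, 0], [5, 0, 5], [0, 3, 2, 0], [5, 6, 7], [2, 4, 2, 2], [7, 0, 0], [3, 5, 3], [2, 2, 6], [7, 4, 7], [6, 1, 7, 0], [1, 3, 0], [6, 7, 0],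 [0, 5, 5], [5, 6, 1], [7, 3, 3, 0], [4, 2, 4, 1], [2, 4, 2], [4, 5, 2], [5, 7, 1], [4, 1, 5], [7, 0, 4], [2, 3, 6, 0], [1, 7, 4], [4, 0, 0, 0], [5, 4, 5, 1], [0, 2, 2, 0], [3, 0, 7, 0], [0, 3], [3, 4, 1], [1, 6, 5, 3], [7, 5, 4], [7, 4, 3], [2, 2], [0, 1, 6], [2, 3, 3], [7, 2, 1], [4, 7, 4], [6, 2, 1, 3], [7, 0, 0, 1], [2, 2, 4], [7, 1, 5, 0], [5, 0, 0], [2, 0, 0], [7, 0], [5, 7, 3, 0], [6, 0, 1, 7], [2, 1, 6, 4], [0, 6, 6], [4, 0], [6, 3, 1], [2, 5, 0], [3, 7, 3, 6], [5, 4, 1], [6, 4, 5, 7], [2, 5, 1, 0], [3, 0, 4, 0], [7, 6, 5], [6, 1, 5, 0], [0, 5, 0], [4, 7, 5, 2], [0, 6, 5, 0], [7, 1], [0, 1, 0], [4, 2, 5], [3, 6], [2, 6, 4, 2], [7, 4, 0], [4, 2], [4, 6, 3, 2], [5, 6, 2, 0], [7, 3, 0, 1], [3, 3, 3, 6], [0, 0, 6], [4, 7, 0], [3, 7, 4, 2], [2, 4, 7], [4, 1, 0, 2], [5, 4, 7], [4, 0, 2, 2], [2, 5, 1],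 [1, 7, 0, 2], [0, 7, 2, 0], [2, 7, 3, 0], [6, 0, 6, 1], [2, 7, 3], [1, 7, 0], [3, 1, 4], [2, 1, 6, 0], [3, 6, 5], [3, 6, 1, 5], [5, 2, 0], [2, 7, 6], [6, 7, 0, 2], [6, 4, 0, 0], [5, 2, 6, 0], [2, 1, 6], [2, 0], [4, 7, 2], [5, 2], [1, 0, 0], [3, 4, 7, 1], [4, 0, 7, 0], [5, 1, 6], [4, 2, 1, 0], [0, 3, 3, 6], [4, 6, 4, 2], [5, 2, 2], [5, 7, 5], [3, 3, 0], [1, 7, 2, 0], [6, 1, 3], [2, 4, 0], [7, 5, 5, 1], [5, 3], [7, 7, 3], [7, 5, 1, 0], [3, 0, 2, 0], [7, 4, 1, 0], [7, 7, 7, 1], [3, 6, 2], [2, 2, 2], [0, 7, 0, 0], [2, 0, 3], [7, 4, 4, 1], [7, 4, 6], [5, 0, 2], [6, 6, 6, 1], [5, 1, 7], [2, 7, 0], [4, 3, 5, 3], [2, 5, 7], [7, 3, 2, 0], [0, 5, 4], [7, 7], [5, 4, 5, 0], [1, 3, 3, 0], [2, 2, 5, 0], [1, 3, 0, 2], [4, 7, 5, 0], [4, 5, 0], [7, 6, 2], [7, 0, 6, 0], [5, 5, 1], [5, 1, 5], [5, 4, 0, 0], [7, 1, 3, 0],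 [6, 3], [6, 2, 2], [2, 3, 2, 0], [5, 1], [1, 0, 5, 2], [1, 5, 5], [3, 0], [2, 6, 0, 0], [5, 2, 1], [6, 4, 4, 3], [6, 7, 3, 2], [6, 6, 7], [6, 4, 1], [6, 7, 7], [0, 2, 2], [3, 7, 3], [4, 3, 0], [6, 2], [5, 6, 5], [0, 7, 2, 1], [4, 7, 1], [0, 2, 6], [2, 0, 4], [3, 1, 6, 5], [6, 6, 7, 0], [6, 3, 4, 0], [5, 0, 4], [0, 5, 0, 0], [2, 4, 5], [6, 7, 3], [7, 7, 7], [0, 7, 0], [4, 6, 7], [0, 2, 4, 1], [2, 0, 5, 2], [3, 6, 3, 0], [2, 0, 2], [1, 5, 3], [0, 4, 0], [7, 1, 0, 1], [7, 2, 5, 0], [3, 1, 6], [1, 7, 1, 0], [3, 7, 0, 0], [4, 7, 0, 1], [0, 5, 4, 1], [1, 6, 1, 0], [3, 7, 0], [5, 4, 3], [7, 3, 7, 0], [6, 3, 3, 2], [6, 4, 7], [2, 0, 6, 0], [6, 0, 1, 0], [5, 5, 4], [0, 4, 2, 2], [4, 1], [7, 7, 3, 1], [1, 3, 5, 1], [6], [7, 7, 6], [1, 4, 5, 0], [6, 2, 6, 0, 0], [0, 3, 6], [3, 3, 6, 2], [2, 5, 5], [0, 7, 4, 0],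 [0, 4, 2], [6, 3, 2], [4, 2, 3], [2, 3, 7, 0], [1, 4, 1, 0], [1, 0, 4, 0], [3, 2, 7, 0], [7, 3, 0], [2, 7, 7], [2, 2, 0], [7, 6, 6], [6, 7, 4, 1], [6, 2, 3], [3, 2, 1, 0], [7, 2, 3], [1, 0, 5], [4, 2, 1, 3], [7, 5, 6, 0], [1, 4, 2], [7, 1, 4, 1], [6, 0, 3, 0], [5, 0], [6, 5, 0], [1, 0], [2, 5, 2], [2, 2, 5, 1], [3, 7, 6], [4, 3, 2], [0, 1, 7, 0], [7, 3, 6], [3, 3, 3, 3], [1, 6, 0], [3, 6, 6], [5, 2, 3, 2], [0, 5, 2, 0], [7, 6, 0, 0], [3, 3, 6], [5, 1, 5, 0], [6, 3, 3], [5, 5, 6, 1], [3, 4, 2], [0, 2, 0], [0, 6, 7], [1, 0, 2], [5, 4], [0, 5, 2], [4, 0, 1], [5, 7, 3], [5, 7, 0], [4, 3, 6, 0], [7, 4, 7, 1], [5, 5, 5, 1], [4, 5, 2, 1], [7, 4, 5], [2, 1, 0, 2], [5, 7], [5, 1, 0, 2], [2, 6], [0, 1, 4], [3, 2, 5, 2], [0, 3, 3, 0], [2, 4, 1], [3, 3, 4, 2], [0, 6, 1, 3], [6, 1, 7], [3, 7, 3, 0], [3, 5, 1], [3,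 7, 6, 2], [0, 6, 5], [4, 2, 2], [7, 4, 2], [7, 6, 7, 2], [2, 4, 5, 5], [3, 1, 0], [4, 3, 1, 5], [3, 2, 6], [7, 6, 5, 0], [1, 6, 2, 1], [3, 3, 1, 0], [3, 6, 7], [5, 3, 2, 0], [4, 1, 6, 2], [2, 3, 5, 3], [2, 2, 1, 0], [3, 5, 7], [6, 7], [4, 3, 3], [5, 2, 2, 0], [6, 7, 5, 0], [4, 1, 6, 0], [1, 4], [5, 4, 1, 0], [6, 5, 6, 0], [1, 3, 7, 0], [0, 7, 7], [6, 5], [4, 4, 1], [6, 1, 5], [5, 3, 4], [7, 3, 2], [6, 0, 1], [1, 3, 0, 0], [4, 2, 5, 0], [2, 5], [0, 2, 5], [6, 1, 6], [2, 7, 3, 1], [7, 1, 0], [4, 3, 2, 0], [4, 0, 6, 0], [6, 3, 6], [3, 4, 1, 0], [3, 0, 0, 1], [7, 5, 5], [6, 2, 4], [4, 3, 1], [7, 7, 1, 0], [2, 0, 3, 1], [4, 1, 4, 0], [5, 2, 7, 2], [2, 4, 6, 0], [7, 5, 0, 2, 0], [7, 5], [5, 6, 2], [7, 0, 3, 0], [7, 5, 0], [4, 7, 2, 0], [1, 5], [4, 0, 2], [1, 0, 3, 0], [5, 5, 4, 1], [1, 7, 7], [4, 4, 2, 0],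 [5, 6, 3, 3], [4, 1, 5, 0], [0, 7, 5], [4, 0, 6], [0, 3, 7, 2], [3, 0, 1, 5], [1, 5, 3, 0], [5, 6, 2, 2], [7, 3, 1, 0], [5, 7, 2, 1], [7, 7, 1], [0, 1, 5], [5, 0, 2, 0], [7, 3, 1], [6, 4, 5, 5], [7, 6, 1], [2, 0, 7], [7, 0, 3], [1, 5, 4], [4, 0, 5, 0], [1, 6, 2], [3, 1, 5, 0], [4, 7, 0, 0], [4, 4, 5, 2], [4, 1, 7, 0], [3, 6, 6, 1], [4, 1, 0], [6, 7, 6, 4], [3, 7, 4], [3, 1, 7], [3, 4, 0, 3], [6, 2, 1, 0], [6, 6, 0, 1], [2, 4, 2, 0], [3, 0, 5], [2, 1, 5, 2], [6, 7, 4, 3], [1, 6, 2, 0], [5, 7, 3, 1], [2, 1, 5], [1, 0, 6], [1, 4, 1], [3, 5, 3, 0], [1, 5, 0, 2], [1, 7, 3], [6, 3, 2, 0], [3, 4, 6], [2, 7, 1, 0], [6, 4], [0, 0, 1], [7, 6, 2, 0], [7, 0, 2], [2, 7, 0, 0, 0], [5, 4, 4], [0, 7], [0, 2, 7], [1, 4, 0], [0, 4, 1, 0], [6, 1, 0, 0], [2, 1, 7, 2], [4, 2, 1], [1, 7, 4, 1], [4, 7, 1, 0], [5, 7, 6], [6,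 1, 0], [4, 2, 5, 1], [7, 2], [4, 6, 0], [3, 4, 6, 0], [1, 6, 3, 0], [1, 5, 0], [1, 5, 2], [2, 3, 7], [3, 6, 2, 4], [7, 1, 7], [5], [5, 5, 3], [4, 2, 7], [7, 2, 6, 2], [5, 1, 0, 1], [3, 1, 0, 1], [7, 2, 6, 0], [2, 1], [4, 6, 4], [3, 0, 2, 1], [5, 6, 0], [1, 5, 0, 0], [4, 6, 2], [2, 6, 1], [4, 5, 3, 0], [1, 7, 2], [2, 7, 0, 2], [3, 0, 1], [4, 5, 1], [3, 3, 2, 1], [1, 4, 7, 0], [4, 1, 6], [4, 0, 3], [5, 5, 6, 0], [6, 3, 3, 1], [5, 2, 1, 0], [7, 7, 6, 1], [5, 2, 5], [6, 6, 1], [2, 4, 2, 1], [5, 6, 6], [5, 3, 0], [1, 3, 4, 1], [5, 6, 0, 0], [0, 5, 7, 6], [1, 0, 1], [7, 1, 4], [5, 5, 0, 4], [6, 2, 1], [0, 4, 6, 0], [3, 2, 7], [2, 7, 5, 0], [6, 7, 6, 1], [1, 7], [1, 5, 2, 0], [1, 4, 7], [2, 7, 2], [7, 4], [7, 0, 7], [5, 4, 0, 1], [4, 6], [7, 6, 5, 3], [0, 5], [2, 1, 6, 2], [1, 3, 2], [7, 5, 2, 4], [7, 4, 3,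 0], [4, 0, 0], [6, 4, 0, 2], [0, 2, 3, 1], [6, 5, 2, 3], [0, 2, 1], [1, 3, 3], [1, 0, 3, 1], [1, 5, 0, 5], [6, 1], [4, 6, 3, 0], [5, 3, 0, 0], [1, 6, 0, 0], [5, 2, 3], [0, 1, 3], [5, 6, 5, 0], [3, 7, 5], [4, 2, 0], [6, 0, 5, 0], [1, 6, 7], [6, 2, 4, 0], [2, 2, 2, 1], [7, 6, 7, 0], [3, 1, 5], [0, 3, 7], [4, 7, 3, 1], [2, 1, 7, 3], [7, 6, 4, 0], [3, 7, 2], [2, 6, 4], [3, 1, 5, 2], [5, 4, 2, 0], [6, 6, 2, 0], [4, 4, 6, 4], [7, 7, 2, 1], [3, 7, 1, 0], [7, 5, 3], [1, 7, 5, 0], [3, 4, 0, 2], [0, 5, 3, 0], [1, 7, 7, 2], [3, 2, 1], [0, 1], [6, 3, 4, 1], [7], [2, 7], [0, 1, 0, 1], [1, 0, 4, 1], [2, 1, 3], [3, 6, 1], [2, 2, 1], [3, 4, 0, 0], [1, 7, 5], [2, 1, 4, 1], [5, 4, 2, 3], [0, 1, 7], [0, 3, 1], [4, 6, 6], [4, 0, 4, 0], [2, 4, 6], [0, 7, 4], [4, 0, 4], [2, 3, 3, 1], [6, 4, 4, 2], [2, 1, 7], [6, 4, 0], [3,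 1, 4, 1], [0, 0, 5], [2, 3, 1], [5, 4, 5], [1, 3], [5, 7, 0, 2], [4, 5, 7], [0, 4, 0, 0], [5, 3, 2], [3, 7], [0, 2, 7, 4], [7, 4, 6, 0], [4, 2, 4], [1], [4, 4, 7], [1, 0, 7], [2, 4, 1, 0], [3, 1], [0, 6, 1], [0, 1, 4, 4], [3, 3, 1], [3, 3, 7, 2], [2, 7, 4], [7, 0, 0, 0], [1, 4, 4], [6, 7, 2]]
def octStabLevels : List (ℕ × List ℕ × List (ℕ × ℕ × ℕ)) := [(0, [279679948914273635633431090463575425, 921854902034060500725890217124300099], [(1, 0, 0), (3, 0, 1), (12, 1, 0), (10, 1, 1), (2, 3, 0), (4, 10, 0), (7, 4, 0)]),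
  (1, [858981981278743503326110955818157376], [(10, 1, 0), (4, 10, 0), (12, 4, 0), (3, 12, 0), (7, 3, 0), (2, 7, 0)]),
  (2, [602682261331051062494265984481102880, 735452433573879529401507047492656160], [(3, 2, 0), (7, 2, 1), (12, 3, 0), (4, 7, 0), (10, 4, 0)]),
  (3, [806332998086258139520138958615054368], [(7, 3, 0), (4, 7, 0), (10, 4, 0), (12, 10, 0)]),
  (4, [718712872302102422341373956619077664, 392637842372782658263686327537076256], [(7, 4, 0), (12, 4, 1), (10, 7, 1)]),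
  (5, [645971039647582928216486911676614688, 651239579074641248992907580101724192, 592380006640023600238759116057708576], [(19, 5, 0), (8, 5, 1), (23, 5, 2), (9, 19, 0), (14, 19, 1), (13, 19, 2), (22, 8, 0), (18, 8, 2), (15, 23, 0), (20, 9, 1), (16, 9, 2), (21, 13, 0), (11, 13, 1), (6, 13, 2), (17, 22, 0)]),
  (6, [608167165260361641911015062699608096], [(21, 6, 0), (16, 21, 0)])]
def octRep0 : ℕ := 1009728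
def octClsWords0 : List (List ℕ) := [[], [1, 0], [8, 0], [0, 1], [0], [6, 4], [4, 0], [0, 0], [2], [8, 1], [3], [5, 0], [1, 1], [11, 2], [7, 2, 0], [6], [5, 1], [1, 3], [6, 3], [1], [11], [7, 2], [4], [3, 1], [2, 0], [9, 0], [0, 3], [10, 0], [6, 0], [4, 3]]
def octRep2 : ℕ := 31554
def octClsWords2 : List (List ℕ) := [[], [0, 7, 2], [2, 2], [2], [7, 3, 0], [0, 7], [11, 1, 5, 0], [6, 4], [7, 0, 3, 0], [5, 1, 0], [9, 7], [0, 11], [0, 0], [0, 4, 0], [0, 11, 11], [11, 0], [10, 2, 1, 2], [10, 2, 1], [9, 3], [1, 9, 0], [3, 8, 0], [7, 5], [5, 0], [4, 0, 8], [8, 1, 1], [0, 11, 0, 0], [6, 1], [0, 2, 0], [11, 9], [9, 1], [1, 2, 1], [6, 2], [1, 1, 2], [11, 4, 0], [0, 11, 0], [1, 2, 10, 1], [11, 1], [9, 1, 5, 0], [3, 0, 3], [10, 3], [6, 5, 2], [2, 0, 3], [0, 0, 2, 0], [4, 8, 0], [9, 4], [9, 4, 2], [1, 11], [10],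 [1, 3, 3], [11, 0, 0], [6, 5, 1], [6, 1, 3], [0, 9, 3, 0], [8, 8, 4], [0, 3, 1, 0], [1, 8, 0], [1, 3, 7], [6, 1, 5, 0], [10, 0], [2, 4, 2], [9, 7, 1], [3, 4, 0], [11, 8], [1, 3, 4, 0], [1, 0, 0], [2, 4], [0, 7, 1], [3, 4], [5, 9], [3, 10, 1], [9, 0, 3], [3, 0, 0], [0, 4, 3], [7, 2, 1, 2], [3, 9], [9, 2, 0], [5, 7, 1], [9, 0, 0], [10, 8, 2], [2, 11, 1, 2], [1, 5, 0], [2, 5], [7, 4, 0], [10, 2, 0], [0, 3], [7, 1, 1], [3, 3], [0, 3, 0, 0], [3, 9, 0], [2, 3], [9], [7, 1, 2], [7, 1], [11, 1, 1], [3, 9, 2], [0, 3, 9, 0], [11, 6, 2], [0, 0, 0], [1, 2, 9], [4, 10], [1, 8, 1], [11, 4], [11, 4, 2], [8, 0, 3, 0], [5, 7, 5], [9, 1, 5], [8, 9, 0], [10, 3, 0], [1, 0], [11, 7, 3], [11, 2, 0], [2, 9, 1, 2], [10, 5, 2], [5, 1, 5], [7, 2], [0, 1], [11], [0, 3, 5], [6, 4, 0], [0, 11, 1], [10, 5], [2, 1, 5], [4, 9, 1],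 [3, 10, 3], [8, 9, 2], [0, 2, 2], [0], [5, 7], [2, 11, 2], [0, 4, 1], [7, 8, 1], [3, 3, 0], [2, 3, 0], [0, 6, 7], [0, 4], [1, 2, 1, 1], [8, 9], [0, 4, 2], [8, 0, 0], [1, 2], [11, 6], [8, 0], [0, 8, 0], [2, 10, 9], [6, 1, 7], [2, 5, 2], [10, 8, 4], [0, 1, 0, 0], [9, 8, 1, 2], [10, 2, 3], [11, 8, 2], [7, 0], [1, 7, 2], [10, 2], [8, 4, 0], [2, 4, 6], [4, 1, 2], [5, 0, 3], [1, 6, 1], [5, 3], [9, 2, 1], [9, 1, 1], [10, 10, 0], [9, 2, 1, 2], [7, 7, 1], [2, 0, 3, 0], [8, 7, 2], [5, 4, 3], [0, 10, 8, 0], [5, 6, 0], [8, 5], [9, 4, 0], [6], [5, 0, 1], [0, 0, 0, 0], [10, 1, 1], [11, 2], [7, 8, 0], [0, 5], [4, 1, 3], [8, 2, 1], [6, 2, 1, 2], [8, 5, 2], [1, 4, 0], [1, 11, 5], [10, 1], [2, 10], [2, 0, 0], [3, 8], [5, 0, 10], [10, 1, 2], [4, 8], [2, 9], [4, 2, 1], [0, 0, 1], [9, 1, 2], [5, 1, 3], [7, 3, 1, 0], [4,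 7, 4], [1, 5, 2], [0, 6, 4, 0], [7, 0, 0], [1, 5], [7, 5, 0], [6, 9, 3], [1, 1], [0, 10], [4, 0, 2], [2, 5, 0], [8, 0, 10], [3, 7], [7, 1, 0], [9, 1, 0], [2, 1], [8, 5, 3], [1, 3, 1, 0], [4, 0, 7, 0], [6, 2, 1], [10, 7, 1], [7, 4, 3], [0, 7, 0], [9, 0], [3, 0], [1, 10, 5, 0], [5, 2, 4], [0, 7, 4, 0], [6, 7, 1], [8, 1, 2], [4, 3, 2], [6, 3, 1, 0], [3, 6], [0, 10, 0], [4, 3, 0], [11, 1, 3], [0, 10, 2], [7, 9], [3, 0, 5], [7, 0, 10], [5, 10, 6], [2, 7], [6, 0, 2], [0, 4, 1, 0], [6, 0], [7, 8], [0, 2], [2, 1, 1], [8, 2], [4, 0, 10], [1, 5, 1], [3, 0, 1], [4, 2, 1, 2], [5, 0, 7], [11, 3, 1], [2, 0, 10], [2, 10, 1], [3, 10], [6, 1, 0], [8, 1], [8, 2, 0, 0], [7, 7], [0, 0, 4, 0], [11, 0, 1], [7, 7, 2], [1, 1, 3], [5, 5], [3, 7, 0], [1, 2, 8, 0], [9, 8, 2], [1, 8], [10, 5, 1], [1, 7], [1, 7, 2, 0], [6, 5, 3],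 [3, 9, 3], [5, 3, 0], [8, 11], [1, 9, 5], [0, 3, 1], [10, 0, 1], [8, 1, 0], [0, 0, 2], [5, 2, 2], [7, 3], [2, 0], [4, 11, 0], [10, 8, 0], [1, 0, 3], [0, 1, 2, 0], [1, 0, 4, 0], [5], [3, 0, 4], [9, 5, 1], [5, 0, 0], [0, 9, 7, 0], [9, 2, 3], [3, 0, 8], [11, 4, 3], [6, 5, 0], [4, 1, 0], [0, 7, 0, 0], [9, 10, 0], [6, 7], [1, 3, 4], [7], [2, 8, 0], [0, 6], [4, 2], [4], [3, 1, 2], [11, 11], [8, 9, 1], [4, 0, 0], [9, 2], [3, 11, 1], [11, 1, 2], [5, 4], [10, 0, 8], [1], [9, 3, 1], [1, 11, 2], [5, 1], [3, 5, 0], [9, 10, 2, 0], [5, 2, 1, 2], [11, 1, 5], [6, 9, 0], [10, 8], [3, 1], [0, 1, 7], [8, 4, 1], [9, 5], [5, 8, 0], [3], [1, 9, 1], [1, 10, 2], [11, 9, 0], [8, 8, 2], [3, 1, 0], [6, 3, 6], [8, 0, 1], [2, 0, 8], [9, 0, 7], [1, 7, 5], [0, 6, 2, 1], [10, 6], [2, 3, 5], [4, 3], [0, 3, 2], [3, 11, 2], [10, 6, 2],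 [10, 2, 2], [4, 11], [1, 0, 4, 2], [0, 8], [8, 10, 0], [7, 4, 1], [8, 2, 0], [8, 3], [7, 10, 0], [5, 5, 0], [1, 0, 1], [4, 4], [1, 10, 2, 0], [7, 2, 0], [4, 1], [0, 2, 11], [0, 1, 1], [6, 11], [5, 1, 2], [3, 0, 7, 2], [1, 10, 0], [10, 3, 1], [0, 10, 1], [7, 0, 1], [2, 1, 5, 1], [8, 4], [3, 5], [5, 3, 5], [4, 0], [4, 4, 0], [5, 9, 0], [4, 3, 3], [0, 1, 4], [9, 3, 0], [11, 3, 2], [1, 10], [1, 5, 1, 0], [1, 6], [5, 3, 3], [6, 7, 0], [2, 3, 2], [1, 6, 2], [7, 3, 1], [10, 9], [5, 2], [0, 8, 1], [0, 10, 1, 1], [10, 0, 0], [8, 4, 2], [11, 6, 4], [3, 1, 5, 0], [9, 7, 0], [5, 9, 1], [4, 6, 0], [11, 5], [7, 0, 8], [10, 1, 0], [1, 3], [9, 0, 1], [10, 5, 0], [0, 5, 5], [11, 6, 1], [0, 10, 9], [2, 1, 2], [4, 6], [5, 5, 2], [2, 11], [7, 2, 10], [1, 10, 6], [6, 5], [3, 11, 0], [10, 7, 2], [7, 4], [0, 3, 0], [10, 7],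 [1, 4, 4], [1, 2, 8, 1], [1, 4], [11, 3, 0], [6, 3, 0], [4, 11, 2], [3, 1, 5], [5, 6, 4], [2, 8, 1], [0, 7, 8], [0, 5, 2], [8], [8, 11, 2], [9, 6, 0], [1, 2, 0], [7, 7, 3], [8, 6, 2], [0, 8, 5], [1, 5, 5, 0], [4, 1, 5], [3, 2], [7, 6, 2], [7, 10]]
def octRep4 : ℕ := 10558
def octClsWords4 : List (List ℕ) := [[], [0, 2, 1, 1], [9, 1], [7, 3, 0], [5], [0, 7, 5], [6, 4, 0], [4, 9, 1], [5, 1, 3, 0], [5, 6, 0], [11, 1, 0], [0], [0, 0], [2, 1, 1], [6], [1, 10, 3], [1, 2, 3], [9, 3], [2, 5], [4, 11, 0, 0], [8, 0, 5], [11, 3, 3], [1, 1, 1], [11, 4, 0], [4, 5, 2], [5, 0, 0], [5, 0], [4, 3, 1], [4, 10], [8, 2, 1], [11, 1, 2], [5, 8, 1], [11, 0, 0], [6, 2], [2, 0, 0], [11, 0], [6, 7], [1, 4, 0], [5, 1, 0], [7, 1, 2], [2, 9, 1], [8, 3], [7, 6, 0, 0], [2], [5, 0, 5], [9, 4, 2], [3, 7, 2], [3, 0, 6], [11, 4, 1], [3,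 8, 0], [7, 3], [6, 1, 3], [7, 3, 0, 0], [3, 3], [1, 6, 7], [4, 0], [1, 1], [11, 1], [3, 2, 1], [4, 2], [7, 1, 0, 0], [0, 6, 2], [6, 4, 0, 0], [9, 2], [10, 5, 0, 0], [6, 4], [1, 5, 0], [3, 3, 0], [4, 1, 7], [1, 1, 0], [4, 1, 2], [1, 6, 0, 0], [3, 3, 2], [0, 7, 3], [9, 6], [0, 9, 2], [2, 4], [1, 0, 6], [7, 4], [0, 7, 4], [1, 8, 0], [4, 5, 0], [4, 8, 2, 1], [7, 8], [1, 7, 0], [7, 4, 0], [0, 2, 4], [11, 11, 5], [9, 0, 0], [3, 7, 4], [7, 11, 1], [9, 0], [2, 10, 0, 0], [0, 3], [4, 3], [1, 6, 4], [11, 0, 5], [3, 10, 4], [10, 5, 2], [2, 3, 1], [10, 0], [0, 1], [10, 6], [8, 0, 2], [8, 0, 6], [8, 7, 2], [10, 4, 2], [11, 3, 0, 0], [1], [10, 6, 0], [5, 3, 2], [1, 0, 5], [2, 6, 0, 0], [1, 2], [7, 1, 3], [10, 4], [6, 8], [0, 2], [6, 0, 6], [3, 4], [2, 1, 3], [5, 7, 0], [8, 4, 0], [4, 1], [6, 1, 0], [9, 3, 0], [1,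 4, 7], [4, 4], [1, 10, 0], [1, 0, 1], [0, 4, 0], [7, 5, 2], [2, 8, 0], [0, 3, 3], [7, 0], [8, 8, 1], [7, 2], [0, 6], [5, 3, 0], [1, 0], [0, 5, 0, 0], [10, 0, 3], [4, 0, 6], [10, 5], [11, 6, 0], [1, 7], [6, 5, 3], [10, 1, 3], [5, 4, 3], [7, 0, 5], [1, 0, 0], [5, 2, 3], [9, 2, 1], [5, 3], [3, 4, 1], [1, 5, 4], [8, 0], [9, 1, 0], [0, 0, 2], [6, 0, 0], [6, 0, 5], [5, 5], [6, 0], [1, 3, 0], [4, 7], [1, 3], [3, 2], [2, 0, 1], [2, 1], [10, 3], [3, 4, 2], [7, 0, 2], [0, 1, 1], [8, 1], [2, 11, 0, 0], [2, 6, 2], [11, 0, 2], [7], [5, 11, 1], [5, 1, 1], [4, 1, 3], [3, 4, 3], [7, 5, 1, 0], [9, 1, 2], [11, 0, 1], [0, 10], [5, 10], [0, 5], [4, 2, 1], [3, 6], [0, 10, 0], [10, 2], [5, 0, 1], [5, 10, 0], [7, 3, 3], [3, 0, 0], [2, 3], [9, 4, 1], [3, 0, 1], [3, 10, 0], [2, 8, 1], [11, 5], [7, 0, 0], [11, 3, 4], [2, 7],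 [0, 4], [8], [6, 0, 2], [8, 1, 0], [10, 10, 0], [1, 2, 7], [4, 6], [2, 4, 1], [5, 8, 0], [5, 6], [2, 1, 0], [3, 1], [0, 7], [4, 0, 0], [0, 8, 1], [8, 5, 0, 0], [5, 2], [0, 3, 0], [9, 0, 1], [5, 4, 1], [1, 3, 4], [2, 1, 7], [1, 0, 3], [5, 4, 0], [1, 11, 0], [7, 5], [2, 0, 2], [10], [0, 5, 4], [2, 0, 6], [2, 7, 2], [1, 7, 3], [7, 10], [4], [7, 0, 4], [6, 5, 0], [8, 9, 1], [1, 5], [0, 3, 2], [11, 3, 0], [9, 11, 1], [3, 1, 0], [4, 9, 0], [1, 3, 2], [10, 0, 0], [11, 2, 1], [3], [1, 11, 0, 0], [1, 6, 2], [0, 8, 0], [2, 8], [7, 6], [10, 0, 2], [3, 5], [5, 2, 1], [1, 6], [0, 8], [1, 6, 0], [4, 4, 0], [0, 5, 10, 0], [11, 3, 2], [0, 1, 3], [6, 2, 1], [4, 6, 0, 0], [8, 5], [4, 8, 1], [3, 6, 0], [1, 10], [3, 0], [0, 0, 10], [5, 4], [10, 7], [9, 0, 2], [5, 5, 0], [2, 0, 4]]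


theorem mgens8_ok : mgens8.all isAutC = true := by decide +kernel

set_option maxRecDepth 100000 in
theorem octReach_ok : encSet.reachOK mgens8 5279 octList octWords = true := by decide +kernel

theorem octStab_gens_ok : (chainGens octStabLevels).all
    (fun S => isAutC S && Nat.beq (pmask S 5279) 5279) = true := by decide +kernel

set_option maxRecDepth 100000 in
theorem octStab_prod : octList.length * chainProd 0 octStabLevels = 244823040 := by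
  decide +kernel

theorem O0_eq : O0 = encSet.dec 5279 := rfl

theorem stab_O0_facts :
    stabM O0 = genSubgroup (chainGens octStabLevels) ∧
      Nat.card (stabM O0) = chainProd 0 octStabLevels ∧
      (orbM O0).ncard = octList.length ∧
      ∀ y ∈ orbM O0, ∃ b ∈ octList, encSet.dec b = y :=
  stab_eq_gen encSet 5279 (by show (5279 : ℕ) < 16777216; norm_num) octList octList_nodup
    octFamily.canon mgens8 (fun S hS => List.all_eq_true.1 mgens8_ok S hS) octWords octReach_ok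
    octStabLevels (fun S hS => by
      have := List.all_eq_true.1 octStab_gens_ok S hS
      rw [Bool.and_eq_true] at this
      exact this) octStab_prod

theorem chainProd_octStab : chainProd 0 octStabLevels = 322560 := by decide +kernel

theorem card_stabM_O0 : Nat.card (stabM O0) = 322560 := by
  rw [stab_O0_facts.2.1, chainProd_octStab]

/-- `M24` is transitive on octads. -/
theorem exists_smul_O0_eq {o : Finset GolayPt} (ho : o ∈ octads) : ∃ g ∈ M24, g • O0 = o := by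
  have hreach := encSet.reach_spec mgens8 5279 (by show (5279 : ℕ) < 16777216; norm_num) M24
    (fun S hS => ⟨isPerm_of_isAutC (List.all_eq_true.1 mgens8_ok S hS),
      permC_mem_M24 (List.all_eq_true.1 mgens8_ok S hS)⟩) octList octWords octReach_ok
    (fmask o) ((fmask_mem_octList_iff o).2 ho)
  obtain ⟨u, hu, hud⟩ := hreach
  refine ⟨u, hu, ?_⟩
  rw [O0_eq, hud]
  exact fset_fmask o

theorem octStab_gens_aut : ∀ S ∈ chainGens octStabLevels, isAutC S = true := by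
  intro S hS
  have := List.all_eq_true.1 octStab_gens_ok S hS
  rw [Bool.and_eq_true] at this
  exact this.1

/-- The classifier of octads relative to the base octad: the size of the intersection. -/
def octCls (m : ℕ) : ℕ := popcF (m &&& 5279)

set_option maxRecDepth 100000 in
theorem octCls_ok : encSet.clsOK (chainGens octStabLevels) octList octCls = true := by
  decide +kernel

set_option maxRecDepth 100000 in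
theorem octReach0 : encSet.reachOK (chainGens octStabLevels) octRep0
    (octList.filter fun l => Nat.beq (octCls l) 0) octClsWords0 = true := by decide +kernel

set_option maxRecDepth 100000 in
theorem octReach2 : encSet.reachOK (chainGens octStabLevels) octRep2
    (octList.filter fun l => Nat.beq (octCls l) 2) octClsWords2 = true := by decide +kernel

set_option maxRecDepth 100000 in
theorem octReach4 : encSet.reachOK (chainGens octStabLevels) octRep4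
    (octList.filter fun l => Nat.beq (octCls l) 4) octClsWords4 = true := by decide +kernel

set_option maxRecDepth 100000 in
theorem octCls_counts : (octList.filter fun l => Nat.beq (octCls l) 0).length = 30 ∧
    (octList.filter fun l => Nat.beq (octCls l) 2).length = 448 ∧
    (octList.filter fun l => Nat.beq (octCls l) 4).length = 280 := by decide +kernel

end Cfsg.Agent.Lib.Helper93.Golay
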