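import Cfsg.Agent.Lib.Helper93.NormTools
import Cfsg.Agent.Lib.Helper93.StabOctad

set_option autoImplicit false

/-!
The centraliser in `M24` of an involution `z` fixing the base octad pointwise acts on the
five-dimensional space of the words of the code vanishing on the octad; this gives an injective
homomorphism into `SL(5, 2)`, in which `z` becomes a transvection.
-/

namespace Cfsg.Agent.Lib.Helper93.Cent2A

open Cfsg Cfsg.Agent.Lib.Helper93.Golay Matrix
open scoped Pointwise

abbrev W : Type := GolayPt → ZMod 2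

/-- the involution -/
def Zc : ℕ := 944319304547998642267612847938832416

def cMask : Fin 5 → ℕ := ![16771936, 4645632, 1009728, 3328320, 13721920]

def qIdx : Fin 5 → Fin 24 := ![5, 9, 19, 21, 23]

/-- the basis of the words vanishing on the octad -/
def cw (j : Fin 5) : W := wordOf (cMask j)

/-- the coordinate functionals -/
def prj (p : GolayPt) : W →ₗ[ZMod 2] ZMod 2 :=
  LinearMap.proj (R := ZMod 2) (φ := fun _ : GolayPt => ZMod 2) p

def ev (i : Fin 5) : W →ₗ[ZMod 2] ZMod 2 :=
  if i = 0 then prj (ptOf (qIdx 0)) else prj (ptOf (qIdx i)) + prj (ptOf (qIdx 0))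

theorem ev_apply (i : Fin 5) (x : W) :
    ev i x = if i = 0 then x (ptOf (qIdx 0)) else x (ptOf (qIdx i)) + x (ptOf (qIdx 0)) := by
  unfold ev
  split_ifs <;> rfl

/-- bit-level coordinates -/
def evb (i : Fin 5) (m : ℕ) : Bool :=
  if i = 0 then m.testBit (qIdx 0) else xor (m.testBit (qIdx i)) (m.testBit (qIdx 0))

theorem ev_wordOf (i : Fin 5) (m : ℕ) : ev i (wordOf m) = if evb i m then 1 else 0 := by
  rw [ev_apply]
  unfold evb wordOf
  simp only [ptIdx_ptOf]
  by_cases h : i = 0
  · rw [if_pos h, if_pos h]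
  · rw [if_neg h, if_neg h]
    cases m.testBit (qIdx i) <;> cases m.testBit (qIdx 0) <;> decide

def sel (b : Bool) (m : ℕ) : ℕ := if b then m else 0

def xorSel (m : ℕ) : ℕ :=
  sel (evb 0 m) (cMask 0) ^^^ sel (evb 1 m) (cMask 1) ^^^ sel (evb 2 m) (cMask 2) ^^^
    sel (evb 3 m) (cMask 3) ^^^ sel (evb 4 m) (cMask 4)

set_option maxRecDepth 1000000 in
theorem span_bool : (List.range 4096).all (fun a =>
    !(Nat.beq (combF a &&& 5279) 0) || Nat.beq (combF a) (xorSel (combF a))) = true := by
  decide +kernel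

theorem wordOf_sel (b : Bool) (m : ℕ) : wordOf (sel b m) = (if b then (1 : ZMod 2) else 0) • wordOf m := by
  cases b
  · simp [sel, wordOf_zero]
  · simp [sel]

theorem wordOf_xorSel (m : ℕ) : wordOf (xorSel m) = ∑ i, ev i (wordOf m) • cw i := by
  unfold xorSel
  rw [Fin.sum_univ_five]
  simp only [wordOf_xor, wordOf_sel, ev_wordOf, cw]

theorem and_eq_zero_of_vanish {m : ℕ} (h0 : ∀ p ∈ O0, wordOf m p = 0) : m &&& 5279 = 0 := by
  apply Nat.eq_of_testBit_eq
  intro i
  rw [Nat.testBit_and, Nat.zero_testBit]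
  by_cases hi : i < 24
  · by_cases hb : (5279 : ℕ).testBit i = true
    · have hp : ptOf ⟨i, hi⟩ ∈ O0 := by
        unfold O0
        rw [mem_fset, ptIdx_ptOf]
        exact hb
      have := h0 _ hp
      unfold wordOf at this
      rw [ptIdx_ptOf] at this
      by_cases hm : m.testBit i = true
      · simp [hm] at this
      · simp at hm
        simp [hm]
    · simp at hb
      simp [hb]
  · have : (5279 : ℕ).testBit i = false := by
      apply Nat.testBit_lt_two_pow
      calc 5279 < 2 ^ 24 := by norm_num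
        _ ≤ 2 ^ i := Nat.pow_le_pow_right (by norm_num) (by omega)
    simp [this]

/-- the words of the code vanishing on the octad are spanned by the five basis words -/
theorem span_cw {x : W} (hx : x ∈ golayCode) (h0 : ∀ p ∈ O0, x p = 0) :
    x = ∑ i, ev i x • cw i := by
  obtain ⟨a, ha, rfl⟩ := (mem_golayCode_iff x).1 hx
  rw [← combF_eq_comb a ha] at h0 ⊢
  have h1 := and_eq_zero_of_vanish h0
  have h2 := List.all_eq_true.1 span_bool a (List.mem_range.2 ha)
  rw [h1] at h2
  simp only [Nat.beq_refl, Bool.not_true, Bool.false_or] at h2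
  have h3 : combF a = xorSel (combF a) := Nat.eq_of_beq_eq_true h2
  conv_lhs => rw [h3]
  exact wordOf_xorSel _

/-! ### The matrix of a permutation stabilising the octad -/

/-- the matrix of a permutation on the basis -/
def Mg (g : Equiv.Perm GolayPt) : Matrix (Fin 5) (Fin 5) (ZMod 2) :=
  fun i j => ev i (cw j ∘ g.symm)

theorem Mg_apply (g : Equiv.Perm GolayPt) (i j : Fin 5) : Mg g i j = ev i (cw j ∘ g.symm) := rfl

theorem cw_mem (j : Fin 5) : cw j ∈ golayCode := by
  have h : ∀ j : Fin 5, cMask j >>> 12 < 4096 ∧ combF (cMask j >>> 12) = cMask j := by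
    decide +kernel
  obtain ⟨h1, h2⟩ := h j
  unfold cw
  rw [← h2, combF_eq_comb _ h1]
  exact wordOf_comb_mem _

theorem cw_vanish (j : Fin 5) : ∀ p ∈ O0, cw j p = 0 := by
  intro p hp
  unfold O0 at hp
  rw [mem_fset] at hp
  have h : ∀ (j : Fin 5) (i : Fin 24), (5279 : ℕ).testBit i = true →
      (cMask j).testBit i = false := by decide +kernel
  unfold cw wordOf
  rw [h j _ hp]
  simp

theorem comp_mem {h : Equiv.Perm GolayPt} (hh : h ∈ M24) {x : W} (hx : x ∈ golayCode) :
    x ∘ h.symm ∈ golayCode := by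
  apply mem_golayCode_of_support
  rw [support₂_comp_symm]
  exact smul_mem_supports_of_mem_M24 hh ⟨x, hx, rfl⟩

theorem comp_vanish {h : Equiv.Perm GolayPt} (hO : h • O0 = O0) {x : W}
    (hx : ∀ p ∈ O0, x p = 0) : ∀ p ∈ O0, (x ∘ h.symm) p = 0 := by
  intro p hp
  apply hx
  exact (map_mem_O0_iff hO (h.symm p)).1 (by rw [Equiv.apply_symm_apply]; exact hp)

theorem Mg_mul (g : Equiv.Perm GolayPt) {h : Equiv.Perm GolayPt} (hh : h ∈ M24)
    (hO : h • O0 = O0) : Mg (g * h) = Mg g * Mg h := by
  ext i j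
  rw [Matrix.mul_apply]
  have hx := span_cw (comp_mem hh (cw_mem j)) (comp_vanish hO (cw_vanish j))
  have e1 : cw j ∘ (g * h).symm = (cw j ∘ h.symm) ∘ g.symm := by
    funext p
    rfl
  rw [Mg_apply, e1]
  conv_lhs => rw [hx]
  have e2 : (∑ k, ev k (cw j ∘ h.symm) • cw k) ∘ g.symm =
      ∑ k, ev k (cw j ∘ h.symm) • (cw k ∘ g.symm) := by
    funext p
    simp [Finset.sum_apply]
  rw [e2, map_sum]
  apply Finset.sum_congr rfl
  intro k _
  rw [map_smul, smul_eq_mul, mul_comm]
  rfl

theorem Mg_one : Mg 1 = 1 := by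
  ext i j
  rw [Mg_apply]
  have e : cw j ∘ (1 : Equiv.Perm GolayPt).symm = cw j := by
    funext p
    rfl
  rw [e]
  unfold cw
  rw [ev_wordOf, Matrix.one_apply]
  have h : ∀ i j : Fin 5, (if evb i (cMask j) = true then (1 : ZMod 2) else 0) =
      (if i = j then 1 else 0) := by decide +kernel
  exact h i j

/-- bit-level coordinates after a coded permutation -/
def evbP (S : ℕ) (i : Fin 5) (m : ℕ) : Bool :=
  if i = 0 then m.testBit (papp S (qIdx 0))
  else xor (m.testBit (papp S (qIdx i))) (m.testBit (papp S (qIdx 0)))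

theorem Mg_permC_apply {S S' : ℕ} (hS' : isPerm S' = true) (hinv : (permC S)⁻¹ = permC S')
    (i j : Fin 5) : Mg (permC S) i j = if evbP S' i (cMask j) then 1 else 0 := by
  rw [Mg_apply, ev_apply]
  have hsymm : (permC S).symm = permC S' := hinv
  have e : ∀ k : Fin 24, (cw j ∘ (permC S).symm) (ptOf k) =
      if (cMask j).testBit (papp S' k) then 1 else 0 := by
    intro k
    show wordOf (cMask j) ((permC S).symm (ptOf k)) = _
    rw [hsymm]
    unfold wordOf
    rw [ptIdx_permC hS', ptIdx_ptOf]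
  rw [e, e]
  unfold evbP
  by_cases h : i = 0
  · rw [if_pos h, if_pos h]
  · rw [if_neg h, if_neg h]
    cases (cMask j).testBit (papp S' (qIdx i)) <;> cases (cMask j).testBit (papp S' (qIdx 0)) <;>
      decide

theorem Zc_ok : isAutC Zc = true ∧ fixesMask Zc 5279 = true ∧ eqW [Zc, Zc] [] = true := by
  decide +kernel

theorem Zc_perm : isPerm Zc = true := isPerm_of_isAutC Zc_ok.1

theorem Zc_sq : permC Zc * permC Zc = 1 := by
  have := prodC_eq_of_eqW (ws := [Zc, Zc]) (ws' := [])
    (by intro S hS; simp at hS; rw [hS]; exact Zc_perm) (by intro S hS; simp at hS) Zc_ok.2.2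
  rwa [prodC_cons, prodC_singleton, prodC_nil] at this

theorem Zc_inv : (permC Zc)⁻¹ = permC Zc := inv_eq_of_mul_eq_one_left Zc_sq

theorem Mg_Zc : Mg (permC Zc) = Matrix.transvection 0 1 1 := by
  ext i j
  rw [Mg_permC_apply Zc_perm Zc_inv, Matrix.transvection, Matrix.add_apply, Matrix.one_apply,
    Matrix.single_apply]
  have h : ∀ i j : Fin 5, (if evbP Zc i (cMask j) = true then (1 : ZMod 2) else 0) =
      (if i = j then 1 else 0) + (if 0 = i ∧ 1 = j then 1 else 0) := by decide +kernel
  exact h i j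

/-! ### Injectivity -/

def Uc : ℕ := 30520086386334882412742014087435923

theorem Uc_ok : isAutC Uc = true ∧
    (List.range 24).all (fun i => !(Nat.testBit 191 i) || !(Nat.testBit 5279 (papp Uc i))) = true := by
  decide +kernel

theorem sep_bool : ∀ a b : Fin 24, (5279 : ℕ).testBit a = false → (5279 : ℕ).testBit b = false →
    (∀ j : Fin 5, (cMask j).testBit a = (cMask j).testBit b) → a = b := by decide +kernel

theorem eq_one_of_Mg_eq_one {h : Equiv.Perm GolayPt} (hh : h ∈ M24) (hO : h • O0 = O0)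
    (h1 : Mg h = 1) : h = 1 := by
  -- the basis words are fixed
  have hfix : ∀ j, cw j ∘ h.symm = cw j := by
    intro j
    have hx := span_cw (comp_mem hh (cw_mem j)) (comp_vanish hO (cw_vanish j))
    rw [hx]
    have : ∀ k, ev k (cw j ∘ h.symm) = (1 : Matrix (Fin 5) (Fin 5) (ZMod 2)) k j := by
      intro k
      rw [← h1]
      rfl
    simp only [this, Matrix.one_apply]
    rw [Finset.sum_eq_single j]
    · simp
    · intro k _ hk
      simp [hk]
    · intro hj
      exact absurd (Finset.mem_univ j) hj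
  -- the points outside the octad are fixed
  have hpt : ∀ p, p ∉ O0 → h.symm p = p := by
    intro p hp
    have hp' : h.symm p ∉ O0 := by
      intro hc
      apply hp
      have := (map_mem_O0_iff hO (h.symm p)).2 hc
      rwa [Equiv.apply_symm_apply] at this
    unfold O0 at hp hp'
    rw [mem_fset] at hp hp'
    simp only [Bool.not_eq_true] at hp hp'
    have hbits : ∀ j : Fin 5, (cMask j).testBit (ptIdx (h.symm p)) = (cMask j).testBit (ptIdx p) := by
      intro j
      have := congrFun (hfix j) p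
      simp only [Function.comp_apply, cw, wordOf] at this
      cases h1 : (cMask j).testBit (ptIdx (h.symm p)) <;>
        cases h2 : (cMask j).testBit (ptIdx p) <;> simp [h1, h2] at this ⊢
    have := sep_bool _ _ hp' hp hbits
    exact ptEquiv.injective this
  have hpt' : ∀ p, p ∉ O0 → h p = p := by
    intro p hp
    have := hpt p hp
    conv_lhs => rw [← this]
    exact Equiv.apply_symm_apply h p
  -- conjugate into the stabiliser of the base
  have hU := Uc_ok
  have hUP := isPerm_of_isAutC hU.1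
  have hUM : permC Uc ∈ M24 := permC_mem_M24 hU.1
  have hk : (permC Uc)⁻¹ * h * permC Uc ∈ Hfix 191 := by
    refine ⟨M24.mul_mem (M24.mul_mem (M24.inv_mem hUM) hh) hUM, fun p hp => ?_⟩
    rw [mem_fset] at hp
    have h2 := List.all_eq_true.1 hU.2 (ptIdx p) (List.mem_range.2 (ptIdx p).isLt)
    rw [hp] at h2
    simp only [Bool.not_true, Bool.false_or, Bool.not_eq_true'] at h2
    have h3 : permC Uc p ∉ O0 := by
      unfold O0
      rw [mem_fset, ptIdx_permC hUP, h2]
      simp
    rw [Equiv.Perm.mul_apply, Equiv.Perm.mul_apply, hpt' _ h3, ← Equiv.Perm.mul_apply, inv_mul_cancel,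
      Equiv.Perm.one_apply]
  have hk1 := eq_one_of_mem_Hfix_base hk
  have : h = permC Uc * ((permC Uc)⁻¹ * h * permC Uc) * (permC Uc)⁻¹ := by group
  rw [this, hk1]
  group

/-! ### The order of the centraliser -/

/-- if all conjugates of `z` lie in a finite set `T`, the centraliser has index at most `|T|` -/
theorem card_le_card_mul_centralizer {G : Type*} [Group G] [Finite G] (z : G) (T : Finset G)
    (hT : ∀ x : G, x * z * x⁻¹ ∈ T) :
    Nat.card G ≤ T.card * Nat.card (Subgroup.centralizer {z}) := by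
  have h1 := MulAction.index_stabilizer (ConjAct G) z
  have h2 := Subgroup.card_mul_index (MulAction.stabilizer (ConjAct G) z)
  have horb : (MulAction.orbit (ConjAct G) z).ncard ≤ T.card := by
    have hsub : MulAction.orbit (ConjAct G) z ⊆ (T : Set G) := by
      rintro _ ⟨x, rfl⟩
      exact hT (ConjAct.ofConjAct x)
    calc _ ≤ (T : Set G).ncard := Set.ncard_le_ncard hsub (Finset.finite_toSet T)
      _ = T.card := Set.ncard_coe_finset T
  have hstab : Nat.card (MulAction.stabilizer (ConjAct G) z) =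
      Nat.card (Subgroup.centralizer {z}) := by
    apply Nat.card_congr
    refine Equiv.subtypeEquiv ConjAct.ofConjAct.toEquiv ?_
    intro x
    show x ∈ MulAction.stabilizer (ConjAct G) z ↔ ConjAct.ofConjAct x ∈ Subgroup.centralizer {z}
    rw [MulAction.mem_stabilizer_iff, ConjAct.smul_def, Subgroup.mem_centralizer_singleton_iff]
    constructor
    · intro h
      rw [mul_inv_eq_iff_eq_mul] at h
      exact h
    · intro h
      rw [mul_inv_eq_iff_eq_mul]
      exact h
  have hG : Nat.card (ConjAct G) = Nat.card G := rfl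
  rw [h1, hstab, hG] at h2
  rw [← h2, mul_comm]
  exact Nat.mul_le_mul_right _ horb

def E15 : List ℕ := H5list.filter (fun S => fixesMask S 5279 && !(Nat.beq S idCode))

set_option maxRecDepth 1000000 in
theorem E15_length : E15.length = 15 := by decide +kernel

theorem bits31 : ∀ i : Fin 24, (31 : ℕ).testBit i = true → (5279 : ℕ).testBit i = true := by decide

theorem Hfix_O0_cases {y : Equiv.Perm GolayPt} (hy : y ∈ Hfix 5279) (hy1 : y ≠ 1) :
    ∃ S ∈ E15, y = permC S := by
  have h31 : y ∈ Hfix 31 := by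
    refine ⟨hy.1, fun p hp => hy.2 p ?_⟩
    rw [mem_fset] at hp ⊢
    exact bits31 _ hp
  obtain ⟨S, hS, rfl⟩ := H5_complete h31
  refine ⟨S, ?_, rfl⟩
  have hSok := List.all_eq_true.1 H5_ok S hS
  rw [Bool.and_eq_true] at hSok
  have hperm := isPerm_of_isAutC hSok.1
  unfold E15
  rw [List.mem_filter]
  refine ⟨hS, ?_⟩
  rw [Bool.and_eq_true]
  constructor
  · unfold fixesMask
    rw [List.all_eq_true]
    intro i hi
    have hi' := List.mem_range.1 hi
    by_cases hb : (5279 : ℕ).testBit i = true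
    · have hp : ptOf ⟨i, hi'⟩ ∈ fset 5279 := by rw [mem_fset, ptIdx_ptOf]; exact hb
      have h1 := hy.2 _ hp
      have h2 := ptIdx_permC hperm (ptOf ⟨i, hi'⟩)
      rw [h1, ptIdx_ptOf] at h2
      simp only at h2
      rw [← h2]
      simp
    · simp only [Bool.not_eq_true] at hb
      rw [hb]
      simp
  · rw [Bool.not_eq_true']
    by_contra hc
    simp only [Bool.not_eq_false] at hc
    have : S = idCode := Nat.eq_of_beq_eq_true hc
    rw [this, permC_idCode] at hy1
    exact hy1 rfl

theorem Zc_mem_Hfix : permC Zc ∈ Hfix 5279 := permC_mem_Hfix Zc_ok.1 Zc_ok.2.1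

theorem Zc_smul_O0 : permC Zc • O0 = O0 :=
  smul_O0_of_mem_Hfix (m := 5279) (by decide +kernel) (by norm_num) Zc_mem_Hfix

theorem Zc_ne_one : permC Zc ≠ 1 := by
  intro h
  have h1 := permC_ptOf Zc_perm 5 (by norm_num) 9 (by norm_num) (by decide +kernel)
  rw [h, Equiv.Perm.one_apply] at h1
  have := congrArg ptIdx h1
  rw [ptIdx_ptOf, ptIdx_ptOf] at this
  exact absurd this (by decide)

theorem fix_iff : ∀ i : Fin 24, papp Zc i = i ↔ (5279 : ℕ).testBit i = true := by decide +kernel

theorem Zc_fix_iff (p : GolayPt) : permC Zc p = p ↔ p ∈ O0 := by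
  unfold O0
  rw [mem_fset, ← fix_iff]
  constructor
  · intro h
    have := ptIdx_permC Zc_perm p
    rw [h] at this
    exact this.symm
  · intro h
    apply ptEquiv.injective
    show ptIdx _ = ptIdx _
    apply Fin.ext
    rw [ptIdx_permC Zc_perm]
    exact h

theorem centM_smul_O0 {c : Equiv.Perm GolayPt} (hc : c ∈ centM (permC Zc)) : c • O0 = O0 := by
  apply Finset.eq_of_subset_of_card_le
  · intro q hq
    rw [Finset.mem_smul_finset] at hq
    obtain ⟨p, hp, rfl⟩ := hq
    show c p ∈ O0
    rw [← Zc_fix_iff] at hp ⊢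
    have := congrArg (fun g : Equiv.Perm GolayPt => g p) hc.2
    simp only [Equiv.Perm.mul_apply] at this
    rw [← this, hp]
  · rw [card_smul_finset]

theorem card_centM_ge : 21504 ≤ Nat.card (centM (permC Zc)) := by
  have hzO : permC Zc ∈ stabM O0 := (mem_stabM _ _).2 ⟨Zc_mem_Hfix.1, Zc_smul_O0⟩
  let zH : ↥(stabM O0) := ⟨permC Zc, hzO⟩
  let T' : Finset (Equiv.Perm GolayPt) := (E15.map permC).toFinset
  have hT'card : T'.card ≤ 15 := by
    calc T'.card ≤ (E15.map permC).length := List.toFinset_card_le _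
      _ = 15 := by rw [List.length_map, E15_length]
  let T : Finset ↥(stabM O0) := T'.preimage Subtype.val Subtype.val_injective.injOn
  have hTcard : T.card ≤ 15 := by
    refine le_trans ?_ hT'card
    apply Finset.card_le_card_of_injOn Subtype.val
    · intro a ha
      exact Finset.mem_preimage.1 ha
    · exact Subtype.val_injective.injOn
  have hT : ∀ x : ↥(stabM O0), x * zH * x⁻¹ ∈ T := by
    intro x
    rw [Finset.mem_preimage]
    show x.1 * permC Zc * x.1⁻¹ ∈ T'
    have hx := (mem_stabM _ _).1 x.2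
    have hxinv : x.1⁻¹ • O0 = O0 := by rw [inv_smul_eq_iff, hx.2]
    have hy : x.1 * permC Zc * x.1⁻¹ ∈ Hfix 5279 := by
      refine ⟨M24.mul_mem (M24.mul_mem hx.1 Zc_mem_Hfix.1) (M24.inv_mem hx.1), fun p hp => ?_⟩
      have hp' : x.1⁻¹ p ∈ O0 := (map_mem_O0_iff hxinv p).2 hp
      rw [Equiv.Perm.mul_apply, Equiv.Perm.mul_apply, (Zc_fix_iff _).2 hp', ← Equiv.Perm.mul_apply,
        mul_inv_cancel, Equiv.Perm.one_apply]
    have hy1 : x.1 * permC Zc * x.1⁻¹ ≠ 1 := by
      intro h
      apply Zc_ne_one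
      have : permC Zc = x.1⁻¹ * (x.1 * permC Zc * x.1⁻¹) * x.1 := by group
      rw [this, h]
      group
    obtain ⟨S, hS, hyS⟩ := Hfix_O0_cases hy hy1
    rw [hyS, List.mem_toFinset]
    exact List.mem_map.2 ⟨S, hS, rfl⟩
  have h1 := card_le_card_mul_centralizer zH T hT
  rw [card_stabM_O0] at h1
  have h2 : Nat.card (Subgroup.centralizer {zH}) ≤ Nat.card (centM (permC Zc)) := by
    apply Nat.card_le_card_of_injective
      (fun x : ↥(Subgroup.centralizer {zH}) => (⟨x.1.1, by
        have hx := (mem_stabM _ _).1 x.1.2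
        have hc := Subgroup.mem_centralizer_singleton_iff.1 x.2
        exact ⟨hx.1, congrArg Subtype.val hc⟩⟩ : ↥(centM (permC Zc))))
    intro a b hab
    apply Subtype.ext
    apply Subtype.ext
    have := congrArg Subtype.val hab
    exact this
  have h3 : T.card * Nat.card (Subgroup.centralizer {zH}) ≤ 15 * Nat.card (centM (permC Zc)) :=
    Nat.mul_le_mul hTcard h2
  omega

/-! ### The homomorphism into `SL(5, 2)` -/

theorem det_Mg {c : Equiv.Perm GolayPt} (hc : c ∈ centM (permC Zc)) : (Mg c).det = 1 := by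
  have hinv : c⁻¹ ∈ centM (permC Zc) := Subgroup.inv_mem _ hc
  have h1 := Mg_mul c hinv.1 (centM_smul_O0 hinv)
  rw [mul_inv_cancel, Mg_one] at h1
  have h2 := congrArg Matrix.det h1
  rw [Matrix.det_one, Matrix.det_mul] at h2
  have : ∀ a b : ZMod 2, 1 = a * b → a = 1 := by decide
  exact this _ _ h2

def PhiM (c : ↥(centM (permC Zc))) : Matrix.SpecialLinearGroup (Fin 5) (ZMod 2) :=
  ⟨Mg c.1, det_Mg c.2⟩

def PhiHom : ↥(centM (permC Zc)) →* Matrix.SpecialLinearGroup (Fin 5) (ZMod 2) where
  toFun := PhiM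
  map_one' := Subtype.ext Mg_one
  map_mul' a b := Subtype.ext (Mg_mul a.1 b.2.1 (centM_smul_O0 b.2))

theorem PhiHom_coe (c : ↥(centM (permC Zc))) :
    ((PhiHom c : Matrix.SpecialLinearGroup (Fin 5) (ZMod 2)) : Matrix (Fin 5) (Fin 5) (ZMod 2)) =
      Mg c.1 := rfl

theorem PhiHom_injective : Function.Injective PhiHom := by
  rw [injective_iff_map_eq_one]
  intro c hc
  apply Subtype.ext
  exact eq_one_of_Mg_eq_one c.2.1 (centM_smul_O0 c.2) (congrArg Subtype.val hc)

theorem PhiHom_comm (c : ↥(centM (permC Zc))) :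
    Mg c.1 * Matrix.transvection 0 1 1 = Matrix.transvection 0 1 1 * Mg c.1 := by
  rw [← Mg_Zc, ← Mg_mul _ Zc_mem_Hfix.1 Zc_smul_O0, ← Mg_mul _ c.2.1 (centM_smul_O0 c.2), c.2.2]

end Cfsg.Agent.Lib.Helper93.Cent2A
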