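import Cfsg.Agent.Lib.Helper93.Blk22

set_option autoImplicit false

/-! Generic lemmas for explicitly enumerated subgroups of `Equiv.Perm GolayPt`: completeness of a
list of codes, conjugacy certificates for the elements of odd order, the `2`-elements centralising
a given element, and subgroups given by closed lists. -/

namespace Cfsg.Agent.Lib.Helper93.CentEnum

open Cfsg Cfsg.Agent.Lib.Helper93.Golay Cfsg.Agent.Lib.Helper93.Blk22

/-- completeness of a sorted list of codes of the right length -/
theorem exists_code_of_list (HS : Subgroup (Equiv.Perm GolayPt)) (n : ℕ)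
    (hcard : Nat.card HS = n)
    (L : List ℕ) (hchain : chainLt L = true) (hlen : L.length = n)
    (hmem : ∀ c ∈ L, isPerm c = true ∧ permC c ∈ HS ∧ c < 2 ^ 120)
    {x : Equiv.Perm GolayPt} (hx : x ∈ HS) : ∃ c ∈ L, permC c = x := by
  set S' : Set (Equiv.Perm GolayPt) := {a | ∃ c ∈ L, permC c = a} with hS'
  have hcard' : S'.ncard = L.length :=
    ncard_eq_length permC L (nodup_of_chainLt hchain)
      (fun c hc c' hc' he => code_inj' (hmem c hc).2.2 (hmem c' hc').2.2
        (hmem c hc).1 (hmem c' hc').1 he) S' (fun a => Iff.rfl)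
  have hsub : S' ⊆ (HS : Set (Equiv.Perm GolayPt)) := by
    rintro a ⟨c, hc, rfl⟩
    exact (hmem c hc).2.1
  have hH : (HS : Set (Equiv.Perm GolayPt)).ncard = n := by
    rw [← Nat.card_coe_set_eq]
    exact hcard
  have heq : S' = (HS : Set (Equiv.Perm GolayPt)) :=
    Set.eq_of_subset_of_ncard_le hsub (by rw [hH, hcard', hlen]) (Set.toFinite _)
  have hx' : x ∈ S' := by
    rw [heq]
    exact hx
  exact hx'

/-! ### Certificates for the elements of odd order -/

/-- the check of one entry `(code, tag, data)`: tag `0` the identity, tag `1` a point moved by the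
`m`-th power, tag `t + 2` a word conjugating to the `t`-th target -/
def entryOK (m : ℕ) (gens targets : List ℕ) (e : ℕ × ℕ × List ℕ) : Bool :=
  match e.2.1 with
  | 0 => eqW [e.1] []
  | 1 => !(Nat.beq (pappL (List.replicate m e.1) (e.2.2.headD 0)) (e.2.2.headD 0)) &&
      Nat.blt (e.2.2.headD 0) 24
  | t + 2 =>
    wordOK gens e.2.2 && Nat.blt t targets.length &&
      eqW (e.2.2.map (fun j => gens.getD j 0) ++ [e.1])
        (targets.getD t 0 :: e.2.2.map (fun j => gens.getD j 0))

theorem word_facts (HS : Subgroup (Equiv.Perm GolayPt)) (gens : List ℕ)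
    (hgens : ∀ S ∈ gens, isPerm S = true ∧ permC S ∈ HS) :
    ∀ w : List ℕ, wordOK gens w = true →
      (∀ S ∈ w.map (fun j => gens.getD j 0), isPerm S = true) ∧
        prodC (w.map (fun j => gens.getD j 0)) ∈ HS := by
  intro w
  induction w with
  | nil =>
    intro _
    refine ⟨by simp, ?_⟩
    show prodC [] ∈ HS
    rw [prodC_nil]
    exact HS.one_mem
  | cons j w ih =>
    intro h
    unfold wordOK at h
    rw [List.all_cons, Bool.and_eq_true] at h
    have hj : j < gens.length := Nat.le_of_ble_eq_true h.1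
    have hmem := getD_mem_of_lt hj
    obtain ⟨ih1, ih2⟩ := ih h.2
    constructor
    · intro S hS
      rw [List.map_cons, List.mem_cons] at hS
      rcases hS with rfl | hS
      · exact (hgens _ hmem).1
      · exact ih1 S hS
    · rw [List.map_cons, prodC_cons]
      exact HS.mul_mem (hgens _ hmem).2 ih2

theorem pow_eq_one_of_odd {G : Type*} [Group G] (HS : Subgroup G) (k m : ℕ)
    (hcard : Nat.card HS = 2 ^ k * m) {g : G} (hg : g ∈ HS) (hodd : ¬ 2 ∣ orderOf g) :
    g ^ m = 1 := by
  rw [← orderOf_dvd_iff_pow_eq_one]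
  have h1 : orderOf (⟨g, hg⟩ : HS) ∣ Nat.card HS := orderOf_dvd_natCard _
  rw [hcard] at h1
  have h2 : orderOf (⟨g, hg⟩ : HS) = orderOf g := Subgroup.orderOf_mk g hg
  rw [h2] at h1
  have hcop : Nat.Coprime (orderOf g) (2 ^ k) := by
    have : Nat.Coprime (orderOf g) 2 :=
      (Nat.coprime_comm.1 ((Nat.Prime.coprime_iff_not_dvd Nat.prime_two).2 hodd))
    exact this.pow_right k
  exact hcop.dvd_of_dvd_mul_left h1

theorem pow_two_eq_one_of_two_elt {G : Type*} [Group G] (HS : Subgroup G) (k m : ℕ)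
    (hm : ¬ 2 ∣ m) (hcard : Nat.card HS = 2 ^ k * m) {g : G} (hg : g ∈ HS)
    (h2 : ∃ j : ℕ, g ^ (2 ^ j) = 1) : g ^ (2 ^ k) = 1 := by
  rw [← orderOf_dvd_iff_pow_eq_one]
  obtain ⟨j, hj⟩ := h2
  have h1 : orderOf g ∣ 2 ^ j := orderOf_dvd_of_pow_eq_one hj
  obtain ⟨i, _, hi⟩ := (Nat.dvd_prime_pow Nat.prime_two).1 h1
  have h3 : orderOf (⟨g, hg⟩ : HS) ∣ Nat.card HS := orderOf_dvd_natCard _
  have h4 : orderOf (⟨g, hg⟩ : HS) = orderOf g := Subgroup.orderOf_mk g hg
  rw [h4, hcard, hi] at h3
  rw [hi]
  have hcop : Nat.Coprime (2 ^ i) m := by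
    have : Nat.Coprime 2 m := (Nat.Prime.coprime_iff_not_dvd Nat.prime_two).2 hm
    exact this.pow_left i
  exact hcop.dvd_of_dvd_mul_right h3

/-- the elements of odd order are conjugate to one of the targets -/
theorem odd_conj_of_table (HS : Subgroup (Equiv.Perm GolayPt)) (k m : ℕ)
    (hcard : Nat.card HS = 2 ^ k * m) (gens targets : List ℕ)
    (hgens : ∀ S ∈ gens, isPerm S = true ∧ permC S ∈ HS)
    (htar : ∀ S ∈ targets, isPerm S = true)
    (table : List (ℕ × ℕ × List ℕ)) (hok : table.all (entryOK m gens targets) = true)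
    (hperm : ∀ e ∈ table, isPerm e.1 = true)
    (hcomplete : ∀ x ∈ HS, ∃ e ∈ table, permC e.1 = x)
    {g : Equiv.Perm GolayPt} (hg : g ∈ HS) (hodd : ¬ 2 ∣ orderOf g) (hg1 : g ≠ 1) :
    ∃ c ∈ HS, ∃ t ∈ targets, c * g * c⁻¹ = permC t := by
  have hgm := pow_eq_one_of_odd HS k m hcard hg hodd
  obtain ⟨e, he, rfl⟩ := hcomplete g hg
  have hp := hperm e he
  have hchk := List.all_eq_true.1 hok e he
  unfold entryOK at hchk
  split at hchk
  · exact absurd (eq_one_of_eqW_one hp hchk) hg1
  · exfalso
    rw [Bool.and_eq_true] at hchk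
    obtain ⟨h1, h2⟩ := hchk
    have hi : e.2.2.headD 0 < 24 := Nat.le_of_ble_eq_true h2
    have h3 := ptIdx_prodC (List.replicate m e.1) (perm_replicate hp m) (ptOf ⟨_, hi⟩)
    rw [prodC_replicate, hgm, Equiv.Perm.one_apply, ptIdx_ptOf] at h3
    simp only at h3
    rw [← h3, Nat.beq_refl] at h1
    simp at h1
  · rename_i t _
    simp only [Bool.and_eq_true] at hchk
    obtain ⟨⟨h1, h2⟩, h3⟩ := hchk
    obtain ⟨hw1, hw2⟩ := word_facts HS gens hgens e.2.2 h1
    have ht : t < targets.length := Nat.le_of_ble_eq_true h2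
    have htm := getD_mem_of_lt ht
    refine ⟨_, hw2, _, htm, ?_⟩
    have h4 := prodC_eq_of_eqW (ws := e.2.2.map (fun j => gens.getD j 0) ++ [e.1])
      (ws' := targets.getD t 0 :: e.2.2.map (fun j => gens.getD j 0)) (by
        intro S hS
        rw [List.mem_append, List.mem_singleton] at hS
        rcases hS with hS | rfl
        · exact hw1 S hS
        · exact hp) (by
        intro S hS
        rw [List.mem_cons] at hS
        rcases hS with rfl | hS
        · exact htar _ htm
        · exact hw1 S hS) h3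
    rw [prodC_append, prodC_singleton, prodC_cons] at h4
    rw [h4]
    group

/-- the `2`-elements centralising a given element -/
theorem two_elt_of_list (HS : Subgroup (Equiv.Perm GolayPt)) (k m : ℕ) (hm : ¬ 2 ∣ m)
    (hcard : Nat.card HS = 2 ^ k * m) (L : List ℕ) (hperm : ∀ c ∈ L, isPerm c = true)
    (hcomplete : ∀ x ∈ HS, ∃ c ∈ L, permC c = x) (x0 : ℕ) (hx0 : isPerm x0 = true)
    (vCodes : List ℕ)
    (hok : L.all (fun c => !(eqW [c, x0] [x0, c]) ||
      !(eqW (List.replicate (2 ^ k) c) []) || vCodes.any (Nat.beq c)) = true)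
    {g : Equiv.Perm GolayPt} (hg : g ∈ HS) (hx : g * permC x0 = permC x0 * g)
    (h2 : ∃ j : ℕ, g ^ (2 ^ j) = 1) : ∃ v ∈ vCodes, permC v = g := by
  have hgk := pow_two_eq_one_of_two_elt HS k m hm hcard hg h2
  obtain ⟨c0, hc0, rfl⟩ := hcomplete g hg
  have hp := hperm c0 hc0
  have hchk := List.all_eq_true.1 hok c0 hc0
  simp only [Bool.or_eq_true] at hchk
  rcases hchk with (h | h) | h
  · rw [eqW_of_mul_eq hp hx0 hx0 hp hx] at h
    simp at h
  · rw [eqW_of_pow_eq_one hp (2 ^ k) hgk] at h
    simp at h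
  · exact ⟨c0, mem_of_any_beq h, rfl⟩

/-! ### Subgroups given by closed lists -/

/-- a list of codes containing the identity, closed under products and inverses, all of whose
elements have order dividing `2 ^ e` -/
def grpOK (e : ℕ) (L : List ℕ) : Bool :=
  L.all isPerm && L.any (fun c => eqW [c] []) &&
    L.all (fun a => eqW (List.replicate (2 ^ e) a) [] && L.any (fun b => eqW [a, b] []) &&
      L.all (fun b => L.any (fun c => eqW [a, b] [c])))

theorem grpOK_perm {e : ℕ} {L : List ℕ} (h : grpOK e L = true) {c : ℕ} (hc : c ∈ L) :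
    isPerm c = true := by
  unfold grpOK at h
  simp only [Bool.and_eq_true] at h
  exact List.all_eq_true.1 h.1.1 c hc

/-- the subgroup of the listed elements -/
def listGrp (e : ℕ) (L : List ℕ) (h : grpOK e L = true) : Subgroup (Equiv.Perm GolayPt) where
  carrier := {g | ∃ c ∈ L, permC c = g}
  one_mem' := by
    have h' := h
    unfold grpOK at h'
    simp only [Bool.and_eq_true] at h'
    obtain ⟨c, hc, hc1⟩ := List.any_eq_true.1 h'.1.2
    exact ⟨c, hc, eq_one_of_eqW_one (grpOK_perm h hc) hc1⟩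
  mul_mem' := by
    rintro _ _ ⟨a, ha, rfl⟩ ⟨b, hb, rfl⟩
    have h' := h
    unfold grpOK at h'
    simp only [Bool.and_eq_true] at h'
    have h1 := List.all_eq_true.1 h'.2 a ha
    simp only [Bool.and_eq_true] at h1
    have h2 := List.all_eq_true.1 h1.2 b hb
    obtain ⟨c, hc, hc1⟩ := List.any_eq_true.1 h2
    refine ⟨c, hc, ?_⟩
    have := prodC_eq_of_eqW (perm_pair' (grpOK_perm h ha) (grpOK_perm h hb))
      (perm_single (grpOK_perm h hc)) hc1
    rw [prodC_two, prodC_singleton] at this
    exact this.symm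
  inv_mem' := by
    rintro _ ⟨a, ha, rfl⟩
    have h' := h
    unfold grpOK at h'
    simp only [Bool.and_eq_true] at h'
    have h1 := List.all_eq_true.1 h'.2 a ha
    simp only [Bool.and_eq_true] at h1
    obtain ⟨b, hb, hb1⟩ := List.any_eq_true.1 h1.1.2
    refine ⟨b, hb, ?_⟩
    have := prodC_eq_of_eqW (perm_pair' (grpOK_perm h ha) (grpOK_perm h hb)) (by simp) hb1
    rw [prodC_two, prodC_nil] at this
    exact (inv_eq_of_mul_eq_one_right this).symm

theorem mem_listGrp {e : ℕ} {L : List ℕ} {h : grpOK e L = true} {g : Equiv.Perm GolayPt} :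
    g ∈ listGrp e L h ↔ ∃ c ∈ L, permC c = g := Iff.rfl

theorem listGrp_pow {e : ℕ} {L : List ℕ} {h : grpOK e L = true} {g : Equiv.Perm GolayPt}
    (hg : g ∈ listGrp e L h) : g ^ (2 ^ e) = 1 := by
  obtain ⟨a, ha, rfl⟩ := hg
  have h' := h
  unfold grpOK at h'
  simp only [Bool.and_eq_true] at h'
  have h1 := List.all_eq_true.1 h'.2 a ha
  simp only [Bool.and_eq_true] at h1
  exact pow_eq_one_of_eqW (grpOK_perm h ha) _ h1.1.1

theorem listGrp_isPGroup {e : ℕ} {L : List ℕ} {h : grpOK e L = true} :
    IsPGroup 2 (listGrp e L h) := by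
  intro g
  refine ⟨e, ?_⟩
  apply Subtype.ext
  have := listGrp_pow g.2
  simpa using this

/-! ### Packed tables -/

/-- decoding a packed entry: the code in the high bits, a factorisation word, then the tag, the
length of the word and the letters of the word -/
def decodeEnt (n : ℕ) : ℕ × ℕ × List ℕ :=
  (n >>> 72, (n >>> 28) % 16,
    (List.range ((n >>> 24) % 16)).map fun i => (n >>> (5 * i)) % 32)

theorem decodeEnt_fst (n : ℕ) : (decodeEnt n).1 = n >>> 72 := rfl

/-! ### Strict evaluation, to keep the kernel from recomputing subterms -/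

/-- evaluate a natural number before use -/
def strictNat (x : ℕ) (k : ℕ → Bool) : Bool :=
  match x with
  | 0 => k 0
  | Nat.succ n => k (Nat.succ n)

theorem strictNat_eq (x : ℕ) (k : ℕ → Bool) : strictNat x k = k x := by
  cases x <;> rfl

/-- `isPerm` computing the inverse code once -/
def isPermFast (S : ℕ) : Bool := strictNat (pinv S) (fun S' => isPermPair S S')

theorem isPermFast_eq (S : ℕ) : isPermFast S = isPerm S := by
  unfold isPermFast isPerm
  rw [strictNat_eq]

/-- evaluate the letters of a word in the list `tAll` before use; letters out of range fail -/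
def strictMap (tAll : List ℕ) : List ℕ → (List ℕ → Bool) → Bool
  | [], k => k []
  | j :: w, k =>
    match tAll.getD j 0 with
    | 0 => false
    | Nat.succ n => strictMap tAll w (fun l => k (Nat.succ n :: l))

theorem strictMap_spec (tAll : List ℕ) : ∀ (w : List ℕ) (k : List ℕ → Bool),
    strictMap tAll w k = true →
      wordOK tAll w = true ∧ k (w.map (fun j => tAll.getD j 0)) = true := by
  intro w
  induction w with
  | nil =>
    intro k h
    exact ⟨rfl, h⟩
  | cons j w ih =>
    intro k h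
    unfold strictMap at h
    split at h
    · exact absurd h (by simp)
    · rename_i n hn
      obtain ⟨h1, h2⟩ := ih _ h
      have hj : j < tAll.length := by
        by_contra hlt
        rw [List.getD_eq_default _ _ (by omega)] at hn
        exact absurd hn (by simp)
      refine ⟨?_, ?_⟩
      · unfold wordOK at h1 ⊢
        rw [List.all_cons, Bool.and_eq_true]
        exact ⟨Nat.ble_eq_true_of_le hj, h1⟩
      · rw [List.map_cons, hn]
        exact h2

/-- the factorisation word of a packed entry -/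
def factWord (n : ℕ) : List ℕ :=
  (List.range ((n >>> 64) % 16)).map fun i => (n >>> (32 + 6 * i)) % 64

/-- the factorisation of the code of an entry as a word in the list `tAll` -/
def factOK (tAll : List ℕ) (n : ℕ) : Bool :=
  strictNat (n >>> 72) fun c =>
    isPermFast c && Nat.blt c (2 ^ 120) && strictMap tAll (factWord n) (fun ws => eqW [c] ws)

theorem factOK_spec (HS : Subgroup (Equiv.Perm GolayPt)) (tAll : List ℕ)
    (ht : ∀ S ∈ tAll, isPerm S = true ∧ permC S ∈ HS) {n : ℕ} (h : factOK tAll n = true) :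
    isPerm (n >>> 72) = true ∧ permC (n >>> 72) ∈ HS ∧ n >>> 72 < 2 ^ 120 := by
  unfold factOK at h
  rw [strictNat_eq] at h
  simp only [Bool.and_eq_true] at h
  obtain ⟨⟨h1, h2⟩, h3⟩ := h
  rw [isPermFast_eq] at h1
  obtain ⟨h4, h5⟩ := strictMap_spec tAll _ _ h3
  obtain ⟨hw1, hw2⟩ := word_facts HS tAll ht _ h4
  refine ⟨h1, ?_, Nat.le_of_ble_eq_true h2⟩
  have := prodC_eq_of_eqW (perm_single h1) hw1 h5
  rw [prodC_singleton] at this
  rw [this]
  exact hw2

/-- the fast form of `entryOK` on a packed entry -/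
def entryOKF (m : ℕ) (gens targets : List ℕ) (n : ℕ) : Bool :=
  strictNat (n >>> 72) fun c =>
    match (n >>> 28) % 16 with
    | 0 => eqW [c] []
    | 1 => !(Nat.beq (pappL (List.replicate m c) ((decodeEnt n).2.2.headD 0))
          ((decodeEnt n).2.2.headD 0)) && Nat.blt ((decodeEnt n).2.2.headD 0) 24
    | t + 2 =>
      Nat.blt t targets.length &&
        strictNat (targets.getD t 0) fun tg =>
          strictMap gens (decodeEnt n).2.2 (fun ws => eqW (ws ++ [c]) (tg :: ws))

theorem entryOK_of_entryOKF (m : ℕ) (gens targets : List ℕ) (n : ℕ)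
    (h : entryOKF m gens targets n = true) : entryOK m gens targets (decodeEnt n) = true := by
  unfold entryOKF at h
  rw [strictNat_eq] at h
  unfold entryOK
  have e1 : (decodeEnt n).1 = n >>> 72 := rfl
  have e2 : (decodeEnt n).2.1 = (n >>> 28) % 16 := rfl
  rw [e1, e2]
  split at h
  · exact h
  · exact h
  · simp only [Bool.and_eq_true] at h ⊢
    obtain ⟨h1, h2⟩ := h
    rw [strictNat_eq] at h2
    obtain ⟨h3, h4⟩ := strictMap_spec gens _ _ h2
    exact ⟨⟨h3, h1⟩, h4⟩

/-- completeness of a packed table from completeness of the list of its codes -/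
theorem table_complete (HS : Subgroup (Equiv.Perm GolayPt)) (T : List ℕ)
    (h : ∀ x ∈ HS, ∃ c ∈ T.map (fun n => n >>> 72), permC c = x) :
    ∀ x ∈ HS, ∃ e ∈ T.map decodeEnt, permC e.1 = x := by
  intro x hx
  obtain ⟨c, hc, hcx⟩ := h x hx
  obtain ⟨n, hn, rfl⟩ := List.mem_map.1 hc
  exact ⟨decodeEnt n, List.mem_map.2 ⟨n, hn, rfl⟩, hcx⟩

theorem table_perm (T : List ℕ) (h : ∀ c ∈ T.map (fun n => n >>> 72), isPerm c = true) :
    ∀ e ∈ T.map decodeEnt, isPerm e.1 = true := by
  intro e he
  obtain ⟨n, hn, rfl⟩ := List.mem_map.1 he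
  exact h _ (List.mem_map.2 ⟨n, hn, rfl⟩)

end Cfsg.Agent.Lib.Helper93.CentEnum
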