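import Cfsg.Agent.Lib.Helper93.M24Structure

set_option autoImplicit false

namespace Cfsg.Agent.Lib.Helper93.Golay

open Cfsg
open scoped Pointwise

/-! ### Orders of some pointwise stabilisers -/

theorem gens_ok6' : gensL6.all (fun S => isAutC S && fixesMask S 31) = true := by decide +kernel

theorem card_Hfix_63 : Nat.card (Hfix 63) = 3 := by
  have c6 := card_level 63 7 5248 3 (by decide)
    (level_spec 63 gensL6 treeL6 7 5248 gens_ok6 tree_ok6 (by decide))
    (fun g hg => orbit_bound6 ⟨hg.1, fun p hp => hg.2 p (by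
      rw [mem_fset] at hp ⊢
      have : (63 : ℕ) = 31 ||| 32 := by decide
      rw [this, Nat.testBit_or, hp, Bool.true_or])⟩) (by norm_num) (by decide +kernel)
  have e7 : (63 : ℕ) ||| (1 <<< 7) = 191 := by decide
  rw [e7] at c6
  have hbot : Nat.card (Hfix 191) = 1 := by
    rw [Hfix_base_eq_bot]
    exact Subgroup.card_bot
  rw [c6, hbot]

theorem card_Hfix_31 : Nat.card (Hfix 31) = 48 := by
  have c5 := card_level 31 5 16771936 16 (by decide)
    (level_spec 31 gensL5 treeL5 5 16771936 gens_ok5 tree_ok5 (by decide))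
    (fun g hg => orbit_bound5 hg) (by norm_num) (by decide +kernel)
  have e6 : (31 : ℕ) ||| (1 <<< 5) = 63 := by decide
  rw [e6] at c5
  rw [c5, card_Hfix_63]

theorem card_Hfix_159 : Nat.card (Hfix 159) = 16 := by
  have c := card_level 31 7 5248 3 (by decide)
    (level_spec 31 gensL6 treeL6 7 5248 gens_ok6' tree_ok6 (by decide))
    (fun g hg => orbit_bound6 hg) (by norm_num) (by decide +kernel)
  have e : (31 : ℕ) ||| (1 <<< 7) = 159 := by decide
  rw [e, card_Hfix_31] at c
  omega

/-! ### Standard position for six points -/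

/-- Six distinct points inside an octad can be mapped from the points of indices
`0, 1, 2, 3, 4, 7`. -/
theorem exists_map6_in (q : ℕ → GolayPt) (hq : ∀ i j, i < 6 → j < 6 → q i = q j → i = j)
    (o : Finset GolayPt) (ho : o ∈ octads) (hqo : ∀ i, i < 6 → q i ∈ o) :
    ∃ u ∈ M24, (∀ i (hi : i < 5), u (P i (by omega)) = q i) ∧ u (P 7) = q 5 := by
  obtain ⟨u₀, hu₀, hu₀q⟩ := exists_M24_map q
    (fun i j hi hj h => hq i j (by omega) (by omega) h) 5 (le_refl 5)
  -- `u₀ • O0 = o`
  have hO : u₀ • O0 = o := by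
    apply octad_eq_of_card_inter (smul_mem_octads_of_mem_M24 hu₀ O0_mem) ho
    have hsub : (Finset.image q (Finset.range 5)) ⊆ u₀ • O0 ∩ o := by
      intro p hp
      rw [Finset.mem_image] at hp
      obtain ⟨i, hi, rfl⟩ := hp
      rw [Finset.mem_range] at hi
      rw [Finset.mem_inter]
      refine ⟨?_, hqo i (by omega)⟩
      rw [← hu₀q i hi]
      apply Finset.smul_mem_smul_finset
      unfold O0
      rw [mem_fset_P]
      interval_cases i <;> decide
    have hcard : (Finset.image q (Finset.range 5)).card = 5 := by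
      rw [Finset.card_image_of_injOn, Finset.card_range]
      intro i hi j hj h
      rw [Finset.coe_range, Set.mem_Iio] at hi hj
      exact hq i j (by omega) (by omega) h
    calc 5 = (Finset.image q (Finset.range 5)).card := hcard.symm
      _ ≤ _ := Finset.card_le_card hsub
  set x : GolayPt := u₀⁻¹ (q 5) with hx
  have hxO : x ∈ O0 := by
    have : q 5 ∈ u₀ • O0 := by rw [hO]; exact hqo 5 (by omega)
    rw [Finset.mem_smul_finset] at this
    obtain ⟨y, hy, hyq⟩ := this
    have : x = y := by rw [hx, ← hyq]; simp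
    rw [this]; exact hy
  have hx5 : ∀ i (hi : i < 5), x ≠ P i (by omega) := by
    intro i hi hxi
    have : q 5 = q i := by
      rw [← hu₀q i hi, ← hxi, hx]; simp
    have := hq 5 i (by omega) (by omega) this
    omega
  have hbit : (5248 : ℕ).testBit (ptIdx x) = true := by
    unfold O0 at hxO
    rw [mem_fset] at hxO
    have hne : ∀ i (hi : i < 5), ((ptIdx x : Fin 24) : ℕ) ≠ i := by
      intro i hi h
      apply hx5 i hi
      rw [← P_ptIdx x]
      simp only [h]
    have key : ∀ j : Fin 24, (5279 : ℕ).testBit j = true → (j : ℕ) ≠ 0 → (j : ℕ) ≠ 1 →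
        (j : ℕ) ≠ 2 → (j : ℕ) ≠ 3 → (j : ℕ) ≠ 4 → (5248 : ℕ).testBit j = true := by decide
    exact key _ hxO (hne 0 (by omega)) (hne 1 (by omega)) (hne 2 (by omega)) (hne 3 (by omega))
      (hne 4 (by omega))
  obtain ⟨v, hv, hvx⟩ := level_spec 31 gensL6 treeL6 7 5248 gens_ok6' tree_ok6 (by decide)
    (ptIdx x) (ptIdx x).isLt hbit
  rw [ptOf_ptIdx] at hvx
  refine ⟨u₀ * v, M24.mul_mem hu₀ hv.1, ?_, ?_⟩
  · intro i hi
    rw [Equiv.Perm.mul_apply]
    have : v (P i (by omega)) = P i (by omega) := by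
      apply hv.2
      rw [mem_fset_P]
      interval_cases i <;> decide
    rw [this]
    exact hu₀q i hi
  · rw [Equiv.Perm.mul_apply]
    show u₀ (v (ptOf ⟨7, _⟩)) = q 5
    rw [hvx, hx]
    simp

/-- Six distinct points not inside an octad can be mapped from the points of indices
`0, 1, 2, 3, 4, 5`. -/
theorem exists_map6_out (q : ℕ → GolayPt) (hq : ∀ i j, i < 6 → j < 6 → q i = q j → i = j)
    (hno : ¬ ∃ o ∈ octads, ∀ i, i < 6 → q i ∈ o) :
    ∃ u ∈ M24, ∀ i (hi : i < 6), u (P i (by omega)) = q i := by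
  obtain ⟨u₀, hu₀, hu₀q⟩ := exists_M24_map q
    (fun i j hi hj h => hq i j (by omega) (by omega) h) 5 (le_refl 5)
  set x : GolayPt := u₀⁻¹ (q 5) with hx
  have hxO : x ∉ O0 := by
    intro hxO
    apply hno
    refine ⟨u₀ • O0, smul_mem_octads_of_mem_M24 hu₀ O0_mem, ?_⟩
    intro i hi
    by_cases h5 : i < 5
    · rw [← hu₀q i h5]
      apply Finset.smul_mem_smul_finset
      unfold O0
      rw [mem_fset_P]
      interval_cases i <;> decide
    · have : i = 5 := by omega
      subst this
      rw [Finset.mem_smul_finset]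
      exact ⟨x, hxO, by rw [hx]; simp⟩
  have hbit : (16771936 : ℕ).testBit (ptIdx x) = true := by
    unfold O0 at hxO
    rw [mem_fset] at hxO
    have : (16771936 : ℕ) = 16777215 ^^^ 5279 := by decide
    rw [this, Nat.testBit_xor, testBit_full (ptIdx x).isLt]
    simpa using hxO
  obtain ⟨v, hv, hvx⟩ := level_spec 31 gensL5 treeL5 5 16771936 gens_ok5 tree_ok5 (by decide)
    (ptIdx x) (ptIdx x).isLt hbit
  rw [ptOf_ptIdx] at hvx
  refine ⟨u₀ * v, M24.mul_mem hu₀ hv.1, ?_⟩
  intro i hi
  rw [Equiv.Perm.mul_apply]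
  by_cases h5 : i < 5
  · have : v (P i (by omega)) = P i (by omega) := by
      apply hv.2
      rw [mem_fset_P]
      interval_cases i <;> decide
    rw [this]
    exact hu₀q i h5
  · have : i = 5 := by omega
    subst this
    show u₀ (v (ptOf ⟨5, _⟩)) = q 5
    rw [hvx, hx]
    simp

end Cfsg.Agent.Lib.Helper93.Golay
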