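import Cfsg.Agent.Lib.Helper93.Fams
import Cfsg.Agent.Lib.Helper93.SixSets

set_option autoImplicit false

namespace Cfsg.Agent.Lib.Helper93.Golay

open Cfsg
open scoped Pointwise

/-! ### Products of coded permutations -/

/-- The composite index map of a list of codes (the first code is applied last). -/
def pappL (ws : List ℕ) (i : ℕ) : ℕ := ws.foldr (fun S acc => papp S acc) i

/-- The product of the coded permutations of a list. -/
def prodC (ws : List ℕ) : Equiv.Perm GolayPt := (ws.map permC).prod

theorem ptIdx_prodC (ws : List ℕ) (h : ∀ S ∈ ws, isPerm S = true) (p : GolayPt) :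
    ((ptIdx (prodC ws p) : Fin 24) : ℕ) = pappL ws (ptIdx p) := by
  induction ws with
  | nil => rfl
  | cons S ws ih =>
    have hS := h S List.mem_cons_self
    have ih' := ih (fun T hT => h T (List.mem_cons_of_mem _ hT))
    show ((ptIdx ((permC S * prodC ws) p) : Fin 24) : ℕ) = papp S (pappL ws (ptIdx p))
    rw [Equiv.Perm.mul_apply, ptIdx_permC hS, ih']

theorem prodC_mem (H : Subgroup (Equiv.Perm GolayPt)) (ws : List ℕ) (h : ∀ S ∈ ws, permC S ∈ H) :
    prodC ws ∈ H := by
  unfold prodC
  apply Subgroup.list_prod_mem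
  intro x hx
  obtain ⟨S, hS, rfl⟩ := List.mem_map.1 hx
  exact h S hS

theorem eq_of_ptIdx_eq {a b : Equiv.Perm GolayPt}
    (h : ∀ p, ((ptIdx (a p) : Fin 24) : ℕ) = ptIdx (b p)) : a = b := by
  apply Equiv.ext
  intro p
  apply ptEquiv.injective
  show ptIdx (a p) = ptIdx (b p)
  exact Fin.ext (h p)

/-- `U ∘ f = f' ∘ U` on the 24 indices. -/
def conjChkF (U : ℕ) (f f' : ℕ → ℕ) : Bool :=
  (List.range 24).all fun i => Nat.beq (papp U (f i)) (f' (papp U i))

theorem conj_of_chk {U : ℕ} (hU : isPerm U = true) {a b : Equiv.Perm GolayPt} {f f' : ℕ → ℕ}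
    (ha : ∀ p, ((ptIdx (a p) : Fin 24) : ℕ) = f (ptIdx p))
    (hb : ∀ p, ((ptIdx (b p) : Fin 24) : ℕ) = f' (ptIdx p))
    (h : conjChkF U f f' = true) : b = permC U * a * (permC U)⁻¹ := by
  have key : permC U * a = b * permC U := by
    apply eq_of_ptIdx_eq
    intro p
    rw [Equiv.Perm.mul_apply, Equiv.Perm.mul_apply, ptIdx_permC hU, ha, hb, ptIdx_permC hU]
    exact Nat.eq_of_beq_eq_true
      (List.all_eq_true.1 h (ptIdx p) (List.mem_range.2 (ptIdx p).isLt))
  rw [key]
  group

theorem permC_eq_one {S : ℕ} (hS : isPerm S = true)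
    (h : (List.range 24).all (fun i => Nat.beq (papp S i) i) = true) : permC S = 1 := by
  apply eq_of_ptIdx_eq
  intro p
  rw [ptIdx_permC hS]
  exact Nat.eq_of_beq_eq_true (List.all_eq_true.1 h (ptIdx p) (List.mem_range.2 (ptIdx p).isLt))

/-! ### Cosets of the stabiliser of four points -/

def vList : List ℕ := [984818244535754528103549039458486304, 852441003295549873710640981383153696, 559645842859716124415256460108335136, 551323685763938461512045114590070816, 443362320393821690161552608142133280, 772850733414001342043095304636565536, 474493651460382394456262016533366816, 645440243467284464743699169317849120, 362715784661808232351480238076692512, 383600524173773991763504723500566560, 767616166785615768369199104103909408, 610506130422959000540079983177074720, 222382256930366311075467998185752608, 462942853229716405051752920447551520, 219718492428687223786740469242890272, 276667846153740590981788949833418784, 590117122791109427593507738057017376, 798540390331450282711248258397734944, 183647775015652157257914367386683424,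 919793950784214902168900111548123168]

theorem vList_ok : vList.all (fun V => isAutC V && fixesMask V 15) = true := by decide +kernel

theorem vList_cover : (List.range 24).all (fun j => Nat.blt j 4 ||
    vList.any (fun V => Nat.beq (papp V 4) j)) = true := by decide +kernel

/-- Every element of `M24` acting on the points of indices `0, 1, 2, 3` as the coded element
`C0` is a product `C0 * V * S` with `V` in `vList` and `S` among the 48 listed elements. -/
theorem coset_complete {C0 : ℕ} (hC0 : isAutC C0 = true) {g : Equiv.Perm GolayPt} (hg : g ∈ M24)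
    (h : ∀ i (hi : i < 4), g (P i (by omega)) = permC C0 (P i (by omega))) :
    ∃ V ∈ vList, ∃ S ∈ H5list, g = prodC [C0, V, S] := by
  set c := permC C0 with hc
  have hcM : c ∈ M24 := permC_mem_M24 hC0
  set k := c⁻¹ * g with hk
  have hk15 : k ∈ Hfix 15 := by
    refine ⟨M24.mul_mem (M24.inv_mem hcM) hg, fun p hp => ?_⟩
    rw [mem_fset] at hp
    have hi : ((ptIdx p : Fin 24) : ℕ) < 4 := by
      have key : ∀ x : Fin 24, (15 : ℕ).testBit x = true → (x : ℕ) < 4 := by decide
      exact key _ hp
    have := h (ptIdx p) hi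
    rw [P_ptIdx] at this
    rw [hk, Equiv.Perm.mul_apply, this]
    simp
  -- the image of the point of index 4
  set j : ℕ := ((ptIdx (k (P 4)) : Fin 24) : ℕ) with hj
  have hj4 : ¬ j < 4 := by
    intro hlt
    have h1 : k (P j (by omega)) = P j (by omega) := by
      apply hk15.2
      rw [mem_fset_P]
      interval_cases j <;> decide
    have h2 : P j (by omega) = k (P 4) := by
      have := P_ptIdx (k (P 4))
      rw [← this]
    rw [h2] at h1
    have h3 := k.injective h1
    have h4 := congrArg (fun p => ((ptIdx p : Fin 24) : ℕ)) h3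
    simp only [ptIdx_P] at h4
    omega
  have hcov := List.all_eq_true.1 vList_cover j (List.mem_range.2 (ptIdx (k (P 4))).isLt)
  rw [Bool.or_eq_true] at hcov
  rcases hcov with hcov | hcov
  · exact absurd (Nat.le_of_ble_eq_true hcov) hj4
  obtain ⟨V, hV, hVj⟩ := List.any_eq_true.1 hcov
  have hVok := List.all_eq_true.1 vList_ok V hV
  rw [Bool.and_eq_true] at hVok
  have hVP := isPerm_of_isAutC hVok.1
  have hV15 : permC V ∈ Hfix 15 := permC_mem_Hfix hVok.1 hVok.2
  have hV4 : permC V (P 4) = k (P 4) := by
    have := permC_ptOf hVP 4 (by norm_num) j (ptIdx (k (P 4))).isLt (Nat.eq_of_beq_eq_true hVj)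
    show permC V (ptOf ⟨4, _⟩) = k (P 4)
    rw [this]
    exact ptOf_ptIdx _
  set s := (permC V)⁻¹ * k with hs
  have hs31 : s ∈ Hfix 31 := by
    refine ⟨M24.mul_mem (M24.inv_mem hV15.1) hk15.1, fun p hp => ?_⟩
    rw [mem_fset] at hp
    by_cases h15 : (15 : ℕ).testBit (ptIdx p) = true
    · have hp15 : p ∈ fset 15 := (mem_fset _ _).2 h15
      rw [hs, Equiv.Perm.mul_apply, hk15.2 p hp15, Equiv.Perm.inv_eq_iff_eq, hV15.2 p hp15]
    · have hp4 : (ptIdx p : ℕ) = 4 := by
        have key : ∀ x : Fin 24, (31 : ℕ).testBit x = true → ¬ (15 : ℕ).testBit x = true →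
            (x : ℕ) = 4 := by decide
        exact key _ hp h15
      have : p = P 4 := by
        rw [← P_ptIdx p]
        simp only [hp4]
      rw [this, hs, Equiv.Perm.mul_apply, Equiv.Perm.inv_eq_iff_eq, hV4]
  obtain ⟨S, hS, hsS⟩ := H5_complete hs31
  refine ⟨V, hV, S, hS, ?_⟩
  show g = (List.map permC [C0, V, S]).prod
  simp only [List.map_cons, List.map_nil, List.prod_cons, List.prod_nil, mul_one]
  rw [← hsS, hs, hk, hc]
  group

/-! ### Canonicity of the coded action on families -/

theorem insB_pairwise (a : ℕ) :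
    ∀ l : List ℕ, l.Pairwise (· ≤ ·) → (insB a l).Pairwise (· ≤ ·)
  | [], _ => List.pairwise_singleton _ a
  | b :: l, h => by
    unfold insB
    split
    · rename_i hab
      have hab' : a ≤ b := Nat.le_of_ble_eq_true hab
      rw [List.pairwise_cons]
      refine ⟨fun x hx => ?_, h⟩
      rcases List.mem_cons.1 hx with rfl | hx
      · exact hab'
      · exact le_trans hab' ((List.pairwise_cons.1 h).1 x hx)
    · rename_i hab
      have hba : b ≤ a := by
        have : ¬ a ≤ b := fun h' => hab (Nat.ble_eq_true_of_le h')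
        omega
      rw [List.pairwise_cons]
      refine ⟨fun x hx => ?_, insB_pairwise a l (List.pairwise_cons.1 h).2⟩
      rcases List.mem_cons.1 ((insB_perm a l).mem_iff.1 hx) with rfl | hx
      · exact hba
      · exact (List.pairwise_cons.1 h).1 x hx

theorem sortB_pairwise (l : List ℕ) : (sortB l).Pairwise (· ≤ ·) := by
  induction l with
  | nil => exact List.Pairwise.nil
  | cons a l ih => exact insB_pairwise a _ ih

theorem pmask_inj {S : ℕ} (hS : isPerm S = true) {m m' : ℕ} (hm : m < 16777216)
    (hm' : m' < 16777216) (h : pmask S m = pmask S m') : m = m' := by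
  have h1 := permC_smul_fset hS hm
  have h2 := permC_smul_fset hS hm'
  rw [h, ← h2] at h1
  exact fset_injOn hm hm' (MulAction.injective (permC S) h1)

theorem canonL_actL {S : ℕ} (hS : isPerm S = true) {l : List ℕ} (hl : canonL l = true) :
    canonL (actL S l) = true := by
  unfold canonL
  rw [Bool.and_eq_true]
  constructor
  · apply chainLt_of_pairwise
    have h1 := sortB_pairwise (l.map (pmask S))
    have h2 : (sortB (l.map (pmask S))).Nodup := by
      rw [(sortB_perm _).nodup_iff]
      apply List.Nodup.map_on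
      · intro x hx y hy hxy
        exact pmask_inj hS (canonL_lt hl hx) (canonL_lt hl hy) hxy
      · exact nodup_of_chainLt (canonL_chain hl)
    exact (h1.and h2).imp (fun h => lt_of_le_of_ne h.1 h.2)
  · rw [List.all_eq_true]
    intro m hm
    have := encFam.act_small S hS l (fun m hm => canonL_lt hl hm) m hm
    exact Nat.ble_eq_true_of_le this

theorem beqL_refl : ∀ l : List ℕ, beqL l l = true
  | [] => rfl
  | a :: l => by
    unfold beqL
    rw [Nat.beq_refl, beqL_refl l]
    rfl

/-! ### Counting fixed objects -/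

variable {α : Type} [MulAction (Equiv.Perm GolayPt) α]

theorem ncard_fixed_fam (F : Family encFam) {S : ℕ} (hS : isPerm S = true) :
    {y | y ∈ F.Y ∧ permC S • y = y}.ncard = (F.L.filter fun l => beqL (actL S l) l).length := by
  apply encFam.ncard_orbit_eq F.L F.canon F.nodup
  intro y
  constructor
  · rintro ⟨hy, hfix⟩
    obtain ⟨l, hl, rfl⟩ := F.complete y hy
    refine ⟨l, List.mem_filter.2 ⟨hl, ?_⟩, rfl⟩
    have hact := encFam.act_spec S hS l (encFam.canon_small l (F.canon l hl))
    rw [hfix] at hact
    have := encFam.dec_inj _ _ (canonL_actL hS (F.canon l hl)) (F.canon l hl) hact.symm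
    show beqL (actL S l) l = true
    have e : actL S l = l := this
    rw [e]
    exact beqL_refl l
  · rintro ⟨l, hl, rfl⟩
    rw [List.mem_filter] at hl
    refine ⟨F.sound l hl.1, ?_⟩
    rw [encFam.act_spec S hS l (encFam.canon_small l (F.canon l hl.1))]
    show decFF (actL S l) = decFF l
    rw [beqL_eq _ _ hl.2]

theorem ncard_fixed_set (F : Family encSet) {S : ℕ} (hS : isPerm S = true) :
    {y | y ∈ F.Y ∧ permC S • y = y}.ncard = (F.L.filter fun l => Nat.beq (pmask S l) l).length := by
  apply encSet.ncard_orbit_eq F.L F.canon F.nodup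
  intro y
  constructor
  · rintro ⟨hy, hfix⟩
    obtain ⟨l, hl, rfl⟩ := F.complete y hy
    refine ⟨l, List.mem_filter.2 ⟨hl, ?_⟩, rfl⟩
    have hsm := encSet.canon_small l (F.canon l hl)
    have hact := encSet.act_spec S hS l hsm
    rw [hfix] at hact
    have e : pmask S l = l := (fset_injOn hsm (pmask_lt hS hsm) hact).symm
    show Nat.beq (pmask S l) l = true
    rw [e]
    exact Nat.beq_refl l
  · rintro ⟨l, hl, rfl⟩
    rw [List.mem_filter] at hl
    refine ⟨F.sound l hl.1, ?_⟩
    rw [encSet.act_spec S hS l (encSet.canon_small l (F.canon l hl.1))]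
    show fset (pmask S l) = fset l
    rw [Nat.eq_of_beq_eq_true hl.2]

theorem ncard_fixed_conj (Y : Set α) (hY : ∀ g ∈ M24, ∀ y ∈ Y, g • y ∈ Y)
    {u : Equiv.Perm GolayPt} (hu : u ∈ M24) {g g' : Equiv.Perm GolayPt}
    (h : g = u * g' * u⁻¹) :
    {y | y ∈ Y ∧ g • y = y}.ncard = {y | y ∈ Y ∧ g' • y = y}.ncard := by
  have himg : {y | y ∈ Y ∧ g • y = y} = (fun y => u • y) '' {y | y ∈ Y ∧ g' • y = y} := by
    ext y
    constructor
    · rintro ⟨hy, hfix⟩
      refine ⟨u⁻¹ • y, ⟨hY _ (M24.inv_mem hu) y hy, ?_⟩, smul_inv_smul u y⟩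
      rw [h, mul_smul, mul_smul] at hfix
      rw [← eq_inv_smul_iff] at hfix
      exact hfix
    · rintro ⟨z, ⟨hz, hfix⟩, rfl⟩
      refine ⟨hY u hu z hz, ?_⟩
      show g • u • z = u • z
      rw [h, mul_smul, mul_smul, inv_smul_smul, hfix]
  rw [himg]
  exact Set.ncard_image_of_injective _ (MulAction.injective u)

theorem fixed_inv_eq (Y : Set α) (g : Equiv.Perm GolayPt) :
    {y | y ∈ Y ∧ g⁻¹ • y = y} = {y | y ∈ Y ∧ g • y = y} := by
  ext y
  simp only [Set.mem_ofPred_eq]
  constructor
  · rintro ⟨hy, h⟩
    exact ⟨hy, by rw [inv_smul_eq_iff] at h; exact h.symm⟩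
  · rintro ⟨hy, h⟩
    exact ⟨hy, by rw [inv_smul_eq_iff]; exact h.symm⟩

/-! ### Enumerating a finite set of points -/

theorem exists_enum (F : Finset GolayPt) (n : ℕ) (hn : 0 < n) (hF : F.card = n) :
    ∃ q : ℕ → GolayPt, (∀ i, q i ∈ F) ∧ (∀ i j, i < n → j < n → q i = q j → i = j) ∧
      ∀ p ∈ F, ∃ i, i < n ∧ q i = p := by
  classical
  let e := Finset.equivFinOfCardEq hF
  refine ⟨fun i => if h : i < n then (e.symm ⟨i, h⟩ : GolayPt) else (e.symm ⟨0, hn⟩ : GolayPt),
    ?_, ?_, ?_⟩
  · intro i
    by_cases h : i < n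
    · simp only [h, dite_true]; exact (e.symm ⟨i, h⟩).2
    · simp only [h, dite_false]; exact (e.symm ⟨0, hn⟩).2
  · intro i j hi hj hij
    simp only [hi, hj, dite_true] at hij
    have := e.symm.injective (Subtype.ext hij)
    exact Fin.mk.inj_iff.1 this
  · intro p hp
    refine ⟨(e ⟨p, hp⟩ : Fin n), (e ⟨p, hp⟩).isLt, ?_⟩
    simp only [(e ⟨p, hp⟩).isLt, dite_true, Fin.eta, Equiv.symm_apply_apply]

/-- The elements of `M24` fixing the points of indices `0, …, 5`. -/
theorem Hfix_63_cases {g : Equiv.Perm GolayPt} (hg : g ∈ Hfix 63) :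
    g = 1 ∨ g = permC 608167165260361641911015062699608096 ∨
      g = permC 725895487971383339971559185675552800 := by
  have hg31 : g ∈ Hfix 31 := ⟨hg.1, fun p hp => hg.2 p (by
    rw [mem_fset] at hp ⊢
    have : (63 : ℕ) = 31 ||| 32 := by decide
    rw [this, Nat.testBit_or, hp, Bool.true_or])⟩
  obtain ⟨S, hS, rfl⟩ := H5_complete hg31
  have hSok := List.all_eq_true.1 H5_ok S hS
  rw [Bool.and_eq_true] at hSok
  have hSP := isPerm_of_isAutC hSok.1
  have h5 : papp S 5 = 5 := by
    have h1 := hg.2 (P 5) (by rw [mem_fset_P]; decide)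
    have h2 := ptIdx_permC hSP (P 5)
    rw [h1, ptIdx_P] at h2
    exact h2.symm
  have hfilt : S ∈ H5list.filter (fun S => Nat.beq (papp S 5) 5) :=
    List.mem_filter.2 ⟨hS, by rw [h5]; rfl⟩
  have hlist : H5list.filter (fun S => Nat.beq (papp S 5) 5) =
      [984818244535754528103549039458486304, 608167165260361641911015062699608096,
        725895487971383339971559185675552800] := by decide +kernel
  rw [hlist] at hfilt
  simp only [List.mem_cons, List.mem_nil_iff, or_false] at hfilt
  rcases hfilt with rfl | rfl | rfl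
  · left
    exact permC_eq_one hSP (by decide +kernel)
  · right; left; rfl
  · right; right; rfl

end Cfsg.Agent.Lib.Helper93.Golay
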