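import Cfsg.Agent.Lib.Helper93.Syl24Data
import Cfsg.Agent.Lib.Helper93.FusionCert
import Cfsg.Agent.Lib.Helper93.StabOctad
import Cfsg.Agent.S5605
import Cfsg.Agent.S5606

set_option autoImplicit false

/-! A Sylow 2-subgroup `S0` of `M24` (the stabiliser of an octad, a partition of it into two
tetrads and a refinement into four duads): its order, `N(S0) = S0`, and the absence of proper
non-trivial strongly closed subgroups. -/

namespace Cfsg.Agent.Lib.Helper93.Syl24

open Cfsg Cfsg.Agent.Lib.Helper93.Golay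
open scoped Pointwise

/-- the Sylow subgroup -/
def S0 : Subgroup (Equiv.Perm GolayPt) :=
  stabM O0 ⊓ MulAction.stabilizer (Equiv.Perm GolayPt) (encFam.dec rhoCode)

def sylGens : List ℕ := chainGens sylLevels

def inS0 (c : ℕ) : Bool :=
  isAutC c && Nat.beq (pmask c 5279) 5279 && beqL (actL c rhoCode) rhoCode

theorem rho_canon : canonL rhoCode = true := by decide +kernel

theorem rho_small : encFam.small rhoCode := fun _ hm => canonL_lt rho_canon hm

theorem mem_stabM_O0_of {c : ℕ} (h1 : isAutC c = true) (h2 : Nat.beq (pmask c 5279) 5279 = true) :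
    permC c ∈ stabM O0 := by
  rw [O0_eq]
  exact permC_mem_stabM encSet (by show (5279 : ℕ) < 16777216; norm_num) h1 h2

theorem inS0_spec {c : ℕ} (h : inS0 c = true) : isPerm c = true ∧ permC c ∈ S0 := by
  unfold inS0 at h
  simp only [Bool.and_eq_true] at h
  obtain ⟨⟨h1, h2⟩, h3⟩ := h
  have hp := isPerm_of_isAutC h1
  refine ⟨hp, mem_stabM_O0_of h1 h2, ?_⟩
  show permC c ∈ MulAction.stabilizer (Equiv.Perm GolayPt) (encFam.dec rhoCode)
  rw [MulAction.mem_stabilizer_iff, encFam.act_spec c hp rhoCode rho_small]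
  exact congrArg encFam.dec (beqL_eq _ _ h3)

theorem targets_canon : rhoTargets.all canonL = true := by decide +kernel

set_option maxRecDepth 100000 in
theorem targets_nodup : rhoTargets.Nodup := by decide +kernel

set_option maxRecDepth 100000 in
theorem rho_reach :
    encFam.reachOK (chainGens octStabLevels) rhoCode rhoTargets rhoWords = true := by
  decide +kernel

theorem sylGens_ok : sylGens.all inS0 = true := by decide +kernel

set_option maxRecDepth 100000 in
theorem syl_prod : rhoTargets.length * chainProd 0 sylLevels = 322560 := by decide +kernel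

theorem chainProd_syl : chainProd 0 sylLevels = 1024 := by decide +kernel

theorem S0_facts :
    S0 = genSubgroup sylGens ∧ Nat.card S0 = chainProd 0 sylLevels ∧
      Nat.card (stabM O0) = 322560 ∧
      ∀ h ∈ stabM O0, ∃ b ∈ rhoTargets, encFam.dec b = h • encFam.dec rhoCode :=
  rel_stab_eq_gen encFam (stabM O0) 322560 (le_of_eq card_stabM_O0) (chainGens octStabLevels)
    (fun S hS => by
      have := List.all_eq_true.1 octStab_gens_ok S hS
      rw [Bool.and_eq_true] at this
      exact ⟨isPerm_of_isAutC this.1, mem_stabM_O0_of this.1 this.2⟩)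
    rhoCode rho_small rhoTargets targets_nodup
    (fun b hb => List.all_eq_true.1 targets_canon b hb) rhoWords rho_reach sylLevels
    (fun S hS => by
      have h := List.all_eq_true.1 sylGens_ok S hS
      have hs := inS0_spec h
      unfold inS0 at h
      simp only [Bool.and_eq_true] at h
      exact ⟨hs.1, hs.2.1, h.2⟩)
    syl_prod (by norm_num)

theorem card_S0 : Nat.card S0 = 2 ^ 10 := by
  rw [S0_facts.2.1, chainProd_syl]
  norm_num

theorem S0_le_M24 : S0 ≤ M24 := fun _ hx => hx.1.1

instance : Finite S0 := Nat.finite_of_card_ne_zero (by rw [card_S0]; norm_num)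

theorem sylGens_mem {s : ℕ} (hs : s ∈ sylGens) : isPerm s = true ∧ permC s ∈ S0 :=
  inS0_spec (List.all_eq_true.1 sylGens_ok s hs)

/-! ### The normaliser -/

set_option maxRecDepth 100000 in
theorem oct_unique : octList.all (fun o => Nat.beq o 5279 ||
    sylGens.any (fun s => !(Nat.beq (pmask s o) o))) = true := by decide +kernel

set_option maxRecDepth 100000 in
theorem rho_unique : rhoTargets.all (fun t => beqL t rhoCode ||
    sylGens.any (fun s => !(beqL (actL s t) t))) = true := by decide +kernel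

theorem normalizer_le {g : Equiv.Perm GolayPt} (hg : g ∈ M24)
    (hn : ∀ x ∈ S0, g * x * g⁻¹ ∈ S0) : g ∈ S0 := by
  have hn' := inv_conj_mem_of_conj_mem S0 g hn
  -- every generator fixes `g • O0` and `g • ρ`
  have hfixO : ∀ s ∈ sylGens, permC s • (g • O0) = g • O0 := by
    intro s hs
    have hk := hn' _ (sylGens_mem hs).2
    have hk' : (g⁻¹ * permC s * g) • O0 = O0 := hk.1.2
    have : permC s * g = g * (g⁻¹ * permC s * g) := by group
    rw [← mul_smul, this, mul_smul, hk']
  have hfixR : ∀ s ∈ sylGens, permC s • (g • encFam.dec rhoCode) = g • encFam.dec rhoCode := by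
    intro s hs
    have hk := hn' _ (sylGens_mem hs).2
    have hk' : (g⁻¹ * permC s * g) • encFam.dec rhoCode = encFam.dec rhoCode := hk.2
    have : permC s * g = g * (g⁻¹ * permC s * g) := by group
    rw [← mul_smul, this, mul_smul, hk']
  -- the octad
  have hoct : g • O0 ∈ octads := smul_mem_octads_of_mem_M24 hg O0_mem
  have hmemL : fmask (g • O0) ∈ octList := (fmask_mem_octList_iff _).2 hoct
  have hchk := List.all_eq_true.1 oct_unique _ hmemL
  have hO : g • O0 = O0 := by
    rw [Bool.or_eq_true] at hchk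
    rcases hchk with h | h
    · have h1 : fmask (g • O0) = 5279 := Nat.eq_of_beq_eq_true h
      rw [← fset_fmask (g • O0), h1]
      rfl
    · exfalso
      rw [List.any_eq_true] at h
      obtain ⟨s, hs, hne⟩ := h
      have h1 := fmask_permC_smul (sylGens_mem hs).1 (g • O0)
      rw [hfixO s hs] at h1
      rw [← h1, Nat.beq_refl] at hne
      simp at hne
  have hgO : g ∈ stabM O0 := (mem_stabM O0 g).2 ⟨hg, hO⟩
  obtain ⟨b, hb, hbe⟩ := S0_facts.2.2.2 g hgO
  have hbc : canonL b = true := List.all_eq_true.1 targets_canon b hb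
  have hbs : encFam.small b := fun _ hm => canonL_lt hbc hm
  have hchk2 := List.all_eq_true.1 rho_unique b hb
  have hb_eq : b = rhoCode := by
    rw [Bool.or_eq_true] at hchk2
    rcases hchk2 with h | h
    · exact beqL_eq _ _ h
    · exfalso
      rw [List.any_eq_true] at h
      obtain ⟨s, hs, hne⟩ := h
      have hsp := (sylGens_mem hs).1
      have h1 := encFam.act_spec s hsp b hbs
      rw [hbe, hfixR s hs, ← hbe] at h1
      have h2 : actL s b = b :=
        (encFam.dec_inj b (actL s b) hbc (canonL_actL hsp hbc) h1).symm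
      rw [h2, beqL_refl] at hne
      simp at hne
  refine ⟨hgO, ?_⟩
  show g ∈ MulAction.stabilizer (Equiv.Perm GolayPt) (encFam.dec rhoCode)
  rw [MulAction.mem_stabilizer_iff, ← hbe, hb_eq]

/-! ### Involutions of `M24` -/

/-- An involution of `M24` with 8 fixed points is conjugate to the standard one. -/
theorem inv8_conj_std {g : Equiv.Perm GolayPt} (hg : g ∈ M24) (hg2 : g * g = 1) (hg1 : g ≠ 1)
    (h₈ : fixcard g = 8) : ∃ w ∈ M24, g = w * permC Cfsg.Agent.S5605.A0 * w⁻¹ := by
  obtain ⟨q, hqF, hqinj, -⟩ := exists_enum _ 8 (by norm_num) h₈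
  have hqfix : ∀ i, g (q i) = q i := fun i => (Finset.mem_filter.1 (hqF i)).2
  obtain ⟨u, hu, hu5⟩ := exists_M24_map q
    (fun i j hi hj h => hqinj i j (by omega) (by omega) h) 5 (le_refl 5)
  have hmem : u⁻¹ * g * u ∈ Hfix 31 := by
    apply mem_Hfix_31 (conj_mem hu hg)
    intro i hi
    rw [Equiv.Perm.mul_apply, Equiv.Perm.mul_apply, hu5 i hi, hqfix, ← hu5 i hi]
    simp
  have h1' : u⁻¹ * g * u ≠ 1 := by
    intro h
    apply hg1
    have : g = u * (u⁻¹ * g * u) * u⁻¹ := by group
    rw [this, h]; group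
  obtain ⟨v, hv, hgv⟩ := Cfsg.Agent.S5605.inv_conj_std hmem (conj_sq hg2) h1'
  refine ⟨u * v, M24.mul_mem hu hv, ?_⟩
  have : g = u * (u⁻¹ * g * u) * u⁻¹ := by group
  rw [this, hgv]; group

/-! ### Strongly closed subgroups -/

theorem isAutC_spec (c : ℕ) (h : isAutC c = true) : isPerm c = true ∧ permC c ∈ M24 :=
  ⟨isPerm_of_isAutC h, permC_mem_M24 h⟩

theorem stepsA_ok :
    gensOK (runSteps isAutC inS0 [Cfsg.Agent.S5605.A0] stepsA) genWordsA = true := by
  decide +kernel

theorem stepsB_ok : gensOK (runSteps isAutC inS0 [repB] stepsB) genWordsB = true := by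
  decide +kernel

theorem genWords_fst : genWordsA.map Prod.fst = sylGens ∧ genWordsB.map Prod.fst = sylGens := by
  decide +kernel

theorem reps_ok : inS0 Cfsg.Agent.S5605.A0 = true ∧ inS0 repB = true ∧ isAutC conjB = true ∧
    eqW [conjB, Cfsg.Agent.S5606.T0] [repB, conjB] = true := by decide +kernel

theorem gens_mem_of {T : Subgroup (Equiv.Perm GolayPt)}
    (hcl : ∀ x ∈ T, ∀ g ∈ M24, g * x * g⁻¹ ∈ S0 → g * x * g⁻¹ ∈ T)
    {r : ℕ} {steps : List (ℕ × List ℕ × ℕ)} {gw : List (ℕ × List ℕ)}
    (hr : isPerm r = true ∧ permC r ∈ T)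
    (hok : gensOK (runSteps isAutC inS0 [r] steps) gw = true)
    (hfst : gw.map Prod.fst = sylGens) : ∀ s ∈ sylGens, permC s ∈ T := by
  have hfinal := runSteps_spec (G := M24) (S0 := S0) (T := T) isAutC_spec
    (fun c hc => inS0_spec hc) hcl steps [r] (by
      intro c hc
      rw [List.mem_singleton] at hc
      rw [hc]
      exact hr)
  have hgp : ∀ x ∈ gw, isPerm x.1 = true := by
    intro x hx
    have : x.1 ∈ sylGens := by
      rw [← hfst]
      exact List.mem_map.2 ⟨x, hx, rfl⟩
    exact (sylGens_mem this).1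
  have := gensOK_spec hfinal hgp hok
  intro s hs
  rw [← hfst] at hs
  obtain ⟨x, hx, rfl⟩ := List.mem_map.1 hs
  exact this x hx

theorem strongly_closed_eq {T : Subgroup (Equiv.Perm GolayPt)} (hTS : T ≤ S0) (hT : T ≠ ⊥)
    (hcl : ∀ x ∈ T, ∀ g ∈ M24, g * x * g⁻¹ ∈ S0 → g * x * g⁻¹ ∈ T) : T = S0 := by
  obtain ⟨t, htT, htt, ht1⟩ := exists_involution_of_le S0 T 10 card_S0 hTS hT
  have htM : t ∈ M24 := S0_le_M24 (hTS htT)
  suffices h : ∀ s ∈ sylGens, permC s ∈ T by
    apply le_antisymm hTS
    rw [S0_facts.1]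
    exact genSubgroup_le h
  obtain ⟨hA0, hrB, hcB, heB⟩ := reps_ok
  rcases inv_fix_cases htM htt ht1 with h8 | h0
  · obtain ⟨w, hw, e⟩ := inv8_conj_std htM htt ht1 h8
    have hA : permC Cfsg.Agent.S5605.A0 ∈ T := by
      have e2 : permC Cfsg.Agent.S5605.A0 = w⁻¹ * t * w⁻¹⁻¹ := by rw [e]; group
      rw [e2]
      apply hcl t htT w⁻¹ (M24.inv_mem hw)
      rw [← e2]
      exact (inS0_spec hA0).2
    exact gens_mem_of hcl ⟨(inS0_spec hA0).1, hA⟩ stepsA_ok genWords_fst.1
  · have hfpf : ∀ p, t p ≠ p := by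
      intro p hp
      unfold fixcard at h0
      rw [Finset.card_eq_zero] at h0
      have : p ∈ Finset.univ.filter (fun r => t r = r) := by
        rw [Finset.mem_filter]
        exact ⟨Finset.mem_univ _, hp⟩
      rw [h0] at this
      exact absurd this (Finset.notMem_empty _)
    obtain ⟨w, hw, e⟩ := Cfsg.Agent.S5606.fpf_conj_std htM htt hfpf
    have hcBp := isPerm_of_isAutC hcB
    have hT0p := isPerm_of_isAutC Cfsg.Agent.S5606.T0_ok
    have hconj := prodC_eq_of_eqW (ws := [conjB, Cfsg.Agent.S5606.T0]) (ws' := [repB, conjB])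
      (by
        intro S hS
        simp only [List.mem_cons, List.not_mem_nil, or_false] at hS
        rcases hS with rfl | rfl
        · exact hcBp
        · exact hT0p)
      (by
        intro S hS
        simp only [List.mem_cons, List.not_mem_nil, or_false] at hS
        rcases hS with rfl | rfl
        · exact (inS0_spec hrB).1
        · exact hcBp) heB
    rw [prodC_cons, prodC_singleton, prodC_cons, prodC_singleton] at hconj
    have hB : permC repB ∈ T := by
      have e2 : permC repB = (permC conjB * w⁻¹) * t * (permC conjB * w⁻¹)⁻¹ := by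
        have e3 : permC repB = permC conjB * permC Cfsg.Agent.S5606.T0 * (permC conjB)⁻¹ := by
          rw [hconj]; group
        rw [e3, e]; group
      rw [e2]
      apply hcl t htT _ (M24.mul_mem (permC_mem_M24 hcB) (M24.inv_mem hw))
      rw [← e2]
      exact (inS0_spec hrB).2
    exact gens_mem_of hcl ⟨(inS0_spec hrB).1, hB⟩ stepsB_ok genWords_fst.2

end Cfsg.Agent.Lib.Helper93.Syl24
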