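import Cfsg.Agent.Lib.Helper93.Cent24AData
import Cfsg.Agent.Lib.Helper93.CentEnum
import Cfsg.Agent.Lib.Helper93.Syl24
import Cfsg.Agent.Lib.Helper93.Cent2A

set_option autoImplicit false

/-! The centraliser in `M24` of an involution with eight fixed points: order `21504`, all elements
listed, conjugacy of its elements of odd order. -/

namespace Cfsg.Agent.Lib.Helper93.Cent24A

open Cfsg Cfsg.Agent.Lib.Helper93.Golay Cfsg.Agent.Lib.Helper93.Cent2A
  Cfsg.Agent.Lib.Helper93.CentEnum
open scoped Pointwise

/-- the involution -/
def R : Equiv.Perm GolayPt := permC rCode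

theorem R_eq : R = permC Zc := rfl

/-- the stabiliser of the transpositions of `R` in the stabiliser of its fixed octad -/
def HS : Subgroup (Equiv.Perm GolayPt) :=
  stabM O0 ⊓ MulAction.stabilizer (Equiv.Perm GolayPt) (encFam.dec rFam)

def inH (c : ℕ) : Bool :=
  isAutC c && Nat.beq (pmask c 5279) 5279 && beqL (actL c rFam) rFam

theorem rFam_canon : canonL rFam = true := by decide +kernel

theorem rFam_small : encFam.small rFam := fun _ hm => canonL_lt rFam_canon hm

theorem inH_spec {c : ℕ} (h : inH c = true) : isPerm c = true ∧ permC c ∈ HS := by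
  unfold inH at h
  simp only [Bool.and_eq_true] at h
  obtain ⟨⟨h1, h2⟩, h3⟩ := h
  have hp := isPerm_of_isAutC h1
  refine ⟨hp, Syl24.mem_stabM_O0_of h1 h2, ?_⟩
  show permC c ∈ MulAction.stabilizer (Equiv.Perm GolayPt) (encFam.dec rFam)
  rw [MulAction.mem_stabilizer_iff, encFam.act_spec c hp rFam rFam_small]
  exact congrArg encFam.dec (beqL_eq _ _ h3)

theorem rTargets_canon : rTargets.all canonL = true := by decide +kernel

theorem rTargets_chain : chainLt (rTargets.map Syl22.famKey) = true := by decide +kernel

theorem rTargets_nodup : rTargets.Nodup :=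
  List.Nodup.of_map Syl22.famKey (nodup_of_chainLt rTargets_chain)

theorem r_reach : encFam.reachOK (chainGens octStabLevels) rFam rTargets rWords = true := by
  decide +kernel

def hGens : List ℕ := chainGens hLevels

theorem hGens_ok : hGens.all inH = true := by decide +kernel

theorem h_prod : rTargets.length * chainProd 0 hLevels = 322560 := by decide +kernel

theorem chainProd_h : chainProd 0 hLevels = 21504 := by decide +kernel

theorem HS_facts :
    HS = genSubgroup hGens ∧ Nat.card HS = chainProd 0 hLevels ∧
      Nat.card (stabM O0) = 322560 ∧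
      ∀ h ∈ stabM O0, ∃ b ∈ rTargets, encFam.dec b = h • encFam.dec rFam :=
  rel_stab_eq_gen encFam (stabM O0) 322560 (le_of_eq card_stabM_O0) (chainGens octStabLevels)
    (fun S hS => by
      have := List.all_eq_true.1 octStab_gens_ok S hS
      rw [Bool.and_eq_true] at this
      exact ⟨isPerm_of_isAutC this.1, Syl24.mem_stabM_O0_of this.1 this.2⟩)
    rFam rFam_small rTargets rTargets_nodup
    (fun b hb => List.all_eq_true.1 rTargets_canon b hb) rWords r_reach hLevels
    (fun S hS => by
      have h := List.all_eq_true.1 hGens_ok S hS
      have hs := inH_spec h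
      unfold inH at h
      simp only [Bool.and_eq_true] at h
      exact ⟨hs.1, hs.2.1, h.2⟩)
    h_prod (by norm_num)

theorem card_HS : Nat.card HS = 2 ^ 10 * 21 := by
  rw [HS_facts.2.1, chainProd_h]
  norm_num

/-! ### The list of elements -/

def hTable : List (ℕ × ℕ × List ℕ) := hTableN.map decodeEnt

def hElems : List ℕ := hTableN.map (fun n => n >>> 72)

set_option maxRecDepth 1000000 in
set_option maxHeartbeats 0 in
theorem hElems_chain : chainLt hElems = true := by decide +kernel

set_option maxRecDepth 1000000 in
set_option maxHeartbeats 0 in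
theorem hElems_length : hElems.length = 21504 := by decide +kernel

theorem tAll_ok : tAll.all inH = true := by decide +kernel

theorem cGens_ok : cGens.all (fun s => inH s && eqW [s, rCode] [rCode, s]) = true := by
  decide +kernel

theorem xTargets_ok : xTargets.all inH = true := by decide +kernel

/-- the check of one packed entry -/
def entChk (n : ℕ) : Bool := factOK tAll n && entryOKF 21 cGens xTargets n

end Cfsg.Agent.Lib.Helper93.Cent24A
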