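import Cfsg.Agent.Lib.Helper93.Cent24A

set_option autoImplicit false

/-! Kernel checks of the packed table of the centraliser (generated). -/

namespace Cfsg.Agent.Lib.Helper93.Cent24A

open Cfsg Cfsg.Agent.Lib.Helper93.Golay Cfsg.Agent.Lib.Helper93.CentEnum

set_option maxRecDepth 1000000 in
set_option maxHeartbeats 0 in
theorem chunk6_ok : hTableN6.all entChk = true := by decide +kernel

set_option maxRecDepth 1000000 in
set_option maxHeartbeats 0 in
theorem chunk7_ok : hTableN7.all entChk = true := by decide +kernel

set_option maxRecDepth 1000000 in
set_option maxHeartbeats 0 in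
theorem chunk8_ok : hTableN8.all entChk = true := by decide +kernel

end Cfsg.Agent.Lib.Helper93.Cent24A
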