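import Cfsg.Agent.Lib.Helper93.Cent24AChk1
import Cfsg.Agent.Lib.Helper93.Cent24AChk2
import Cfsg.Agent.Lib.Helper93.Cent24AChk3
import Cfsg.Agent.Lib.Helper93.Cent24AChk4
import Cfsg.Agent.Lib.Helper93.SingleBlk2

set_option autoImplicit false

/-! The centraliser in `M24` of an involution with eight fixed points: the elements of odd order,
and the local data excluding radical subgroups. -/

namespace Cfsg.Agent.Lib.Helper93.Cent24A

open Cfsg Cfsg.Agent.Lib.Helper93.Golay Cfsg.Agent.Lib.Helper93.Cent2A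
  Cfsg.Agent.Lib.Helper93.CentEnum Cfsg.Agent.Lib.Helper93.SingleBlk
open scoped Pointwise

theorem table_ok : hTableN.all entChk = true := by
  unfold hTableN
  simp only [List.all_append, chunk0_ok, chunk1_ok, chunk2_ok, chunk3_ok, chunk4_ok, chunk5_ok,
    chunk6_ok, chunk7_ok, chunk8_ok, chunk9_ok, chunk10_ok, Bool.and_self]

theorem tAll_mem : ∀ S ∈ tAll, isPerm S = true ∧ permC S ∈ HS :=
  fun S hS => inH_spec (List.all_eq_true.1 tAll_ok S hS)

theorem hElems_mem {c : ℕ} (hc : c ∈ hElems) :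
    isPerm c = true ∧ permC c ∈ HS ∧ c < 2 ^ 120 := by
  obtain ⟨n, hn, rfl⟩ := List.mem_map.1 hc
  have := List.all_eq_true.1 table_ok n hn
  unfold entChk at this
  rw [Bool.and_eq_true] at this
  exact factOK_spec HS tAll tAll_mem this.1

theorem exists_code {x : Equiv.Perm GolayPt} (hx : x ∈ HS) : ∃ c ∈ hElems, permC c = x :=
  exists_code_of_list HS 21504 (by rw [card_HS]; norm_num) hElems hElems_chain hElems_length
    (fun _ hc => hElems_mem hc) hx

theorem hTable_ok : hTable.all (entryOK 21 cGens xTargets) = true := by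
  unfold hTable
  rw [List.all_eq_true]
  intro e he
  obtain ⟨n, hn, rfl⟩ := List.mem_map.1 he
  have := List.all_eq_true.1 table_ok n hn
  unfold entChk at this
  rw [Bool.and_eq_true] at this
  exact entryOK_of_entryOKF _ _ _ _ this.2

/-! ### The involution -/

theorem rCode_perm : isPerm rCode = true := Zc_perm

theorem R_mem : R ∈ M24 := Zc_mem_Hfix.1

theorem R_sq : R * R = 1 := Zc_sq

theorem R_ne : R ≠ 1 := Zc_ne_one

theorem r_pairs : Blk22.pairsOK rCode rFam = true := by decide +kernel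

theorem centR_le {g : Equiv.Perm GolayPt} (hg : g ∈ M24) (hc : g * R = R * g) : g ∈ HS := by
  refine ⟨(mem_stabM _ _).2 ⟨hg, centM_smul_O0 ⟨hg, hc⟩⟩, ?_⟩
  show g ∈ MulAction.stabilizer (Equiv.Perm GolayPt) (encFam.dec rFam)
  rw [MulAction.mem_stabilizer_iff]
  exact Blk22.smul_decFF_of_commute rCode_perm r_pairs hc

theorem hGens_comm : hGens.all (fun s => eqW [s, rCode] [rCode, s]) = true := by decide +kernel

theorem HS_le_M24 : HS ≤ M24 := fun _ hx => hx.1.1

theorem HS_comm {g : Equiv.Perm GolayPt} (hg : g ∈ HS) : g * R = R * g := by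
  have hle : HS ≤ Subgroup.centralizer ({R} : Set (Equiv.Perm GolayPt)) := by
    rw [HS_facts.1]
    apply genSubgroup_le
    intro S hS
    rw [Subgroup.mem_centralizer_singleton_iff]
    have hp := (inH_spec (List.all_eq_true.1 hGens_ok S hS)).1
    exact (Blk22.mul_eq_of_eqW hp rCode_perm rCode_perm hp
      (List.all_eq_true.1 hGens_comm S hS))
  exact Subgroup.mem_centralizer_singleton_iff.1 (hle hg)

theorem cGens_mem : ∀ S ∈ cGens, isPerm S = true ∧ permC S ∈ HS := by
  intro S hS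
  have := List.all_eq_true.1 cGens_ok S hS
  rw [Bool.and_eq_true] at this
  exact inH_spec this.1

theorem xTargets_perm : ∀ S ∈ xTargets, isPerm S = true :=
  fun S hS => (inH_spec (List.all_eq_true.1 xTargets_ok S hS)).1

/-- `b2`: the elements of odd order of the centraliser -/
theorem odd_conj {g : Equiv.Perm GolayPt} (hg : g ∈ M24) (hc : g * R = R * g)
    (hodd : ¬ 2 ∣ orderOf g) (hg1 : g ≠ 1) :
    ∃ c ∈ M24, c * R = R * c ∧ ∃ t ∈ xTargets, c * g * c⁻¹ = permC t := by
  obtain ⟨c, hcH, t, ht, e⟩ := odd_conj_of_table HS 10 21 card_HS cGens xTargets cGens_mem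
    xTargets_perm hTable hTable_ok
    (table_perm hTableN (fun c hc => (hElems_mem hc).1))
    (table_complete HS hTableN (fun x hx => exists_code hx)) (centR_le hg hc) hodd hg1
  exact ⟨c, HS_le_M24 hcH, HS_comm hcH, t, ht, e⟩

/-! ### The local data -/

theorem Hfix_sq {y : Equiv.Perm GolayPt} (hy : y ∈ Hfix 5279) : y * y = 1 := by
  by_cases hy1 : y = 1
  · rw [hy1, one_mul]
  · obtain ⟨S, hS, rfl⟩ := Hfix_O0_cases hy hy1
    have hS5 : S ∈ H5list := (List.mem_filter.1 hS).1
    have hp := isPerm_of_isAutC (H5list_perm hS5)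
    have h := List.all_eq_true.1 (by decide +kernel : E15.all (fun S => eqW [S, S] []) = true) S hS
    have := prodC_eq_of_eqW (Blk22.perm_pair' hp hp) (by simp) h
    rwa [Blk22.prodC_two, prodC_nil] at this

theorem Hfix_isPGroup : IsPGroup 2 (Hfix 5279) := by
  intro g
  refine ⟨1, ?_⟩
  apply Subtype.ext
  rw [pow_one, pow_two]
  exact Hfix_sq g.2

theorem conj_mem_Hfix {n : Equiv.Perm GolayPt} (hn : n ∈ M24) (hc : n * R = R * n)
    {ρ : Equiv.Perm GolayPt} (hρ : ρ ∈ Hfix 5279) : n * ρ * n⁻¹ ∈ Hfix 5279 := by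
  have hO : n • O0 = O0 := centM_smul_O0 ⟨hn, hc⟩
  refine ⟨M24.mul_mem (M24.mul_mem hn hρ.1) (M24.inv_mem hn), ?_⟩
  intro p hp
  have hp' : p ∈ n • O0 := by rw [hO]; exact hp
  rw [Finset.mem_smul_finset] at hp'
  obtain ⟨q, hq, rfl⟩ := hp'
  show (n * ρ * n⁻¹) (n q) = n q
  have e1 : n⁻¹ (n q) = q := by simp
  rw [Equiv.Perm.mul_apply, Equiv.Perm.mul_apply, e1, hρ.2 q hq]

/-- the checks on an element `x` of odd order, the group `vC` and the element `rho` -/
def chkA (x : ℕ) (vC : List ℕ) (rho : ℕ) : Bool :=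
  inH x &&
  vC.all (fun v => inH v && Nat.blt v (2 ^ 120) && eqW [v, x] [x, v] &&
    eqW [v, rCode] [rCode, v]) &&
  vC.any (Nat.beq rCode) &&
  vC.all (fun v => !(vC.all (fun u => eqW [u, v] [v, u])) || eqW [v] [] || Nat.beq v rCode) &&
  isAutC rho && fixesMask rho 5279 && eqW [rho, rho] [] && Nat.blt rho (2 ^ 120) &&
  vC.all (fun v => vC.any (fun v' => eqW [rho, v] [v', rho])) && !(vC.any (Nat.beq rho))

def b3chk (x : ℕ) (vC : List ℕ) : Bool :=
  hElems.all (fun c => !(eqW [c, x] [x, c]) || !(eqW (List.replicate (2 ^ 10) c) []) ||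
    vC.any (Nat.beq c))

/-- the involution as an element of `M24` -/
def r' : ↥M24 := ⟨R, R_mem⟩

theorem radA (x : ℕ) (vC : List ℕ) (rho : ℕ) (h1 : chkA x vC rho = true)
    (h2 : b3chk x vC = true) (hv : grpOK 3 vC = true) (hx : permC x ∈ M24) :
    RadData2 r' (⟨permC x, hx⟩ : ↥M24) ((listGrp 3 vC hv).subgroupOf M24)
      ((Hfix 5279).subgroupOf M24) := by
  unfold chkA at h1
  simp only [Bool.and_eq_true] at h1
  obtain ⟨⟨⟨⟨⟨⟨⟨⟨⟨hxH, hvall⟩, hrV⟩, hcen⟩, hrA⟩, hrF⟩, hrsq⟩, hrlt⟩, hrN⟩, hrnot⟩ := h1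
  have hxp : isPerm x = true := (inH_spec hxH).1
  have hvfacts : ∀ v ∈ vC, isPerm v = true ∧ permC v ∈ M24 ∧ v < 2 ^ 120 ∧
      permC v * permC x = permC x * permC v ∧ permC v * R = R * permC v := by
    intro v hvm
    have := List.all_eq_true.1 hvall v hvm
    simp only [Bool.and_eq_true] at this
    obtain ⟨⟨⟨a1, a2⟩, a3⟩, a4⟩ := this
    have hp := (inH_spec a1).1
    exact ⟨hp, HS_le_M24 (inH_spec a1).2, Nat.le_of_ble_eq_true a2,
      Blk22.mul_eq_of_eqW hp hxp hxp hp a3, Blk22.mul_eq_of_eqW hp rCode_perm rCode_perm hp a4⟩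
  have hRV : R ∈ listGrp 3 vC hv := ⟨rCode, mem_of_any_beq hrV, rfl⟩
  have hρp : isPerm rho = true := isPerm_of_isAutC hrA
  have hρF : permC rho ∈ Hfix 5279 := permC_mem_Hfix hrA hrF
  have hρsq : permC rho * permC rho = 1 := by
    have := prodC_eq_of_eqW (Blk22.perm_pair' hρp hρp) (by simp) hrsq
    rwa [Blk22.prodC_two, prodC_nil] at this
  have hρinv : (permC rho)⁻¹ = permC rho := inv_eq_of_mul_eq_one_left hρsq
  -- conjugation by `rho` preserves the group
  have hρconj : ∀ g ∈ listGrp 3 vC hv, permC rho * g * (permC rho)⁻¹ ∈ listGrp 3 vC hv := by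
    rintro _ ⟨c, hc, rfl⟩
    have := List.all_eq_true.1 hrN c hc
    obtain ⟨c', hc', e⟩ := List.any_eq_true.1 this
    have hcp := (hvfacts c hc).1
    have hcp' := (hvfacts c' hc').1
    have e' := Blk22.mul_eq_of_eqW hρp hcp hcp' hρp e
    refine ⟨c', hc', ?_⟩
    rw [e']
    group
  refine
    { hV2 := listGrp_isPGroup.comap_subtype
      hVx := ?_
      b3 := ?_
      hR2 := Hfix_isPGroup.comap_subtype
      hRn := ?_
      hρ := ?_ }
  · intro v hv'
    obtain ⟨c, hc, e⟩ := Subgroup.mem_subgroupOf.1 hv'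
    apply Subtype.ext
    show (v : Equiv.Perm GolayPt) * permC x = permC x * v
    rw [← e]
    exact (hvfacts c hc).2.2.2.1
  · intro g hg1 hg2 hg3
    rw [Subgroup.mem_subgroupOf]
    have hgH : (g : Equiv.Perm GolayPt) ∈ HS := centR_le g.2 (congrArg Subtype.val hg1)
    obtain ⟨v, hvm, e⟩ := two_elt_of_list HS 10 21 (by norm_num) card_HS hElems
      (fun c hc => (hElems_mem hc).1) (fun y hy => exists_code hy) x hxp vC h2 hgH
      (congrArg Subtype.val hg2) (by
        obtain ⟨k, hk⟩ := hg3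
        refine ⟨k, ?_⟩
        have := congrArg Subtype.val hk
        simpa using this)
    exact ⟨v, hvm, e⟩
  · intro n hn ρ hρ
    rw [Subgroup.mem_subgroupOf] at hρ ⊢
    push_cast
    apply conj_mem_Hfix n.2 _ hρ
    -- `n` centralises `R`
    have hn' := Subgroup.mem_normalizer_iff.1 hn
    have hni := Subgroup.mem_normalizer_iff.1 ((Subgroup.normalizer _).inv_mem hn)
    have hz : ((n * r' * n⁻¹ : ↥M24) : Equiv.Perm GolayPt) ∈ listGrp 3 vC hv :=
      Subgroup.mem_subgroupOf.1 ((hn' r').1 (Subgroup.mem_subgroupOf.2 hRV))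
    obtain ⟨cz, hcz, ez⟩ := hz
    have ez' : permC cz = (n : Equiv.Perm GolayPt) * R * (n : Equiv.Perm GolayPt)⁻¹ := by
      rw [ez]
      rfl
    have hczp := (hvfacts cz hcz).1
    have hcentral : vC.all (fun u => eqW [u, cz] [cz, u]) = true := by
      rw [List.all_eq_true]
      intro u hu
      have hup := (hvfacts u hu).1
      apply Blk22.eqW_of_mul_eq hup hczp hczp hup
      -- `n⁻¹ u n` lies in the group, hence commutes with `R`
      have hu' : (⟨permC u, (hvfacts u hu).2.1⟩ : ↥M24) ∈ (listGrp 3 vC hv).subgroupOf M24 :=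
        Subgroup.mem_subgroupOf.2 ⟨u, hu, rfl⟩
      have h3 := Subgroup.mem_subgroupOf.1 ((hni _).1 hu')
      obtain ⟨w, hw, ew⟩ := h3
      have ew' : permC w = (n : Equiv.Perm GolayPt)⁻¹ * permC u * (n : Equiv.Perm GolayPt) := by
        have h4 := ew
        rw [inv_inv] at h4
        exact h4
      have hwR := (hvfacts w hw).2.2.2.2
      rw [ew'] at hwR
      rw [ez']
      have : permC u = (n : Equiv.Perm GolayPt) *
          ((n : Equiv.Perm GolayPt)⁻¹ * permC u * (n : Equiv.Perm GolayPt)) *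
          (n : Equiv.Perm GolayPt)⁻¹ := by group
      rw [this]
      set a := (n : Equiv.Perm GolayPt)⁻¹ * permC u * (n : Equiv.Perm GolayPt) with ha
      calc (n : Equiv.Perm GolayPt) * a * (n : Equiv.Perm GolayPt)⁻¹ *
            ((n : Equiv.Perm GolayPt) * R * (n : Equiv.Perm GolayPt)⁻¹)
          = (n : Equiv.Perm GolayPt) * (a * R) * (n : Equiv.Perm GolayPt)⁻¹ := by group
        _ = (n : Equiv.Perm GolayPt) * (R * a) * (n : Equiv.Perm GolayPt)⁻¹ := by rw [hwR]
        _ = (n : Equiv.Perm GolayPt) * R * (n : Equiv.Perm GolayPt)⁻¹ *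
            ((n : Equiv.Perm GolayPt) * a * (n : Equiv.Perm GolayPt)⁻¹) := by group
    have hchk := List.all_eq_true.1 hcen cz hcz
    rw [hcentral] at hchk
    simp only [Bool.not_true, Bool.false_or, Bool.or_eq_true] at hchk
    rcases hchk with h | h
    · exfalso
      have h1' := Blk22.eq_one_of_eqW_one hczp h
      rw [ez'] at h1'
      apply R_ne
      have : R = (n : Equiv.Perm GolayPt)⁻¹ *
          ((n : Equiv.Perm GolayPt) * R * (n : Equiv.Perm GolayPt)⁻¹) *
          (n : Equiv.Perm GolayPt) := by group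
      rw [this, h1']
      group
    · have hcz' : cz = rCode := Nat.eq_of_beq_eq_true h
      rw [hcz'] at ez'
      have e3 : R = (n : Equiv.Perm GolayPt) * R * (n : Equiv.Perm GolayPt)⁻¹ := ez'
      calc (n : Equiv.Perm GolayPt) * R
          = (n : Equiv.Perm GolayPt) * R * (n : Equiv.Perm GolayPt)⁻¹ *
            (n : Equiv.Perm GolayPt) := by group
        _ = R * (n : Equiv.Perm GolayPt) := by rw [← e3]
  · refine ⟨⟨permC rho, hρF.1⟩, Subgroup.mem_subgroupOf.2 hρF, ?_, ?_⟩
    · rw [Subgroup.mem_normalizer_iff]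
      intro v
      constructor
      · intro hvm
        rw [Subgroup.mem_subgroupOf] at hvm ⊢
        exact hρconj _ hvm
      · intro hvm
        rw [Subgroup.mem_subgroupOf] at hvm ⊢
        have := hρconj _ hvm
        have e : permC rho * ((⟨permC rho, hρF.1⟩ * v * (⟨permC rho, hρF.1⟩ : ↥M24)⁻¹ : ↥M24) :
            Equiv.Perm GolayPt) * (permC rho)⁻¹ = (v : Equiv.Perm GolayPt) := by
          show permC rho * (permC rho * (v : Equiv.Perm GolayPt) * (permC rho)⁻¹) *
            (permC rho)⁻¹ = v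
          rw [hρinv]
          calc permC rho * (permC rho * (v : Equiv.Perm GolayPt) * permC rho) * permC rho
              = (permC rho * permC rho) * (v : Equiv.Perm GolayPt) *
                (permC rho * permC rho) := by group
            _ = v := by rw [hρsq, one_mul, mul_one]
        rw [← e]
        exact this
    · intro hmem
      obtain ⟨c, hc, e⟩ := Subgroup.mem_subgroupOf.1 hmem
      have e' : permC c = permC rho := e
      have hcf := hvfacts c hc
      have := Blk22.code_inj' hcf.2.2.1 (Nat.le_of_ble_eq_true hrlt) hcf.1 hρp e'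
      rw [this] at hc
      have hany : vC.any (Nat.beq rho) = true :=
        List.any_eq_true.2 ⟨rho, hc, Nat.beq_refl rho⟩
      rw [hany] at hrnot
      simp at hrnot

/-! ### The two classes of elements of odd order -/

theorem va_ok : grpOK 3 vCodesa = true := by decide +kernel

theorem vb_ok : grpOK 3 vCodesb = true := by decide +kernel

theorem chkA_a : chkA x0aCode vCodesa rhoa = true := by decide +kernel

theorem chkA_b : chkA x0bCode vCodesb rhob = true := by decide +kernel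

set_option maxRecDepth 1000000 in
set_option maxHeartbeats 0 in
theorem b3_a : b3chk x0aCode vCodesa = true := by decide +kernel

set_option maxRecDepth 1000000 in
set_option maxHeartbeats 0 in
theorem b3_b : b3chk x0bCode vCodesb = true := by decide +kernel

theorem inv_ok : eqW [x0aCode, x0aiCode] [] = true ∧ eqW [x0bCode, x0biCode] [] = true := by
  decide +kernel

theorem target_perm {t : ℕ} (ht : t ∈ xTargets) : isPerm t = true := xTargets_perm t ht

theorem target_mem {t : ℕ} (ht : t ∈ xTargets) : permC t ∈ M24 :=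
  HS_le_M24 (inH_spec (List.all_eq_true.1 xTargets_ok t ht)).2

theorem inv_of_eqW {a b : ℕ} (ha : isPerm a = true) (hb : isPerm b = true)
    (h : eqW [a, b] [] = true) : permC b = (permC a)⁻¹ := by
  have := prodC_eq_of_eqW (Blk22.perm_pair' ha hb) (by simp) h
  rw [Blk22.prodC_two, prodC_nil] at this
  exact (inv_eq_of_mul_eq_one_right this).symm

theorem rad_of_target {t : ℕ} (ht : t ∈ xTargets) :
    ∃ V R0 : Subgroup ↥M24, RadData2 r' (⟨permC t, target_mem ht⟩ : ↥M24) V R0 := by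
  have hmem := ht
  unfold xTargets at hmem
  simp only [List.mem_cons, List.not_mem_nil, or_false] at hmem
  have ha : x0aCode ∈ xTargets := by unfold xTargets; simp
  have hai : x0aiCode ∈ xTargets := by unfold xTargets; simp
  have hb : x0bCode ∈ xTargets := by unfold xTargets; simp
  have hbi : x0biCode ∈ xTargets := by unfold xTargets; simp
  rcases hmem with rfl | rfl | rfl | rfl
  · exact ⟨_, _, radA x0aCode vCodesa rhoa chkA_a b3_a va_ok (target_mem ha)⟩
  · have h := (radA x0aCode vCodesa rhoa chkA_a b3_a va_ok (target_mem ha)).inv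
    have e : (⟨permC x0aiCode, target_mem hai⟩ : ↥M24) =
        (⟨permC x0aCode, target_mem ha⟩ : ↥M24)⁻¹ :=
      Subtype.ext (inv_of_eqW (target_perm ha) (target_perm hai) inv_ok.1)
    rw [e]
    exact ⟨_, _, h⟩
  · exact ⟨_, _, radA x0bCode vCodesb rhob chkA_b b3_b vb_ok (target_mem hb)⟩
  · have h := (radA x0bCode vCodesb rhob chkA_b b3_b vb_ok (target_mem hb)).inv
    have e : (⟨permC x0biCode, target_mem hbi⟩ : ↥M24) =
        (⟨permC x0bCode, target_mem hb⟩ : ↥M24)⁻¹ :=
      Subtype.ext (inv_of_eqW (target_perm hb) (target_perm hbi) inv_ok.2)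
    rw [e]
    exact ⟨_, _, h⟩

/-- the local data for an involution with eight fixed points -/
theorem rad_exists {t x : Equiv.Perm GolayPt} (ht : t ∈ M24) (hx : x ∈ M24) (htt : t * t = 1)
    (ht1 : t ≠ 1) (h8 : fixcard t = 8) (htx : t * x = x * t) (hodd : ¬ 2 ∣ orderOf x)
    (hx1 : x ≠ 1) :
    ∃ (w : ↥M24) (V R0 : Subgroup ↥M24),
      RadData2 (w * ⟨t, ht⟩ * w⁻¹) (w * ⟨x, hx⟩ * w⁻¹) V R0 := by
  obtain ⟨u, hu, e⟩ := Syl24.inv8_conj_std ht htt ht1 h8
  have e' : t = u * R * u⁻¹ := e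
  set x1 := u⁻¹ * x * u with hx1'
  have hx1M : x1 ∈ M24 := M24.mul_mem (M24.mul_mem (M24.inv_mem hu) hx) hu
  have hcomm : x1 * R = R * x1 := by
    have h1 : R = u⁻¹ * t * u := by rw [e']; group
    rw [h1, hx1']
    calc u⁻¹ * x * u * (u⁻¹ * t * u) = u⁻¹ * (x * t) * u := by group
      _ = u⁻¹ * (t * x) * u := by rw [htx]
      _ = u⁻¹ * t * u * (u⁻¹ * x * u) := by group
  have hord : orderOf x1 = orderOf x := by
    have := (MulAut.conj u⁻¹).orderOf_eq x
    rwa [MulAut.conj_apply, inv_inv] at this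
  have hx1ne : x1 ≠ 1 := by
    intro h
    apply hx1
    have : x = u * x1 * u⁻¹ := by rw [hx1']; group
    rw [this, h]
    group
  obtain ⟨c, hcM, hcR, tg, htg, hconj⟩ := odd_conj hx1M hcomm (by rw [hord]; exact hodd) hx1ne
  obtain ⟨V, R0, hdat⟩ := rad_of_target htg
  refine ⟨⟨c * u⁻¹, M24.mul_mem hcM (M24.inv_mem hu)⟩, V, R0, ?_⟩
  have e1 : (⟨c * u⁻¹, M24.mul_mem hcM (M24.inv_mem hu)⟩ : ↥M24) * ⟨t, ht⟩ *
      (⟨c * u⁻¹, M24.mul_mem hcM (M24.inv_mem hu)⟩ : ↥M24)⁻¹ = r' := by
    apply Subtype.ext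
    show c * u⁻¹ * t * (c * u⁻¹)⁻¹ = R
    rw [e']
    calc c * u⁻¹ * (u * R * u⁻¹) * (c * u⁻¹)⁻¹ = c * R * c⁻¹ := by group
      _ = R * c * c⁻¹ := by rw [hcR]
      _ = R := by group
  have e2 : (⟨c * u⁻¹, M24.mul_mem hcM (M24.inv_mem hu)⟩ : ↥M24) * ⟨x, hx⟩ *
      (⟨c * u⁻¹, M24.mul_mem hcM (M24.inv_mem hu)⟩ : ↥M24)⁻¹ =
      ⟨permC tg, target_mem htg⟩ := by
    apply Subtype.ext
    show c * u⁻¹ * x * (c * u⁻¹)⁻¹ = permC tg
    rw [← hconj, hx1']
    group
  rw [e1, e2]
  exact hdat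

end Cfsg.Agent.Lib.Helper93.Cent24A
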