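import Cfsg.Agent.Lib.Helper93.FamData

set_option autoImplicit false

namespace Cfsg.Agent.Lib.Helper93.Golay

open Cfsg
open scoped Pointwise

/-! ### The families of trios and sextets -/

/-- A key for sorting the trios. -/
def trioKey : List ℕ → ℕ
  | a :: b :: _ => a <<< 24 ||| b
  | _ => 0

set_option maxRecDepth 1000000 in
theorem trioList_ok : trioList.all trioOK = true := by decide +kernel

set_option maxRecDepth 1000000 in
theorem trioList_chain : chainLt (trioList.map trioKey) = true := by decide +kernel

theorem trioList_nodup : trioList.Nodup :=
  List.Nodup.of_map trioKey (nodup_of_chainLt trioList_chain)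

set_option maxRecDepth 1000000 in
theorem trioReach_ok : encFam.reachOK mgens8 T0code trioList trioWords = true := by
  decide +kernel

theorem trioStab_gens_ok : (chainGens trioStabLevels).all
    (fun S => isAutC S && beqL (actL S T0code) T0code) = true := by decide +kernel

set_option maxRecDepth 1000000 in
theorem trioStab_prod : trioList.length * chainProd 0 trioStabLevels = 244823040 := by
  decide +kernel

theorem trioList_canon : ∀ l ∈ trioList, canonL l = true :=
  fun l hl => canonL_of_trioOK (List.all_eq_true.1 trioList_ok l hl)

theorem T0code_small : encFam.small T0code := encFam.canon_small _ (canonL_of_trioOK T0code_ok)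

theorem stab_T0_facts :
    stabM (decFF T0code) = genSubgroup (chainGens trioStabLevels) ∧
      Nat.card (stabM (decFF T0code)) = chainProd 0 trioStabLevels ∧
      (orbM (decFF T0code)).ncard = trioList.length ∧
      ∀ y ∈ orbM (decFF T0code), ∃ b ∈ trioList, decFF b = y :=
  stab_eq_gen encFam T0code T0code_small trioList trioList_nodup
    trioList_canon mgens8 (fun S hS => List.all_eq_true.1 mgens8_ok S hS) trioWords trioReach_ok
    trioStabLevels (fun S hS => by
      have := List.all_eq_true.1 trioStab_gens_ok S hS
      rw [Bool.and_eq_true] at this
      exact this) trioStab_prod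

/-- The trios as an enumerated family. -/
def trioFamily : Family encFam where
  Y := trios
  L := trioList
  inv := fun _ hg _ hy => smul_mem_trios hg hy
  canon := trioList_canon
  sound := fun l hl => decFF_mem_trios (List.all_eq_true.1 trioList_ok l hl)
  complete := fun y hy => by
    obtain ⟨g, hg, hgy⟩ := exists_smul_T0_eq hy
    exact stab_T0_facts.2.2.2 y ⟨g, hg, hgy⟩
  nodup := trioList_nodup

theorem trioStab_gens_aut : ∀ S ∈ chainGens trioStabLevels, isAutC S = true := by
  intro S hS
  have := List.all_eq_true.1 trioStab_gens_ok S hS
  rw [Bool.and_eq_true] at this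
  exact this.1

/-- A key for sorting the sextets. -/
def sextetKey : List ℕ → ℕ
  | a :: _ => a
  | _ => 0

set_option maxRecDepth 1000000 in
theorem sextetList_ok : sextetList.all sextetOK = true := by decide +kernel

set_option maxRecDepth 1000000 in
theorem sextetList_chain : chainLt (sextetList.map sextetKey) = true := by decide +kernel

theorem sextetList_nodup : sextetList.Nodup :=
  List.Nodup.of_map sextetKey (nodup_of_chainLt sextetList_chain)

set_option maxRecDepth 1000000 in
theorem sextetReach_ok : encFam.reachOK mgens8 S0code sextetList sextetWords = true := by
  decide +kernel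

theorem sextetStab_gens_ok : (chainGens sextetStabLevels).all
    (fun S => isAutC S && beqL (actL S S0code) S0code) = true := by decide +kernel

set_option maxRecDepth 1000000 in
theorem sextetStab_prod : sextetList.length * chainProd 0 sextetStabLevels = 244823040 := by
  decide +kernel

theorem sextetList_canon : ∀ l ∈ sextetList, canonL l = true :=
  fun l hl => canonL_of_sextetOK (List.all_eq_true.1 sextetList_ok l hl)

theorem S0code_small : encFam.small S0code :=
  encFam.canon_small _ (canonL_of_sextetOK S0code_ok)

theorem stab_S0_facts :
    stabM (decFF S0code) = genSubgroup (chainGens sextetStabLevels) ∧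
      Nat.card (stabM (decFF S0code)) = chainProd 0 sextetStabLevels ∧
      (orbM (decFF S0code)).ncard = sextetList.length ∧
      ∀ y ∈ orbM (decFF S0code), ∃ b ∈ sextetList, decFF b = y :=
  stab_eq_gen encFam S0code S0code_small sextetList sextetList_nodup
    sextetList_canon mgens8 (fun S hS => List.all_eq_true.1 mgens8_ok S hS) sextetWords
    sextetReach_ok sextetStabLevels (fun S hS => by
      have := List.all_eq_true.1 sextetStab_gens_ok S hS
      rw [Bool.and_eq_true] at this
      exact this) sextetStab_prod

/-- The sextets as an enumerated family. -/
def sextetFamily : Family encFam where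
  Y := sextets
  L := sextetList
  inv := fun _ hg _ hy => smul_mem_sextets hg hy
  canon := sextetList_canon
  sound := fun l hl => decFF_mem_sextets (List.all_eq_true.1 sextetList_ok l hl)
  complete := fun y hy => by
    obtain ⟨g, hg, hgy⟩ := exists_smul_S0_eq hy
    exact stab_S0_facts.2.2.2 y ⟨g, hg, hgy⟩
  nodup := sextetList_nodup

theorem sextetStab_gens_aut : ∀ S ∈ chainGens sextetStabLevels, isAutC S = true := by
  intro S hS
  have := List.all_eq_true.1 sextetStab_gens_ok S hS
  rw [Bool.and_eq_true] at this
  exact this.1

set_option maxRecDepth 1000000 in
theorem trioList_length : trioList.length = 3795 := by decide +kernel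

set_option maxRecDepth 1000000 in
theorem sextetList_length : sextetList.length = 1771 := by decide +kernel

end Cfsg.Agent.Lib.Helper93.Golay
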