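import Cfsg.Agent.Lib.Helper93.Cent24BData
import Cfsg.Agent.Lib.Helper93.CentEnum
import Cfsg.Agent.Lib.Helper93.Fams
import Cfsg.Agent.S5606

set_option autoImplicit false

/-! The centraliser in `M24` of a fixed point free involution: order `7680`, all elements
listed, conjugacy of its elements of odd order. -/

namespace Cfsg.Agent.Lib.Helper93.Cent24B

open Cfsg Cfsg.Agent.Lib.Helper93.Golay Cfsg.Agent.Lib.Helper93.CentEnum
open scoped Pointwise

/-- the involution -/
def R : Equiv.Perm GolayPt := permC rCode

/-- the stabiliser of the transpositions of `R` in the stabiliser of the standard sextet -/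
def HS : Subgroup (Equiv.Perm GolayPt) :=
  stabM (decFF S0code) ⊓ MulAction.stabilizer (Equiv.Perm GolayPt) (encFam.dec rFam)

def inH (c : ℕ) : Bool :=
  isAutC c && beqL (actL c S0code) S0code && beqL (actL c rFam) rFam

theorem rFam_canon : canonL rFam = true := by decide +kernel

theorem rFam_small : encFam.small rFam := fun _ hm => canonL_lt rFam_canon hm

theorem mem_stabM_S0_of {c : ℕ} (h1 : isAutC c = true)
    (h2 : beqL (actL c S0code) S0code = true) : permC c ∈ stabM (decFF S0code) :=
  permC_mem_stabM encFam S0code_small h1 h2

theorem inH_spec {c : ℕ} (h : inH c = true) : isPerm c = true ∧ permC c ∈ HS := by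
  unfold inH at h
  simp only [Bool.and_eq_true] at h
  obtain ⟨⟨h1, h2⟩, h3⟩ := h
  have hp := isPerm_of_isAutC h1
  refine ⟨hp, mem_stabM_S0_of h1 h2, ?_⟩
  show permC c ∈ MulAction.stabilizer (Equiv.Perm GolayPt) (encFam.dec rFam)
  rw [MulAction.mem_stabilizer_iff, encFam.act_spec c hp rFam rFam_small]
  exact congrArg encFam.dec (beqL_eq _ _ h3)

theorem rTargets_canon : rTargets.all canonL = true := by decide +kernel

theorem rTargets_chain : chainLt (rTargets.map Syl22.famKey) = true := by decide +kernel

theorem rTargets_nodup : rTargets.Nodup :=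
  List.Nodup.of_map Syl22.famKey (nodup_of_chainLt rTargets_chain)

theorem r_reach : encFam.reachOK (chainGens sextetStabLevels) rFam rTargets rWords = true := by
  decide +kernel

def hGens : List ℕ := chainGens hLevels

theorem hGens_ok : hGens.all inH = true := by decide +kernel

theorem chainProd_sext : chainProd 0 sextetStabLevels = 138240 := by decide +kernel

theorem card_stabM_S0 : Nat.card (stabM (decFF S0code)) = 138240 := by
  rw [stab_S0_facts.2.1, chainProd_sext]

theorem h_prod : rTargets.length * chainProd 0 hLevels = 138240 := by decide +kernel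

theorem chainProd_h : chainProd 0 hLevels = 7680 := by decide +kernel

theorem HS_facts :
    HS = genSubgroup hGens ∧ Nat.card HS = chainProd 0 hLevels ∧
      Nat.card (stabM (decFF S0code)) = 138240 ∧
      ∀ h ∈ stabM (decFF S0code), ∃ b ∈ rTargets, encFam.dec b = h • encFam.dec rFam :=
  rel_stab_eq_gen encFam (stabM (decFF S0code)) 138240 (le_of_eq card_stabM_S0)
    (chainGens sextetStabLevels)
    (fun S hS => by
      have := List.all_eq_true.1 sextetStab_gens_ok S hS
      rw [Bool.and_eq_true] at this
      exact ⟨isPerm_of_isAutC this.1, mem_stabM_S0_of this.1 this.2⟩)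
    rFam rFam_small rTargets rTargets_nodup
    (fun b hb => List.all_eq_true.1 rTargets_canon b hb) rWords r_reach hLevels
    (fun S hS => by
      have h := List.all_eq_true.1 hGens_ok S hS
      have hs := inH_spec h
      unfold inH at h
      simp only [Bool.and_eq_true] at h
      exact ⟨hs.1, hs.2.1, h.2⟩)
    h_prod (by norm_num)

theorem card_HS : Nat.card HS = 2 ^ 9 * 15 := by
  rw [HS_facts.2.1, chainProd_h]
  norm_num

/-! ### The list of elements -/

def hTable : List (ℕ × ℕ × List ℕ) := hTableN.map decodeEnt

def hElems : List ℕ := hTableN.map (fun n => n >>> 72)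

set_option maxRecDepth 1000000 in
set_option maxHeartbeats 0 in
theorem hElems_chain : chainLt hElems = true := by decide +kernel

set_option maxRecDepth 1000000 in
set_option maxHeartbeats 0 in
theorem hElems_length : hElems.length = 7680 := by decide +kernel

theorem tAll_ok : tAll.all inH = true := by decide +kernel

theorem cGens_ok : cGens.all (fun s => inH s && eqW [s, rCode] [rCode, s]) = true := by
  decide +kernel

theorem xTargets_ok : xTargets.all inH = true := by decide +kernel

/-- the check of one packed entry -/
def entChk (n : ℕ) : Bool := factOK tAll n && entryOKF 15 cGens xTargets n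

end Cfsg.Agent.Lib.Helper93.Cent24B
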