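import Cfsg.Agent.Lib.Helper93.Cent24B

set_option autoImplicit false

/-! Kernel checks of the packed table of the centraliser (generated). -/

namespace Cfsg.Agent.Lib.Helper93.Cent24B

open Cfsg Cfsg.Agent.Lib.Helper93.Golay Cfsg.Agent.Lib.Helper93.CentEnum

set_option maxRecDepth 1000000 in
set_option maxHeartbeats 0 in
theorem chunk0_ok : hTableN0.all entChk = true := by decide +kernel

set_option maxRecDepth 1000000 in
set_option maxHeartbeats 0 in
theorem chunk1_ok : hTableN1.all entChk = true := by decide +kernel

end Cfsg.Agent.Lib.Helper93.Cent24B
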