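import Cfsg.Agent.Lib.Helper93.Classes

set_option autoImplicit false

namespace Cfsg.Agent.Lib.Helper93.Golay

open Cfsg
open scoped Pointwise

/-! ### Properties of a permutation read off its index function -/

theorem idx_apply {t : Equiv.Perm GolayPt} {f : ℕ → ℕ}
    (hf : ∀ p, ((ptIdx (t p) : Fin 24) : ℕ) = f (ptIdx p)) (i : ℕ) (hi : i < 24) :
    ((ptIdx (t (ptOf ⟨i, hi⟩)) : Fin 24) : ℕ) = f i := by
  rw [hf, ptIdx_ptOf]

theorem involution_chk {t : Equiv.Perm GolayPt} {f : ℕ → ℕ}
    (hf : ∀ p, ((ptIdx (t p) : Fin 24) : ℕ) = f (ptIdx p)) (h2 : t * t = 1) :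
    (List.range 24).all (fun i => Nat.beq (f (f i)) i) = true := by
  rw [List.all_eq_true]
  intro i hi
  have hi' := List.mem_range.1 hi
  have e := congrArg (fun g : Equiv.Perm GolayPt => ((ptIdx (g (ptOf ⟨i, hi'⟩)) : Fin 24) : ℕ)) h2
  simp only [Equiv.Perm.mul_apply, Equiv.Perm.one_apply] at e
  rw [hf, idx_apply hf, ptIdx_ptOf] at e
  simp only at e
  rw [e]
  exact Nat.beq_refl i

theorem order3_chk {t : Equiv.Perm GolayPt} {f : ℕ → ℕ}
    (hf : ∀ p, ((ptIdx (t p) : Fin 24) : ℕ) = f (ptIdx p)) (h3 : t * t * t = 1) :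
    (List.range 24).all (fun i => Nat.beq (f (f (f i))) i) = true := by
  rw [List.all_eq_true]
  intro i hi
  have hi' := List.mem_range.1 hi
  have e := congrArg (fun g : Equiv.Perm GolayPt => ((ptIdx (g (ptOf ⟨i, hi'⟩)) : Fin 24) : ℕ)) h3
  simp only [Equiv.Perm.mul_apply, Equiv.Perm.one_apply] at e
  rw [hf, hf, idx_apply hf, ptIdx_ptOf] at e
  simp only at e
  rw [e]
  exact Nat.beq_refl i

theorem fpf_chk {t : Equiv.Perm GolayPt} {f : ℕ → ℕ}
    (hf : ∀ p, ((ptIdx (t p) : Fin 24) : ℕ) = f (ptIdx p)) (h0 : ∀ p, t p ≠ p) :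
    (List.range 24).any (fun i => Nat.beq (f i) i) = false := by
  rw [← Bool.not_eq_true, List.any_eq_true]
  rintro ⟨i, hi, hfi⟩
  have hi' := List.mem_range.1 hi
  apply h0 (ptOf ⟨i, hi'⟩)
  apply ptEquiv.injective
  show ptIdx _ = ptIdx _
  apply Fin.ext
  rw [idx_apply hf, ptIdx_ptOf]
  exact Nat.eq_of_beq_eq_true hfi

/-- The number of indices fixed by an index function. -/
def fixCount (f : ℕ → ℕ) : ℕ := ((List.range 24).filter fun i => Nat.beq (f i) i).length

theorem card_fixed_eq {t : Equiv.Perm GolayPt} {f : ℕ → ℕ}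
    (hf : ∀ p, ((ptIdx (t p) : Fin 24) : ℕ) = f (ptIdx p)) :
    (Finset.univ.filter fun p => t p = p).card = fixCount f := by
  unfold fixCount
  have h1 : (Finset.univ.filter fun p => t p = p) =
      ((Finset.range 24).filter fun i => f i = i).attach.image
        (fun i => ptOf ⟨i.1, Finset.mem_range.1 (Finset.mem_filter.1 i.2).1⟩) := by
    ext p
    rw [Finset.mem_filter, Finset.mem_image]
    constructor
    · rintro ⟨_, hp⟩
      refine ⟨⟨ptIdx p, ?_⟩, Finset.mem_attach _ _, ptOf_ptIdx p⟩
      rw [Finset.mem_filter, Finset.mem_range]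
      refine ⟨(ptIdx p).isLt, ?_⟩
      rw [← hf, hp]
    · rintro ⟨⟨i, hi⟩, _, rfl⟩
      rw [Finset.mem_filter, Finset.mem_range] at hi
      refine ⟨Finset.mem_univ _, ?_⟩
      apply ptEquiv.injective
      show ptIdx _ = ptIdx _
      apply Fin.ext
      rw [idx_apply hf, ptIdx_ptOf]
      exact hi.2
  rw [h1, Finset.card_image_of_injective, Finset.card_attach]
  · have h2 : (Finset.range 24).filter (fun i => f i = i) =
        ((List.range 24).filter fun i => Nat.beq (f i) i).toFinset := by
      ext i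
      rw [Finset.mem_filter, Finset.mem_range, List.mem_toFinset, List.mem_filter, List.mem_range]
      constructor
      · rintro ⟨a, b⟩
        refine ⟨a, ?_⟩
        rw [b]
        exact Nat.beq_refl i
      · rintro ⟨a, b⟩
        exact ⟨a, Nat.eq_of_beq_eq_true b⟩
    rw [h2, List.toFinset_card_of_nodup]
    exact List.Nodup.filter _ List.nodup_range
  · intro a b hab
    have := congrArg (fun p => ((ptIdx p : Fin 24) : ℕ)) hab
    simp only [ptIdx_ptOf] at this
    exact Subtype.ext this

/-! ### Tables over a coset of the stabiliser of four points -/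

/-- All pairs `(V, S)`. -/
def cosetPairs : List (ℕ × ℕ) := vList.flatMap fun V => H5list.map fun S => (V, S)

theorem mem_cosetPairs {V S : ℕ} (hV : V ∈ vList) (hS : S ∈ H5list) : (V, S) ∈ cosetPairs := by
  unfold cosetPairs
  rw [List.mem_flatMap]
  exact ⟨V, hV, List.mem_map.2 ⟨S, hS, rfl⟩⟩

theorem H5list_perm {S : ℕ} (hS : S ∈ H5list) : isAutC S = true := by
  have := List.all_eq_true.1 H5_ok S hS
  rw [Bool.and_eq_true] at this
  exact this.1

theorem vList_perm {V : ℕ} (hV : V ∈ vList) : isAutC V = true := by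
  have := List.all_eq_true.1 vList_ok V hV
  rw [Bool.and_eq_true] at this
  exact this.1

theorem triple_perm {C0 V S : ℕ} (hC0 : isAutC C0 = true) (hV : V ∈ vList) (hS : S ∈ H5list) :
    ∀ X ∈ [C0, V, S], isPerm X = true := by
  intro X hX
  simp only [List.mem_cons, List.mem_nil_iff, or_false] at hX
  rcases hX with rfl | rfl | rfl
  · exact isPerm_of_isAutC hC0
  · exact isPerm_of_isAutC (vList_perm hV)
  · exact isPerm_of_isAutC (H5list_perm hS)

/-- A table lookup: every element of the coset of `C0` satisfies the tabulated check. -/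
theorem coset_table_spec {C0 : ℕ} (hC0 : isAutC C0 = true) (table : List (ℕ × ℕ × ℕ))
    (hcover : table.map (fun x => (x.1, x.2.1)) = cosetPairs)
    (chk : (ℕ → ℕ) → ℕ → Bool)
    (hchk : table.all (fun x => chk (pappL [C0, x.1, x.2.1]) x.2.2) = true)
    {g : Equiv.Perm GolayPt} (hg : g ∈ M24)
    (h : ∀ i (hi : i < 4), g (P i (by omega)) = permC C0 (P i (by omega))) :
    ∃ f : ℕ → ℕ, ∃ U : ℕ, (∀ p, ((ptIdx (g p) : Fin 24) : ℕ) = f (ptIdx p)) ∧ chk f U = true := by
  obtain ⟨V, hV, S, hS, rfl⟩ := coset_complete hC0 hg h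
  have hmem : (V, S) ∈ table.map (fun x => (x.1, x.2.1)) := by
    rw [hcover]; exact mem_cosetPairs hV hS
  obtain ⟨⟨V', S', U⟩, hx, hVS⟩ := List.mem_map.1 hmem
  simp only [Prod.mk.injEq] at hVS
  obtain ⟨rfl, rfl⟩ := hVS
  refine ⟨pappL [C0, V', S'], U, fun p => ptIdx_prodC _ (triple_perm hC0 hV hS) p, ?_⟩
  exact List.all_eq_true.1 hchk _ hx

/-! ### Moving four given points to the standard ones -/

theorem exists_fifth (q : ℕ → GolayPt) : ∃ p : GolayPt, ∀ i, i < 4 → q i ≠ p := by
  classical
  have hlt : ((Finset.range 4).image q).card < (Finset.univ : Finset GolayPt).card := by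
    have h1 : ((Finset.range 4).image q).card ≤ 4 := by
      have := Finset.card_image_le (s := Finset.range 4) (f := q)
      rwa [Finset.card_range] at this
    have h2 : (Finset.univ : Finset GolayPt).card = 24 := by
      rw [Finset.card_univ]; decide
    omega
  obtain ⟨p, _, hp⟩ := Finset.exists_mem_notMem_of_card_lt_card hlt
  refine ⟨p, fun i hi h => hp ?_⟩
  rw [Finset.mem_image]
  exact ⟨i, Finset.mem_range.2 hi, h⟩

theorem exists_M24_map4 (q : ℕ → GolayPt)
    (hq : ∀ i j, i < 4 → j < 4 → q i = q j → i = j) :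
    ∃ g ∈ M24, ∀ i (hi : i < 4), g (P i (by omega)) = q i := by
  obtain ⟨p, hp⟩ := exists_fifth q
  let q' : ℕ → GolayPt := fun i => if i < 4 then q i else p
  have hq' : ∀ i j, i < 5 → j < 5 → q' i = q' j → i = j := by
    intro i j hi hj h
    by_cases hi4 : i < 4
    · by_cases hj4 : j < 4
      · simp only [q', hi4, hj4, if_true] at h
        exact hq i j hi4 hj4 h
      · simp only [q', hi4, hj4, if_true, if_false] at h
        exact absurd h (hp i hi4)
    · by_cases hj4 : j < 4
      · simp only [q', hi4, hj4, if_true, if_false] at h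
        exact absurd h.symm (hp j hj4)
      · omega
  obtain ⟨g, hg, hgq⟩ := exists_M24_map q' hq' 4 (by norm_num)
  refine ⟨g, hg, fun i hi => ?_⟩
  rw [hgq i hi]
  simp only [q', hi, if_true]

/-- If `g` permutes four distinct points `q 0, …, q 3` as the coded element `C0` permutes the
points of indices `0, …, 3`, a conjugate of `g` lies in the coset of `C0`. -/
theorem exists_conj_coset {g : Equiv.Perm GolayPt} (q : ℕ → GolayPt)
    (hq : ∀ i j, i < 4 → j < 4 → q i = q j → i = j) {C0 : ℕ} (hC0 : isPerm C0 = true)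
    (hC4 : ∀ i, i < 4 → papp C0 i < 4)
    (hgq : ∀ i, i < 4 → g (q i) = q (papp C0 i)) :
    ∃ u ∈ M24, ∀ i (hi : i < 4), (u⁻¹ * g * u) (P i (by omega)) = permC C0 (P i (by omega)) := by
  obtain ⟨u, hu, huq⟩ := exists_M24_map4 q hq
  refine ⟨u, hu, fun i hi => ?_⟩
  have h4 := hC4 i hi
  have hP : permC C0 (P i (by omega)) = P (papp C0 i) (by omega) :=
    permC_ptOf hC0 i (by omega) (papp C0 i) (by omega) rfl
  rw [Equiv.Perm.mul_apply, Equiv.Perm.mul_apply, huq i hi, hgq i hi, hP,
    ← huq (papp C0 i) h4]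
  simp

/-- Undoing a conjugation. -/
theorem conj_unfold {u g v t : Equiv.Perm GolayPt} (h : u⁻¹ * g * u = v * t * v⁻¹) :
    g = (u * v) * t * (u * v)⁻¹ := by
  have : g = u * (u⁻¹ * g * u) * u⁻¹ := by group
  rw [this, h]; group

/-- Variant of `exists_conj_coset` with five distinct points, allowing `C0` to send one of the first
four indices to the index `4`. -/
theorem exists_conj_coset5 {g : Equiv.Perm GolayPt} (q : ℕ → GolayPt)
    (hq : ∀ i j, i < 5 → j < 5 → q i = q j → i = j) {C0 : ℕ} (hC0 : isPerm C0 = true)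
    (hC4 : ∀ i, i < 4 → papp C0 i < 5)
    (hgq : ∀ i, i < 4 → g (q i) = q (papp C0 i)) :
    ∃ u ∈ M24, ∀ i (hi : i < 4), (u⁻¹ * g * u) (P i (by omega)) = permC C0 (P i (by omega)) := by
  obtain ⟨u, hu, huq⟩ := exists_M24_map q hq 5 (le_refl 5)
  refine ⟨u, hu, fun i hi => ?_⟩
  have h4 := hC4 i hi
  have hP : permC C0 (P i (by omega)) = P (papp C0 i) (by omega) :=
    permC_ptOf hC0 i (by omega) (papp C0 i) (by omega) rfl
  rw [Equiv.Perm.mul_apply, Equiv.Perm.mul_apply, huq i (by omega), hgq i hi, hP,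
    ← huq (papp C0 i) h4]
  simp

/-- Five explicitly listed points. -/
def list5 (a b c d e : GolayPt) : ℕ → GolayPt := fun i =>
  if i = 0 then a else if i = 1 then b else if i = 2 then c else if i = 3 then d else e

theorem list5_inj {a b c d e : GolayPt} (hab : a ≠ b) (hac : a ≠ c) (had : a ≠ d) (hae : a ≠ e)
    (hbc : b ≠ c) (hbd : b ≠ d) (hbe : b ≠ e) (hcd : c ≠ d) (hce : c ≠ e) (hde : d ≠ e) :
    ∀ i j, i < 5 → j < 5 → list5 a b c d e i = list5 a b c d e j → i = j := by
  intro i j hi hj h
  have h0 : list5 a b c d e 0 = a := rfl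
  have h1 : list5 a b c d e 1 = b := rfl
  have h2 : list5 a b c d e 2 = c := rfl
  have h3 : list5 a b c d e 3 = d := rfl
  have h4 : list5 a b c d e 4 = e := rfl
  interval_cases i <;> interval_cases j <;>
    simp only [h0, h1, h2, h3, h4] at h <;>
    first
      | rfl
      | exact absurd h hab | exact absurd h.symm hab
      | exact absurd h hac | exact absurd h.symm hac
      | exact absurd h had | exact absurd h.symm had
      | exact absurd h hae | exact absurd h.symm hae
      | exact absurd h hbc | exact absurd h.symm hbc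
      | exact absurd h hbd | exact absurd h.symm hbd
      | exact absurd h hbe | exact absurd h.symm hbe
      | exact absurd h hcd | exact absurd h.symm hcd
      | exact absurd h hce | exact absurd h.symm hce
      | exact absurd h hde | exact absurd h.symm hde

theorem list5_inj4 {a b c d e : GolayPt} (hab : a ≠ b) (hac : a ≠ c) (had : a ≠ d)
    (hbc : b ≠ c) (hbd : b ≠ d) (hcd : c ≠ d) :
    ∀ i j, i < 4 → j < 4 → list5 a b c d e i = list5 a b c d e j → i = j := by
  intro i j hi hj h
  have h0 : list5 a b c d e 0 = a := rfl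
  have h1 : list5 a b c d e 1 = b := rfl
  have h2 : list5 a b c d e 2 = c := rfl
  have h3 : list5 a b c d e 3 = d := rfl
  interval_cases i <;> interval_cases j <;>
    simp only [h0, h1, h2, h3] at h <;>
    first
      | rfl
      | exact absurd h hab | exact absurd h.symm hab
      | exact absurd h hac | exact absurd h.symm hac
      | exact absurd h had | exact absurd h.symm had
      | exact absurd h hbc | exact absurd h.symm hbc
      | exact absurd h hbd | exact absurd h.symm hbd
      | exact absurd h hcd | exact absurd h.symm hcd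

/-- A point outside three given ones. -/
theorem exists_ne3 (a b c : GolayPt) : ∃ p : GolayPt, p ≠ a ∧ p ≠ b ∧ p ≠ c := by
  obtain ⟨p, hp⟩ := exists_fifth (list5 a b c c c)
  exact ⟨p, fun h => hp 0 (by norm_num) h.symm, fun h => hp 1 (by norm_num) h.symm,
    fun h => hp 2 (by norm_num) h.symm⟩

end Cfsg.Agent.Lib.Helper93.Golay
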