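import Cfsg.Agent.Lib.Helper93.OrbitClass

set_option autoImplicit false

namespace Cfsg.Agent.Lib.Helper93.Golay

open Cfsg
open scoped Pointwise

variable {A B : Type} [MulAction (Equiv.Perm GolayPt) A] [MulAction (Equiv.Perm GolayPt) B]

/-! ### Orbit decompositions of an invariant set under a stabiliser -/

/-- The stabiliser of `a` has exactly three orbits on `Y`, of the given sizes. -/
def OrbitDecomp3 (a : A) (Y : Set B) (n₁ n₂ n₃ : ℕ) : Prop :=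
  ∃ X₁ ∈ Y, ∃ X₂ ∈ Y, ∃ X₃ ∈ Y,
    (MulAction.orbit ↥(MulAction.stabilizer ↥M24 a) X₁).ncard = n₁ ∧
    (MulAction.orbit ↥(MulAction.stabilizer ↥M24 a) X₂).ncard = n₂ ∧
    (MulAction.orbit ↥(MulAction.stabilizer ↥M24 a) X₃).ncard = n₃ ∧
    Y = MulAction.orbit ↥(MulAction.stabilizer ↥M24 a) X₁ ∪
      MulAction.orbit ↥(MulAction.stabilizer ↥M24 a) X₂ ∪
      MulAction.orbit ↥(MulAction.stabilizer ↥M24 a) X₃

/-- The stabiliser of `a` has exactly four orbits on `Y`, of the given sizes. -/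
def OrbitDecomp4 (a : A) (Y : Set B) (n₁ n₂ n₃ n₄ : ℕ) : Prop :=
  ∃ X₁ ∈ Y, ∃ X₂ ∈ Y, ∃ X₃ ∈ Y, ∃ X₄ ∈ Y,
    (MulAction.orbit ↥(MulAction.stabilizer ↥M24 a) X₁).ncard = n₁ ∧
    (MulAction.orbit ↥(MulAction.stabilizer ↥M24 a) X₂).ncard = n₂ ∧
    (MulAction.orbit ↥(MulAction.stabilizer ↥M24 a) X₃).ncard = n₃ ∧
    (MulAction.orbit ↥(MulAction.stabilizer ↥M24 a) X₄).ncard = n₄ ∧
    Y = MulAction.orbit ↥(MulAction.stabilizer ↥M24 a) X₁ ∪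
      MulAction.orbit ↥(MulAction.stabilizer ↥M24 a) X₂ ∪
      MulAction.orbit ↥(MulAction.stabilizer ↥M24 a) X₃ ∪
      MulAction.orbit ↥(MulAction.stabilizer ↥M24 a) X₄

theorem image_smul_eq_self {Y : Set B} (hY : ∀ g ∈ M24, ∀ y ∈ Y, g • y ∈ Y) (g : ↥M24) :
    (fun y : B => g • y) '' Y = Y := by
  ext y
  constructor
  · rintro ⟨z, hz, rfl⟩
    exact hY g.1 g.2 z hz
  · intro hy
    refine ⟨g⁻¹ • y, hY (g⁻¹ : ↥M24).1 (g⁻¹ : ↥M24).2 y hy, ?_⟩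
    show g • g⁻¹ • y = y
    rw [smul_inv_smul]

theorem ncard_orbit_smul (g : ↥M24) (a : A) (b : B) :
    (MulAction.orbit ↥(MulAction.stabilizer ↥M24 (g • a)) (g • b)).ncard =
      (MulAction.orbit ↥(MulAction.stabilizer ↥M24 a) b).ncard := by
  rw [orbit_stabilizer_smul]
  exact Set.ncard_image_of_injective _ (MulAction.injective g)

theorem OrbitDecomp3.smul {a : A} {Y : Set B} {n₁ n₂ n₃ : ℕ} (h : OrbitDecomp3 a Y n₁ n₂ n₃)
    (hY : ∀ g ∈ M24, ∀ y ∈ Y, g • y ∈ Y) (g : ↥M24) : OrbitDecomp3 (g • a) Y n₁ n₂ n₃ := by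
  obtain ⟨X₁, h₁, X₂, h₂, X₃, h₃, e₁, e₂, e₃, hU⟩ := h
  refine ⟨g • X₁, hY g.1 g.2 _ h₁, g • X₂, hY g.1 g.2 _ h₂, g • X₃, hY g.1 g.2 _ h₃, ?_, ?_, ?_, ?_⟩
  · rw [ncard_orbit_smul, e₁]
  · rw [ncard_orbit_smul, e₂]
  · rw [ncard_orbit_smul, e₃]
  · rw [orbit_stabilizer_smul, orbit_stabilizer_smul, orbit_stabilizer_smul, ← Set.image_union,
      ← Set.image_union, ← hU, image_smul_eq_self hY]

theorem OrbitDecomp4.smul {a : A} {Y : Set B} {n₁ n₂ n₃ n₄ : ℕ}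
    (h : OrbitDecomp4 a Y n₁ n₂ n₃ n₄)
    (hY : ∀ g ∈ M24, ∀ y ∈ Y, g • y ∈ Y) (g : ↥M24) : OrbitDecomp4 (g • a) Y n₁ n₂ n₃ n₄ := by
  obtain ⟨X₁, h₁, X₂, h₂, X₃, h₃, X₄, h₄, e₁, e₂, e₃, e₄, hU⟩ := h
  refine ⟨g • X₁, hY g.1 g.2 _ h₁, g • X₂, hY g.1 g.2 _ h₂, g • X₃, hY g.1 g.2 _ h₃,
    g • X₄, hY g.1 g.2 _ h₄, ?_, ?_, ?_, ?_, ?_⟩
  · rw [ncard_orbit_smul, e₁]
  · rw [ncard_orbit_smul, e₂]
  · rw [ncard_orbit_smul, e₃]
  · rw [ncard_orbit_smul, e₄]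
  · rw [orbit_stabilizer_smul, orbit_stabilizer_smul, orbit_stabilizer_smul,
      orbit_stabilizer_smul, ← Set.image_union, ← Set.image_union, ← Set.image_union, ← hU,
      image_smul_eq_self hY]

variable {α : Type} [MulAction (Equiv.Perm GolayPt) α] {β : Type}

theorem Family.decomp3 {E : Enc α β} (F : Family E) (o : A) (gens : List ℕ)
    (hgens : ∀ S ∈ gens, isAutC S = true) (hH : stabM o = genSubgroup gens)
    (cls : β → ℕ) (hchk : E.clsOK gens F.L cls = true)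
    (r₁ r₂ r₃ : β) (hr₁ : r₁ ∈ F.L) (hr₂ : r₂ ∈ F.L) (hr₃ : r₃ ∈ F.L)
    (w₁ w₂ w₃ : List (List ℕ))
    (hw₁ : E.reachOK gens r₁ (F.L.filter fun l => Nat.beq (cls l) (cls r₁)) w₁ = true)
    (hw₂ : E.reachOK gens r₂ (F.L.filter fun l => Nat.beq (cls l) (cls r₂)) w₂ = true)
    (hw₃ : E.reachOK gens r₃ (F.L.filter fun l => Nat.beq (cls l) (cls r₃)) w₃ = true)
    (hcover : F.L.all (fun l => Nat.beq (cls l) (cls r₁) || Nat.beq (cls l) (cls r₂) ||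
      Nat.beq (cls l) (cls r₃)) = true) :
    OrbitDecomp3 o F.Y (F.L.filter fun l => Nat.beq (cls l) (cls r₁)).length
      (F.L.filter fun l => Nat.beq (cls l) (cls r₂)).length
      (F.L.filter fun l => Nat.beq (cls l) (cls r₃)).length := by
  obtain ⟨m₁, c₁⟩ := F.orbit_stabilizer o gens hgens hH cls hchk r₁ hr₁ _ rfl w₁ hw₁
  obtain ⟨m₂, c₂⟩ := F.orbit_stabilizer o gens hgens hH cls hchk r₂ hr₂ _ rfl w₂ hw₂
  obtain ⟨m₃, c₃⟩ := F.orbit_stabilizer o gens hgens hH cls hchk r₃ hr₃ _ rfl w₃ hw₃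
  refine ⟨E.dec r₁, F.sound _ hr₁, E.dec r₂, F.sound _ hr₂, E.dec r₃, F.sound _ hr₃, c₁, c₂, c₃, ?_⟩
  ext y
  simp only [Set.mem_union]
  rw [m₁, m₂, m₃]
  constructor
  · intro hy
    obtain ⟨l, hl, rfl⟩ := F.complete y hy
    have := List.all_eq_true.1 hcover l hl
    simp only [Bool.or_eq_true] at this
    rcases this with (h | h) | h
    · exact Or.inl (Or.inl ⟨l, List.mem_filter.2 ⟨hl, h⟩, rfl⟩)
    · exact Or.inl (Or.inr ⟨l, List.mem_filter.2 ⟨hl, h⟩, rfl⟩)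
    · exact Or.inr ⟨l, List.mem_filter.2 ⟨hl, h⟩, rfl⟩
  · rintro ((⟨l, hl, rfl⟩ | ⟨l, hl, rfl⟩) | ⟨l, hl, rfl⟩)
    · exact F.sound l (List.mem_filter.1 hl).1
    · exact F.sound l (List.mem_filter.1 hl).1
    · exact F.sound l (List.mem_filter.1 hl).1

theorem Family.decomp4 {E : Enc α β} (F : Family E) (o : A) (gens : List ℕ)
    (hgens : ∀ S ∈ gens, isAutC S = true) (hH : stabM o = genSubgroup gens)
    (cls : β → ℕ) (hchk : E.clsOK gens F.L cls = true)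
    (r₁ r₂ r₃ r₄ : β) (hr₁ : r₁ ∈ F.L) (hr₂ : r₂ ∈ F.L) (hr₃ : r₃ ∈ F.L) (hr₄ : r₄ ∈ F.L)
    (w₁ w₂ w₃ w₄ : List (List ℕ))
    (hw₁ : E.reachOK gens r₁ (F.L.filter fun l => Nat.beq (cls l) (cls r₁)) w₁ = true)
    (hw₂ : E.reachOK gens r₂ (F.L.filter fun l => Nat.beq (cls l) (cls r₂)) w₂ = true)
    (hw₃ : E.reachOK gens r₃ (F.L.filter fun l => Nat.beq (cls l) (cls r₃)) w₃ = true)
    (hw₄ : E.reachOK gens r₄ (F.L.filter fun l => Nat.beq (cls l) (cls r₄)) w₄ = true)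
    (hcover : F.L.all (fun l => Nat.beq (cls l) (cls r₁) || Nat.beq (cls l) (cls r₂) ||
      Nat.beq (cls l) (cls r₃) || Nat.beq (cls l) (cls r₄)) = true) :
    OrbitDecomp4 o F.Y (F.L.filter fun l => Nat.beq (cls l) (cls r₁)).length
      (F.L.filter fun l => Nat.beq (cls l) (cls r₂)).length
      (F.L.filter fun l => Nat.beq (cls l) (cls r₃)).length
      (F.L.filter fun l => Nat.beq (cls l) (cls r₄)).length := by
  obtain ⟨m₁, c₁⟩ := F.orbit_stabilizer o gens hgens hH cls hchk r₁ hr₁ _ rfl w₁ hw₁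
  obtain ⟨m₂, c₂⟩ := F.orbit_stabilizer o gens hgens hH cls hchk r₂ hr₂ _ rfl w₂ hw₂
  obtain ⟨m₃, c₃⟩ := F.orbit_stabilizer o gens hgens hH cls hchk r₃ hr₃ _ rfl w₃ hw₃
  obtain ⟨m₄, c₄⟩ := F.orbit_stabilizer o gens hgens hH cls hchk r₄ hr₄ _ rfl w₄ hw₄
  refine ⟨E.dec r₁, F.sound _ hr₁, E.dec r₂, F.sound _ hr₂, E.dec r₃, F.sound _ hr₃,
    E.dec r₄, F.sound _ hr₄, c₁, c₂, c₃, c₄, ?_⟩
  ext y
  simp only [Set.mem_union]
  rw [m₁, m₂, m₃, m₄]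
  constructor
  · intro hy
    obtain ⟨l, hl, rfl⟩ := F.complete y hy
    have := List.all_eq_true.1 hcover l hl
    simp only [Bool.or_eq_true] at this
    rcases this with ((h | h) | h) | h
    · exact Or.inl (Or.inl (Or.inl ⟨l, List.mem_filter.2 ⟨hl, h⟩, rfl⟩))
    · exact Or.inl (Or.inl (Or.inr ⟨l, List.mem_filter.2 ⟨hl, h⟩, rfl⟩))
    · exact Or.inl (Or.inr ⟨l, List.mem_filter.2 ⟨hl, h⟩, rfl⟩)
    · exact Or.inr ⟨l, List.mem_filter.2 ⟨hl, h⟩, rfl⟩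
  · rintro (((⟨l, hl, rfl⟩ | ⟨l, hl, rfl⟩) | ⟨l, hl, rfl⟩) | ⟨l, hl, rfl⟩)
    · exact F.sound l (List.mem_filter.1 hl).1
    · exact F.sound l (List.mem_filter.1 hl).1
    · exact F.sound l (List.mem_filter.1 hl).1
    · exact F.sound l (List.mem_filter.1 hl).1

/-! ### A classifier: sums of squares of intersection sizes with reference sets -/

/-- The sum, over the members `t` of `l` and `A` of `ref`, of the squares of `|t ∩ A|`. -/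
def clsSq (ref : List ℕ) (l : List ℕ) : ℕ :=
  l.foldr (fun t acc => ref.foldr (fun a acc' => popcF (t &&& a) * popcF (t &&& a) + acc') acc) 0

theorem mem_of_any_beqL {l : List ℕ} {L : List (List ℕ)} (h : L.any (beqL l) = true) : l ∈ L := by
  obtain ⟨x, hx, hb⟩ := List.any_eq_true.1 h
  rw [beqL_eq _ _ hb]
  exact hx

theorem mem_of_any_beq {m : ℕ} {L : List ℕ} (h : L.any (Nat.beq m) = true) : m ∈ L := by
  obtain ⟨x, hx, hb⟩ := List.any_eq_true.1 h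
  rw [Nat.eq_of_beq_eq_true hb]
  exact hx

end Cfsg.Agent.Lib.Helper93.Golay
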