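import Cfsg.Agent.Lib.Helper93.Decomp

set_option autoImplicit false

namespace Cfsg.Agent.Lib.Helper93.Golay

open Cfsg
open scoped Pointwise

variable {A : Type} [MulAction (Equiv.Perm GolayPt) A]
variable {α : Type} [MulAction (Equiv.Perm GolayPt) α] {β : Type}

/-! ### Orbits of a stabiliser from an abstract invariant -/

/-- The orbits of a stabiliser on an enumerated family, when the classifier is known to be
invariant under the stabiliser. -/
theorem Family.orbit_stabilizer' {E : Enc α β} (F : Family E) (o : A) (gens : List ℕ)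
    (hgens : ∀ S ∈ gens, isPerm S = true ∧ permC S ∈ stabM o)
    (cls : β → ℕ)
    (hinv : ∀ h ∈ stabM o, ∀ l ∈ F.L, ∀ l' ∈ F.L, h • E.dec l = E.dec l' → cls l = cls l')
    (rep : β) (hrep : rep ∈ F.L) (c : ℕ) (hc : cls rep = c) (words : List (List ℕ))
    (hreach : E.reachOK gens rep (F.L.filter fun l => Nat.beq (cls l) c) words = true) :
    (∀ y, y ∈ MulAction.orbit ↥(MulAction.stabilizer ↥M24 o) (E.dec rep) ↔
      ∃ l ∈ F.L.filter (fun l => Nat.beq (cls l) c), E.dec l = y) ∧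
    (MulAction.orbit ↥(MulAction.stabilizer ↥M24 o) (E.dec rep)).ncard =
      (F.L.filter fun l => Nat.beq (cls l) c).length := by
  have key : ∀ y, y ∈ MulAction.orbit ↥(MulAction.stabilizer ↥M24 o) (E.dec rep) ↔
      ∃ l ∈ F.L.filter (fun l => Nat.beq (cls l) c), E.dec l = y := by
    intro y
    rw [mem_orbit_stabilizer_iff]
    constructor
    · rintro ⟨h, hh, rfl⟩
      have hhM : h ∈ M24 := ((mem_stabM o h).1 hh).1
      obtain ⟨l, hl, hdec⟩ := F.complete _ (F.inv h hhM _ (F.sound rep hrep))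
      refine ⟨l, ?_, hdec⟩
      rw [List.mem_filter]
      refine ⟨hl, ?_⟩
      rw [← hinv h hh rep hrep l hl hdec.symm, hc]
      exact Nat.beq_refl c
    · rintro ⟨l, hl, rfl⟩
      exact E.reach_spec gens rep (E.canon_small rep (F.canon rep hrep)) (stabM o) hgens _ words
        hreach l hl
  exact ⟨key, E.ncard_orbit_eq F.L F.canon F.nodup _ _ key⟩

theorem Family.decomp3' {E : Enc α β} (F : Family E) (o : A) (gens : List ℕ)
    (hgens : ∀ S ∈ gens, isPerm S = true ∧ permC S ∈ stabM o)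
    (cls : β → ℕ)
    (hinv : ∀ h ∈ stabM o, ∀ l ∈ F.L, ∀ l' ∈ F.L, h • E.dec l = E.dec l' → cls l = cls l')
    (r₁ r₂ r₃ : β) (hr₁ : r₁ ∈ F.L) (hr₂ : r₂ ∈ F.L) (hr₃ : r₃ ∈ F.L)
    (w₁ w₂ w₃ : List (List ℕ))
    (hw₁ : E.reachOK gens r₁ (F.L.filter fun l => Nat.beq (cls l) (cls r₁)) w₁ = true)
    (hw₂ : E.reachOK gens r₂ (F.L.filter fun l => Nat.beq (cls l) (cls r₂)) w₂ = true)
    (hw₃ : E.reachOK gens r₃ (F.L.filter fun l => Nat.beq (cls l) (cls r₃)) w₃ = true)
    (hcover : F.L.all (fun l => Nat.beq (cls l) (cls r₁) || Nat.beq (cls l) (cls r₂) ||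
      Nat.beq (cls l) (cls r₃)) = true) :
    OrbitDecomp3 o F.Y (F.L.filter fun l => Nat.beq (cls l) (cls r₁)).length
      (F.L.filter fun l => Nat.beq (cls l) (cls r₂)).length
      (F.L.filter fun l => Nat.beq (cls l) (cls r₃)).length := by
  obtain ⟨m₁, c₁⟩ := F.orbit_stabilizer' o gens hgens cls hinv r₁ hr₁ _ rfl w₁ hw₁
  obtain ⟨m₂, c₂⟩ := F.orbit_stabilizer' o gens hgens cls hinv r₂ hr₂ _ rfl w₂ hw₂
  obtain ⟨m₃, c₃⟩ := F.orbit_stabilizer' o gens hgens cls hinv r₃ hr₃ _ rfl w₃ hw₃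
  refine ⟨E.dec r₁, F.sound _ hr₁, E.dec r₂, F.sound _ hr₂, E.dec r₃, F.sound _ hr₃, c₁, c₂, c₃, ?_⟩
  ext y
  simp only [Set.mem_union]
  rw [m₁, m₂, m₃]
  constructor
  · intro hy
    obtain ⟨l, hl, rfl⟩ := F.complete y hy
    have := List.all_eq_true.1 hcover l hl
    simp only [Bool.or_eq_true] at this
    rcases this with (h | h) | h
    · exact Or.inl (Or.inl ⟨l, List.mem_filter.2 ⟨hl, h⟩, rfl⟩)
    · exact Or.inl (Or.inr ⟨l, List.mem_filter.2 ⟨hl, h⟩, rfl⟩)
    · exact Or.inr ⟨l, List.mem_filter.2 ⟨hl, h⟩, rfl⟩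
  · rintro ((⟨l, hl, rfl⟩ | ⟨l, hl, rfl⟩) | ⟨l, hl, rfl⟩)
    · exact F.sound l (List.mem_filter.1 hl).1
    · exact F.sound l (List.mem_filter.1 hl).1
    · exact F.sound l (List.mem_filter.1 hl).1

theorem Family.decomp4' {E : Enc α β} (F : Family E) (o : A) (gens : List ℕ)
    (hgens : ∀ S ∈ gens, isPerm S = true ∧ permC S ∈ stabM o)
    (cls : β → ℕ)
    (hinv : ∀ h ∈ stabM o, ∀ l ∈ F.L, ∀ l' ∈ F.L, h • E.dec l = E.dec l' → cls l = cls l')
    (r₁ r₂ r₃ r₄ : β) (hr₁ : r₁ ∈ F.L) (hr₂ : r₂ ∈ F.L) (hr₃ : r₃ ∈ F.L) (hr₄ : r₄ ∈ F.L)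
    (w₁ w₂ w₃ w₄ : List (List ℕ))
    (hw₁ : E.reachOK gens r₁ (F.L.filter fun l => Nat.beq (cls l) (cls r₁)) w₁ = true)
    (hw₂ : E.reachOK gens r₂ (F.L.filter fun l => Nat.beq (cls l) (cls r₂)) w₂ = true)
    (hw₃ : E.reachOK gens r₃ (F.L.filter fun l => Nat.beq (cls l) (cls r₃)) w₃ = true)
    (hw₄ : E.reachOK gens r₄ (F.L.filter fun l => Nat.beq (cls l) (cls r₄)) w₄ = true)
    (hcover : F.L.all (fun l => Nat.beq (cls l) (cls r₁) || Nat.beq (cls l) (cls r₂) ||
      Nat.beq (cls l) (cls r₃) || Nat.beq (cls l) (cls r₄)) = true) :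
    OrbitDecomp4 o F.Y (F.L.filter fun l => Nat.beq (cls l) (cls r₁)).length
      (F.L.filter fun l => Nat.beq (cls l) (cls r₂)).length
      (F.L.filter fun l => Nat.beq (cls l) (cls r₃)).length
      (F.L.filter fun l => Nat.beq (cls l) (cls r₄)).length := by
  obtain ⟨m₁, c₁⟩ := F.orbit_stabilizer' o gens hgens cls hinv r₁ hr₁ _ rfl w₁ hw₁
  obtain ⟨m₂, c₂⟩ := F.orbit_stabilizer' o gens hgens cls hinv r₂ hr₂ _ rfl w₂ hw₂
  obtain ⟨m₃, c₃⟩ := F.orbit_stabilizer' o gens hgens cls hinv r₃ hr₃ _ rfl w₃ hw₃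
  obtain ⟨m₄, c₄⟩ := F.orbit_stabilizer' o gens hgens cls hinv r₄ hr₄ _ rfl w₄ hw₄
  refine ⟨E.dec r₁, F.sound _ hr₁, E.dec r₂, F.sound _ hr₂, E.dec r₃, F.sound _ hr₃,
    E.dec r₄, F.sound _ hr₄, c₁, c₂, c₃, c₄, ?_⟩
  ext y
  simp only [Set.mem_union]
  rw [m₁, m₂, m₃, m₄]
  constructor
  · intro hy
    obtain ⟨l, hl, rfl⟩ := F.complete y hy
    have := List.all_eq_true.1 hcover l hl
    simp only [Bool.or_eq_true] at this
    rcases this with ((h | h) | h) | h
    · exact Or.inl (Or.inl (Or.inl ⟨l, List.mem_filter.2 ⟨hl, h⟩, rfl⟩))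
    · exact Or.inl (Or.inl (Or.inr ⟨l, List.mem_filter.2 ⟨hl, h⟩, rfl⟩))
    · exact Or.inl (Or.inr ⟨l, List.mem_filter.2 ⟨hl, h⟩, rfl⟩)
    · exact Or.inr ⟨l, List.mem_filter.2 ⟨hl, h⟩, rfl⟩
  · rintro (((⟨l, hl, rfl⟩ | ⟨l, hl, rfl⟩) | ⟨l, hl, rfl⟩) | ⟨l, hl, rfl⟩)
    · exact F.sound l (List.mem_filter.1 hl).1
    · exact F.sound l (List.mem_filter.1 hl).1
    · exact F.sound l (List.mem_filter.1 hl).1
    · exact F.sound l (List.mem_filter.1 hl).1

/-! ### The invariant: sums of squares of intersection sizes -/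

/-- The sum over `t ∈ X`, `a ∈ R` of `|t ∩ a|²`. -/
def invSq (R X : Finset (Finset GolayPt)) : ℕ :=
  ∑ t ∈ X, ∑ a ∈ R, (t ∩ a).card * (t ∩ a).card

theorem invSq_smul (h : Equiv.Perm GolayPt) (R X : Finset (Finset GolayPt)) :
    invSq (h • R) (h • X) = invSq R X := by
  unfold invSq
  have hinj : Function.Injective (fun t : Finset GolayPt => h • t) := MulAction.injective h
  have e1 : h • X = X.image (fun t => h • t) := rfl
  have e2 : h • R = R.image (fun t => h • t) := rfl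
  rw [e1, e2, Finset.sum_image (fun x _ y _ hxy => hinj hxy)]
  apply Finset.sum_congr rfl
  intro t _
  rw [Finset.sum_image (fun x _ y _ hxy => hinj hxy)]
  apply Finset.sum_congr rfl
  intro a _
  rw [← Finset.smul_finset_inter, Finset.card_smul_finset]

theorem foldr_add_eq_sum {ι : Type*} (f : ι → ℕ) (l : List ι) (acc : ℕ) :
    l.foldr (fun a acc' => f a + acc') acc = (l.map f).sum + acc := by
  induction l with
  | nil => simp
  | cons a l ih => simp [ih, add_assoc]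

theorem clsSq_eq (ref l : List ℕ) :
    clsSq ref l = (l.map fun t => (ref.map fun a => popcF (t &&& a) * popcF (t &&& a)).sum).sum := by
  unfold clsSq
  induction l with
  | nil => rfl
  | cons t l ih =>
    rw [List.foldr_cons, ih, foldr_add_eq_sum, List.map_cons, List.sum_cons]

theorem invSq_decFF {ref l : List ℕ} (href : canonL ref = true) (hl : canonL l = true) :
    invSq (decFF ref) (decFF l) = clsSq ref l := by
  rw [clsSq_eq]
  unfold invSq decFF
  have hnd : ∀ {k : List ℕ}, canonL k = true → (k.map fset).Nodup := by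
    intro k hk
    apply List.Nodup.map_on
    · intro x hx y hy hxy
      exact fset_injOn (canonL_lt hk hx) (canonL_lt hk hy) hxy
    · exact nodup_of_chainLt (canonL_chain hk)
  rw [List.sum_toFinset _ (hnd hl), List.map_map]
  congr 1
  apply List.map_congr_left
  intro t ht
  show ∑ a ∈ (ref.map fset).toFinset, (fset t ∩ a).card * (fset t ∩ a).card = _
  rw [List.sum_toFinset _ (hnd href), List.map_map]
  congr 1
  apply List.map_congr_left
  intro a ha
  show (fset t ∩ fset a).card * (fset t ∩ fset a).card = _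
  rw [← popcF_fmask, fmask_inter, fmask_fset' (canonL_lt hl ht), fmask_fset' (canonL_lt href ha)]

/-- Invariance of the classifier `clsSq R` on coded families, for a subgroup fixing `R`. -/
theorem clsSq_inv_fam {R : List ℕ} (hR : canonL R = true) (H : Subgroup (Equiv.Perm GolayPt))
    (hfix : ∀ h ∈ H, h • decFF R = decFF R) (L : List (List ℕ))
    (hL : ∀ l ∈ L, canonL l = true) :
    ∀ h ∈ H, ∀ l ∈ L, ∀ l' ∈ L, h • encFam.dec l = encFam.dec l' → clsSq R l = clsSq R l' := by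
  intro h hh l hl l' hl' heq
  have heq' : h • decFF l = decFF l' := heq
  rw [← invSq_decFF hR (hL l hl), ← invSq_decFF hR (hL l' hl'), ← heq', ← invSq_smul h,
    hfix h hh]

theorem decFF_singleton (m : ℕ) : decFF [m] = {fset m} := by
  ext b
  rw [mem_decFF, Finset.mem_singleton]
  constructor
  · rintro ⟨x, hx, rfl⟩
    rw [List.mem_singleton] at hx
    rw [hx]
  · rintro rfl
    exact ⟨m, List.mem_singleton_self m, rfl⟩

theorem canonL_singleton {m : ℕ} (hm : m < 16777216) : canonL [m] = true := by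
  unfold canonL chainLt
  rw [Bool.true_and, List.all_cons, List.all_nil, Bool.and_true]
  exact Nat.ble_eq_true_of_le hm

/-- Invariance of the classifier `clsSq R [·]` on coded sets, for a subgroup fixing `R`. -/
theorem clsSq_inv_set {R : List ℕ} (hR : canonL R = true) (H : Subgroup (Equiv.Perm GolayPt))
    (hfix : ∀ h ∈ H, h • decFF R = decFF R) (L : List ℕ)
    (hL : ∀ l ∈ L, l < 16777216) :
    ∀ h ∈ H, ∀ l ∈ L, ∀ l' ∈ L, h • encSet.dec l = encSet.dec l' →
      clsSq R [l] = clsSq R [l'] := by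
  intro h hh l hl l' hl' heq
  have heq' : h • fset l = fset l' := heq
  have e : h • decFF [l] = decFF [l'] := by
    rw [decFF_singleton, decFF_singleton, Finset.smul_finset_singleton, heq']
  rw [← invSq_decFF hR (canonL_singleton (hL l hl)), ← invSq_decFF hR (canonL_singleton (hL l' hl')),
    ← e, ← invSq_smul h, hfix h hh]

end Cfsg.Agent.Lib.Helper93.Golay
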