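import Cfsg.Agent.Lib.Helper93.Enum

set_option autoImplicit false

namespace Cfsg.Agent.Lib.Helper93.Golay

open Cfsg
open scoped Pointwise

/-! ### Families of sets coded by lists of masks -/

/-- Decode a list of masks as a family of sets of points. -/
def decFF (l : List ℕ) : Finset (Finset GolayPt) := (l.map fset).toFinset

theorem mem_decFF (l : List ℕ) (b : Finset GolayPt) : b ∈ decFF l ↔ ∃ m ∈ l, fset m = b := by
  unfold decFF
  rw [List.mem_toFinset, List.mem_map]

/-- Canonical codes: strictly increasing lists of masks below `2 ^ 24`. -/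
def canonL (l : List ℕ) : Bool := chainLt l && l.all fun m => Nat.blt m 16777216

theorem canonL_lt {l : List ℕ} (h : canonL l = true) {m : ℕ} (hm : m ∈ l) : m < 16777216 := by
  unfold canonL at h
  rw [Bool.and_eq_true] at h
  exact Nat.le_of_ble_eq_true (List.all_eq_true.1 h.2 m hm)

theorem canonL_chain {l : List ℕ} (h : canonL l = true) : chainLt l = true := by
  unfold canonL at h
  rw [Bool.and_eq_true] at h
  exact h.1

theorem decFF_inj {l l' : List ℕ} (h : canonL l = true) (h' : canonL l' = true)
    (he : decFF l = decFF l') : l = l' := by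
  apply eq_of_chainLt (canonL_chain h) (canonL_chain h')
  intro x
  constructor
  · intro hx
    have : fset x ∈ decFF l' := by
      rw [← he, mem_decFF]; exact ⟨x, hx, rfl⟩
    rw [mem_decFF] at this
    obtain ⟨m, hm, hmx⟩ := this
    have := fset_injOn (canonL_lt h' hm) (canonL_lt h hx) hmx
    exact this ▸ hm
  · intro hx
    have : fset x ∈ decFF l := by
      rw [he, mem_decFF]; exact ⟨x, hx, rfl⟩
    rw [mem_decFF] at this
    obtain ⟨m, hm, hmx⟩ := this
    have := fset_injOn (canonL_lt h hm) (canonL_lt h' hx) hmx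
    exact this ▸ hm

theorem card_decFF {l : List ℕ} (h : canonL l = true) : (decFF l).card = l.length := by
  unfold decFF
  rw [List.toFinset_card_of_nodup, List.length_map]
  apply List.Nodup.map_on
  · intro x hx y hy hxy
    exact fset_injOn (canonL_lt h hx) (canonL_lt h hy) hxy
  · exact nodup_of_chainLt (canonL_chain h)

theorem decFF_perm {l l' : List ℕ} (h : l.Perm l') : decFF l = decFF l' := by
  ext b
  rw [mem_decFF, mem_decFF]
  constructor
  · rintro ⟨m, hm, rfl⟩; exact ⟨m, h.mem_iff.1 hm, rfl⟩
  · rintro ⟨m, hm, rfl⟩; exact ⟨m, h.mem_iff.2 hm, rfl⟩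

/-! ### Small facts on masks and sets -/

theorem disjoint_fset {m m' : ℕ} (h : m &&& m' = 0) : Disjoint (fset m) (fset m') := by
  rw [Finset.disjoint_left]
  intro p hp hp'
  rw [mem_fset] at hp hp'
  have : (m &&& m').testBit (ptIdx p) = true := by
    rw [Nat.testBit_and, hp, hp']; rfl
  rw [h] at this
  simp at this

theorem fmask_empty : fmask (∅ : Finset GolayPt) = 0 := by
  apply Nat.eq_of_testBit_eq
  intro i
  by_cases hi : i < 24
  · have h1 := testBit_fmask ∅ (ptOf ⟨i, hi⟩)
    rw [ptIdx_ptOf] at h1
    simp only at h1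
    rw [h1]
    simp
  · rw [testBit_fmask_ge _ _ (by omega)]
    simp

theorem fmask_univ : fmask (Finset.univ : Finset GolayPt) = 16777215 := by
  have h : fset 16777215 = Finset.univ := by
    ext p
    rw [mem_fset, testBit_full (ptIdx p).isLt]
    simp
  rw [← h, fmask_fset' (by norm_num)]

theorem and_eq_zero_of_disjoint {b c : Finset GolayPt} (h : Disjoint b c) :
    fmask b &&& fmask c = 0 := by
  rw [← fmask_inter, Finset.disjoint_iff_inter_eq_empty.1 h, fmask_empty]

theorem fmask_compl (b : Finset GolayPt) : fmask bᶜ = 16777215 ^^^ fmask b := by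
  rw [← fmask_univ, ← fmask_symmDiff]
  congr 1
  exact (top_symmDiff b).symm

theorem card_fset {m : ℕ} (hm : m < 16777216) : (fset m).card = popcF m := by
  rw [← popcF_fmask, fmask_fset' hm]

/-! ### The action of coded permutations -/

theorem permC_smul_fset {S : ℕ} (hS : isPerm S = true) {m : ℕ} (hm : m < 16777216) :
    permC S • fset m = fset (pmask S m) := by
  have := fmask_permC_smul hS (fset m)
  rw [fmask_fset' hm] at this
  rw [← this, fset_fmask]

theorem pmask_lt {S : ℕ} (hS : isPerm S = true) {m : ℕ} (hm : m < 16777216) :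
    pmask S m < 16777216 := by
  have := fmask_permC_smul hS (fset m)
  rw [fmask_fset' hm] at this
  rw [← this]
  exact fmask_lt' _

/-- The action of a coded permutation on a coded family. -/
def actL (S : ℕ) (l : List ℕ) : List ℕ := sortB (l.map (pmask S))

theorem permC_smul_decFF {S : ℕ} (hS : isPerm S = true) {l : List ℕ}
    (hl : ∀ m ∈ l, m < 16777216) : permC S • decFF l = decFF (actL S l) := by
  unfold actL
  rw [decFF_perm (sortB_perm _)]
  ext b
  rw [Finset.mem_smul_finset, mem_decFF]
  constructor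
  · rintro ⟨t, ht, rfl⟩
    rw [mem_decFF] at ht
    obtain ⟨m, hm, rfl⟩ := ht
    exact ⟨pmask S m, List.mem_map.2 ⟨m, hm, rfl⟩, (permC_smul_fset hS (hl m hm)).symm⟩
  · rintro ⟨m', hm', rfl⟩
    obtain ⟨m, hm, rfl⟩ := List.mem_map.1 hm'
    exact ⟨fset m, (mem_decFF _ _).2 ⟨m, hm, rfl⟩, permC_smul_fset hS (hl m hm)⟩

/-! ### Coding a family -/

/-- The canonical code of a family of sets. -/
noncomputable def codeFF (T : Finset (Finset GolayPt)) : List ℕ := (T.image fmask).sort

theorem chainLt_of_pairwise : ∀ l : List ℕ, l.Pairwise (· < ·) → chainLt l = true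
  | [], _ => rfl
  | [_], _ => rfl
  | a :: b :: l, h => by
    unfold chainLt
    rw [Bool.and_eq_true]
    rw [List.pairwise_cons] at h
    refine ⟨?_, chainLt_of_pairwise (b :: l) h.2⟩
    have : a < b := h.1 b List.mem_cons_self
    exact Nat.ble_eq_true_of_le this

theorem mem_codeFF (T : Finset (Finset GolayPt)) (m : ℕ) :
    m ∈ codeFF T ↔ ∃ b ∈ T, fmask b = m := by
  unfold codeFF
  rw [Finset.mem_sort, Finset.mem_image]

theorem canonL_codeFF (T : Finset (Finset GolayPt)) : canonL (codeFF T) = true := by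
  unfold canonL
  rw [Bool.and_eq_true]
  constructor
  · apply chainLt_of_pairwise
    exact (Finset.sortedLT_sort _).pairwise
  · rw [List.all_eq_true]
    intro m hm
    rw [mem_codeFF] at hm
    obtain ⟨b, _, rfl⟩ := hm
    exact Nat.ble_eq_true_of_le (fmask_lt' b)

theorem decFF_codeFF (T : Finset (Finset GolayPt)) : decFF (codeFF T) = T := by
  ext b
  rw [mem_decFF]
  constructor
  · rintro ⟨m, hm, rfl⟩
    rw [mem_codeFF] at hm
    obtain ⟨b, hb, rfl⟩ := hm
    rw [fset_fmask]
    exact hb
  · intro hb
    exact ⟨fmask b, (mem_codeFF _ _).2 ⟨b, hb, rfl⟩, fset_fmask b⟩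

theorem length_codeFF (T : Finset (Finset GolayPt)) : (codeFF T).length = T.card := by
  rw [← card_decFF (canonL_codeFF T), decFF_codeFF]

end Cfsg.Agent.Lib.Helper93.Golay
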