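import Mathlib
import Cfsg.Prelude.Def_Sporadic_a

set_option autoImplicit false

namespace Cfsg.Agent.Lib.Helper93.Golay

open Cfsg

/-- The index of a point: the residue `x` has index `x`, the extra point has index 23. -/
def ptIdx : GolayPt → Fin 24
  | none => 23
  | some x => Fin.castLE (by norm_num) (show Fin 23 from x)

/-- The point with a given index. -/
def ptOf (i : Fin 24) : GolayPt :=
  if h : i.val < 23 then some (show ZMod 23 from (⟨i.val, h⟩ : Fin 23)) else none

theorem ptOf_ptIdx : ∀ p : GolayPt, ptOf (ptIdx p) = p := by decide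

theorem ptIdx_ptOf : ∀ i : Fin 24, ptIdx (ptOf i) = i := by decide

/-- Points and indices. -/
def ptEquiv : GolayPt ≃ Fin 24 := ⟨ptIdx, ptOf, ptOf_ptIdx, ptIdx_ptOf⟩

/-- The binary word with a given bit mask. -/
def wordOf (m : ℕ) : GolayPt → ZMod 2 := fun p => if m.testBit (ptIdx p) then 1 else 0

/-- The bit mask of a set of points. -/
def fmask (b : Finset GolayPt) : ℕ := Nat.ofBits fun i : Fin 24 => decide (ptOf i ∈ b)

/-- The set of points with a given bit mask. -/
def fset (m : ℕ) : Finset GolayPt := Finset.univ.filter fun p => m.testBit (ptIdx p) = true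

theorem fmask_lt (b : Finset GolayPt) : fmask b < 2 ^ 24 := Nat.ofBits_lt_two_pow _

theorem testBit_fmask (b : Finset GolayPt) (p : GolayPt) :
    (fmask b).testBit (ptIdx p) = decide (p ∈ b) := by
  unfold fmask
  rw [Nat.testBit_ofBits_lt _ _ (ptIdx p).isLt]
  simp [ptOf_ptIdx]

theorem testBit_fmask_ge (b : Finset GolayPt) (i : ℕ) (hi : 24 ≤ i) :
    (fmask b).testBit i = false := Nat.testBit_ofBits_ge _ _ hi

theorem mem_fset (m : ℕ) (p : GolayPt) : p ∈ fset m ↔ m.testBit (ptIdx p) = true := by
  simp [fset]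

theorem fset_fmask (b : Finset GolayPt) : fset (fmask b) = b := by
  ext p
  rw [mem_fset, testBit_fmask]
  simp

theorem fmask_fset (m : ℕ) (hm : m < 2 ^ 24) : fmask (fset m) = m := by
  apply Nat.eq_of_testBit_eq
  intro i
  by_cases hi : i < 24
  · have h := testBit_fmask (fset m) (ptOf ⟨i, hi⟩)
    rw [ptIdx_ptOf] at h
    simp only at h
    rw [h]
    have h2 := mem_fset m (ptOf ⟨i, hi⟩)
    rw [ptIdx_ptOf] at h2
    simp only at h2
    by_cases hb : m.testBit i = true
    · rw [hb, decide_eq_true_eq]; exact h2.2 hb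
    · rw [Bool.not_eq_true] at hb
      rw [hb, decide_eq_false_iff_not, h2, hb]
      simp
  · rw [testBit_fmask_ge _ _ (by omega)]
    symm
    apply Nat.testBit_lt_two_pow
    calc m < 2 ^ 24 := hm
      _ ≤ 2 ^ i := Nat.pow_le_pow_right (by norm_num) (by omega)

theorem fmask_injective : Function.Injective fmask := by
  intro b c h
  rw [← fset_fmask b, ← fset_fmask c, h]

theorem fmask_symmDiff (b c : Finset GolayPt) : fmask (symmDiff b c) = fmask b ^^^ fmask c := by
  apply Nat.eq_of_testBit_eq
  intro i
  by_cases hi : i < 24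
  · have h1 := testBit_fmask (symmDiff b c) (ptOf ⟨i, hi⟩)
    have h2 := testBit_fmask b (ptOf ⟨i, hi⟩)
    have h3 := testBit_fmask c (ptOf ⟨i, hi⟩)
    rw [ptIdx_ptOf] at h1 h2 h3
    simp only at h1 h2 h3
    rw [Nat.testBit_xor, h1, h2, h3]
    by_cases hb : ptOf ⟨i, hi⟩ ∈ b <;> by_cases hc : ptOf ⟨i, hi⟩ ∈ c <;>
      simp [Finset.mem_symmDiff, hb, hc]
  · rw [Nat.testBit_xor, testBit_fmask_ge _ _ (by omega), testBit_fmask_ge _ _ (by omega),
      testBit_fmask_ge _ _ (by omega)]
    rfl

theorem fmask_inter (b c : Finset GolayPt) : fmask (b ∩ c) = fmask b &&& fmask c := by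
  apply Nat.eq_of_testBit_eq
  intro i
  by_cases hi : i < 24
  · have h1 := testBit_fmask (b ∩ c) (ptOf ⟨i, hi⟩)
    have h2 := testBit_fmask b (ptOf ⟨i, hi⟩)
    have h3 := testBit_fmask c (ptOf ⟨i, hi⟩)
    rw [ptIdx_ptOf] at h1 h2 h3
    simp only at h1 h2 h3
    rw [Nat.testBit_and, h1, h2, h3]
    by_cases hb : ptOf ⟨i, hi⟩ ∈ b <;> by_cases hc : ptOf ⟨i, hi⟩ ∈ c <;>
      simp [hb, hc]
  · rw [Nat.testBit_and, testBit_fmask_ge _ _ (by omega), testBit_fmask_ge _ _ (by omega)]
    rfl

theorem fmask_union (b c : Finset GolayPt) : fmask (b ∪ c) = fmask b ||| fmask c := by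
  apply Nat.eq_of_testBit_eq
  intro i
  by_cases hi : i < 24
  · have h1 := testBit_fmask (b ∪ c) (ptOf ⟨i, hi⟩)
    have h2 := testBit_fmask b (ptOf ⟨i, hi⟩)
    have h3 := testBit_fmask c (ptOf ⟨i, hi⟩)
    rw [ptIdx_ptOf] at h1 h2 h3
    simp only at h1 h2 h3
    rw [Nat.testBit_or, h1, h2, h3]
    by_cases hb : ptOf ⟨i, hi⟩ ∈ b <;> by_cases hc : ptOf ⟨i, hi⟩ ∈ c <;>
      simp [hb, hc]
  · rw [Nat.testBit_or, testBit_fmask_ge _ _ (by omega), testBit_fmask_ge _ _ (by omega),
      testBit_fmask_ge _ _ (by omega)]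
    rfl

/-- Number of set bits among the lowest `n` bits. -/
def popcAux : ℕ → ℕ → ℕ
  | 0, _ => 0
  | n + 1, m => m % 2 + popcAux n (m / 2)

/-- Number of set bits among the lowest 24 bits. -/
def popc (m : ℕ) : ℕ := popcAux 24 m

theorem popcAux_eq_sum (n m : ℕ) :
    popcAux n m = ∑ i ∈ Finset.range n, (m.testBit i).toNat := by
  induction n generalizing m with
  | zero => simp [popcAux]
  | succ n ih =>
    rw [popcAux, ih, Finset.sum_range_succ']
    have h0 : (m.testBit 0).toNat = m % 2 := by
      rw [Nat.testBit_zero]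
      rcases Nat.mod_two_eq_zero_or_one m with h | h <;> simp [h]
    have hs : ∀ i, (m / 2).testBit i = m.testBit (i + 1) := by
      intro i
      rw [Nat.testBit_succ]
    simp only [hs, h0]
    omega

theorem popc_fmask (b : Finset GolayPt) : popc (fmask b) = b.card := by
  unfold popc
  rw [popcAux_eq_sum, ← Fin.sum_univ_eq_sum_range (fun i => ((fmask b).testBit i).toNat) 24]
  rw [← Equiv.sum_comp ptEquiv (fun i : Fin 24 => ((fmask b).testBit i).toNat)]
  have : ∀ p : GolayPt, ((fmask b).testBit (ptEquiv p)).toNat = if p ∈ b then 1 else 0 := by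
    intro p
    show ((fmask b).testBit (ptIdx p)).toNat = _
    rw [testBit_fmask]
    by_cases hp : p ∈ b <;> simp [hp]
  simp_rw [this]
  rw [Finset.sum_ite_mem, Finset.univ_inter, Finset.sum_const, smul_eq_mul, mul_one]

/-! ### words -/

theorem wordOf_xor (m m' : ℕ) : wordOf (m ^^^ m') = wordOf m + wordOf m' := by
  funext p
  simp only [wordOf, Nat.testBit_xor, Pi.add_apply]
  cases m.testBit (ptIdx p) <;> cases m'.testBit (ptIdx p) <;> decide

theorem wordOf_zero : wordOf 0 = 0 := by
  funext p
  simp [wordOf]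

theorem support₂_wordOf (m : ℕ) : support₂ (wordOf m) = fset m := by
  ext p
  rw [mem_fset]
  unfold support₂ wordOf
  rw [Finset.mem_filter]
  cases h : m.testBit (ptIdx p) <;> simp

theorem zmod2_cases : ∀ a : ZMod 2, a = 0 ∨ a = 1 := by decide

theorem wordOf_fmask_support₂ (w : GolayPt → ZMod 2) : wordOf (fmask (support₂ w)) = w := by
  funext p
  simp only [wordOf, testBit_fmask, support₂, Finset.mem_filter, Finset.mem_univ, true_and]
  rcases zmod2_cases (w p) with h | h <;> simp [h]

/-! ### The code as a set of bit masks -/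

/-- A basis of the code in reduced echelon form: word `i` has pivot bit `12 + i`. -/
def basisList : List ℕ :=
  [5279, 10558, 18147, 36294, 69395, 133817, 262637, 525274, 1050548, 2101096, 4196943, 8391797]

/-- Xor together the members of `bs` selected by the bits of `a`. -/
def combAux : List ℕ → ℕ → ℕ → ℕ
  | [], _, acc => acc
  | b :: bs, a, acc => combAux bs (a >>> 1) (if a.testBit 0 then acc ^^^ b else acc)

/-- The code word with index `a < 4096`, as a bit mask. -/
def comb (a : ℕ) : ℕ := combAux basisList a 0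

/-- Membership test for bit masks below `2 ^ 24`. -/
def isCode (m : ℕ) : Bool := comb (m >>> 12) == m

theorem combAux_xor (bs : List ℕ) (a a' acc acc' : ℕ) :
    combAux bs (a ^^^ a') (acc ^^^ acc') = combAux bs a acc ^^^ combAux bs a' acc' := by
  induction bs generalizing a a' acc acc' with
  | nil => rfl
  | cons b bs ih =>
    simp only [combAux]
    rw [Nat.shiftRight_xor_distrib, Nat.testBit_xor]
    cases h : a.testBit 0 <;> cases h' : a'.testBit 0
    · simpa using ih _ _ _ _
    · have : acc ^^^ acc' ^^^ b = acc ^^^ (acc' ^^^ b) := by rw [Nat.xor_assoc]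
      simpa [this] using ih _ _ _ _
    · have : acc ^^^ acc' ^^^ b = (acc ^^^ b) ^^^ acc' := by
        rw [Nat.xor_assoc, Nat.xor_comm acc' b, ← Nat.xor_assoc]
      simpa [this] using ih _ _ _ _
    · have : acc ^^^ acc' = (acc ^^^ b) ^^^ (acc' ^^^ b) := by
        rw [Nat.xor_assoc, ← Nat.xor_assoc b acc' b, Nat.xor_comm b acc', Nat.xor_assoc acc' b b,
          Nat.xor_self, Nat.xor_zero]
      simpa [this] using ih _ _ _ _

theorem comb_xor (a a' : ℕ) : comb (a ^^^ a') = comb a ^^^ comb a' := by
  unfold comb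
  have := combAux_xor basisList a a' 0 0
  simpa using this

/-- Bit masks of the 23 generating words `qrWord t`. -/
def qmaskList : List ℕ :=
  [340831, 681662, 1363324, 2726648, 5453296, 2517985, 5035970, 1683333, 3366666, 6733332,
   5078057, 1767507, 3535014, 7070028, 5751449, 3114291, 6228582, 4068557, 8137114, 7885621,
   7382635, 6376663, 4364719]

/-- The bit mask of `qrWord t`. -/
def qmask (t : ZMod 23) : ℕ := qmaskList.getD t.val 0

theorem qrWord_apply_eq : ∀ (t : ZMod 23) (p : GolayPt), qrWord t p = wordOf (qmask t) p := by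
  decide

theorem qrWord_eq (t : ZMod 23) : qrWord t = wordOf (qmask t) := funext (qrWord_apply_eq t)

/-! ### Fast table-driven versions -/

/-- Table of `comb x` for `x < 64`, 24 bits per entry. -/
def tabLo : ℕ := 37189622654004919362327835805551764470319577219249382859038879274977422761476816272586325760190954749476878827206401046513610334211672954244864566737298865976449964174533104328542879257478563702700643647978205818481668660981968964837522259954608992233117438585437928411681347763761346386730559472756346966307036741096136992503781056539132693810013939035594574138865964254387000172555436395547044260226327903903353813877403917210320012084250018976432913526030336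

/-- Table of `comb (64 * x)` for `x < 64`, 24 bits per entry. -/
def tabHi : ℕ := 2373122801997981056660935343642108782836017510787916553253465466019898628924159309271781238895233366272691748197069054796862943865262094355454727832226161211441258993211712203974994862527971864319780539861233673281602056098103208788391625271468719733197620703175111694551146816858605596425000842442289792122873624137618868294830422240300582207477983154640192988385422037152512915256048302193752490430872175961644292130066731286004951392272303802659185271121117184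

/-- Table of bit counts of bytes, 4 bits per entry. -/
def tabPop : ℕ := 95125173855764218123276304889944061997689682402263585766959741291920687686033329201817409157123347502415384089435969498586180241031507595463600295898153685276653211633572815512294064538494957912327413386667662218713394765509704508661031522276467630197481635010039778342554499416459730172574551513689147646224

/-- Fast version of `comb`. -/
def combF (a : ℕ) : ℕ :=
  ((tabLo >>> (24 * (a &&& 63))) &&& 16777215) ^^^ ((tabHi >>> (24 * (a >>> 6))) &&& 16777215)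

/-- Fast bit count of a byte. -/
def popByte (x : ℕ) : ℕ := (tabPop >>> (4 * x)) &&& 15

/-- Fast version of `popc`. -/
def popcF (m : ℕ) : ℕ :=
  popByte (m &&& 255) + popByte ((m >>> 8) &&& 255) + popByte (m >>> 16)

/-- Fast membership test. -/
def isCodeF (m : ℕ) : Bool := Nat.beq (combF (m >>> 12)) m

set_option maxRecDepth 100000 in
theorem combF_eq_comb_bool : (List.range 4096).all (fun a => Nat.beq (combF a) (comb a)) = true := by
  decide +kernel

theorem combF_eq_comb (a : ℕ) (ha : a < 4096) : combF a = comb a :=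
  Nat.eq_of_beq_eq_true (List.all_eq_true.1 combF_eq_comb_bool a (List.mem_range.2 ha))

theorem popByte_eq : ∀ x < 256, popByte x = popcAux 8 x := by
  decide +kernel

theorem popcAux_split (n k m : ℕ) :
    popcAux (n + k) m = popcAux n (m % 2 ^ n) + popcAux k (m / 2 ^ n) := by
  rw [popcAux_eq_sum, popcAux_eq_sum, popcAux_eq_sum, Finset.sum_range_add]
  congr 1
  · refine Finset.sum_congr rfl fun i hi => ?_
    rw [Nat.testBit_mod_two_pow]
    simp [Finset.mem_range.1 hi]
  · refine Finset.sum_congr rfl fun i _ => ?_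
    rw [Nat.testBit_div_two_pow, Nat.add_comm]

theorem popcF_eq_popc (m : ℕ) (hm : m < 2 ^ 24) : popcF m = popc m := by
  unfold popcF popc
  have h1 : popcAux 24 m = popcAux 8 (m % 2 ^ 8) + popcAux 16 (m / 2 ^ 8) := popcAux_split 8 16 m
  have h2 : popcAux 16 (m / 2 ^ 8) = popcAux 8 (m / 2 ^ 8 % 2 ^ 8) + popcAux 8 (m / 2 ^ 8 / 2 ^ 8) :=
    popcAux_split 8 8 _
  rw [h1, h2]
  have e1 : m &&& 255 = m % 2 ^ 8 := Nat.and_two_pow_sub_one_eq_mod m 8
  have e2 : (m >>> 8) &&& 255 = m / 2 ^ 8 % 2 ^ 8 := by
    rw [Nat.shiftRight_eq_div_pow]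
    exact Nat.and_two_pow_sub_one_eq_mod _ 8
  have e3 : m >>> 16 = m / 2 ^ 8 / 2 ^ 8 := by
    rw [Nat.shiftRight_eq_div_pow, Nat.div_div_eq_div_mul]
    norm_num
  rw [e1, e2, e3]
  have q1 : popByte (m % 2 ^ 8) = popcAux 8 (m % 2 ^ 8) := popByte_eq _ (Nat.mod_lt _ (by norm_num))
  have q2 : popByte (m / 2 ^ 8 % 2 ^ 8) = popcAux 8 (m / 2 ^ 8 % 2 ^ 8) :=
    popByte_eq _ (Nat.mod_lt _ (by norm_num))
  have q3 : popByte (m / 2 ^ 8 / 2 ^ 8) = popcAux 8 (m / 2 ^ 8 / 2 ^ 8) := popByte_eq _ (by omega)
  rw [q1, q2, q3]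
  ring

theorem popcF_fmask (b : Finset GolayPt) : popcF (fmask b) = b.card := by
  rw [popcF_eq_popc _ (fmask_lt b), popc_fmask]

/-! ### The bridge to `golayCode` -/

set_option maxRecDepth 100000 in
theorem combF_facts_bool : (List.range 4096).all
    (fun a => Nat.beq (combF a >>> 12) a && Nat.ble (combF a + 1) 16777216) = true := by
  decide +kernel

theorem combF_facts (a : ℕ) (ha : a < 4096) : (combF a >>> 12 = a ∧ combF a < 16777216) := by
  have h := List.all_eq_true.1 combF_facts_bool a (List.mem_range.2 ha)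
  rw [Bool.and_eq_true] at h
  exact ⟨Nat.eq_of_beq_eq_true h.1, Nat.le_of_ble_eq_true h.2⟩

theorem wordOf_combAux_mem (S : Submodule (ZMod 2) (GolayPt → ZMod 2)) (bs : List ℕ)
    (hbs : ∀ b ∈ bs, wordOf b ∈ S) (a acc : ℕ) (hacc : wordOf acc ∈ S) :
    wordOf (combAux bs a acc) ∈ S := by
  induction bs generalizing a acc with
  | nil => exact hacc
  | cons b bs ih =>
    simp only [combAux]
    apply ih (fun b' hb' => hbs b' (List.mem_cons_of_mem _ hb'))
    split
    · rw [wordOf_xor]
      exact S.add_mem hacc (hbs b List.mem_cons_self)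
    · exact hacc

/-- Xor of a list of masks. -/
def xorl (l : List ℕ) : ℕ := l.foldr (· ^^^ ·) 0

theorem wordOf_xorl_mem (S : Submodule (ZMod 2) (GolayPt → ZMod 2)) (l : List ℕ)
    (h : ∀ m ∈ l, wordOf m ∈ S) : wordOf (xorl l) ∈ S := by
  induction l with
  | nil =>
    show wordOf 0 ∈ S
    rw [wordOf_zero]; exact S.zero_mem
  | cons m l ih =>
    show wordOf (m ^^^ xorl l) ∈ S
    rw [wordOf_xor]
    exact S.add_mem (h m List.mem_cons_self) (ih fun m' hm' => h m' (List.mem_cons_of_mem _ hm'))

theorem one_eq_wordOf : (1 : GolayPt → ZMod 2) = wordOf 16777215 := by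
  funext p
  have : ∀ p : GolayPt, (16777215 : ℕ).testBit (ptIdx p) = true := by decide
  simp [wordOf, this p]

/-- The masks of the generators of `golayCode`. -/
def gensList : List ℕ := qmaskList ++ [16777215]

/-- Each basis word as a sum of generators. -/
def basisExpr : List (List ℕ) :=
  [[340831, 2726648, 5453296, 5035970, 3366666],
   [681662, 5453296, 2517985, 1683333, 6733332],
   [340831, 1363324, 2726648, 5453296, 2517985, 5078057],
   [340831, 2726648, 5453296, 1683333, 6733332],
   [340831, 681662, 2726648, 2517985, 5035970, 5078057],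
   [1363324, 2726648, 2517985, 5035970, 3366666, 6733332],
   [340831, 1683333, 3366666, 6733332, 5078057],
   [340831, 2517985, 5035970, 1683333, 3366666, 5078057],
   [340831, 2517985, 3366666],
   [681662, 5035970, 6733332],
   [340831, 1363324, 2726648, 5453296, 5035970, 1683333, 3366666, 5078057],
   [681662, 1363324, 5453296, 1683333, 6733332, 5078057, 16777215]]

theorem basisList_eq : basisList = basisExpr.map xorl := by decide +kernel

theorem basisExpr_sub : ∀ l ∈ basisExpr, ∀ m ∈ l, m ∈ gensList := by decide +kernel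

theorem qmaskList_mem : ∀ m ∈ qmaskList, ∃ t : ZMod 23, qmask t = m := by decide +kernel

theorem wordOf_gens_mem : ∀ m ∈ gensList, wordOf m ∈ golayCode := by
  intro m hm
  rcases List.mem_append.1 hm with h | h
  · obtain ⟨t, rfl⟩ := qmaskList_mem m h
    rw [← qrWord_eq]
    exact Submodule.subset_span (Or.inl ⟨t, rfl⟩)
  · rw [List.mem_singleton] at h
    subst h
    rw [← one_eq_wordOf]
    exact Submodule.subset_span (Or.inr rfl)

theorem wordOf_basis_mem : ∀ b ∈ basisList, wordOf b ∈ golayCode := by
  intro b hb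
  rw [basisList_eq, List.mem_map] at hb
  obtain ⟨l, hl, rfl⟩ := hb
  exact wordOf_xorl_mem _ l fun m hm => wordOf_gens_mem m (basisExpr_sub l hl m hm)

theorem wordOf_comb_mem (a : ℕ) : wordOf (comb a) ∈ golayCode :=
  wordOf_combAux_mem _ basisList wordOf_basis_mem a 0 (by rw [wordOf_zero]; exact Submodule.zero_mem _)

theorem gens_isCode : ∀ m ∈ gensList, (m >>> 12 < 4096 ∧ combF (m >>> 12) = m) := by decide +kernel

/-- Every word of the code is `wordOf (comb a)` for some `a < 4096`. -/
theorem mem_golayCode_iff (w : GolayPt → ZMod 2) :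
    w ∈ golayCode ↔ ∃ a, a < 4096 ∧ w = wordOf (comb a) := by
  constructor
  · intro hw
    refine Submodule.span_induction ?_ ?_ ?_ ?_ hw
    · intro x hx
      have : ∃ m ∈ gensList, x = wordOf m := by
        rcases hx with ⟨t, rfl⟩ | hx
        · refine ⟨qmask t, List.mem_append_left _ ?_, qrWord_eq t⟩
          have : ∀ t : ZMod 23, qmask t ∈ qmaskList := by decide +kernel
          exact this t
        · rw [Set.mem_singleton_iff] at hx
          subst hx
          exact ⟨16777215, List.mem_append_right _ (List.mem_singleton_self _), one_eq_wordOf⟩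
      obtain ⟨m, hm, rfl⟩ := this
      obtain ⟨h1, h2⟩ := gens_isCode m hm
      refine ⟨m >>> 12, h1, ?_⟩
      rw [← combF_eq_comb _ h1, h2]
    · exact ⟨0, by norm_num, by rw [show comb 0 = 0 from rfl, wordOf_zero]⟩
    · rintro x y _ _ ⟨a, ha, rfl⟩ ⟨a', ha', rfl⟩
      refine ⟨a ^^^ a', ?_, ?_⟩
      · exact Nat.xor_lt_two_pow (n := 12) ha ha'
      · rw [comb_xor, wordOf_xor]
    · rintro c x _ ⟨a, ha, rfl⟩
      rcases zmod2_cases c with rfl | rfl
      · exact ⟨0, by norm_num, by rw [zero_smul, show comb 0 = 0 from rfl, wordOf_zero]⟩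
      · exact ⟨a, ha, by rw [one_smul]⟩
  · rintro ⟨a, _, rfl⟩
    exact wordOf_comb_mem a

end Cfsg.Agent.Lib.Helper93.Golay
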