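import Cfsg.Agent.Lib.Helper93.Golay

set_option autoImplicit false

namespace Cfsg.Agent.Lib.Helper93.Golay

open Cfsg

/-- The family of supports of code words, as a predicate on bit masks. -/
theorem mem_supports_iff (b : Finset GolayPt) :
    b ∈ supports (golayCode : Set (GolayPt → ZMod 2)) ↔ isCodeF (fmask b) = true := by
  constructor
  · rintro ⟨w, hw, rfl⟩
    obtain ⟨a, ha, rfl⟩ := (mem_golayCode_iff w).1 hw
    rw [support₂_wordOf]
    obtain ⟨h1, h2⟩ := combF_facts a ha
    rw [← combF_eq_comb a ha, fmask_fset _ (by norm_num; exact h2)]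
    unfold isCodeF
    rw [h1]
    exact Nat.beq_refl _
  · intro h
    unfold isCodeF at h
    have h' : combF (fmask b >>> 12) = fmask b := Nat.eq_of_beq_eq_true h
    have ha : fmask b >>> 12 < 4096 := by
      rw [Nat.shiftRight_eq_div_pow]
      have := fmask_lt b
      omega
    refine ⟨wordOf (fmask b), ?_, ?_⟩
    · rw [SetLike.mem_coe, mem_golayCode_iff]
      exact ⟨fmask b >>> 12, ha, by rw [← combF_eq_comb _ ha, h']⟩
    · rw [support₂_wordOf, fset_fmask]

theorem mem_octads_iff (b : Finset GolayPt) :
    b ∈ octads ↔ isCodeF (fmask b) = true ∧ popcF (fmask b) = 8 := by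
  unfold octads wordsOfWeight
  rw [Set.mem_ofPred_eq, mem_supports_iff, popcF_fmask]

theorem mem_dodecads_iff (b : Finset GolayPt) :
    b ∈ dodecads ↔ isCodeF (fmask b) = true ∧ popcF (fmask b) = 12 := by
  unfold dodecads wordsOfWeight
  rw [Set.mem_ofPred_eq, mem_supports_iff, popcF_fmask]

/-- The possible weights of code words. -/
def wOK (c : ℕ) : Bool := Nat.beq c 0 || Nat.beq c 8 || Nat.beq c 12 || Nat.beq c 16 || Nat.beq c 24

set_option maxRecDepth 100000 in
theorem code_weights_bool : (List.range 4096).all (fun a => wOK (popcF (combF a))) = true := by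
  decide +kernel

theorem code_weights (a : ℕ) (ha : a < 4096) : (popcF (combF a) = 0 ∨ popcF (combF a) = 8 ∨
    popcF (combF a) = 12 ∨ popcF (combF a) = 16 ∨ popcF (combF a) = 24) := by
  have h := List.all_eq_true.1 code_weights_bool a (List.mem_range.2 ha)
  simp only [wOK, Bool.or_eq_true] at h
  rcases h with (((h | h) | h) | h) | h
  · exact Or.inl (Nat.eq_of_beq_eq_true h)
  · exact Or.inr (Or.inl (Nat.eq_of_beq_eq_true h))
  · exact Or.inr (Or.inr (Or.inl (Nat.eq_of_beq_eq_true h)))
  · exact Or.inr (Or.inr (Or.inr (Or.inl (Nat.eq_of_beq_eq_true h))))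
  · exact Or.inr (Or.inr (Or.inr (Or.inr (Nat.eq_of_beq_eq_true h))))

theorem exists_index_of_mem_supports {b : Finset GolayPt}
    (hb : b ∈ supports (golayCode : Set (GolayPt → ZMod 2))) :
    ∃ a, a < 4096 ∧ fmask b = combF a := by
  rw [mem_supports_iff] at hb
  unfold isCodeF at hb
  have h' : combF (fmask b >>> 12) = fmask b := Nat.eq_of_beq_eq_true hb
  have ha : fmask b >>> 12 < 4096 := by
    rw [Nat.shiftRight_eq_div_pow]
    have := fmask_lt b
    omega
  exact ⟨_, ha, h'.symm⟩

theorem card_of_mem_supports {b : Finset GolayPt}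
    (hb : b ∈ supports (golayCode : Set (GolayPt → ZMod 2))) :
    b.card = 0 ∨ b.card = 8 ∨ b.card = 12 ∨ b.card = 16 ∨ b.card = 24 := by
  obtain ⟨a, ha, hab⟩ := exists_index_of_mem_supports hb
  have := code_weights a ha
  rw [← hab, popcF_fmask] at this
  exact this

theorem support₂_add (u v : GolayPt → ZMod 2) :
    support₂ (u + v) = symmDiff (support₂ u) (support₂ v) := by
  ext p
  simp only [support₂, Finset.mem_filter, Finset.mem_univ, true_and, Finset.mem_symmDiff,
    Pi.add_apply]
  rcases zmod2_cases (u p) with h | h <;> rcases zmod2_cases (v p) with h' | h' <;>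
    simp [h, h'] <;> decide

theorem symmDiff_mem_supports {b c : Finset GolayPt}
    (hb : b ∈ supports (golayCode : Set (GolayPt → ZMod 2)))
    (hc : c ∈ supports (golayCode : Set (GolayPt → ZMod 2))) :
    symmDiff b c ∈ supports (golayCode : Set (GolayPt → ZMod 2)) := by
  obtain ⟨u, hu, rfl⟩ := hb
  obtain ⟨v, hv, rfl⟩ := hc
  exact ⟨u + v, golayCode.add_mem hu hv, support₂_add u v⟩

theorem empty_mem_supports : (∅ : Finset GolayPt) ∈ supports (golayCode : Set (GolayPt → ZMod 2)) :=
  ⟨0, golayCode.zero_mem, by ext p; simp [support₂]⟩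

theorem univ_mem_supports :
    (Finset.univ : Finset GolayPt) ∈ supports (golayCode : Set (GolayPt → ZMod 2)) :=
  ⟨1, Submodule.subset_span (Or.inr rfl), by ext p; simp [support₂]⟩

theorem compl_mem_supports {b : Finset GolayPt}
    (hb : b ∈ supports (golayCode : Set (GolayPt → ZMod 2))) :
    bᶜ ∈ supports (golayCode : Set (GolayPt → ZMod 2)) := by
  have := symmDiff_mem_supports hb univ_mem_supports
  have e : symmDiff b Finset.univ = bᶜ := by
    ext p
    simp [Finset.mem_symmDiff]
  rwa [e] at this

theorem four_dvd_card_of_mem_supports {b : Finset GolayPt}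
    (hb : b ∈ supports (golayCode : Set (GolayPt → ZMod 2))) : 4 ∣ b.card := by
  rcases card_of_mem_supports hb with h | h | h | h | h <;> rw [h] <;> decide

theorem even_card_inter_supports {b c : Finset GolayPt}
    (hb : b ∈ supports (golayCode : Set (GolayPt → ZMod 2)))
    (hc : c ∈ supports (golayCode : Set (GolayPt → ZMod 2))) : Even (b ∩ c).card := by
  have h1 := four_dvd_card_of_mem_supports hb
  have h2 := four_dvd_card_of_mem_supports hc
  have h3 := four_dvd_card_of_mem_supports (symmDiff_mem_supports hb hc)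
  have h4 : (symmDiff b c).card + 2 * (b ∩ c).card = b.card + c.card := by
    have e1 : (symmDiff b c).card = (b \ c).card + (c \ b).card := by
      rw [symmDiff_def, Finset.sup_eq_union, Finset.card_union_of_disjoint]
      exact disjoint_sdiff_sdiff
    have e2 : (b \ c).card + (b ∩ c).card = b.card := Finset.card_sdiff_add_card_inter b c
    have e3 : (c \ b).card + (c ∩ b).card = c.card := Finset.card_sdiff_add_card_inter c b
    rw [Finset.inter_comm c b] at e3
    omega
  obtain ⟨x, hx⟩ := h1
  obtain ⟨y, hy⟩ := h2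
  obtain ⟨z, hz⟩ := h3
  exact ⟨x + y - z, by omega⟩

theorem eq_empty_of_card_lt_eight {b : Finset GolayPt}
    (hb : b ∈ supports (golayCode : Set (GolayPt → ZMod 2))) (h : b.card < 8) : b = ∅ := by
  rcases card_of_mem_supports hb with h0 | h0 | h0 | h0 | h0
  · exact Finset.card_eq_zero.1 h0
  all_goals omega

end Cfsg.Agent.Lib.Helper93.Golay
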