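import Cfsg.Agent.Lib.Helper93.GolayFacts

set_option autoImplicit false

namespace Cfsg.Agent.Lib.Helper93.Golay

open Cfsg
open scoped Pointwise

/-! ### Coded permutations

A permutation of the 24 point indices is coded by a natural number with 24 fields of 5 bits:
the image of index `i` is field `i`. -/

/-- Image of the index `i` under the coded map `S`. -/
def papp (S i : ℕ) : ℕ := (S >>> (5 * i)) &&& 31

/-- Move bit `i` of `m` to position `papp S i`, for `i < n`. -/
def pmaskRec (S m : ℕ) : ℕ → ℕ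
  | 0 => 0
  | n + 1 => pmaskRec S m n ||| (((m >>> n) &&& 1) <<< papp S n)

/-- Unrolled version of `pmaskRec S m 24`. -/
def pmask (S m : ℕ) : ℕ :=
  0 ||| (((m >>> 0) &&& 1) <<< ((S >>> 0) &&& 31)) |||
    (((m >>> 1) &&& 1) <<< ((S >>> 5) &&& 31)) |||
    (((m >>> 2) &&& 1) <<< ((S >>> 10) &&& 31)) |||
    (((m >>> 3) &&& 1) <<< ((S >>> 15) &&& 31)) |||
    (((m >>> 4) &&& 1) <<< ((S >>> 20) &&& 31)) |||
    (((m >>> 5) &&& 1) <<< ((S >>> 25) &&& 31)) |||
    (((m >>> 6) &&& 1) <<< ((S >>> 30) &&& 31)) |||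
    (((m >>> 7) &&& 1) <<< ((S >>> 35) &&& 31)) |||
    (((m >>> 8) &&& 1) <<< ((S >>> 40) &&& 31)) |||
    (((m >>> 9) &&& 1) <<< ((S >>> 45) &&& 31)) |||
    (((m >>> 10) &&& 1) <<< ((S >>> 50) &&& 31)) |||
    (((m >>> 11) &&& 1) <<< ((S >>> 55) &&& 31)) |||
    (((m >>> 12) &&& 1) <<< ((S >>> 60) &&& 31)) |||
    (((m >>> 13) &&& 1) <<< ((S >>> 65) &&& 31)) |||
    (((m >>> 14) &&& 1) <<< ((S >>> 70) &&& 31)) |||
    (((m >>> 15) &&& 1) <<< ((S >>> 75) &&& 31)) |||
    (((m >>> 16) &&& 1) <<< ((S >>> 80) &&& 31)) |||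
    (((m >>> 17) &&& 1) <<< ((S >>> 85) &&& 31)) |||
    (((m >>> 18) &&& 1) <<< ((S >>> 90) &&& 31)) |||
    (((m >>> 19) &&& 1) <<< ((S >>> 95) &&& 31)) |||
    (((m >>> 20) &&& 1) <<< ((S >>> 100) &&& 31)) |||
    (((m >>> 21) &&& 1) <<< ((S >>> 105) &&& 31)) |||
    (((m >>> 22) &&& 1) <<< ((S >>> 110) &&& 31)) |||
    (((m >>> 23) &&& 1) <<< ((S >>> 115) &&& 31))

theorem pmask_eq (S m : ℕ) : pmask S m = pmaskRec S m 24 := by
  simp only [pmask, pmaskRec, papp, Nat.mul_zero, Nat.shiftRight_zero]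

theorem testBit_bit_shift (m n k j : ℕ) :
    (((m >>> n) &&& 1) <<< k).testBit j = (m.testBit n && decide (k = j)) := by
  have h1 : (m >>> n) &&& 1 = (m.testBit n).toNat := by
    rw [Nat.and_one_is_mod, Nat.shiftRight_eq_div_pow, Nat.toNat_testBit]
  rw [h1]
  cases m.testBit n
  · simp
  · simp only [Bool.toNat_true, Bool.true_and]
    rw [Nat.one_shiftLeft, Nat.testBit_two_pow]

theorem testBit_pmaskRec (S m n j : ℕ) :
    (pmaskRec S m n).testBit j = true ↔ ∃ i, i < n ∧ m.testBit i = true ∧ papp S i = j := by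
  induction n with
  | zero => simp [pmaskRec]
  | succ n ih =>
    rw [pmaskRec, Nat.testBit_or, Bool.or_eq_true, ih, testBit_bit_shift, Bool.and_eq_true,
      decide_eq_true_eq]
    constructor
    · rintro (⟨i, hi, h⟩ | h)
      · exact ⟨i, by omega, h⟩
      · exact ⟨n, by omega, h⟩
    · rintro ⟨i, hi, h⟩
      by_cases hin : i = n
      · subst hin; exact Or.inr h
      · exact Or.inl ⟨i, by omega, h⟩

theorem testBit_pmask (S m j : ℕ) :
    (pmask S m).testBit j = true ↔ ∃ i, i < 24 ∧ m.testBit i = true ∧ papp S i = j := by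
  rw [pmask_eq, testBit_pmaskRec]

/-- `S'` codes the inverse of `S`, and both map indices below 24 to indices below 24. -/
def isPermPair (S S' : ℕ) : Bool :=
  (List.range 24).all fun i =>
    Nat.blt (papp S i) 24 && Nat.blt (papp S' i) 24 && Nat.beq (papp S' (papp S i)) i &&
      Nat.beq (papp S (papp S' i)) i

theorem isPermPair_spec {S S' : ℕ} (h : isPermPair S S' = true) (i : ℕ) (hi : i < 24) :
    papp S i < 24 ∧ papp S' i < 24 ∧ papp S' (papp S i) = i ∧ papp S (papp S' i) = i := by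
  have := List.all_eq_true.1 h i (List.mem_range.2 hi)
  simp only [Bool.and_eq_true] at this
  obtain ⟨⟨⟨h1, h2⟩, h3⟩, h4⟩ := this
  exact ⟨Nat.le_of_ble_eq_true h1, Nat.le_of_ble_eq_true h2, Nat.eq_of_beq_eq_true h3,
    Nat.eq_of_beq_eq_true h4⟩

/-- The permutation of the 24 points coded by `S`, with inverse coded by `S'`. -/
def permOfCode (S S' : ℕ) (h : isPermPair S S' = true) : Equiv.Perm GolayPt where
  toFun p := ptOf (Fin.ofNat 24 (papp S (ptIdx p)))
  invFun p := ptOf (Fin.ofNat 24 (papp S' (ptIdx p)))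
  left_inv p := by
    obtain ⟨h1, -, h3, -⟩ := isPermPair_spec h (ptIdx p) (ptIdx p).isLt
    show ptOf (Fin.ofNat 24 (papp S' (ptIdx (ptOf (Fin.ofNat 24 (papp S (ptIdx p))))))) = p
    rw [ptIdx_ptOf]
    have : (Fin.ofNat 24 (papp S (ptIdx p))).val = papp S (ptIdx p) := Nat.mod_eq_of_lt h1
    rw [this, h3]
    have : Fin.ofNat 24 (ptIdx p).val = ptIdx p := Fin.ext (Nat.mod_eq_of_lt (ptIdx p).isLt)
    rw [this, ptOf_ptIdx]
  right_inv p := by
    obtain ⟨-, h2, -, h4⟩ := isPermPair_spec h (ptIdx p) (ptIdx p).isLt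
    show ptOf (Fin.ofNat 24 (papp S (ptIdx (ptOf (Fin.ofNat 24 (papp S' (ptIdx p))))))) = p
    rw [ptIdx_ptOf]
    have : (Fin.ofNat 24 (papp S' (ptIdx p))).val = papp S' (ptIdx p) := Nat.mod_eq_of_lt h2
    rw [this, h4]
    have : Fin.ofNat 24 (ptIdx p).val = ptIdx p := Fin.ext (Nat.mod_eq_of_lt (ptIdx p).isLt)
    rw [this, ptOf_ptIdx]

theorem ptIdx_permOfCode (S S' : ℕ) (h : isPermPair S S' = true) (p : GolayPt) :
    ((ptIdx (permOfCode S S' h p) : Fin 24) : ℕ) = papp S (ptIdx p) := by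
  obtain ⟨h1, -, -, -⟩ := isPermPair_spec h (ptIdx p) (ptIdx p).isLt
  show ((ptIdx (ptOf (Fin.ofNat 24 (papp S (ptIdx p)))) : Fin 24) : ℕ) = _
  rw [ptIdx_ptOf]
  exact Nat.mod_eq_of_lt h1

theorem fmask_smul (S S' : ℕ) (h : isPermPair S S' = true) (b : Finset GolayPt) :
    fmask (permOfCode S S' h • b) = pmask S (fmask b) := by
  apply Nat.eq_of_testBit_eq
  intro j
  rw [Bool.eq_iff_iff, testBit_pmask]
  by_cases hj : j < 24
  · have h1 := testBit_fmask (permOfCode S S' h • b) (ptOf ⟨j, hj⟩)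
    rw [ptIdx_ptOf] at h1
    simp only at h1
    rw [h1, decide_eq_true_eq, Finset.mem_smul_finset]
    constructor
    · rintro ⟨p, hp, hpe⟩
      refine ⟨ptIdx p, (ptIdx p).isLt, ?_, ?_⟩
      · rw [testBit_fmask]; simpa using hp
      · rw [← ptIdx_permOfCode S S' h p]
        have : permOfCode S S' h p = ptOf ⟨j, hj⟩ := hpe
        rw [this, ptIdx_ptOf]
    · rintro ⟨i, hi, hbit, hij⟩
      refine ⟨ptOf ⟨i, hi⟩, ?_, ?_⟩
      · have h2 := testBit_fmask b (ptOf ⟨i, hi⟩)
        rw [ptIdx_ptOf] at h2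
        simp only at h2
        rw [h2] at hbit
        simpa using hbit
      · show permOfCode S S' h (ptOf ⟨i, hi⟩) = ptOf ⟨j, hj⟩
        apply ptEquiv.injective
        show ptIdx _ = ptIdx _
        apply Fin.ext
        rw [ptIdx_permOfCode, ptIdx_ptOf, ptIdx_ptOf]
        exact hij
  · rw [testBit_fmask_ge _ _ (by omega)]
    constructor
    · intro hf; exact absurd hf (by simp)
    · rintro ⟨i, hi, -, hij⟩
      obtain ⟨h1, -, -, -⟩ := isPermPair_spec h i hi
      omega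

/-! ### Membership in `M24` -/

theorem support₂_injective : Function.Injective (support₂ : (GolayPt → ZMod 2) → Finset GolayPt) := by
  intro u v h
  rw [← wordOf_fmask_support₂ u, ← wordOf_fmask_support₂ v, h]

theorem mem_golayCode_of_support {v : GolayPt → ZMod 2}
    (hv : support₂ v ∈ supports (golayCode : Set (GolayPt → ZMod 2))) : v ∈ golayCode := by
  obtain ⟨w, hw, hwv⟩ := hv
  rw [← support₂_injective hwv]
  exact hw

theorem golayCode_le_span_basis :
    golayCode ≤ Submodule.span (ZMod 2) (wordOf '' {b | b ∈ basisList}) := by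
  intro w hw
  obtain ⟨a, _, rfl⟩ := (mem_golayCode_iff w).1 hw
  apply wordOf_combAux_mem _ basisList
  · intro b hb
    exact Submodule.subset_span ⟨b, hb, rfl⟩
  · rw [wordOf_zero]; exact Submodule.zero_mem _

theorem support₂_comp_symm (σ : Equiv.Perm GolayPt) (w : GolayPt → ZMod 2) :
    support₂ (w ∘ σ.symm) = σ • support₂ w := by
  ext p
  rw [Finset.mem_smul_finset]
  simp only [support₂, Finset.mem_filter, Finset.mem_univ, true_and, Function.comp_apply]
  constructor
  · intro hp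
    exact ⟨σ.symm p, hp, by simp [Equiv.Perm.smul_def]⟩
  · rintro ⟨q, hq, rfl⟩
    simpa [Equiv.Perm.smul_def] using hq

theorem smul_mem_supports_of_basis (σ : Equiv.Perm GolayPt)
    (hσ : ∀ b ∈ basisList, σ • fset b ∈ supports (golayCode : Set (GolayPt → ZMod 2))) :
    ∀ β ∈ supports (golayCode : Set (GolayPt → ZMod 2)),
      σ • β ∈ supports (golayCode : Set (GolayPt → ZMod 2)) := by
  rintro β ⟨w, hw, rfl⟩
  rw [← support₂_comp_symm]
  refine ⟨w ∘ σ.symm, ?_, rfl⟩
  let L : (GolayPt → ZMod 2) →ₗ[ZMod 2] (GolayPt → ZMod 2) :=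
    LinearMap.funLeft (ZMod 2) (ZMod 2) σ.symm
  have hL : ∀ v, L v = v ∘ σ.symm := fun v => rfl
  have hle : Submodule.span (ZMod 2) (wordOf '' {b | b ∈ basisList}) ≤ golayCode.comap L := by
    rw [Submodule.span_le]
    rintro _ ⟨b, hb, rfl⟩
    show L (wordOf b) ∈ golayCode
    apply mem_golayCode_of_support
    rw [hL, support₂_comp_symm, support₂_wordOf]
    exact hσ b hb
  exact hle (golayCode_le_span_basis hw)

theorem basisList_lt : ∀ b ∈ basisList, b < 2 ^ 24 := by decide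

/-- The automorphism test: the coded permutation maps the twelve basis words into the code. -/
def isAut (S : ℕ) : Bool := basisList.all fun b => isCodeF (pmask S b)

theorem mem_M24_of_isAut (S S' : ℕ) (h : isPermPair S S' = true) (hc : isAut S = true) :
    permOfCode S S' h ∈ M24 := by
  show permOfCode S S' h ∈ MulAction.stabilizer (Equiv.Perm GolayPt)
    (supports (golayCode : Set (GolayPt → ZMod 2)))
  rw [MulAction.mem_stabilizer_set' (Set.toFinite _)]
  intro β hβ
  apply smul_mem_supports_of_basis _ _ β hβ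
  intro b hb
  rw [mem_supports_iff, fmask_smul, fmask_fset _ (basisList_lt b hb)]
  exact List.all_eq_true.1 hc b hb

theorem smul_mem_supports_of_mem_M24 {σ : Equiv.Perm GolayPt} (hσ : σ ∈ M24) {β : Finset GolayPt}
    (hβ : β ∈ supports (golayCode : Set (GolayPt → ZMod 2))) :
    σ • β ∈ supports (golayCode : Set (GolayPt → ZMod 2)) := by
  have h : σ ∈ MulAction.stabilizer (Equiv.Perm GolayPt)
    (supports (golayCode : Set (GolayPt → ZMod 2))) := hσ
  rw [MulAction.mem_stabilizer_set' (Set.toFinite _)] at h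
  exact h hβ

theorem card_smul_finset (σ : Equiv.Perm GolayPt) (β : Finset GolayPt) : (σ • β).card = β.card :=
  Finset.card_smul_finset σ β

theorem smul_mem_octads_of_mem_M24 {σ : Equiv.Perm GolayPt} (hσ : σ ∈ M24) {β : Finset GolayPt}
    (hβ : β ∈ octads) : σ • β ∈ octads :=
  ⟨smul_mem_supports_of_mem_M24 hσ hβ.1, by rw [card_smul_finset]; exact hβ.2⟩

theorem smul_mem_dodecads_of_mem_M24 {σ : Equiv.Perm GolayPt} (hσ : σ ∈ M24) {β : Finset GolayPt}
    (hβ : β ∈ dodecads) : σ • β ∈ dodecads :=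
  ⟨smul_mem_supports_of_mem_M24 hσ hβ.1, by rw [card_smul_finset]; exact hβ.2⟩

end Cfsg.Agent.Lib.Helper93.Golay
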