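import Cfsg.Agent.Lib.Helper93.Leech
import Cfsg.Agent.Lib.Helper93.GolayPerm
import Cfsg.Prelude.Def_SporadicCombinatorics

set_option autoImplicit false

namespace Cfsg.Agent.Lib.Helper93.Leech

open Cfsg Cfsg.Agent.Lib.Helper93.Golay
open scoped Pointwise

/-- The sum of the coordinates of a lattice vector over the support of a code word is
divisible by 4. -/
theorem sum_over_codeword {x : GolayPt → ℤ} (hx : x ∈ leechSet) {c : Finset GolayPt}
    (hc : c ∈ CS) : (∑ j ∈ c, x j) % 4 = 0 := by
  obtain ⟨m, h1, -, h3⟩ := (mem_leechSet_iff' x).1 hx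
  have hpt : ∀ j, (x j - m - 2 * (if j ∈ cls x (m + 2) then (1 : ℤ) else 0)) % 4 = 0 := by
    intro j
    have hm := mem_cls x (m + 2) j
    have := h1 j
    by_cases hj : j ∈ cls x (m + 2)
    · rw [if_pos hj]
      rw [hm] at hj
      omega
    · rw [if_neg hj]
      rw [hm] at hj
      omega
  have hsplit : ∑ j ∈ c, x j = ∑ j ∈ c, (x j - m - 2 * (if j ∈ cls x (m + 2) then (1 : ℤ) else 0))
      + (c.card : ℤ) * m + 2 * ((c ∩ cls x (m + 2)).card : ℤ) := by
    rw [Finset.sum_sub_distrib, Finset.sum_sub_distrib, Finset.sum_const, ← Finset.mul_sum,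
      Finset.sum_ite_mem, Finset.sum_const]
    simp only [nsmul_eq_mul, mul_one]
    ring
  have hdvd : (4 : ℤ) ∣ ∑ j ∈ c, (x j - m - 2 * (if j ∈ cls x (m + 2) then (1 : ℤ) else 0)) :=
    Finset.dvd_sum fun j _ => Int.dvd_of_emod_eq_zero (hpt j)
  obtain ⟨r, hr⟩ := four_dvd_card_of_mem_supports hc
  obtain ⟨s, hs⟩ := even_card_inter_supports hc h3
  obtain ⟨t, ht⟩ := hdvd
  rw [hsplit, ht, hr, hs]
  push_cast
  have e : (4 * (r : ℤ)) * m = 4 * ((r : ℤ) * m) := by ring
  rw [e]
  omega

theorem signedPerm_apply (σ : Equiv.Perm GolayPt) (c : Finset GolayPt) (x : GolayPt → ℤ)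
    (i : GolayPt) : signedPerm σ c x i = if i ∈ c then -x (σ.symm i) else x (σ.symm i) := rfl

theorem signedPerm_add (σ : Equiv.Perm GolayPt) (c : Finset GolayPt) (x y : GolayPt → ℤ) :
    signedPerm σ c (x + y) = signedPerm σ c x + signedPerm σ c y := by
  funext i
  simp only [signedPerm_apply, Pi.add_apply]
  split <;> ring

theorem signedPerm_neg (σ : Equiv.Perm GolayPt) (c : Finset GolayPt) (x : GolayPt → ℤ) :
    signedPerm σ c (-x) = -signedPerm σ c x := by
  funext i
  simp only [signedPerm_apply, Pi.neg_apply]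
  split <;> ring

theorem sqNorm_signedPerm (σ : Equiv.Perm GolayPt) (c : Finset GolayPt) (x : GolayPt → ℤ) :
    sqNorm (signedPerm σ c x) = sqNorm x := by
  unfold sqNorm
  have : ∀ i, signedPerm σ c x i ^ 2 = x (σ.symm i) ^ 2 := by
    intro i
    rw [signedPerm_apply]
    split <;> ring
  simp_rw [this]
  exact Equiv.sum_comp σ.symm (fun j => x j ^ 2)

/-- Signed coordinate permutations from `M24` and code words preserve the lattice. -/
theorem signedPerm_mem_leechSet {σ : Equiv.Perm GolayPt} (hσ : σ ∈ M24) {c : Finset GolayPt}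
    (hc : c ∈ CS) {x : GolayPt → ℤ} (hx : x ∈ leechSet) : signedPerm σ c x ∈ leechSet := by
  have hxx := hx
  obtain ⟨m, h1, h2, h3⟩ := (mem_leechSet_iff' x).1 hx
  rw [mem_leechSet_iff']
  have hσinv : σ⁻¹ ∈ M24 := M24.inv_mem hσ
  have hc' : σ⁻¹ • c ∈ CS := smul_mem_supports_of_mem_M24 hσinv hc
  have hE : σ • cls x (m + 2) ∈ CS := smul_mem_supports_of_mem_M24 hσ h3
  have hmemE : ∀ i, i ∈ σ • cls x (m + 2) ↔ x (σ.symm i) % 4 = (m + 2) % 4 := by
    intro i
    rw [← mem_cls, Finset.mem_smul_finset]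
    constructor
    · rintro ⟨j, hj, rfl⟩
      simpa [Equiv.Perm.smul_def] using hj
    · intro h
      exact ⟨σ.symm i, h, by simp [Equiv.Perm.smul_def]⟩
  refine ⟨m, fun i => ?_, ?_, ?_⟩
  · rw [signedPerm_apply]
    have := h1 (σ.symm i)
    split <;> omega
  · have hsum : ∑ i, signedPerm σ c x i = ∑ i, x i - 2 * ∑ j ∈ σ⁻¹ • c, x j := by
      have hpt : ∀ i, signedPerm σ c x i =
          x (σ.symm i) - 2 * (if i ∈ c then x (σ.symm i) else 0) := by
        intro i
        rw [signedPerm_apply]
        split <;> ring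
      simp_rw [hpt]
      rw [Finset.sum_sub_distrib, ← Finset.mul_sum, Equiv.sum_comp σ.symm (fun j => x j)]
      congr 2
      rw [Finset.sum_ite_mem, Finset.univ_inter]
      have : σ⁻¹ • c = c.map σ.symm.toEmbedding := by
        ext j
        rw [Finset.mem_smul_finset, Finset.mem_map]
        constructor
        · rintro ⟨i, hi, rfl⟩
          exact ⟨i, hi, rfl⟩
        · rintro ⟨i, hi, rfl⟩
          exact ⟨i, hi, rfl⟩
      rw [this, Finset.sum_map]
      rfl
    have h4 := sum_over_codeword hxx hc'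
    rw [hsum]
    omega
  · rcases Int.emod_two_eq_zero_or_one m with hm | hm
    · have : cls (signedPerm σ c x) (m + 2) = σ • cls x (m + 2) := by
        ext i
        rw [mem_cls, hmemE, signedPerm_apply]
        have := h1 (σ.symm i)
        split <;> omega
      rw [this]; exact hE
    · have : cls (signedPerm σ c x) (m + 2) = symmDiff (σ • cls x (m + 2)) c := by
        ext i
        rw [mem_cls, Finset.mem_symmDiff, hmemE, signedPerm_apply]
        have := h1 (σ.symm i)
        by_cases hic : i ∈ c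
        · rw [if_pos hic]
          simp only [hic, not_true_eq_false, and_false, true_and, false_or]
          omega
        · rw [if_neg hic]
          simp only [hic, not_false_eq_true, and_true, false_and, or_false]
      rw [this]; exact symmDiff_mem_supports hE hc

end Cfsg.Agent.Lib.Helper93.Leech
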