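import Cfsg.Agent.Lib.Helper93.RelOrbit

set_option autoImplicit false

namespace Cfsg.Agent.Lib.Helper93.Golay

open Cfsg
open scoped Pointwise

/-! ### The stabiliser of a dodecad -/

def D0 : ℕ := 165759

def dodWords : List (List ℕ) := [[6, 5, 7], [7, 6, 0, 2], [3, 3, 1, 4], [5, 1], [7, 7, 0, 6, 1], [0, 0, 6, 6], [3, 1, 4], [], [6, 1, 4, 2], [2, 5, 0, 2], [7, 1], [0, 3, 6, 3, 0], [2, 5, 6, 3], [3, 6, 7, 1], [3, 2, 2], [6, 2, 0, 0], [7, 1, 6], [1, 3, 1, 0], [6, 3, 4, 3], [6, 2, 0, 2], [0, 3, 1, 4], [2, 1, 4, 0], [0], [5, 6, 2, 6], [4, 5, 2, 6], [4, 2, 2, 5], [6, 0, 5, 2], [7, 2, 4, 5, 1], [7, 2, 4, 7], [2, 2, 3, 2, 0], [6, 5, 7, 0], [3, 0, 6, 3], [0, 4, 6, 5, 2], [0, 7, 1], [7, 3, 3, 3], [2, 5, 3, 3], [6, 4, 3, 4, 0], [6, 7, 6, 1], [3, 0, 0, 2], [2, 7, 1], [4, 7,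 2], [0, 3, 2, 2], [2, 3, 3], [6, 5, 7, 2], [4, 2, 0, 1], [0, 7, 1, 6], [2, 6, 4, 5], [4, 3, 4, 7], [2, 5, 6, 2], [6, 2, 5, 7], [4, 1, 0, 2], [3, 2, 0], [2, 3], [4, 7, 2, 0], [5, 5, 2, 7, 1], [4, 0, 2, 5], [7, 0, 4], [4, 4, 7, 1], [5, 0, 4], [0, 4, 2], [0, 0], [7, 7, 6], [3, 6, 1, 3], [3, 5, 2], [0, 2, 0, 2], [7, 3, 7, 1], [5, 7, 6, 6], [3, 3, 3, 0], [2, 2, 3, 3], [3, 6, 4, 6], [1, 5, 3, 2], [6, 4, 0, 1], [6, 6, 2, 7], [6, 2, 7, 1, 0], [3, 1, 7, 0], [3, 6, 6, 4], [5, 6, 0, 2], [4, 3, 7, 0, 0], [0, 6, 5, 7, 0], [2, 5, 7, 7], [6, 3, 0], [4, 6, 7], [1, 7, 3, 0], [1, 3, 4], [5, 5, 0, 0], [0, 1, 5, 3], [4, 4, 3, 0], [5, 5, 4, 3], [0, 0, 7, 1], [5, 3, 1, 0, 0], [2, 4, 3, 4, 0], [3, 7, 3, 3], [7, 1, 5, 5], [5, 2, 4, 0], [5, 5, 2, 0], [3, 2, 4, 2], [3, 3, 3, 5, 1], [6, 4, 4,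 0, 1], [1, 0, 3, 3, 0], [6, 0, 0, 0], [0, 2, 7, 1], [4, 6, 6, 3, 1], [0, 4, 7, 2], [7, 3, 3, 2], [4, 3, 5, 2], [3, 7, 7, 0], [6, 6, 7, 7], [5, 5, 2, 3], [6, 2, 0], [7, 4, 0, 3], [1, 5, 0, 4, 0], [4, 0, 3, 4, 0], [5, 2, 4, 3], [5, 3, 6, 1], [1, 4, 2, 5, 3], [4, 2, 3, 5], [3, 1, 0, 0, 0], [3, 2, 6, 6], [2, 3, 0, 0], [7, 7, 5], [2, 5, 3, 2], [6, 2, 0, 2, 0], [6, 4, 7, 3], [0, 3, 2], [3, 3, 2, 2], [6, 6, 4, 3], [4, 2, 1], [3, 3, 2, 0], [4, 7, 1, 0, 2], [3, 2, 3], [0, 3, 2, 0], [7, 1, 7, 3], [0, 2, 3], [2, 6, 5], [6, 0, 2, 3], [6, 5, 3, 2], [0, 4, 7, 2, 0], [6, 6, 1, 7], [4, 1, 6, 3, 3], [4, 3, 2, 0], [7, 7, 3], [1, 6, 5, 2], [5, 4, 0, 3], [0, 7, 0, 4], [3, 7, 3, 5], [7, 0, 5, 0, 0], [6, 6, 0, 3], [3, 1, 4, 6], [7, 0, 5, 3], [6, 1, 3, 0], [3, 4, 7, 2], [0, 0, 0], [4, 1,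 4], [7, 2, 6, 3], [0, 7, 7, 6], [1, 6, 0, 2], [4, 0, 6, 6], [1, 4], [3], [3, 2, 1, 4, 0], [3, 7, 1, 6], [3, 7, 1], [0, 4, 0, 2], [5, 2, 3, 1], [3, 6, 0, 0, 0], [0, 6, 3], [3, 7, 0, 4], [3, 6, 2, 0], [0, 4, 4, 6], [2, 2, 5, 7], [7, 7, 3, 0], [0, 0, 2], [1, 7, 6, 1], [4, 4, 1, 4], [4, 0, 7], [4, 0, 6, 5], [7, 4, 7, 3], [7, 5, 7], [2, 0, 7], [7, 4, 1], [5, 6, 2], [3, 7, 4, 1], [5, 1, 7, 0], [4, 3, 6, 2], [5, 5, 0, 1], [3, 4, 4], [0, 3, 1, 7, 0], [5, 5, 4, 5], [6, 7, 5, 6, 1], [7, 2, 5, 3], [0, 1, 0], [2, 4, 7, 4], [0, 6, 6, 6], [2, 2, 4, 4], [5, 4, 5, 1], [5, 7, 5], [1, 0, 5, 3], [4, 2, 7, 3, 0], [6, 7, 4, 1], [0, 6, 3, 0], [7, 0, 4, 0], [0, 4, 6, 7], [6, 0, 4, 5], [4, 5, 7, 1], [1, 3, 1], [1, 5, 1, 0], [7, 0, 4, 5, 1], [3, 3, 5, 7], [2, 2, 5, 2], [5, 1, 6], [1, 0, 7,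 4], [6, 6, 6, 4, 0], [3, 2, 5, 7], [7, 6, 7, 1], [1, 4, 6], [4, 0, 5, 6, 2], [7, 2, 3, 2], [5, 1, 5, 5], [5, 3, 7, 1], [6, 7, 1], [6, 3, 3, 0, 0], [0, 5, 4], [7, 3, 5], [4, 1, 4, 5], [3, 1, 0, 4], [4, 4], [6, 0, 5, 6, 2], [7, 3, 2, 6], [5, 2, 4, 7], [2, 4, 2, 2], [0, 5, 5, 2, 0], [2, 5, 4, 1], [4, 0, 0, 7, 0], [0, 3, 2, 4, 2], [3, 0, 3, 3], [5, 5, 3, 4, 2], [5, 0, 5], [5, 6, 4], [2, 2], [4, 5, 5], [2, 1, 0, 2], [5, 3, 7, 0], [6, 3, 3, 0], [3, 6, 5, 3, 1], [7, 1, 4, 7], [2, 2, 7, 4, 1], [5, 5, 4, 6], [0, 4, 4, 5], [2, 7, 1, 0], [7, 7, 4, 3, 0], [1, 3, 3, 1, 0], [3, 2, 0, 0, 0], [2, 4, 2, 0], [1, 7, 0, 4], [6, 3, 5, 7], [5, 1, 3, 0], [0, 6, 4, 2, 1], [1, 6, 1, 7], [6, 4, 3], [4, 2, 7, 6], [0, 6, 3, 2], [2, 5, 5], [1, 3, 7, 1, 0], [0, 1, 5, 3, 0], [2, 1, 4, 2], [3, 4,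 5, 3], [1, 4, 1], [1, 0, 2, 0], [6, 2, 7, 1], [5, 4, 0, 6], [5, 0, 6, 7], [4, 5], [5, 5, 3], [6, 0, 3], [4, 0, 3, 3, 1], [5, 6, 2, 1], [7, 4, 7], [2, 3, 0, 2], [6, 0, 2], [6, 5, 5, 3], [7, 3, 4, 5], [4, 2, 0], [7, 4, 5], [7, 6, 4, 5], [2, 7, 4, 1], [5, 7, 3], [1, 4, 2, 7], [3, 6, 3], [3, 0, 2], [5, 4, 1], [7, 6, 3], [6, 4, 3, 1, 0], [1, 7, 4, 0], [4, 5, 6, 3, 1], [5, 0, 4, 0], [5, 4, 4, 1], [0, 4, 2, 1], [7, 7, 5, 6], [2, 0, 0, 2], [3, 6, 4, 5], [5, 7, 3, 0], [6, 2, 7, 0, 0], [0, 1, 4, 0], [2, 2, 1, 4, 0], [0, 3, 2, 3], [0, 3, 0, 0], [4, 4, 0], [3, 0, 2, 0], [6, 0, 5, 0], [1, 4, 0, 1], [0, 0, 2, 0, 0], [5, 1, 5, 2], [0, 7], [0, 0, 2, 3], [4, 3, 5, 5], [0, 2, 6, 5], [3, 3, 2], [5, 0, 3, 4], [1, 0, 6, 1], [4, 7, 0, 7], [6, 3, 7, 4, 0], [7, 7, 7], [3, 2, 3, 2, 0], [2],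 [7, 6, 7, 2], [0, 4, 3, 0, 0], [1, 6, 0, 3, 2], [4, 4, 7], [4, 5, 0, 1, 0], [4, 2, 0, 6], [2, 4, 7, 2], [3, 1, 4, 0], [3, 5, 0, 2], [0, 7, 7, 3], [6, 2, 6, 5, 2], [0, 7, 6], [4, 2, 2], [4, 4, 4, 3], [0, 3, 3], [4, 5, 7, 5], [3, 3, 3], [3, 6, 6, 2, 0], [7, 2, 3, 4], [6, 1, 7], [2, 2, 3, 2], [7, 5, 6, 1, 0], [6, 3, 7, 4], [2, 0, 3, 2], [5, 1, 7, 0, 2], [2, 1, 3, 1, 0], [6, 3, 0, 5], [6, 6, 5, 2], [3, 5, 1, 0, 0], [7, 3, 3], [0, 0, 0, 0], [4, 4, 3], [2, 3, 4, 4], [5, 5, 0, 3], [0, 3, 0], [6, 6, 6, 3], [2, 0, 0, 0], [5, 4, 3, 3], [1, 7, 2, 0], [4, 2, 5, 3], [5, 1, 6, 7, 1], [4, 0, 0, 1], [4, 7, 0, 0], [1, 5, 4, 5, 0], [1, 7, 3, 2, 0], [4, 0, 3, 5], [0, 1, 4], [7, 7, 2, 6], [5, 2, 6, 2], [0, 3], [3, 6, 5, 6], [1, 6, 6, 5], [2, 7, 6], [7, 1, 6, 4, 0], [5, 2, 1, 7], [0, 5,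 0, 3], [0, 3, 7, 1], [6, 0, 0, 6], [1, 7, 5, 7, 0], [7, 1, 0, 5], [2, 2, 6, 5], [3, 5, 5, 1], [7, 0, 5, 0, 1], [4, 0, 6, 4], [2, 2, 0, 2], [6, 6, 2, 1], [7, 7, 3, 7, 0], [7, 5, 4, 0], [1, 5, 2, 1, 0], [3, 5, 2, 0], [5, 5, 7, 1, 0], [2, 0], [2, 4, 3], [2, 7], [4, 5, 2], [4, 7, 6, 3], [7, 5, 5, 0], [0, 0, 0, 2], [1, 5, 3, 1], [2, 1, 7, 1, 0], [6, 5, 3, 1], [2, 2, 7, 1], [6, 7, 0, 2], [6, 4, 7, 6], [5, 5, 0], [1, 6, 4, 4], [1, 5, 5, 6], [4, 1, 0, 4, 0], [2, 5, 1], [4, 1, 6, 2], [0, 1, 0, 5], [5, 2, 4, 2], [0, 2, 0, 7], [1, 7, 0, 0, 0], [0, 7, 4, 1], [6, 0, 7, 0, 2], [0, 5, 6, 2], [3, 6, 5], [5, 3, 6, 2], [4, 1, 7, 0], [7, 2, 5, 1], [7, 5, 2], [6, 5, 6, 0, 1], [7, 3, 3, 0], [4, 7, 2, 3], [2, 0, 2, 3], [7, 0, 0, 2, 1], [3, 5, 7], [4, 5, 0], [2, 7, 4, 4], [3, 7, 6, 1], [0,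 5, 0, 2], [4, 4, 0, 0, 0], [6, 0, 4, 7], [0, 0, 1, 0], [2, 4, 2], [0, 6, 5, 5], [5, 3, 4, 3, 0], [2, 5, 2, 1, 0], [3, 6, 4, 2, 1], [0, 0, 2, 0], [2, 1, 0, 3], [6, 4, 4, 1], [0, 5, 4, 5, 1], [3, 3, 6, 3, 0], [3, 6, 2, 3], [0, 5, 7, 5], [2, 4, 5, 4], [0, 6, 7, 6], [5, 7, 4, 3, 0], [0, 7, 0, 1, 0], [4, 6, 4, 2], [2, 0, 7, 7, 0], [4, 5, 6, 1], [1, 5, 5, 3], [6, 4, 2, 2, 1], [6, 6, 4, 0], [4, 0, 2, 0], [1, 5, 4, 7], [6, 1, 3, 3], [5, 5, 2, 5], [2, 7, 2, 2], [7, 2, 0, 2], [3, 3, 2, 7], [0, 1, 3, 1], [7, 2, 2], [7, 0, 7, 4], [6, 5, 3, 0], [7, 1, 6, 2], [2, 1, 6, 4], [1, 4, 7, 5], [4, 3, 5, 3], [2, 7, 6, 1], [6, 4, 3, 1], [4, 4, 3, 1, 0], [1, 6, 5, 3], [2, 5, 5, 1], [0, 5, 1, 6], [5, 6, 3, 1], [7, 1, 0, 0], [5, 6, 0, 6], [2, 3, 4, 2], [3, 3, 5, 1], [1, 3, 4, 6], [3, 4, 4,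 5], [5, 0, 7, 3], [7, 4, 6, 3], [0, 1, 4, 6], [7, 5, 5, 1, 0], [2, 3, 3, 0], [5, 3, 2, 1], [2, 5, 7], [6, 5, 4, 2], [1, 5, 4, 5, 1], [0, 6, 7, 1], [0, 1, 5, 7], [4, 6, 6, 1], [6, 6, 7, 2], [7, 6, 7, 0], [6, 1, 3], [5, 6, 5, 6], [0, 7, 3, 5], [4, 6, 3, 0], [1, 0, 4], [3, 5, 3, 3], [4, 5, 5, 1], [2, 2, 0, 2, 0], [0, 4, 4], [2, 0, 3, 3], [2, 6, 1, 3], [7, 5, 5, 1], [6, 6, 6, 0, 1], [6, 4, 6], [5, 4, 4, 0], [6, 0, 0, 1], [5, 4, 1, 0, 2], [3, 3, 0], [4, 7, 3], [1, 4, 0, 1, 0], [2, 3, 3, 2], [5, 7, 7, 0], [2, 4, 4, 0], [5, 2, 0, 0], [5, 1, 6, 7], [7, 0, 4, 2], [7, 4, 0, 2], [6, 5, 6, 6], [4, 4, 3, 0, 0], [7, 0, 5, 4], [7, 1, 5, 3], [6, 4, 0, 4], [2, 3, 1, 0], [3, 5, 1, 4], [0, 5, 0, 5], [6, 7, 0, 0], [5, 4, 7], [7, 7, 0], [7, 1, 5, 0], [0, 4, 5, 5], [3, 7, 5, 4], [5, 7,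 7, 5, 1], [2, 3, 6, 3], [4, 2, 5, 3, 0], [1, 7, 4, 1], [4, 5, 3], [7, 4, 3, 2], [1, 7, 0], [2, 4, 7, 3], [5, 2, 3, 2], [2, 6, 6], [3, 0, 1, 0, 0], [7, 6, 3, 0], [6, 0, 6, 1], [5, 0, 6, 3], [6, 6, 4], [6, 3, 7, 0], [4, 7, 3, 3, 0], [1, 0, 0, 0], [6, 3, 5, 6, 1], [1, 5, 6, 6], [3, 4, 7, 5], [0, 4, 2, 6], [5, 1, 7, 3], [6, 0, 4, 6], [5, 1, 7, 3, 0], [1, 6, 4, 7, 2], [1, 0, 0], [3, 6, 0, 1], [7, 4, 0, 4, 0], [3, 3, 3, 1, 0], [5, 1, 6, 3], [0, 6, 4, 3], [3, 2, 2, 2], [4, 6, 0, 7], [0, 6, 7], [6, 2, 6, 4], [0, 6, 6, 5], [4, 3, 6, 5], [0, 2, 5, 5], [6, 4, 0, 4, 0], [6, 2, 4, 1], [1, 6, 3, 3], [4, 1, 0, 5], [1, 0, 2, 7, 1], [6, 7, 0, 3], [4, 7, 0, 3, 2], [0, 1, 4, 1], [2, 3, 3, 3], [7, 6, 2, 2, 1], [5, 5, 0, 0, 0], [3, 5, 0, 2, 0], [4, 6, 3, 1], [4, 7, 1, 7, 0], [5, 0, 5,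 0], [1, 6, 0, 4], [6, 3, 6, 1, 0], [0, 2, 5, 5, 0], [0, 4, 5], [4, 6, 7, 1], [6, 7, 4, 0], [4, 3, 1, 4], [7, 7, 3, 3, 0], [5, 2], [4, 6, 3], [1, 5, 2, 7], [2, 5, 7, 3], [1, 3, 0], [7, 5, 6, 1], [2, 4, 3, 4], [0, 7, 0, 1], [7, 5, 3, 1], [4, 4, 5, 1], [4, 4, 0, 1], [5, 0, 2, 1], [0, 5, 7, 0], [0, 6, 6], [2, 6, 2, 0], [1, 0, 1, 0, 1], [0, 4, 2, 0], [3, 6, 3, 0], [5, 3, 4, 6], [0, 7, 4, 5], [3, 4, 4, 3, 0], [4, 4, 6, 4], [7, 4, 4, 6], [7, 4, 4], [0, 2, 7, 4, 1], [7, 6, 2, 3], [7, 3, 4, 4], [0, 5, 7, 3], [5, 3, 4, 5], [7, 6, 4, 3], [7, 2, 7, 2], [0, 3, 6, 3], [4, 6, 5, 2], [6, 5, 0, 0, 0], [0, 3, 6, 3, 2], [0, 3, 0, 2], [3, 4, 5], [0, 5, 4, 1], [4, 2, 3, 4, 1], [7, 0, 6, 2], [0, 7, 1, 0], [5, 7, 5, 1], [5, 4, 3, 2, 0], [7, 4, 2, 2], [7, 4, 5, 0], [7, 2, 2, 2], [1, 3, 2,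 6, 1], [4, 2], [7, 2, 7, 3], [3, 5, 1], [2, 0, 2], [6, 2, 4, 5], [1, 4, 5, 3], [3, 1, 7, 3, 0], [3, 6, 4, 0, 1], [2, 4, 0, 2], [6, 6, 7, 0, 0], [1, 6, 4, 0], [4, 3], [3, 0, 3, 2, 0], [2, 3, 2], [1, 5, 7, 2], [1, 5, 3], [6, 2, 2, 3], [5, 0, 3, 2, 0], [7, 7, 1, 3], [0, 0, 1, 4, 0], [4, 5, 2, 4, 0], [2, 6, 0, 0, 0], [3, 3, 7, 1], [5, 7, 4, 2], [3, 4, 3, 2, 0], [1, 4, 5, 0], [7, 2, 5, 0], [3, 0, 0, 0], [2, 3, 2, 0], [4, 7, 2, 6], [3, 6, 0, 2], [6, 2, 3], [5, 5, 4, 7], [2, 7, 0, 1], [6, 5, 2, 2], [5, 5, 4, 0], [7, 3, 2, 3], [3, 2], [3, 3, 6, 5], [4, 5, 7, 7], [4, 0, 0, 1, 0], [0, 0, 7], [6, 5, 0, 3], [7, 2, 7, 0], [5, 7, 0, 7], [6, 2, 7], [2, 6, 3, 2], [7, 4, 6, 4], [3, 5, 5, 0], [6, 7, 1, 5, 0], [4, 7, 5, 3], [7, 6, 6, 3], [1, 7, 5, 3], [4, 5, 5, 3], [6, 6, 5, 6], [5,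 0, 0, 2], [6, 4, 5, 4], [0, 1, 0, 6, 1], [1, 3, 5, 5, 0], [6, 3, 5, 1], [7, 6, 5, 4], [4, 0, 2], [0, 7, 7, 7], [6, 3], [7, 5, 1, 3, 0], [4, 4, 6], [0, 2], [5, 6, 1, 4], [0, 5, 3, 4], [5, 3, 4, 5, 0], [2, 5, 5, 0, 0], [4, 3, 7, 0], [5, 4, 7, 7], [2, 6, 0, 2], [2, 6, 3, 3], [6, 1, 7, 2, 0], [1, 0], [6, 6, 6], [6, 3, 3, 5, 1], [2, 6, 7], [7, 6, 3, 5], [6, 4, 1, 4], [2, 5, 6, 4], [0, 5, 5], [2, 0, 5, 5], [5, 7, 6, 1], [0, 1, 6, 4], [7, 1, 0, 1], [3, 3, 0, 2], [2, 4, 5], [5, 4, 4, 4], [6, 6, 3, 0], [5, 7, 2], [5, 4], [2, 3, 5, 2], [6, 5, 4], [7, 6, 3, 4], [6, 1, 3, 1], [3, 0, 3], [7, 5, 2, 6], [1, 6, 0, 3], [5, 6, 5], [1, 7, 7, 0], [6, 0, 7], [5, 4, 4, 2, 0], [4, 3, 2, 2], [2, 0, 5, 4], [3, 1, 0, 0], [4, 4, 5], [1, 5, 7, 0], [7, 4, 7, 5], [2, 3, 0, 3], [6, 4, 2, 1], [1,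 7, 7, 0, 0], [6, 3, 2], [1, 5, 0, 4], [1, 5, 3, 0], [7, 4, 5, 3, 1], [7, 2, 4, 1, 0], [7, 6, 5, 1, 3], [0, 2, 6, 3], [1, 5, 3, 3], [2, 0, 0, 7], [6, 3, 7, 6], [3, 3, 6, 7, 1], [6, 1, 0, 4], [7, 3, 0, 3], [5, 3, 3], [4, 3, 0, 3], [4, 3, 3, 1], [4, 3, 4, 0], [5, 2, 3, 4], [2, 5, 2, 0], [7, 5, 4, 4], [2, 6, 6, 4], [5, 5, 7, 2, 0], [1, 4, 0], [3, 3, 5, 2], [3, 0, 0], [3, 5, 5, 0, 0], [6, 4, 4], [0, 2, 0, 0], [0, 2, 0, 0, 0], [7], [3, 2, 5, 3, 2], [1, 0, 2, 6], [5, 2, 4, 1], [5, 1, 7, 1, 0], [4, 5, 5, 0], [0, 7, 3, 0, 1], [4, 3, 0, 0], [4, 6, 4, 5], [3, 5, 6, 4], [5, 7, 7], [3, 4, 1, 4], [4, 6, 6, 3], [2, 3, 3, 1, 0], [7, 6], [5, 6, 3], [3, 3], [5, 1, 3, 1], [0, 3, 2, 0, 0], [1, 7, 1, 0], [6, 6, 2, 0], [3, 5, 5, 3], [2, 6, 5, 3, 1], [7, 2, 5, 2], [6, 7, 4, 4], [6, 4, 0,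 2, 0], [3, 0], [4, 6, 6, 7, 0], [1, 0, 0, 7], [5, 2, 5, 1, 0], [0, 2, 5, 4], [3, 5, 0, 4], [5, 3, 7, 2], [7, 0, 4, 4], [6, 3, 6, 5], [7, 5, 6], [1, 5, 7, 3], [7, 0, 2, 4, 0], [5, 0, 3], [3, 0, 7, 1], [2, 1, 7, 0, 0], [7, 1, 3, 5], [3, 3, 3, 3, 0], [5, 4, 4, 3, 1], [6, 4, 5], [0, 2, 1, 0], [6, 7, 6, 3], [3, 3, 4, 4], [7, 2, 0, 2, 0], [1, 6, 7, 2], [3, 7, 7, 3, 0], [0, 5, 6, 3, 0], [5, 1, 4, 0], [5, 1, 4, 3], [1, 6, 4, 5], [6, 7, 2, 5, 0], [2, 7, 7, 2, 0], [1, 0, 5], [6, 5, 1, 4], [3, 2, 6, 5], [4, 0, 4, 7, 1], [5, 1, 7], [2, 5, 2, 2], [0, 7, 5, 4, 0], [4, 6, 7, 3], [6, 4, 1, 3], [5, 0, 2], [5, 5, 2, 2], [6, 5, 5], [5, 1, 0, 5], [6, 2, 3, 2], [0, 2, 0], [1, 0, 5, 0], [1, 7, 7, 1], [6, 4, 7, 2], [4, 7, 7, 0, 0], [6, 7, 6], [7, 0, 1, 0], [0, 4, 5, 2], [3, 7, 5, 2], [1,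 6, 1], [4, 7, 3, 2, 1], [3, 3, 6, 3], [7, 4, 0, 4], [3, 6, 1, 7], [1, 3, 3, 3, 0], [3, 2, 7, 6], [3, 7, 5, 5, 0], [4, 2, 4, 1], [6, 6, 3, 2], [5, 6, 7, 2], [6, 7, 3, 5], [4, 6, 1, 7], [0, 4, 0, 1], [7, 2, 6, 5], [2, 2, 1, 7, 1], [6, 0, 2, 0, 0], [7, 1, 4, 5, 0], [4, 3, 0, 0, 0], [1, 5, 7], [7, 1, 4, 1], [0, 5, 5, 0], [2, 2, 7, 6], [6, 6, 0, 7], [4, 1, 3], [5, 4, 4, 4, 0], [5, 3, 6, 4], [7, 7, 0, 0], [4, 2, 0, 4], [4, 6, 7, 2], [7, 5, 0, 6, 1], [5, 4, 5], [5, 5, 5, 0], [7, 6, 1, 0], [1, 5, 1, 6], [6, 1, 5, 3], [3, 4, 4, 7], [5, 4, 2, 3], [0, 5, 1, 4], [4, 0, 1, 0], [5, 6, 4, 6], [5, 6, 6, 7, 0], [3, 4, 5, 0], [3, 0, 3, 0], [6, 2, 3, 3], [6, 3, 3], [3, 4, 2, 0], [3, 4, 2, 2], [3, 5, 7, 3], [4, 3, 5, 0], [7, 0, 1, 6], [1, 5, 4, 4], [4, 2, 6], [3, 2, 7], [5, 0, 0, 1, 0],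 [4, 2, 7, 3], [2, 0, 6, 7], [7, 3, 0, 2, 0], [6, 7], [6, 6, 5], [2, 6, 5, 4, 0], [6, 3, 1, 4], [5, 0, 2, 6], [2, 7, 5, 2], [0, 4, 5, 0], [4, 0, 1, 4, 0], [5, 6, 1, 3], [4, 7, 0, 1], [7, 5, 6, 6], [2, 5, 5, 0], [3, 2, 7, 2, 2], [4, 0, 3, 4], [6, 1, 4, 6], [7, 3, 4, 1], [1, 4, 3, 1, 0], [7, 0, 1], [3, 2, 6, 2, 0], [5, 7, 0], [6, 6], [5, 6, 2, 2, 1], [1, 4, 7, 1], [0, 3, 4, 3], [6, 0, 6, 2], [6, 0, 1, 5, 1], [0, 2, 5, 2], [4, 1, 5, 4, 1], [5, 1, 5, 0], [2, 1, 6, 1], [4, 1, 4, 2, 0], [2, 4, 5, 5], [7, 6, 2, 2], [6, 5, 6, 7], [3, 6, 3, 2], [4, 7, 4], [1, 0, 5, 6], [4, 6, 1, 0], [7, 1, 0], [7, 7, 4, 4], [0, 3, 4, 2], [3, 4, 3, 0, 0], [4, 4, 7, 5], [0, 4, 3, 4], [4, 2, 0, 0], [2, 3, 0, 3, 0], [7, 3, 2, 7], [3, 6, 6, 5], [1, 3, 6, 1, 0], [5, 2, 4, 6, 1], [2, 0, 2, 0], [1,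 7, 0, 3], [6, 5, 4, 3], [2, 6, 7, 1], [7, 5, 3, 5, 0], [5, 0, 4, 2], [5, 1, 0, 0], [5, 0, 7, 4], [1, 4, 3], [1, 7, 4], [0, 6, 6, 4, 0], [3, 1, 5, 3], [0, 4, 0, 2, 0], [2, 1, 5, 3, 0], [1, 6, 1, 3], [2, 1, 4, 1], [7, 0, 6, 5], [6, 6, 2, 2], [2, 3, 2, 7], [1, 5, 4, 6], [3, 3, 4, 5], [5, 4, 1, 0], [2, 2, 3], [5, 2, 1, 0], [7, 1, 3], [0, 1, 0, 2], [6, 6, 7, 0], [2, 2, 2], [5, 3, 4], [4, 2, 5, 0], [7, 2, 7, 5], [0, 7, 2, 2], [3, 7, 6], [4, 0, 3, 1, 0], [2, 1, 3, 1], [4, 1, 6, 1], [5, 5], [6, 2, 0, 1], [1, 6, 4], [7, 5, 3, 4], [4, 4, 4, 3, 0], [4, 2, 3], [5, 0, 5, 6, 1], [5, 4, 2, 1], [4, 3, 6, 3, 0], [2, 5, 4, 5], [4, 1, 3, 0, 1], [2, 4, 4], [5, 0, 2, 0], [3, 4, 3, 4, 0], [3, 5, 1, 7], [7, 0, 6, 4], [5, 0, 6, 1, 0], [4, 0, 6, 2], [7, 3, 5, 4, 0], [2, 6, 3], [0, 5, 7], [0,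 4, 5, 4], [7, 0, 4, 2, 0], [7, 2, 3, 3], [0, 7, 1, 0, 0], [6, 7, 5], [3, 7, 4, 2], [6, 0, 4, 0], [3, 5, 4, 6], [7, 4, 1, 4], [2, 0, 0], [0, 3, 1, 0], [4, 7, 4, 0], [1, 6, 1, 0], [5, 4, 7, 6], [7, 3, 0, 1], [2, 7, 2, 7, 0], [2, 4, 6, 7], [6, 1, 5, 6], [6, 7, 4, 3, 0], [0, 5, 5, 1], [3, 2, 0, 0], [1, 7, 4, 3], [5, 7, 5, 7], [2, 4, 7, 2, 0], [1, 7, 7, 1, 0], [0, 2, 3, 3, 0], [2, 5, 4], [5, 5, 5, 1], [7, 5, 4], [7, 4, 2], [4, 2, 7, 1], [0, 7, 6, 1], [2, 1, 0], [1, 7, 0, 0], [5, 0, 3, 3, 0], [4, 0, 7, 4], [5, 6, 3, 0], [2, 7, 3, 2, 3], [3, 6, 6, 5, 0], [1, 0, 2, 5], [6, 4, 5, 2, 1], [0, 4, 6, 6, 1], [3, 3, 7, 1, 0], [6, 0, 3, 1], [0, 6, 1, 3], [1, 5, 6, 1], [7, 5, 5, 5, 1], [7, 4, 2, 0], [5, 0, 0, 0], [3, 5, 7, 0], [3, 4, 2, 3], [6, 5, 4, 0], [0, 1, 0, 4], [7, 4, 5, 2],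 [4, 4, 4, 6], [6, 5, 0, 3, 0], [5, 4, 6], [0, 6, 5], [2, 6, 5, 4], [4, 0, 1], [7, 6, 7, 3], [7, 6, 2, 3, 1], [0, 2, 6, 1, 3], [6, 1, 5, 0], [2, 5, 7, 5], [2, 1, 7, 3, 0], [4, 0, 2, 5, 0], [0, 6, 4, 6], [5, 7, 7, 4], [0, 5, 3, 2], [5, 5, 0, 6], [5, 1, 4], [7, 2, 7, 6, 1], [0, 3, 3, 0], [5, 5, 6, 2], [3, 7, 3, 0], [5, 7, 0, 5], [5, 7, 2, 5, 0], [5, 6, 7, 7], [6, 2, 2, 5], [3, 4, 3, 4], [0, 5, 7, 7, 0], [6, 5, 3, 1, 0], [4, 3, 7, 3], [3, 2, 0, 3], [5, 3, 0, 5], [2, 4, 7, 5, 3], [5, 1, 6, 2], [5, 5, 6, 1], [6, 5, 6], [3, 4, 3], [4, 6, 4, 4], [2, 5, 2], [4, 6, 2, 7], [3, 5, 4], [1, 0, 3], [2, 3, 7, 3, 0], [2, 6, 2, 6], [7, 6, 7], [1, 3, 7, 0, 0], [3, 4, 2], [4, 3, 4], [5, 4, 0, 2], [6, 3, 6, 5, 0], [0, 7, 3, 0], [0, 2, 3, 1, 0], [2, 6, 0, 1], [4, 2, 3, 1], [7, 7, 5, 3,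 0], [6, 7, 6, 0, 1], [6, 6, 3, 1], [6, 6, 0, 6], [3, 5, 7, 7], [0, 5, 4, 7], [0, 7, 7, 0], [6, 0, 5, 1, 0], [1, 0, 2], [3, 6, 7], [0, 5, 2, 2], [6, 5, 0, 0], [4, 5, 1, 6], [7, 3, 5, 0, 0], [3, 3, 0, 0], [4, 3, 0, 5], [5, 7, 4, 3], [7, 1, 6, 2, 0], [5, 7, 3, 3], [2, 5, 6, 3, 0], [2, 1, 0, 0, 0], [5, 3, 5, 5, 0], [0, 4, 5, 3], [6, 4, 5, 1, 0], [4, 4, 0, 6], [5, 7], [4, 5, 4], [5, 3, 1, 4], [6, 7, 2, 3], [7, 3, 4, 3], [3, 1, 0], [1, 0, 2, 0, 1], [3, 6, 5, 4], [4, 1, 3, 1], [5, 1, 6, 0, 1], [1, 5, 5, 0], [5, 5, 1], [2, 1, 7, 0], [7, 4, 5, 7], [0, 6, 2, 6], [6, 7, 7], [1, 4, 2], [7, 7, 3, 2], [7, 6, 1], [2, 4, 4, 3], [4, 7, 5], [0, 2, 7, 3, 0], [1, 4, 7, 4], [0, 1, 0, 0, 0], [3, 5, 2, 4, 1], [4, 5, 0, 3], [7, 7, 4, 5], [2, 7, 7, 0], [1, 3, 7, 1], [2, 0, 5, 2], [6, 5], [3,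 6, 7, 6], [6, 6, 5, 0], [5, 4, 3, 4, 0], [5, 3, 2], [2, 7, 3, 3], [7, 7, 2, 3], [0, 1, 0, 0], [5, 4, 7, 1, 0], [7, 7, 1, 7], [2, 0, 1, 4], [1, 0, 5, 6, 2], [4, 0, 1, 0, 0], [3, 5, 5], [7, 3, 2, 0], [6, 4, 0, 0, 0], [2, 7, 4, 2, 0], [2, 1, 7, 1], [3, 2, 4, 4], [2, 7, 6, 3, 0], [6, 0, 1], [0, 0, 6, 7], [7, 3, 0], [3, 4, 0, 1], [1, 4, 3, 7, 0], [1, 7, 0, 2], [3, 7, 1, 3], [4, 1, 6, 2, 0], [5, 6, 7, 0], [5, 2, 2], [2, 2, 0, 3], [5, 1, 5, 3, 0], [6, 3, 5], [4, 4, 3, 1], [6, 1, 0, 1], [5, 4, 6, 2], [5, 7, 7, 1, 0], [4, 5, 6, 3, 0], [0, 2, 0, 3], [6, 1, 7, 7], [3, 1, 0, 2], [7, 1, 0, 5, 0], [3, 1, 5, 5, 0], [4, 1, 3, 0], [6, 2, 6], [3, 1, 7, 1], [0, 0, 5, 2], [2, 7, 3, 0], [4, 6, 6, 0, 1], [2, 2, 4, 3], [3, 4, 5, 0, 3], [0, 7, 7, 2, 0], [6, 2, 5, 6], [0, 5, 0, 5, 0], [3,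 6, 6], [4, 7, 7, 3], [5, 6, 6, 1], [2, 3, 5, 5], [1, 7, 3, 3, 0], [6, 5, 2, 1], [0, 0, 4, 5], [7, 0, 7, 6], [0, 3, 3, 1, 0], [2, 4, 4, 3, 1], [2, 0, 3], [3, 5, 3, 4], [3, 5, 4, 1, 0], [3, 7, 1, 0], [0, 5, 2], [3, 1, 6, 1, 0], [7, 7, 2, 0], [6, 2, 0, 4, 0], [7, 6, 6], [7, 0, 3, 7, 1], [0, 5, 2, 0], [0, 1, 7, 1], [3, 3, 1, 0], [0, 1, 3, 0], [5, 2, 7, 1], [4, 4, 4, 0], [1, 3, 0, 0], [5, 2, 0], [1, 7, 1], [1, 3, 2, 0], [2, 7, 0, 6], [6, 3, 0, 2], [2, 1, 3, 5, 2], [2, 3, 1, 6], [1, 0, 0, 4], [7, 6, 2], [1, 3, 1, 6], [6, 3, 0, 3], [4, 7, 2, 1, 0], [5, 1, 0, 1], [4, 4, 7, 7, 0], [4, 0, 5, 6], [6, 3, 1, 0], [6, 5, 3, 3], [0, 7, 6, 2], [2, 1, 5, 0, 0], [0, 0, 4, 0], [1, 4, 7, 7], [1, 7, 6, 6], [5, 3, 2, 3], [7, 4, 6, 1], [6, 2, 1, 0, 2], [1, 3, 4, 4], [3, 0, 3, 4], [2, 6, 2,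 2], [2, 0, 3, 4], [7, 4, 0, 6], [1, 4, 4, 5], [7, 5, 4, 3], [7, 7, 3, 1], [6, 7, 4, 5, 0], [0, 6, 3, 1, 0], [3, 7, 0, 5], [2, 7, 7, 5, 2], [4, 1, 3, 4], [7, 1, 4, 2], [4, 7, 3, 2], [7, 6, 5, 0, 1], [0, 1, 6, 2], [0, 0, 0, 4, 0], [5, 6, 7, 4], [6, 3, 5, 5, 0], [4, 2, 7, 3, 2], [2, 6, 1, 0, 0], [7, 0, 5], [4, 0, 6], [4, 4, 3, 2], [6, 5, 1, 6], [0, 7, 4, 6, 1], [1, 4, 6, 1], [4, 4, 1, 3, 1], [4, 2, 5, 2], [7, 1, 7, 0], [1, 4, 1, 0, 0], [5, 0, 6, 1], [3, 4, 7, 7], [6, 0, 3, 2, 0], [2, 6, 5, 1], [7, 1, 3, 0], [4, 4, 2, 0], [0, 4, 0, 5, 0], [1, 6, 5, 0], [0, 5, 1, 0], [6, 0, 0, 7], [7, 5, 7, 0, 0], [7, 4, 2, 5], [7, 5, 0, 0], [7, 5, 3], [0, 5, 1, 3], [5, 1, 6, 1], [7, 2, 4, 0], [2, 3, 7, 2], [2, 4, 3, 0], [2, 3, 2, 5], [3, 6, 6, 1], [6, 4, 4, 7], [3, 4, 7, 5, 1], [4, 5,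 6, 5], [3, 5, 3], [6, 3, 0, 0], [0, 0, 5, 6], [4, 4, 4, 4], [3, 5, 0, 0], [4, 1, 6, 3], [1, 7, 3, 2], [0, 2, 6, 2], [3, 1, 4, 3, 0], [2, 7, 0], [0, 4, 1, 4, 0], [3, 3, 0, 5], [5, 5, 2, 6], [5, 0, 7, 1, 0], [4, 3, 1, 0, 0], [0, 5, 0, 3, 0], [7, 6, 5, 5], [7, 6, 0, 7], [4, 7, 1, 0], [5, 4, 4, 7], [0, 6, 2, 2], [6, 4, 7, 4], [2, 0, 2, 1], [5, 4, 7, 5], [6, 5, 4, 6], [1, 0, 4, 1], [3, 7, 4, 6], [4, 3, 1], [3, 5], [7, 2, 3, 1], [2, 0, 4, 0], [6, 4, 7, 0, 0], [0, 4, 0, 6], [1, 0, 5, 7], [6, 4, 2, 6], [3, 5, 0], [3, 4, 1, 7], [4, 7, 6, 6], [5, 3, 1, 0], [6, 4, 2], [0, 3, 4, 3, 2], [2, 4, 3, 2], [2, 7, 5, 3], [6, 6, 4, 4], [7, 5, 2, 0], [1, 4, 6, 3], [7, 0, 6, 7], [2, 4, 0, 5, 0], [4, 7, 0, 3, 0], [6, 6, 7, 6], [7, 5, 0, 1], [5, 4, 0, 1, 0], [6, 3, 2, 0], [3, 3, 0, 4], [6,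 6, 3, 3], [0, 6, 5, 1], [0, 7, 3, 1, 0], [7, 3, 7, 0], [5, 0, 3, 1], [4, 6, 2], [5, 7, 7, 3, 0], [6, 1, 0, 3], [5, 4, 2, 7], [3, 0, 7, 3], [3, 6, 4], [3, 7, 7], [3, 7, 0, 0, 0], [6, 6, 1, 3], [4, 4, 0, 2], [3, 2, 4, 0], [6, 6, 7, 5], [0, 7, 5, 0, 0], [1, 7, 7, 2], [3, 7, 5, 1], [0, 7, 5, 3], [6, 4, 5, 5], [5, 6, 7, 4, 0], [3, 0, 7, 2], [4, 3, 0, 1], [7, 6, 2, 1], [5, 6, 2, 0], [7, 2, 6, 4, 0], [5, 2, 4, 1, 0], [6, 0, 4, 4], [5, 4, 0, 0, 0], [5, 5, 1, 3], [5, 2, 5, 0], [7, 2, 5, 5], [4, 5, 3, 3], [7, 3, 4, 2, 0], [2, 6, 5, 3], [1, 0, 0, 5, 0], [7, 2, 2, 1], [0, 3, 4, 7], [7, 4, 5, 3, 0], [7, 5, 6, 2, 0], [3, 7, 5, 2, 0], [0, 3, 5, 3], [4, 3, 6, 2, 1], [6, 6, 0, 2], [6, 5, 0, 4, 0], [4, 3, 0], [4, 6, 3, 3, 0], [2, 6, 5, 0], [7, 0, 2, 3], [2, 5, 7, 1], [3, 4, 6, 5], [1,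 3, 7, 7], [0, 3, 5, 0, 0], [1, 5, 4, 3], [2, 5], [3, 5, 4, 4], [3, 0, 6, 2], [1, 6, 0, 1], [5, 5, 1, 0, 4], [5, 5, 7, 5], [1, 0, 2, 2, 1], [5, 4, 4, 6], [3, 5, 2, 7], [5, 4, 6, 4], [0, 2, 7, 0], [5, 4, 4], [0, 3, 4], [1, 6, 2, 0], [4, 5, 0, 5], [4, 4, 5, 2], [0, 3, 7, 5], [2, 4, 0, 7, 0], [5, 2, 7, 2, 2], [7, 2, 4, 2], [1, 3, 6, 5, 0], [2, 7, 0, 0, 1], [4, 3, 2], [7, 1, 3, 2, 0], [4, 6, 4, 4, 1], [3, 3, 2, 4, 0], [0, 6, 2], [6, 4, 4, 4, 0], [0, 4, 7, 1, 0], [0, 2, 3, 5, 0], [5, 2, 7, 2, 0], [7, 3, 6, 2], [6, 1, 0], [6, 1, 0, 0], [1, 3, 6, 0, 1], [1, 6, 2, 3], [5, 6, 4, 7], [7, 0, 5, 0], [2, 2, 6], [2, 6, 4], [6, 0, 7, 1], [5, 7, 1, 0], [7, 7, 7, 0], [3, 5, 5, 5], [0, 4, 3, 1], [7, 5, 0, 0, 0], [0, 3, 5], [1, 0, 0, 2], [3, 2, 6, 1], [1, 5, 0, 0], [6, 7, 4, 2], [4, 1,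 5, 0], [1, 7, 1, 6], [7, 6, 0, 6], [4, 5, 5, 1, 0], [7, 6, 3, 1], [7, 3, 2, 1], [7, 5, 0], [2, 0, 5], [0, 3, 5, 0], [2, 3, 5, 1, 0], [4, 4, 7, 0, 1], [3, 2, 6], [3, 7, 4], [1, 5, 0], [5, 4, 7, 2], [3, 3, 4, 1, 0], [0, 6, 4, 2], [7, 5, 1, 7], [3, 7, 7, 2], [1, 7, 2, 3], [2, 4, 6], [6, 2, 7, 3, 0], [5, 6, 4, 3], [5, 2, 7], [6, 0, 1, 3, 0], [2, 4, 4, 1], [4, 5, 3, 0], [1, 0, 7, 3, 1], [5, 6, 5, 4], [7, 3, 0, 6], [2, 3, 1], [7, 2, 5, 6], [3, 2, 6, 1, 0], [5, 5, 5], [3, 7, 0, 0, 1], [3, 0, 1], [7, 4, 3, 0, 0], [2, 0, 6, 1], [1, 7, 0, 4, 0], [0, 6, 3, 2, 0], [5, 2, 2, 2], [5, 0, 6, 2], [2, 0, 1, 3], [3, 2, 2, 5, 0], [5, 4, 6, 6, 1], [5, 6, 4, 2], [2, 1, 5, 2], [4, 3, 7, 3, 1], [4, 2, 2, 1], [1, 4, 6, 7], [2, 3, 6, 2], [5, 4, 5, 0], [3, 2, 7, 5], [0, 4, 6, 2], [5, 1, 3, 0,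 0], [2, 0, 2, 5], [5, 6, 4, 0], [4, 6, 5], [4, 4, 6, 3], [1, 5, 5, 1], [3, 0, 7, 0], [3, 1, 5, 4], [2, 0, 6], [5, 7, 5, 0], [7, 2], [0, 0, 7, 4, 0], [0, 3, 6, 4], [2, 2, 0, 1], [7, 1, 5, 2], [4, 1, 4, 7], [7, 7, 1, 4], [2, 3, 7, 0], [1, 6], [4, 7, 7], [2, 6, 1], [4, 6, 5, 1], [4, 0, 6, 7, 3], [1, 7, 3], [7, 4, 7, 0, 0], [5, 0, 5, 6], [4, 4, 2, 2], [4, 4, 3, 2, 0], [3, 4, 2, 7], [1, 3, 6, 2], [3, 0, 0, 4], [3, 0, 1, 6], [4, 7, 7, 6], [6, 0, 5, 4, 1], [2, 1, 5, 5], [1, 3, 1, 7, 0], [2, 5, 6], [0, 4, 3, 0, 1], [5, 2, 7, 0, 0], [7, 0, 7, 3], [6, 0, 0, 1, 0], [7, 4, 5, 2, 1], [4, 5, 6], [7, 0, 0, 7], [4, 3, 1, 0], [4, 1, 0, 3], [0, 6], [3, 1, 6, 5, 1], [2, 7, 0, 5], [2, 0, 4, 1], [6, 7, 4, 6], [7, 3, 7, 2], [3, 3, 7, 2], [6, 2, 4, 7, 1], [4, 1, 5, 1], [0, 5, 2, 5, 0], [5,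 7, 1, 5, 0], [7, 0, 2, 6], [4, 7, 7, 1, 0], [3, 2, 0, 3, 1], [6, 3, 1, 7], [6, 0, 5, 3], [2, 5, 1, 0], [4, 0, 0, 0], [5, 6], [1, 5, 2], [4, 3, 4, 5, 0], [5, 2, 5, 2], [6, 1, 5, 4], [4, 5, 7], [3, 4, 3, 3], [6, 4, 0, 6], [4, 1, 7, 3, 0], [1, 5, 2, 1], [6, 3, 2, 1], [4, 3, 6, 1, 6], [2, 6], [6, 2, 7, 2, 0], [4, 7, 7, 1], [4, 1, 7], [6, 2, 4, 0], [6, 4, 2, 5], [1, 5, 2, 6], [4, 1, 7, 6], [0, 0, 2, 1], [7, 2, 5, 4], [5, 0, 4, 1], [5, 3, 3, 4], [7, 5, 2, 2], [1, 6, 5], [1, 7, 6], [0, 1, 4, 5], [7, 4, 2, 3], [3, 6, 2], [0, 2, 6, 5, 0], [6, 6, 1], [2, 7, 3, 1], [0, 0, 4, 1], [6, 3, 6, 2, 1], [1, 3, 5, 0], [6, 5, 7, 5, 0], [0, 7, 0], [7, 4], [3, 6, 1, 4], [5, 7, 7, 2], [1, 5, 4], [6, 4, 6, 2], [0, 2, 5], [3, 1, 4, 5, 1], [7, 0, 1, 4], [6, 4, 0], [0, 7, 4, 3, 1], [3, 7, 3,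 1], [3, 7, 0, 6], [1, 0, 2, 1], [2, 7, 5, 0], [7, 6, 2, 0, 1], [7, 7, 6, 1], [3, 3, 6, 1], [4, 5, 4, 3], [5, 0, 5, 7], [7, 1, 7], [5, 0, 0], [6, 3, 5, 3], [1, 6, 5, 5, 1], [0, 0, 2, 7, 0], [0, 5, 4, 4], [6, 3, 4], [3, 0, 4], [3, 2, 2, 1], [3, 5, 4, 3], [3, 0, 2, 4, 1], [7, 0, 2], [7, 4, 3, 2, 0], [3, 7, 4, 0], [7, 1, 4, 0], [5, 0, 1], [5, 0, 1, 0], [5, 1, 4, 4], [4, 4, 1, 3, 0], [0, 5, 4, 0], [2, 2, 6, 4], [0, 0, 5, 3, 0], [5, 4, 7, 0, 1], [3, 7, 6, 5, 0], [1, 3, 2, 5], [4, 5, 0, 6, 1], [7, 4, 7, 1], [4, 7, 0, 3], [3, 6, 7, 2], [7, 7, 2], [6, 2, 7, 0], [6, 0, 4], [3, 2, 4, 1], [6, 3, 3, 4], [0, 7, 5, 3, 0], [4, 0, 7, 1], [3, 7, 1, 0, 2], [6, 7, 4], [4, 0, 3], [6, 1, 4, 2, 0], [0, 6, 6, 3], [5, 7, 4, 1], [3, 3, 2, 1], [2, 4, 6, 1], [0, 7, 3, 1], [6, 4, 1, 4, 1], [1,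 5, 4, 5, 2], [0, 6, 1, 0], [6, 5, 0, 1], [1, 0, 1], [3, 5, 2, 3], [4, 6, 3, 1, 0], [2, 1, 0, 0, 2], [1, 4, 3, 0], [6, 2, 3, 1], [4, 0, 5, 0, 0], [0, 1, 6, 3], [2, 2, 5], [4, 4, 4, 5], [5, 4, 5, 4], [5, 3, 1], [1, 0, 4, 2], [4, 7], [2, 6, 1, 0], [1, 7, 1, 4], [7, 6, 5], [4, 1, 4, 1], [1, 5, 7, 1, 0], [2, 2, 2, 6], [6, 2, 1], [5, 3, 0, 3, 0], [1, 7, 2, 2], [4, 0, 4, 1], [3, 6, 0, 6], [3, 0, 5], [3, 4, 1], [4, 3, 7, 5], [3, 1, 7], [6, 6, 0, 4], [1, 3, 5, 1], [7, 0, 3, 0, 0], [5, 7, 6, 0, 1], [3, 3, 0, 3, 1], [7, 0, 3], [7, 5, 4, 7], [6, 5, 2, 5, 0], [0, 4, 0, 4, 0], [1, 3, 5], [5, 5, 3, 2], [5, 3], [3, 4, 1, 0], [4], [4, 7, 5, 1], [6, 0, 5, 3, 1], [7, 7, 5, 1], [7, 7, 4, 0], [6, 2, 6, 1], [3, 0, 5, 0], [2, 0, 1], [0, 7, 7, 1], [4, 7, 3, 0], [5, 2, 5], [6, 4, 1, 6], [0,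 3, 2, 6], [0, 3, 7, 4], [7, 5, 6, 2], [5, 3, 0, 0], [6, 5, 4, 4], [5, 7, 0, 0], [4, 5, 3, 1], [1, 3, 7, 3], [0, 1, 5, 1], [4, 3, 3, 4], [1, 0, 3, 1], [4, 3, 4, 3, 1], [2, 2, 7, 4], [0, 7, 3], [6, 1], [5, 7, 3, 5], [2, 3, 7, 3], [4, 0, 0, 0, 0], [4, 2, 4, 3], [7, 5, 1], [6, 3, 1], [5, 5, 6], [5], [1, 5, 2, 0], [3, 4, 6, 4], [5, 2, 0, 2, 0], [0, 5, 2, 7], [1, 4, 1, 5, 0], [2, 3, 3, 4], [5, 5, 4, 4], [6, 5, 2, 3], [6, 5, 3], [2, 5, 0, 0], [7, 4, 7, 1, 0], [6, 6, 7, 4], [6, 2, 2, 1], [4, 0, 7, 5, 1], [1, 7, 5, 4], [0, 2, 3, 1], [1, 0, 7, 1, 0], [3, 6, 5, 2], [5, 6, 6, 4, 0], [0, 5, 5, 5], [5, 0, 6], [4, 0, 3, 0], [1, 5, 2, 0, 0], [3, 3, 1, 6], [0, 3, 0, 1], [5, 2, 6], [2, 7, 4], [2, 0, 7, 3], [6, 5, 1, 0], [2, 4, 6, 2, 1], [4, 4, 1, 0], [3, 5, 1, 0], [3, 6, 2, 2], [2,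 1, 3, 3], [7, 5], [1, 0, 2, 1, 0], [0, 4, 7, 1], [0, 2, 2, 1], [3, 4, 3, 6, 1], [2, 3, 0, 4], [7, 4, 6], [1, 5, 5, 0, 0], [3, 4, 0, 4], [5, 5, 3, 3], [7, 5, 7, 0], [6, 0, 2, 6], [3, 0, 4, 1], [2, 6, 6, 1], [4, 2, 7], [7, 2, 2, 3], [5, 7, 1], [6, 7, 7, 3, 1], [2, 4, 3, 1, 0], [0, 1], [4, 6], [7, 4, 1, 0], [6, 4], [5, 4, 3, 1], [7, 0, 0, 1], [7, 6, 6, 1], [0, 5, 4, 3], [3, 6, 1, 6], [7, 3, 2], [6, 0, 1, 3], [5, 1, 0, 4], [0, 4, 6, 5], [4, 7, 5, 7], [3, 2, 7, 3], [6, 5, 1, 3], [0, 3, 0, 6], [6, 2, 0, 5], [1, 6, 3, 2], [7, 1, 4], [2, 1, 4, 2, 0], [5, 1, 4, 1], [6, 7, 0, 0, 0], [2, 7, 2, 3], [4, 7, 0, 0, 0], [0, 7, 2], [4, 6, 4, 0], [5, 2, 0, 2, 3], [1, 3, 2, 2], [2, 4, 7, 7, 1], [4, 2, 3, 4], [2, 5, 5, 6], [6, 7, 3, 1, 0], [6, 4, 2, 7], [7, 3, 1, 4], [3, 6, 5, 0], [7,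 7], [7, 0, 6, 3, 0], [5, 2, 5, 7], [5, 6, 1, 0], [7, 0, 0, 0], [4, 5, 4, 2], [0, 1, 6], [0, 4, 7, 7], [3, 0, 4, 1, 0], [1, 3], [7, 7, 0, 5], [0, 0, 4], [7, 0, 3, 5], [7, 2, 1, 0], [1, 4, 2, 1], [2, 5, 4, 3, 0], [3, 3, 3, 4], [6, 7, 0], [1, 6, 7, 1], [6, 0, 2, 7, 0], [3, 5, 3, 0], [2, 2, 5, 0], [6, 0, 3, 5, 0], [6, 7, 4, 3], [3, 5, 6, 6], [6, 7, 2, 0], [1, 5, 4, 1], [5, 5, 7, 6, 1], [5, 6, 0, 3], [2, 1, 7, 6], [2, 4, 0], [1, 0, 4, 0], [2, 6, 4, 0], [2, 7, 5], [0, 2, 5, 6], [1, 6, 3, 0], [5, 0], [7, 2, 0], [2, 5, 6, 1], [2, 1, 6, 5], [6, 4, 7, 1], [0, 4, 5, 6], [2, 4, 5, 1], [7, 6, 2, 0, 0], [6, 2, 5, 2], [2, 3, 6, 1], [5, 5, 2, 1], [3, 3, 5], [6, 0, 6, 3], [2, 4, 3, 3], [1, 4, 2, 3], [0, 0, 6], [5, 5, 4, 2], [0, 4, 0], [2, 6, 5, 2], [5, 3, 1, 7, 1], [3, 6, 3, 0, 0],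 [0, 3, 3, 4], [5, 0, 0, 4], [4, 2, 6, 1], [2, 7, 7, 4], [4, 2, 3, 3, 0], [5, 4, 5, 5, 0], [7, 1, 5, 1, 0], [5, 2, 7, 6, 1], [1, 6, 2], [4, 5, 4, 1, 0], [3, 2, 3, 1], [2, 1, 6, 6, 1], [5, 2, 0, 4], [0, 6, 7, 3], [2, 1, 5, 0], [3, 0, 3, 5, 0], [5, 2, 1], [2, 3, 0, 6], [2, 6, 3, 3, 2], [3, 2, 2, 6], [1, 5, 1, 4], [4, 0, 5, 0], [1, 5, 0, 1, 0], [5, 1, 0], [4, 6, 1], [5, 1, 3], [3, 7, 2], [2, 0, 4], [2, 4, 6, 5], [6, 3, 5, 4], [7, 7, 1, 0], [6, 7, 4, 5], [6, 5, 5, 1], [0, 5, 6], [7, 5, 0, 2, 0], [2, 2, 6, 1], [6, 5, 3, 4], [2, 6, 2], [4, 2, 2, 2], [4, 1, 4, 0], [2, 1, 7, 3], [1, 7, 1, 4, 1], [5, 0, 3, 0], [7, 0, 0, 5, 0], [1, 0, 3, 3], [6, 2, 2], [5, 6, 0, 1], [5, 3, 5, 5, 1], [5, 3, 5, 0], [4, 7, 6, 2], [2, 3, 4, 7], [7, 7, 2, 1, 0], [7, 5, 6, 3, 0], [1, 7, 7], [3, 4,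 3, 2], [7, 2, 6, 0, 1], [4, 2, 4, 2, 0], [7, 2, 7, 2, 2], [6, 0, 3, 2], [3, 3, 2, 6], [0, 2, 6], [0, 0, 6, 1], [6, 5, 1], [7, 3, 1, 0], [6, 1, 3, 4], [6, 0, 3, 0], [5, 1, 5, 1], [5, 1, 4, 6], [6, 6, 0, 1], [3, 4, 2, 2, 1], [3, 1, 6], [7, 6, 4, 0], [1, 6, 2, 7, 1], [7, 1, 3, 3], [0, 5, 4, 3, 0], [4, 5, 3, 2], [6, 3, 3, 2], [4, 1, 0, 0], [2, 2, 1, 3], [1, 4, 1, 7], [3, 4, 7], [5, 6, 2, 2], [3, 0, 6, 1, 0], [6, 3, 2, 3], [4, 2, 1, 3], [0, 1, 7, 6], [5, 4, 4, 5], [4, 3, 6, 1], [5, 2, 7, 5], [3, 1, 6, 5], [2, 0, 3, 1], [2, 7, 2], [5, 1, 7, 1], [0, 1, 7, 5], [1, 7, 6, 3], [1, 6, 7], [4, 7, 6, 4, 0], [3, 4], [3, 2, 5, 0, 0], [1, 3, 5, 5], [3, 7, 5], [7, 7, 6, 0, 2], [5, 2, 6, 4], [3, 6, 3, 1], [3, 5, 0, 6], [6, 2], [2, 3, 5, 0], [5, 2, 3, 3], [6, 5, 4, 1], [0, 0, 7, 0], [5,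 4, 5, 2], [0, 7, 4], [6, 4, 4, 3], [1, 3, 7, 6], [3, 4, 6], [0, 1, 5, 4], [4, 1, 6, 0, 1], [3, 3, 5, 3, 0], [1, 0, 6], [6, 2, 4, 2, 0], [4, 5, 6, 2], [7, 4, 7, 4], [6, 4, 2, 0], [6, 2, 1, 4, 0], [6, 4, 1, 3, 1], [0, 7, 6, 0, 1], [0, 6, 4, 0], [3, 7, 6, 5], [3, 5, 3, 1], [2, 4, 7, 1], [3, 6, 2, 1], [1, 6, 6, 1], [7, 0, 6, 1], [0, 3, 1], [3, 1, 5, 2], [4, 3, 1, 6], [1, 7, 5, 2], [6, 2, 5, 1], [0, 4, 5, 1], [1, 6, 5, 1], [4, 6, 3, 4], [4, 4, 1, 7], [5, 6, 5, 5, 1], [6, 0, 6, 6], [4, 6, 2, 0], [6, 1, 4], [0, 3, 5, 4, 0], [0, 7, 1, 7], [0, 7, 4, 0], [0, 5, 0, 0], [6, 1, 4, 0], [1, 7, 6, 3, 1], [7, 0, 1, 0, 0], [6, 0, 2, 1, 0], [7, 3, 7, 3], [3, 4, 7, 3, 0], [7, 2, 0, 4, 1], [0, 6, 3, 4], [0, 3, 0, 4], [0, 4, 1, 6], [7, 7, 4], [5, 6, 5, 2], [3, 7, 1, 7, 0], [6], [6, 4, 2,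 2], [5, 7, 6, 0, 3], [0, 7, 0, 2], [6, 2, 6, 3], [4, 1, 4, 2], [4, 0, 4, 2, 0], [3, 3, 5, 0], [3, 4, 3, 1], [4, 4, 5, 3], [7, 6, 0, 3], [2, 2, 7, 5], [6, 7, 6, 3, 0], [0, 5, 0, 1], [5, 3, 0, 1], [5, 3, 7, 4, 0], [7, 0, 5, 1, 0], [1, 6, 7, 0, 0], [2, 1, 4, 3, 0], [3, 3, 5, 3], [5, 6, 7, 0, 0], [4, 1, 5, 4], [0, 2, 1], [0, 6, 4, 7], [7, 7, 0, 4], [3, 6, 1, 0], [1, 4, 5], [3, 4, 3, 0], [2, 3, 4, 0], [5, 4, 2, 0], [0, 4, 1], [6, 6, 2, 0, 0], [7, 0], [6, 4, 4, 0], [4, 3, 0, 2], [6, 7, 5, 2], [7, 4, 3, 1], [2, 1, 0, 1], [7, 0, 4, 1], [4, 0, 4], [0, 7, 7, 2], [1, 3, 5, 2], [5, 4, 5, 3], [1, 0, 6, 2], [4, 2, 7, 0], [6, 0, 3, 3], [5, 0, 0, 4, 0], [4, 3, 5, 1], [1, 4, 5, 1], [5, 4, 0], [0, 5, 3, 0], [7, 6, 1, 7], [7, 7, 5, 2], [7, 5, 3, 2], [7, 7, 1, 0, 0], [1, 4, 4], [7, 5,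 3, 0], [7, 0, 6], [1, 5, 0, 3, 2], [6, 6, 3], [5, 3, 5, 2], [2, 0, 5, 0], [7, 3, 1], [3, 3, 5, 0, 0], [1, 0, 3, 2], [0, 2, 3, 4], [7, 5, 7, 1], [1, 6, 3], [3, 2, 5], [4, 1, 6, 1, 0], [4, 3, 6, 2, 0], [2, 5, 3, 0], [5, 0, 3, 2], [4, 3, 2, 3], [3, 2, 4, 6], [5, 3, 4, 2], [0, 1, 0, 1], [5, 5, 7, 3], [2, 2, 7, 3], [4, 6, 2, 2], [5, 7, 4, 0, 2], [4, 0, 4, 0], [6, 3, 5, 2], [2, 6, 7, 2], [3, 3, 0, 1], [1, 0, 1, 4, 0], [6, 7, 4, 7], [2, 7, 3, 2], [7, 7, 1], [5, 4, 1, 4], [1, 6, 1, 0, 0], [3, 0, 2, 5], [2, 7, 2, 0], [7, 3, 5, 1], [1, 5, 1], [6, 0, 1, 0], [7, 3], [4, 1, 4, 3], [0, 5, 3, 1], [3, 4, 0, 0, 0], [5, 7, 0, 3], [6, 1, 4, 1], [0, 4, 7], [6, 7, 5, 4], [4, 0, 4, 6, 2], [6, 6, 7, 1], [4, 6, 4], [6, 5, 5, 5, 0], [1, 7, 1, 0, 1], [7, 0, 5, 7, 0], [7, 0, 0], [4, 5, 6, 3],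 [0, 6, 2, 1], [4, 2, 4, 2], [5, 5, 7, 2, 2], [5, 4, 2], [2, 7, 1, 4], [1, 4, 0, 2, 0], [7, 6, 6, 6], [4, 7, 1], [2, 2, 1], [0, 4, 2, 5], [2, 1, 3], [3, 2, 0, 1], [4, 7, 2, 4, 0], [0, 2, 1, 6], [1], [2, 6, 0, 4], [0, 1, 3, 5, 1], [5, 4, 3], [1, 4, 3, 4], [3, 6, 3, 4], [1, 4, 4, 0], [1, 7, 0, 1], [3, 0, 6], [3, 6, 4, 0], [1, 7, 3, 3], [0, 0, 4, 6], [7, 1, 5, 5, 0], [1, 7, 6, 5, 0], [4, 6, 2, 0, 0], [0, 1, 3, 5], [1, 5, 6], [6, 5, 2], [7, 2, 6], [6, 4, 0, 2], [0, 5, 3], [5, 2, 6, 1], [0, 4], [5, 4, 0, 7], [6, 7, 2, 2], [1, 5, 0, 0, 0], [6, 0, 3, 0, 0], [4, 3, 3], [6, 3, 2, 2], [2, 6, 7, 0], [3, 6, 1], [1, 6, 0, 0, 0], [5, 2, 3, 0, 0], [3, 1, 6, 2], [7, 3, 5, 2], [3, 4, 6, 1], [0, 2, 0, 1], [6, 5, 2, 5], [4, 0], [2, 4, 3, 0, 1], [4, 4, 4, 3, 1], [3, 3, 4], [5, 5, 1, 0],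 [0, 5, 2, 5], [1, 7, 4, 0, 2], [2, 5, 4, 3], [3, 0, 2, 6], [6, 7, 3], [7, 3, 1, 6], [3, 0, 7, 4], [4, 2, 4, 6], [4, 6, 2, 1], [7, 6, 5, 2], [6, 1, 6], [0, 5, 6, 1], [6, 0, 6], [5, 6, 6], [3, 3, 3, 0, 1], [3, 4, 0, 4, 0], [6, 3, 6, 2], [6, 0, 5, 3, 0], [7, 0, 3, 2], [0, 4, 2, 4, 0], [7, 0, 7, 1], [5, 6, 4, 4], [4, 2, 0, 0, 0], [3, 4, 7, 1], [1, 4, 7, 5, 1], [6, 0, 2, 2, 1], [7, 3, 5, 3], [0, 2, 5, 0], [0, 0, 7, 3], [2, 6, 3, 2, 0], [2, 0, 7, 4, 0], [0, 6, 1], [2, 2, 0, 3, 1], [4, 5, 7, 0, 0], [3, 7, 3], [1, 3, 6, 6], [5, 4, 3, 0], [5, 7, 2, 2], [7, 2, 1, 7, 1], [0, 7, 2, 3], [0, 7, 5, 1], [2, 2, 0, 6], [0, 6, 3, 1], [4, 2, 2, 3], [0, 5, 5, 6], [0, 5], [1, 7, 5], [0, 1, 5, 2, 0], [6, 5, 0, 1, 0], [3, 0, 4, 0], [6, 7, 0, 7], [0, 3, 7, 0, 0], [7, 6, 5, 0], [5, 0, 0, 0,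 0], [7, 2, 0, 1], [5, 2, 1, 3], [4, 5, 6, 7], [7, 2, 2, 5, 0], [1, 5, 5], [2, 5, 1, 7, 1], [7, 0, 3, 0], [0, 6, 5, 3], [7, 6, 0, 1], [0, 2, 5, 0, 0], [7, 3, 4, 2], [3, 1], [3, 6, 4, 0, 2], [4, 5, 1], [0, 2, 4, 1], [1, 6, 6, 7, 0], [7, 3, 4, 5, 1], [3, 7, 0], [3, 5, 4, 0], [7, 4, 0], [4, 2, 7, 2], [2, 7, 5, 2, 0], [3, 7, 7, 1], [4, 1, 6], [6, 2, 6, 2], [1, 7], [1, 0, 7, 3], [6, 3, 3, 5], [6, 1, 7, 5], [2, 1, 5, 6], [0, 5, 0, 6], [3, 5, 7, 2, 0], [5, 5, 2, 1, 0], [2, 4, 5, 6], [1, 4, 3, 2], [7, 5, 5, 3], [7, 4, 0, 7], [2, 1], [6, 4, 7], [3, 4, 5, 1], [5, 7, 2, 0], [4, 1], [3, 3, 7, 0], [3, 2, 3, 5], [0, 6, 5, 1, 0], [7, 1, 6, 5, 0], [3, 4, 5, 1, 0], [7, 2, 6, 1], [3, 5, 6, 1], [2, 3, 5], [4, 7, 4, 1], [5, 3, 0], [1, 4, 7], [5, 7, 1, 7], [6, 0, 7, 3], [7, 4, 3], [5, 5,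 0, 3, 0], [2, 3, 4], [5, 3, 6, 4, 0], [6, 2, 0, 6], [6, 7, 1, 4], [4, 5, 1, 0], [1, 6, 5, 3, 1], [2, 3, 5, 3], [2, 7, 3], [1, 0, 7, 6], [0, 1, 3, 3], [6, 4, 3, 2], [7, 6, 7, 5], [2, 7, 0, 0], [6, 4, 1, 4, 0], [4, 3, 4, 4], [4, 0, 3, 0, 0], [7, 7, 2, 5, 1], [5, 2, 4, 4], [6, 0, 2, 1], [5, 5, 0, 5], [4, 5, 2, 1], [0, 4, 2, 7], [4, 0, 0, 4], [2, 7, 7, 1], [4, 2, 5], [1, 0, 6, 6], [2, 1, 6], [2, 6, 4, 2], [2, 3, 2, 6], [0, 0, 1], [0, 4, 6], [7, 7, 4, 0, 2], [4, 2, 0, 7], [4, 5, 7, 3, 0], [0, 6, 4], [3, 4, 4, 1], [6, 3, 4, 7], [6, 7, 2], [7, 0, 7, 0], [3, 5, 1, 3], [6, 6, 5, 1], [7, 5, 0, 4], [5, 3, 5, 4], [6, 4, 5, 1], [4, 0, 3, 2, 0], [5, 7, 4, 5], [4, 7, 7, 0], [2, 0, 0, 4], [0, 4, 1, 0], [5, 5, 7, 3, 0], [5, 6, 1], [1, 3, 0, 1], [1, 6, 3, 5], [1, 3, 4, 7], [4, 2, 1,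 7], [4, 2, 4, 0], [6, 5, 7, 4, 1], [7, 3, 7, 4], [2, 5, 0], [1, 4, 2, 0], [0, 0, 6, 7, 0], [2, 3, 4, 1], [2, 0, 6, 4], [4, 7, 6, 1], [7, 2, 3], [6, 1, 0, 2, 1], [2, 4, 1, 0], [4, 7, 0, 4], [0, 3, 4, 0], [3, 7, 0, 0], [2, 7, 7, 2], [2, 2, 4, 0], [0, 0, 7, 2], [4, 4, 1], [3, 6, 6, 3], [5, 7, 0, 2], [6, 5, 0], [2, 4, 1], [5, 7, 7, 0, 0], [4, 0, 7, 2], [5, 3, 3, 3, 0], [3, 5, 2, 1], [2, 7, 0, 3], [5, 0, 6, 6], [5, 1, 0, 2], [5, 6, 3, 1, 0], [7, 1, 0, 2], [2, 5, 6, 7], [6, 4, 1, 7], [4, 4, 3, 5, 0], [0, 7, 7], [5, 2, 7, 4, 1], [4, 0, 6, 3], [4, 0, 7, 0], [4, 3, 3, 7, 2], [2, 1, 7], [2, 4, 0, 3], [6, 0, 0, 4], [3, 0, 3, 1], [1, 3, 3], [5, 7, 6, 3], [0, 0, 1, 6], [4, 4, 2, 1], [5, 4, 4, 0, 1], [2, 5, 3], [1, 7, 0, 1, 0], [0, 1, 3], [4, 3, 5, 0, 0], [2, 0, 7, 2], [0, 0, 0,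 4], [5, 2, 3], [4, 4, 7, 3], [7, 3, 2, 2], [7, 0, 6, 6], [0, 1, 4, 2, 1], [4, 1, 0], [3, 2, 1], [5, 7, 7, 7], [4, 2, 0, 2, 0], [7, 5, 0, 5], [0, 6, 7, 0], [5, 6, 7], [6, 3, 4, 1, 0], [7, 7, 6, 2], [3, 4, 0], [7, 4, 3, 0], [1, 4, 4, 3], [0, 2, 2, 5, 0], [2, 4, 2, 5], [0, 0, 5, 0], [2, 5, 3, 1], [6, 6, 4, 4, 0], [0, 6, 7, 2, 0], [4, 6, 6, 2, 0], [5, 7, 5, 3, 0], [6, 3, 7, 3], [0, 3, 3, 1], [5, 4, 6, 5], [3, 7, 2, 3], [5, 0, 4, 7, 2], [0, 2, 4, 0], [2, 1, 0, 4, 0], [0, 1, 0, 4, 0], [4, 7, 6], [2, 0, 0, 1], [2, 5, 7, 2, 0], [2, 4, 7], [4, 4, 7, 2], [7, 0, 7], [0, 5, 0], [0, 4, 4, 4], [3, 3, 1], [6, 1, 0, 6], [7, 0, 0, 0, 0], [7, 7, 2, 2], [5, 0, 7], [4, 4, 4], [5, 1, 3, 4], [6, 3, 5, 0]]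

def m12Gens0 : List ℕ := [840729238061688592069076144209592454, 861542746572299057575212221317876256]
def m12Tree0 : List (ℕ × ℕ × ℕ) := [(6, 0, 0), (15, 6, 0), (1, 6, 1), (3, 15, 0), (9, 15, 1), (4, 1, 0), (17, 1, 1), (2, 3, 0), (5, 9, 1), (10, 17, 1), (8, 5, 0)]
def m12Gens1 : List ℕ := [307101608998068373421900919501655584]
def m12Tree1 : List (ℕ × ℕ × ℕ) := [(17, 1, 0), (4, 17, 0), (8, 4, 0), (2, 8, 0), (3, 2, 0), (5, 3, 0), (9, 5, 0), (6, 9, 0), (10, 6, 0), (15, 10, 0)]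
def m12Gens2 : List ℕ := [855895765439921734645940643558432800, 567923417955317868541223472834352160]
def m12Tree2 : List (ℕ × ℕ × ℕ) := [(8, 2, 0), (5, 2, 1), (17, 8, 0), (3, 8, 1), (4, 5, 1), (9, 17, 0), (10, 3, 1), (6, 10, 0), (15, 6, 0)]
def m12Gens3 : List ℕ := [983114479500887568959290245577345056, 561548127812915947332919300102228000]
def m12Tree3 : List (ℕ × ℕ × ℕ) := [(5, 3, 0), (6, 3, 1), (17, 5, 0), (15, 5, 1), (8, 6, 0), (10, 6, 1), (9, 15, 0), (4, 8, 0)]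
def m12Gens4 : List ℕ := [932855694972972591231736865702905888, 680741985038306602728348918842755104]
def m12Tree4 : List (ℕ × ℕ × ℕ) := [(15, 4, 0), (9, 4, 1), (10, 15, 0), (17, 15, 1), (5, 9, 0), (8, 10, 0), (6, 10, 1)]
def m12Levels : List (ℕ × List ℕ × List (ℕ × ℕ × ℕ)) :=
  [(0, m12Gens0, m12Tree0), (1, m12Gens1, m12Tree1), (2, m12Gens2, m12Tree2), (3, m12Gens3, m12Tree3), (4, m12Gens4, m12Tree4)]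

def list72 : List ℕ := [984818244535754528103549039458486304, 312285355390548198233592884127434784, 798866382324465456966349450561816608, 487616041172978902898937048930027552, 680741985038306602728348918842755104, 596693935057177821627616253167372320, 932855694972972591231736865702905888, 523871016866241286772790268246722592, 858949410588062151349278852544333856, 483844979127164432179002339570616352, 316098014123586270379931508140017696, 522492210108188144275221261439862816, 891440084380668137666183104591693856, 596738379696408251190632149984348192, 757325713155598790402528545518782496, 805354221574628851620458797573736480, 564023005545664326697793580208130080, 944525678939461982464084020058818592, 983114479500887568959290245577345056, 763572454081253855510494153451669536,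 891304675830064775489958013723379744, 806409259486058949597788387347171360, 610567220055306514578258606788085792, 523782664931053193994785216789645344, 764874334996072903210197787885111328, 561548127812915947332919300102228000, 845928067797247604214473723502331936, 522606337502131146839831030052096032, 680499748993068815338029431726999584, 476055258459344907111646401759741984, 610976555568331023305579807391287328, 940765866678579780067154313688057888, 899214583888558003150069357295700000, 561514285162707442948266722614052896, 674210696610656582747508359002589216, 316178298519490163649902030864255008, 609272950840352688830935139408414752, 806614503716222059404752332486084640, 932964751339393093364164438774777888, 859801155349116146019819546429622304, 765073701293696166346404949835155488,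 944294774572206856336090623719540768, 483478665938771009345129227184539680, 798823512074428879819889637572511776, 970531819526550031117983620406741024, 565327430457899886561268023150544928, 314798670943721923240829786132875296, 860195471863206499356624230234228768, 858491673708910280360910572945213472, 984404951986650291017642929327245344, 674252874117903267493297986162984992, 902743922576251955819294689960724512, 763819876514324904847158402187855904, 520017782183680231973171315858540576, 314922016620115819322493181774596128, 940387876620171959146530426437568544, 898863637016762057656981700776265760, 681796543885000279811851791679064096, 845957262214500392360261753352194080, 983553010088178266402939871779325984, 487374150087885739724361845178861600, 519969189361973090358309401101043744,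 565402183042051720333472521821587488, 805113713307206228850872452665280544, 564150615848193157778515083214227488, 682000405645323456432232634794936352, 312324614376254462140892986289457184, 903001293869635126013296170630678560, 970579874927688723303984334079821856, 609715322407751129443753868486281248, 475934640003503041669284490304325664, 757289066455260142361759855112914976]

def qx : ℕ := 312285355390548198233592884127434784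
def qy : ℕ := 798866382324465456966349450561816608

theorem D0_lt : D0 < 16777216 := by decide

set_option maxRecDepth 1000000 in
theorem dodReach_ok : encSet.reachOK mgens8 D0 dodList dodWords = true := by decide +kernel

theorem m12_gens_ok : (chainGens m12Levels).all
    (fun S => isAutC S && Nat.beq (pmask S D0) D0) = true := by decide +kernel

set_option maxRecDepth 100000 in
theorem m12_prod : dodList.length * chainProd 0 m12Levels = 244823040 := by decide +kernel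

theorem stab_D0_facts :
    stabM (fset D0) = genSubgroup (chainGens m12Levels) ∧
      Nat.card (stabM (fset D0)) = chainProd 0 m12Levels ∧
      (orbM (fset D0)).ncard = dodList.length ∧
      ∀ y ∈ orbM (fset D0), ∃ b ∈ dodList, encSet.dec b = y :=
  stab_eq_gen encSet D0 D0_lt dodList dodList_nodup
    dodFamily.canon mgens8 (fun S hS => List.all_eq_true.1 mgens8_ok S hS) dodWords dodReach_ok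
    m12Levels (fun S hS => by
      have := List.all_eq_true.1 m12_gens_ok S hS
      rw [Bool.and_eq_true] at this
      exact this) m12_prod

theorem chainProd_m12 : chainProd 0 m12Levels = 95040 := by decide +kernel

theorem card_stabM_D0 : Nat.card (stabM (fset D0)) = 95040 := by
  rw [stab_D0_facts.2.1, chainProd_m12]

/-- `M24` is transitive on dodecads. -/
theorem exists_smul_D0_eq {d : Finset GolayPt} (hd : d ∈ dodecads) :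
    ∃ g ∈ M24, g • fset D0 = d := by
  have hreach := encSet.reach_spec mgens8 D0 D0_lt M24
    (fun S hS => ⟨isPerm_of_isAutC (List.all_eq_true.1 mgens8_ok S hS),
      permC_mem_M24 (List.all_eq_true.1 mgens8_ok S hS)⟩) dodList dodWords dodReach_ok
    (fmask d) ((fmask_mem_dodList_iff d).2 hd)
  obtain ⟨u, hu, hud⟩ := hreach
  refine ⟨u, hu, ?_⟩
  show u • encSet.dec D0 = d
  rw [hud]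
  exact fset_fmask d

/-! ### The chain of point stabilisers -/

def K0 : Subgroup (Equiv.Perm GolayPt) := stabM (fset D0)
def K1 : Subgroup (Equiv.Perm GolayPt) :=
  K0 ⊓ MulAction.stabilizer (Equiv.Perm GolayPt) (P 0)
def K2 : Subgroup (Equiv.Perm GolayPt) :=
  K1 ⊓ MulAction.stabilizer (Equiv.Perm GolayPt) (P 1)
def K3 : Subgroup (Equiv.Perm GolayPt) :=
  K2 ⊓ MulAction.stabilizer (Equiv.Perm GolayPt) (P 2)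

theorem mem_K0 {S : ℕ} (h : isAutC S = true) (h' : Nat.beq (pmask S D0) D0 = true) :
    permC S ∈ K0 := by
  show permC S ∈ stabM (fset D0)
  rw [mem_stabM]
  refine ⟨permC_mem_M24 h, ?_⟩
  rw [permC_smul_fset (isPerm_of_isAutC h) D0_lt, Nat.eq_of_beq_eq_true h']

theorem mem_stab_P {S : ℕ} (h : isPerm S = true) (i : ℕ) (hi : i < 24)
    (h' : Nat.beq (papp S i) i = true) :
    permC S ∈ MulAction.stabilizer (Equiv.Perm GolayPt) (P i hi) := by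
  rw [MulAction.mem_stabilizer_iff]
  exact permC_ptOf h i hi i hi (Nat.eq_of_beq_eq_true h')

theorem lv_ok : m12Gens0.all (fun S => isAutC S && Nat.beq (pmask S D0) D0) = true ∧
    m12Gens1.all (fun S => isAutC S && Nat.beq (pmask S D0) D0 && Nat.beq (papp S 0) 0) = true ∧
    m12Gens2.all (fun S => isAutC S && Nat.beq (pmask S D0) D0 && Nat.beq (papp S 0) 0 &&
      Nat.beq (papp S 1) 1) = true := by decide +kernel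

theorem gens0_mem : ∀ S ∈ m12Gens0, isPerm S = true ∧ permC S ∈ K0 := by
  intro S hS
  have := List.all_eq_true.1 lv_ok.1 S hS
  rw [Bool.and_eq_true] at this
  exact ⟨isPerm_of_isAutC this.1, mem_K0 this.1 this.2⟩

theorem gens1_mem : ∀ S ∈ m12Gens1, isPerm S = true ∧ permC S ∈ K1 := by
  intro S hS
  have := List.all_eq_true.1 lv_ok.2.1 S hS
  simp only [Bool.and_eq_true] at this
  obtain ⟨⟨h1, h2⟩, h3⟩ := this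
  have hP := isPerm_of_isAutC h1
  exact ⟨hP, Subgroup.mem_inf.2 ⟨mem_K0 h1 h2, mem_stab_P hP 0 (by norm_num) h3⟩⟩

theorem gens2_mem : ∀ S ∈ m12Gens2, isPerm S = true ∧ permC S ∈ K2 := by
  intro S hS
  have := List.all_eq_true.1 lv_ok.2.2 S hS
  simp only [Bool.and_eq_true] at this
  obtain ⟨⟨⟨h1, h2⟩, h3⟩, h4⟩ := this
  have hP := isPerm_of_isAutC h1
  exact ⟨hP, Subgroup.mem_inf.2 ⟨Subgroup.mem_inf.2 ⟨mem_K0 h1 h2,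
    mem_stab_P hP 0 (by norm_num) h3⟩, mem_stab_P hP 1 (by norm_num) h4⟩⟩

theorem trees_ok : treeRun m12Gens0 (1 <<< 0) m12Tree0 = D0 ∧
    treeRun m12Gens1 (1 <<< 1) m12Tree1 = D0 - 1 ∧
    treeRun m12Gens2 (1 <<< 2) m12Tree2 = D0 - 3 := by decide +kernel

theorem reach_of_tree (K : Subgroup (Equiv.Perm GolayPt)) (gens : List ℕ)
    (hgens : ∀ S ∈ gens, isPerm S = true ∧ permC S ∈ K) (b : ℕ) (hb : b < 24)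
    (tree : List (ℕ × ℕ × ℕ)) (p : GolayPt)
    (hbit : (treeRun gens (1 <<< b) tree).testBit (ptIdx p) = true) :
    ∃ u ∈ K, u (P b hb) = p := by
  have key := treeRun_spec K gens hgens (P b hb) tree (1 <<< b) (by
    intro i hi hbit
    rw [Nat.one_shiftLeft, Nat.testBit_two_pow] at hbit
    have : b = i := by simpa using hbit
    subst this
    exact ⟨1, K.one_mem, rfl⟩) (ptIdx p) (ptIdx p).isLt hbit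
  obtain ⟨u, hu, hup⟩ := key
  refine ⟨u, hu, ?_⟩
  rw [hup]
  exact ptOf_ptIdx p

theorem bits_D0 : ∀ j : Fin 24, D0.testBit j = true →
    ((j : ℕ) ≠ 0 → (D0 - 1).testBit j = true) ∧
    ((j : ℕ) ≠ 0 → (j : ℕ) ≠ 1 → (D0 - 3).testBit j = true) := by decide +kernel

theorem ptIdx_ne_of_ne {p : GolayPt} {i : ℕ} (hi : i < 24) (h : p ≠ P i hi) :
    ((ptIdx p : Fin 24) : ℕ) ≠ i := by
  intro hcon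
  apply h
  rw [← P_ptIdx p]
  simp only [hcon]

/-- The stabiliser of the base dodecad is 3-transitive on it (and `M24` is transitive on
dodecads). -/
theorem exists_map3 {d : Finset GolayPt} (hd : d ∈ dodecads) {p q r : GolayPt} (hp : p ∈ d)
    (hq : q ∈ d) (hr : r ∈ d) (hpq : p ≠ q) (hpr : p ≠ r) (hqr : q ≠ r) :
    ∃ u ∈ M24, u • fset D0 = d ∧ u (P 0) = p ∧ u (P 1) = q ∧ u (P 2) = r := by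
  obtain ⟨u1, hu1, hu1d⟩ := exists_smul_D0_eq hd
  have hback : ∀ (v : Equiv.Perm GolayPt), v • fset D0 = d → ∀ s ∈ d, v⁻¹ s ∈ fset D0 := by
    intro v hv s hs
    rw [← hv] at hs
    obtain ⟨t, ht, rfl⟩ := Finset.mem_smul_finset.1 hs
    simpa using ht
  -- first point
  have hp1 := hback u1 hu1d p hp
  obtain ⟨m1, hm1, hm1p⟩ := reach_of_tree K0 m12Gens0 gens0_mem 0 (by norm_num) m12Tree0 (u1⁻¹ p)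
    (by rw [trees_ok.1]; exact (mem_fset _ _).1 hp1)
  have hm1' := (mem_stabM (fset D0) m1).1 hm1
  have hv1 : (u1 * m1) • fset D0 = d := by rw [mul_smul, hm1'.2, hu1d]
  -- second point
  have hq1 := hback (u1 * m1) hv1 q hq
  have hq1ne : (u1 * m1)⁻¹ q ≠ P 0 := by
    intro h
    apply hpq
    have : (u1 * m1) (P 0) = p := by rw [Equiv.Perm.mul_apply, hm1p]; simp
    rw [← this, ← h]; simp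
  obtain ⟨m2, hm2, hm2q⟩ := reach_of_tree K1 m12Gens1 gens1_mem 1 (by norm_num) m12Tree1
    ((u1 * m1)⁻¹ q) (by
      rw [trees_ok.2.1]
      exact (bits_D0 _ ((mem_fset _ _).1 hq1)).1 (ptIdx_ne_of_ne (by norm_num) hq1ne))
  have hm2' := Subgroup.mem_inf.1 hm2
  have hm2K0 := (mem_stabM (fset D0) m2).1 hm2'.1
  have hm2P0 : m2 (P 0) = P 0 := MulAction.mem_stabilizer_iff.1 hm2'.2
  have hv2 : (u1 * m1 * m2) • fset D0 = d := by rw [mul_smul, hm2K0.2, hv1]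
  -- third point
  have hr1 := hback (u1 * m1 * m2) hv2 r hr
  have e0 : (u1 * m1 * m2) (P 0) = p := by
    rw [Equiv.Perm.mul_apply, hm2P0, Equiv.Perm.mul_apply, hm1p]; simp
  have e1 : (u1 * m1 * m2) (P 1) = q := by
    rw [Equiv.Perm.mul_apply, hm2q]; simp
  have hr1ne0 : (u1 * m1 * m2)⁻¹ r ≠ P 0 := by
    intro h
    apply hpr
    rw [← e0, ← h]; simp
  have hr1ne1 : (u1 * m1 * m2)⁻¹ r ≠ P 1 := by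
    intro h
    apply hqr
    rw [← e1, ← h]; simp
  obtain ⟨m3, hm3, hm3r⟩ := reach_of_tree K2 m12Gens2 gens2_mem 2 (by norm_num) m12Tree2
    ((u1 * m1 * m2)⁻¹ r) (by
      rw [trees_ok.2.2]
      exact (bits_D0 _ ((mem_fset _ _).1 hr1)).2 (ptIdx_ne_of_ne (by norm_num) hr1ne0)
        (ptIdx_ne_of_ne (by norm_num) hr1ne1))
  have hm3' := Subgroup.mem_inf.1 hm3
  have hm3'' := Subgroup.mem_inf.1 hm3'.1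
  have hm3K0 := (mem_stabM (fset D0) m3).1 hm3''.1
  have hm3P0 : m3 (P 0) = P 0 := MulAction.mem_stabilizer_iff.1 hm3''.2
  have hm3P1 : m3 (P 1) = P 1 := MulAction.mem_stabilizer_iff.1 hm3'.2
  refine ⟨u1 * m1 * m2 * m3, M24.mul_mem (M24.mul_mem (M24.mul_mem hu1 hm1'.1) hm2K0.1) hm3K0.1,
    ?_, ?_, ?_, ?_⟩
  · rw [mul_smul, hm3K0.2, hv2]
  · rw [Equiv.Perm.mul_apply, hm3P0, e0]
  · rw [Equiv.Perm.mul_apply, hm3P1, e1]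
  · rw [Equiv.Perm.mul_apply, hm3r]; simp

/-! ### The stabiliser of the dodecad and three of its points -/

theorem pops_ok : popcF (treeRun m12Gens0 (1 <<< 0) m12Tree0 &&& 16777215) = 12 ∧
    popcF (treeRun m12Gens1 (1 <<< 1) m12Tree1 &&& 16777215) = 11 ∧
    popcF (treeRun m12Gens2 (1 <<< 2) m12Tree2 &&& 16777215) = 10 := by decide +kernel

theorem card_K3_le : Nat.card K3 ≤ 72 := by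
  have h0 := chain_step K0 0 (by norm_num) m12Gens0 gens0_mem m12Tree0
  have h1 := chain_step K1 1 (by norm_num) m12Gens1 gens1_mem m12Tree1
  have h2 := chain_step K2 2 (by norm_num) m12Gens2 gens2_mem m12Tree2
  rw [pops_ok.1] at h0
  rw [pops_ok.2.1] at h1
  rw [pops_ok.2.2] at h2
  have hK0 : Nat.card K0 = 95040 := card_stabM_D0
  change 12 * Nat.card K1 ≤ Nat.card K0 at h0
  change 11 * Nat.card K2 ≤ Nat.card K1 at h1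
  change 10 * Nat.card K3 ≤ Nat.card K2 at h2
  omega

theorem list72_ok : list72.all (fun S => isAutC S && Nat.beq (pmask S D0) D0 &&
    Nat.beq (papp S 0) 0 && Nat.beq (papp S 1) 1 && Nat.beq (papp S 2) 2) = true := by
  decide +kernel

theorem list72_aut {S : ℕ} (hS : S ∈ list72) : isAutC S = true := by
  have := List.all_eq_true.1 list72_ok S hS
  simp only [Bool.and_eq_true] at this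
  exact this.1.1.1.1

theorem list72_mem {S : ℕ} (hS : S ∈ list72) : permC S ∈ K3 := by
  have := List.all_eq_true.1 list72_ok S hS
  simp only [Bool.and_eq_true] at this
  obtain ⟨⟨⟨⟨h1, h2⟩, h3⟩, h4⟩, h5⟩ := this
  have hP := isPerm_of_isAutC h1
  exact Subgroup.mem_inf.2 ⟨Subgroup.mem_inf.2 ⟨Subgroup.mem_inf.2 ⟨mem_K0 h1 h2,
    mem_stab_P hP 0 (by norm_num) h3⟩, mem_stab_P hP 1 (by norm_num) h4⟩,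
    mem_stab_P hP 2 (by norm_num) h5⟩

theorem list72_keys : (list72.map fun S => (papp S 3, papp S 4)).Nodup := by decide +kernel

theorem list72_length : list72.length = 72 := by decide +kernel

theorem list72_inj : ∀ S ∈ list72, ∀ S' ∈ list72, permC S = permC S' → S = S' := by
  intro S hS S' hS' h
  have hP := isPerm_of_isAutC (list72_aut hS)
  have hP' := isPerm_of_isAutC (list72_aut hS')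
  apply List.inj_on_of_nodup_map list72_keys hS hS'
  have h3 := ptIdx_permC hP (P 3)
  have h3' := ptIdx_permC hP' (P 3)
  have h4 := ptIdx_permC hP (P 4)
  have h4' := ptIdx_permC hP' (P 4)
  rw [ptIdx_P] at h3 h3' h4 h4'
  rw [h] at h3 h4
  show (papp S 3, papp S 4) = (papp S' 3, papp S' 4)
  rw [← h3, ← h4, h3', h4']

/-- The stabiliser consists exactly of the 72 listed elements. -/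
theorem K3_eq : ((K3 : Subgroup (Equiv.Perm GolayPt)) : Set (Equiv.Perm GolayPt)) =
    {g | ∃ S ∈ list72, permC S = g} := by
  symm
  have hn : ({g | ∃ S ∈ list72, permC S = g} : Set (Equiv.Perm GolayPt)).ncard = list72.length :=
    ncard_eq_length permC list72 (List.Nodup.of_map _ list72_keys) list72_inj _ (fun a => Iff.rfl)
  apply Set.eq_of_subset_of_ncard_le
  · rintro g ⟨S, hS, rfl⟩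
    exact list72_mem hS
  · rw [hn, list72_length]
    exact card_K3_le
  · exact Set.toFinite _

theorem K3_complete {g : Equiv.Perm GolayPt} (hg : g ∈ K3) : ∃ S ∈ list72, permC S = g := by
  have : g ∈ ((K3 : Subgroup (Equiv.Perm GolayPt)) : Set (Equiv.Perm GolayPt)) := hg
  rw [K3_eq] at this
  exact this

theorem card_K3 : Nat.card K3 = 72 := by
  have : Nat.card K3 = ((K3 : Subgroup (Equiv.Perm GolayPt)) : Set (Equiv.Perm GolayPt)).ncard := rfl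
  rw [this, K3_eq]
  have hn : ({g | ∃ S ∈ list72, permC S = g} : Set (Equiv.Perm GolayPt)).ncard = list72.length :=
    ncard_eq_length permC list72 (List.Nodup.of_map _ list72_keys) list72_inj _ (fun a => Iff.rfl)
  rw [hn, list72_length]

theorem mem_K3_iff (g : Equiv.Perm GolayPt) : g ∈ K3 ↔
    g ∈ M24 ∧ g • fset D0 = fset D0 ∧ g (P 0) = P 0 ∧ g (P 1) = P 1 ∧ g (P 2) = P 2 := by
  unfold K3 K2 K1 K0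
  rw [Subgroup.mem_inf, Subgroup.mem_inf, Subgroup.mem_inf, mem_stabM,
    MulAction.mem_stabilizer_iff, MulAction.mem_stabilizer_iff, MulAction.mem_stabilizer_iff]
  constructor
  · rintro ⟨⟨⟨⟨h1, h2⟩, h3⟩, h4⟩, h5⟩
    exact ⟨h1, h2, h3, h4, h5⟩
  · rintro ⟨h1, h2, h3, h4, h5⟩
    exact ⟨⟨⟨⟨h1, h2⟩, h3⟩, h4⟩, h5⟩

end Cfsg.Agent.Lib.Helper93.Golay
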