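import Cfsg.Agent.Lib.Helper93.StabOctad

set_option autoImplicit false

namespace Cfsg.Agent.Lib.Helper93.Golay

open Cfsg
open scoped Pointwise

/-! ### Pairs of octads -/

theorem fmask_O0 : fmask O0 = 5279 := fmask_fset' (by norm_num)

theorem octCls_fmask (o : Finset GolayPt) : octCls (fmask o) = (O0 ∩ o).card := by
  unfold octCls
  rw [← fmask_O0, ← fmask_inter, popcF_fmask, Finset.inter_comm]

theorem octCls_eq {m : ℕ} (hm : m < 16777216) : octCls m = (O0 ∩ fset m).card := by
  rw [← octCls_fmask, fmask_fset' hm]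

/-- Two distinct octads meet in 0, 2 or 4 points. -/
theorem octad_inter_cases {o o' : Finset GolayPt} (ho : o ∈ octads) (ho' : o' ∈ octads)
    (hne : o ≠ o') : (o ∩ o').card = 0 ∨ (o ∩ o').card = 2 ∨ (o ∩ o').card = 4 := by
  have heven := even_card_inter_supports ho.1 ho'.1
  have hlt : (o ∩ o').card < 5 := by
    by_contra h
    exact hne (octad_eq_of_card_inter ho ho' (by omega))
  obtain ⟨r, hr⟩ := heven
  omega

theorem octReps_mem : octRep0 ∈ octList ∧ octRep2 ∈ octList ∧ octRep4 ∈ octList := by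
  decide +kernel

theorem octReps_cls : octCls octRep0 = 0 ∧ octCls octRep2 = 2 ∧ octCls octRep4 = 4 := by
  decide +kernel

/-- A pair of octads can be mapped from the base octad and the representative of its class. -/
theorem exists_pair_map_aux {o o' : Finset GolayPt} (ho : o ∈ octads) (ho' : o' ∈ octads)
    (k : ℕ) (hk : (o ∩ o').card = k) (rep : ℕ) (hrep : rep ∈ octList) (hc : octCls rep = k)
    (words : List (List ℕ))
    (hreach : encSet.reachOK (chainGens octStabLevels) rep
      (octList.filter fun l => Nat.beq (octCls l) k) words = true) :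
    ∃ g ∈ M24, g • O0 = o ∧ g • fset rep = o' := by
  obtain ⟨g₁, hg₁, hgo⟩ := exists_smul_O0_eq ho
  have ho'' : g₁⁻¹ • o' ∈ octads := smul_mem_octads_of_mem_M24 (M24.inv_mem hg₁) ho'
  have hcard : (O0 ∩ g₁⁻¹ • o').card = k := by
    rw [← hk, ← hgo]
    have : g₁ • (O0 ∩ g₁⁻¹ • o') = g₁ • O0 ∩ o' := by
      rw [Finset.smul_finset_inter, smul_inv_smul]
    rw [← this]
    exact (Finset.card_smul_finset g₁ _).symm
  have hmem : fmask (g₁⁻¹ • o') ∈ octList.filter (fun l => Nat.beq (octCls l) k) := by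
    rw [List.mem_filter]
    refine ⟨(fmask_mem_octList_iff _).2 ho'', ?_⟩
    rw [octCls_fmask, hcard]
    exact Nat.beq_refl k
  have hrs := encSet.reach_spec (chainGens octStabLevels) rep
    (Nat.le_of_ble_eq_true (octFamily.canon rep hrep)) (stabM O0)
    (fun S hS => ⟨isPerm_of_isAutC (octStab_gens_aut S hS), by
      rw [stab_O0_facts.1]; exact permC_mem_genSubgroup hS⟩) _ words hreach _ hmem
  obtain ⟨h, hh, hhr⟩ := hrs
  rw [mem_stabM] at hh
  refine ⟨g₁ * h, M24.mul_mem hg₁ hh.1, ?_, ?_⟩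
  · rw [mul_smul, hh.2, hgo]
  · have : h • fset rep = g₁⁻¹ • o' := by
      have e : encSet.dec rep = fset rep := rfl
      have e' : encSet.dec (fmask (g₁⁻¹ • o')) = g₁⁻¹ • o' := fset_fmask _
      rw [← e, hhr, e']
    rw [mul_smul, this, smul_inv_smul]

theorem exists_pair_map0 {o o' : Finset GolayPt} (ho : o ∈ octads) (ho' : o' ∈ octads)
    (hk : (o ∩ o').card = 0) : ∃ g ∈ M24, g • O0 = o ∧ g • fset octRep0 = o' :=
  exists_pair_map_aux ho ho' 0 hk octRep0 octReps_mem.1 octReps_cls.1 octClsWords0 octReach0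

theorem exists_pair_map2 {o o' : Finset GolayPt} (ho : o ∈ octads) (ho' : o' ∈ octads)
    (hk : (o ∩ o').card = 2) : ∃ g ∈ M24, g • O0 = o ∧ g • fset octRep2 = o' :=
  exists_pair_map_aux ho ho' 2 hk octRep2 octReps_mem.2.1 octReps_cls.2.1 octClsWords2 octReach2

theorem exists_pair_map4 {o o' : Finset GolayPt} (ho : o ∈ octads) (ho' : o' ∈ octads)
    (hk : (o ∩ o').card = 4) : ∃ g ∈ M24, g • O0 = o ∧ g • fset octRep4 = o' :=
  exists_pair_map_aux ho ho' 4 hk octRep4 octReps_mem.2.2 octReps_cls.2.2 octClsWords4 octReach4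

end Cfsg.Agent.Lib.Helper93.Golay
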