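import Cfsg.Agent.Lib.Helper93.OrbitTools

set_option autoImplicit false

namespace Cfsg.Agent.Lib.Helper93.Golay

open Cfsg
open scoped Pointwise

variable {α : Type} [MulAction (Equiv.Perm GolayPt) α] {β : Type}

/-! ### Classes preserved by a generated subgroup -/

/-- Check that the coded generators preserve a classifier on a list of codes. -/
def Enc.clsOK (E : Enc α β) (gens : List ℕ) (L : List β) (cls : β → ℕ) : Bool :=
  gens.all fun S => L.all fun l => E.canon (E.act S l) && Nat.beq (cls (E.act S l)) (cls l)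

theorem genSubgroup_le_M24 {gens : List ℕ} (hgens : ∀ S ∈ gens, isAutC S = true) :
    genSubgroup gens ≤ M24 :=
  genSubgroup_le (fun S hS => permC_mem_M24 (hgens S hS))

theorem Enc.cls_invariant (E : Enc α β) (Y : Set α) (hY : ∀ g ∈ M24, ∀ y ∈ Y, g • y ∈ Y)
    (L : List β) (hLc : ∀ l ∈ L, E.canon l = true) (hsound : ∀ l ∈ L, E.dec l ∈ Y)
    (hcomplete : ∀ y ∈ Y, ∃ l ∈ L, E.dec l = y)
    (gens : List ℕ) (hgens : ∀ S ∈ gens, isAutC S = true) (cls : β → ℕ)
    (hchk : E.clsOK gens L cls = true) :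
    ∀ h ∈ genSubgroup gens, ∀ l ∈ L, ∀ l' ∈ L, h • E.dec l = E.dec l' → cls l = cls l' := by
  intro h hh
  have hle := genSubgroup_le_M24 hgens
  unfold genSubgroup at hh
  induction hh using Subgroup.closure_induction with
  | mem x hx =>
    obtain ⟨S, hS, rfl⟩ := hx
    intro l hl l' hl' heq
    have hc := List.all_eq_true.1 (List.all_eq_true.1 hchk S hS) l hl
    rw [Bool.and_eq_true] at hc
    rw [E.act_spec S (isPerm_of_isAutC (hgens S hS)) l (E.canon_small l (hLc l hl))] at heq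
    have := E.dec_inj _ _ hc.1 (hLc l' hl') heq
    rw [← this]
    exact (Nat.eq_of_beq_eq_true hc.2).symm
  | one =>
    intro l hl l' hl' heq
    rw [one_smul] at heq
    rw [E.dec_inj _ _ (hLc l hl) (hLc l' hl') heq]
  | mul a b ha hb iha ihb =>
    intro l hl l' hl' heq
    rw [mul_smul] at heq
    have hbM : b ∈ M24 := hle hb
    obtain ⟨l'', hl'', hdec⟩ := hcomplete _ (hY b hbM _ (hsound l hl))
    rw [← hdec] at heq
    rw [ihb l hl l'' hl'' hdec.symm, iha l'' hl'' l' hl' heq]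
  | inv a ha iha =>
    intro l hl l' hl' heq
    have : a • E.dec l' = E.dec l := by
      rw [← heq, smul_inv_smul]
    exact (iha l' hl' l hl this).symm

/-- The orbit of a representative under a generated subgroup is a class of the classifier. -/
theorem Enc.orbit_eq_class (E : Enc α β) (Y : Set α) (hY : ∀ g ∈ M24, ∀ y ∈ Y, g • y ∈ Y)
    (L : List β) (hLc : ∀ l ∈ L, E.canon l = true) (hsound : ∀ l ∈ L, E.dec l ∈ Y)
    (hcomplete : ∀ y ∈ Y, ∃ l ∈ L, E.dec l = y)
    (gens : List ℕ) (hgens : ∀ S ∈ gens, isAutC S = true) (cls : β → ℕ)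
    (hchk : E.clsOK gens L cls = true)
    (H : Subgroup (Equiv.Perm GolayPt)) (hH : H = genSubgroup gens)
    (rep : β) (hrep : rep ∈ L) (c : ℕ) (hc : cls rep = c) (words : List (List ℕ))
    (hreach : E.reachOK gens rep (L.filter fun l => Nat.beq (cls l) c) words = true) (y : α) :
    (∃ h ∈ H, h • E.dec rep = y) ↔ ∃ l ∈ L.filter (fun l => Nat.beq (cls l) c), E.dec l = y := by
  constructor
  · rintro ⟨h, hh, rfl⟩
    rw [hH] at hh
    have hhM : h ∈ M24 := genSubgroup_le_M24 hgens hh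
    obtain ⟨l, hl, hdec⟩ := hcomplete _ (hY h hhM _ (hsound rep hrep))
    refine ⟨l, ?_, hdec⟩
    rw [List.mem_filter]
    refine ⟨hl, ?_⟩
    have := E.cls_invariant Y hY L hLc hsound hcomplete gens hgens cls hchk h hh rep hrep l hl
      hdec.symm
    rw [← this, hc]
    exact Nat.beq_refl c
  · rintro ⟨l, hl, rfl⟩
    have := E.reach_spec gens rep (E.canon_small rep (hLc rep hrep)) H
      (fun S hS => ⟨isPerm_of_isAutC (hgens S hS), hH ▸ permC_mem_genSubgroup hS⟩) _ words hreach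
      l hl
    exact this

theorem Enc.ncard_orbit_eq (E : Enc α β) (L : List β) (hLc : ∀ l ∈ L, E.canon l = true)
    (hnd : L.Nodup) (q : β → Bool) (S : Set α)
    (hS : ∀ y, y ∈ S ↔ ∃ l ∈ L.filter q, E.dec l = y) : S.ncard = (L.filter q).length := by
  apply ncard_eq_length E.dec (L.filter q) (hnd.filter q) _ S hS
  intro x hx y hy h
  exact E.dec_inj x y (hLc x (List.mem_filter.1 hx).1) (hLc y (List.mem_filter.1 hy).1) h

/-! ### Bridges to stabilisers and orbits inside the subtype `↥M24` -/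

variable {α' : Type} [MulAction (Equiv.Perm GolayPt) α']

theorem mem_orbit_stabilizer_iff (o : α') (X y : α) :
    y ∈ MulAction.orbit ↥(MulAction.stabilizer ↥M24 o) X ↔ ∃ h ∈ stabM o, h • X = y := by
  constructor
  · rintro ⟨⟨⟨h, hM⟩, hst⟩, rfl⟩
    refine ⟨h, (mem_stabM o h).2 ⟨hM, ?_⟩, rfl⟩
    exact MulAction.mem_stabilizer_iff.1 hst
  · rintro ⟨h, hh, rfl⟩
    rw [mem_stabM] at hh
    exact ⟨⟨⟨h, hh.1⟩, MulAction.mem_stabilizer_iff.2 hh.2⟩, rfl⟩

theorem map_stabilizer_subtype (o : α') :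
    (MulAction.stabilizer ↥M24 o).map M24.subtype = stabM o := by
  ext g
  rw [Subgroup.mem_map, mem_stabM]
  constructor
  · rintro ⟨⟨h, hM⟩, hst, rfl⟩
    exact ⟨hM, MulAction.mem_stabilizer_iff.1 hst⟩
  · rintro ⟨hM, hst⟩
    exact ⟨⟨g, hM⟩, MulAction.mem_stabilizer_iff.2 hst, rfl⟩

theorem card_stabilizer_eq (o : α') :
    Nat.card ↥(MulAction.stabilizer ↥M24 o) = Nat.card (stabM o) := by
  rw [← map_stabilizer_subtype o]
  exact Nat.card_congr
    ((MulAction.stabilizer ↥M24 o).equivMapOfInjective M24.subtype M24.subtype_injective).toEquiv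

/-! ### Transport along the group -/

theorem orbit_stabilizer_smul {G A B : Type*} [Group G] [MulAction G A] [MulAction G B] (g : G)
    (a : A) (b : B) :
    MulAction.orbit ↥(MulAction.stabilizer G (g • a)) (g • b) =
      (fun y => g • y) '' MulAction.orbit ↥(MulAction.stabilizer G a) b := by
  ext y
  constructor
  · rintro ⟨⟨h, hh⟩, rfl⟩
    rw [MulAction.mem_stabilizer_iff] at hh
    refine ⟨(g⁻¹ * h * g) • b, ⟨⟨g⁻¹ * h * g, ?_⟩, rfl⟩, ?_⟩
    · rw [MulAction.mem_stabilizer_iff, mul_smul, mul_smul, hh, inv_smul_smul]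
    · show g • (g⁻¹ * h * g) • b = h • g • b
      rw [← mul_smul, ← mul_smul]
      congr 1
      group
  · rintro ⟨z, ⟨⟨h, hh⟩, rfl⟩, rfl⟩
    rw [MulAction.mem_stabilizer_iff] at hh
    refine ⟨⟨g * h * g⁻¹, ?_⟩, ?_⟩
    · rw [MulAction.mem_stabilizer_iff, mul_smul, mul_smul, inv_smul_smul, hh]
    · show (g * h * g⁻¹) • g • b = g • h • b
      rw [← mul_smul, ← mul_smul]
      congr 1
      group

theorem card_subgroup_conj {G : Type*} [Group G] (H K : Subgroup G) (g : G)
    (h : ∀ x, x ∈ K ↔ g⁻¹ * x * g ∈ H) : Nat.card K = Nat.card H := by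
  refine Nat.card_congr ⟨fun x => ⟨g⁻¹ * x.1 * g, (h x.1).1 x.2⟩,
    fun y => ⟨g * y.1 * g⁻¹, (h _).2 ?_⟩, ?_, ?_⟩
  · have : g⁻¹ * (g * y.1 * g⁻¹) * g = y.1 := by group
    rw [this]
    exact y.2
  · intro x
    apply Subtype.ext
    show g * (g⁻¹ * x.1 * g) * g⁻¹ = x.1
    group
  · intro y
    apply Subtype.ext
    show g⁻¹ * (g * y.1 * g⁻¹) * g = y.1
    group

/-! ### Enumerated invariant families -/

/-- A set of objects invariant under `M24`, enumerated by a list of canonical codes. -/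
structure Family (E : Enc α β) where
  /-- the objects -/
  Y : Set α
  /-- the codes -/
  L : List β
  inv : ∀ g ∈ M24, ∀ y ∈ Y, g • y ∈ Y
  canon : ∀ l ∈ L, E.canon l = true
  sound : ∀ l ∈ L, E.dec l ∈ Y
  complete : ∀ y ∈ Y, ∃ l ∈ L, E.dec l = y
  nodup : L.Nodup

/-- The orbits of a stabiliser (generated by coded permutations) on an enumerated family. -/
theorem Family.orbit_stabilizer {E : Enc α β} (F : Family E) (o : α') (gens : List ℕ)
    (hgens : ∀ S ∈ gens, isAutC S = true) (hH : stabM o = genSubgroup gens)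
    (cls : β → ℕ) (hchk : E.clsOK gens F.L cls = true)
    (rep : β) (hrep : rep ∈ F.L) (c : ℕ) (hc : cls rep = c) (words : List (List ℕ))
    (hreach : E.reachOK gens rep (F.L.filter fun l => Nat.beq (cls l) c) words = true) :
    (∀ y, y ∈ MulAction.orbit ↥(MulAction.stabilizer ↥M24 o) (E.dec rep) ↔
      ∃ l ∈ F.L.filter (fun l => Nat.beq (cls l) c), E.dec l = y) ∧
    (MulAction.orbit ↥(MulAction.stabilizer ↥M24 o) (E.dec rep)).ncard =
      (F.L.filter fun l => Nat.beq (cls l) c).length := by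
  have key : ∀ y, y ∈ MulAction.orbit ↥(MulAction.stabilizer ↥M24 o) (E.dec rep) ↔
      ∃ l ∈ F.L.filter (fun l => Nat.beq (cls l) c), E.dec l = y := by
    intro y
    rw [mem_orbit_stabilizer_iff]
    exact E.orbit_eq_class F.Y F.inv F.L F.canon F.sound F.complete gens hgens cls hchk
      (stabM o) hH rep hrep c hc words hreach y
  exact ⟨key, E.ncard_orbit_eq F.L F.canon F.nodup _ _ key⟩

theorem Family.ncard_Y {E : Enc α β} (F : Family E) : F.Y.ncard = F.L.length := by
  apply ncard_eq_length E.dec F.L F.nodup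
  · intro x hx y hy h
    exact E.dec_inj x y (F.canon x hx) (F.canon y hy) h
  · intro a
    constructor
    · exact F.complete a
    · rintro ⟨l, hl, rfl⟩
      exact F.sound l hl

end Cfsg.Agent.Lib.Helper93.Golay
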