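import Cfsg.Agent.Lib.Helper93.EncAction

set_option autoImplicit false

namespace Cfsg.Agent.Lib.Helper93.Golay

open Cfsg
open scoped Pointwise

/-! ### Lower bounds for the order of a subgroup from a stabiliser chain -/

/-- The subgroup of `C` fixing every point of the set with mask `m`. -/
def fixIn (C : Subgroup (Equiv.Perm GolayPt)) (m : ℕ) : Subgroup (Equiv.Perm GolayPt) where
  carrier := {g | g ∈ C ∧ ∀ p ∈ fset m, g p = p}
  mul_mem' := by
    rintro a b ⟨ha, ha'⟩ ⟨hb, hb'⟩
    refine ⟨C.mul_mem ha hb, fun p hp => ?_⟩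
    rw [Equiv.Perm.mul_apply, hb' p hp, ha' p hp]
  one_mem' := ⟨C.one_mem, fun p _ => rfl⟩
  inv_mem' := by
    rintro a ⟨ha, ha'⟩
    refine ⟨C.inv_mem ha, fun p hp => ?_⟩
    rw [Equiv.Perm.inv_eq_iff_eq]
    exact (ha' p hp).symm

theorem mem_fixIn (C : Subgroup (Equiv.Perm GolayPt)) (m : ℕ) (g : Equiv.Perm GolayPt) :
    g ∈ fixIn C m ↔ g ∈ C ∧ ∀ p ∈ fset m, g p = p := Iff.rfl

theorem fixIn_zero (C : Subgroup (Equiv.Perm GolayPt)) : fixIn C 0 = C := by
  ext g
  rw [mem_fixIn]
  constructor
  · exact fun h => h.1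
  · intro h
    refine ⟨h, fun p hp => ?_⟩
    rw [mem_fset] at hp
    simp at hp

theorem fixIn_or (C : Subgroup (Equiv.Perm GolayPt)) (m i : ℕ) (hi : i < 24) :
    fixIn C (m ||| (1 <<< i)) =
      fixIn C m ⊓ MulAction.stabilizer (Equiv.Perm GolayPt) (P i hi) := by
  ext g
  rw [Subgroup.mem_inf, MulAction.mem_stabilizer_iff, mem_fixIn, mem_fixIn]
  constructor
  · rintro ⟨h1, h2⟩
    refine ⟨⟨h1, fun p hp => h2 p ?_⟩, h2 _ ?_⟩
    · rw [mem_fset] at hp ⊢
      rw [Nat.testBit_or, hp, Bool.true_or]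
    · rw [mem_fset_P, Nat.testBit_or, Nat.one_shiftLeft, Nat.testBit_two_pow_self, Bool.or_true]
  · rintro ⟨⟨h1, h2⟩, h3⟩
    refine ⟨h1, fun p hp => ?_⟩
    rw [mem_fset, Nat.testBit_or, Bool.or_eq_true] at hp
    rcases hp with hp | hp
    · exact h2 p ((mem_fset _ _).2 hp)
    · rw [Nat.one_shiftLeft, Nat.testBit_two_pow] at hp
      have hip : i = (ptIdx p : ℕ) := by simpa using hp
      have : p = P i hi := by
        subst hip
        exact (P_ptIdx p).symm
      rw [this]
      exact h3

theorem permC_mem_fixIn {C : Subgroup (Equiv.Perm GolayPt)} {S m : ℕ} (h0 : isPerm S = true)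
    (h1 : permC S ∈ C) (h2 : fixesMask S m = true) : permC S ∈ fixIn C m := by
  refine ⟨h1, fun p hp => ?_⟩
  have hp' := (mem_fset m p).1 hp
  have := List.all_eq_true.1 h2 (ptIdx p) (List.mem_range.2 (ptIdx p).isLt)
  rw [hp'] at this
  simp only [Bool.not_true, Bool.false_or] at this
  have h3 := permC_ptOf h0 (ptIdx p) (ptIdx p).isLt (ptIdx p) (ptIdx p).isLt
    (Nat.eq_of_beq_eq_true this)
  have e : ptOf ⟨(ptIdx p : ℕ), (ptIdx p).isLt⟩ = p := ptOf_ptIdx p
  rw [e] at h3
  exact h3

/-- One step of the chain: an orbit tree gives a lower bound for the index of a point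
stabiliser. -/
theorem chain_step (K : Subgroup (Equiv.Perm GolayPt)) (b : ℕ) (hb : b < 24) (gens : List ℕ)
    (hgens : ∀ S ∈ gens, isPerm S = true ∧ permC S ∈ K) (tree : List (ℕ × ℕ × ℕ)) :
    popcF (treeRun gens (1 <<< b) tree &&& 16777215) *
      Nat.card ↥(K ⊓ MulAction.stabilizer (Equiv.Perm GolayPt) (P b hb)) ≤ Nat.card K := by
  set mask := treeRun gens (1 <<< b) tree &&& 16777215 with hmask
  have hreach : ∀ i (hi : i < 24), mask.testBit i = true → ∃ u ∈ K, u (P b hb) = ptOf ⟨i, hi⟩ := by
    intro i hi hbit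
    rw [hmask, Nat.testBit_and, Bool.and_eq_true] at hbit
    refine treeRun_spec K gens hgens (P b hb) tree (1 <<< b) ?_ i hi hbit.1
    intro i hi hbit
    rw [Nat.one_shiftLeft, Nat.testBit_two_pow] at hbit
    have : b = i := by simpa using hbit
    subst this
    exact ⟨1, K.one_mem, rfl⟩
  have hlt : mask < 16777216 := by
    rw [hmask]
    exact lt_of_le_of_lt Nat.and_le_right (by norm_num)
  have hcard := card_eq_ncard_mul_card_inf_stabilizer (G := Equiv.Perm GolayPt) K (P b hb)
    {s | ∃ k ∈ K, k • (P b hb) = s} (fun k hk => ⟨k, hk, rfl⟩) (fun s hs => hs)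
  rw [hcard]
  apply Nat.mul_le_mul_right
  have hsub : ((fset mask : Finset GolayPt) : Set GolayPt) ⊆ {s | ∃ k ∈ K, k • (P b hb) = s} := by
    intro s hs
    rw [Finset.mem_coe, mem_fset] at hs
    obtain ⟨u, hu, hus⟩ := hreach (ptIdx s) (ptIdx s).isLt hs
    refine ⟨u, hu, ?_⟩
    show u (P b hb) = s
    rw [hus]
    exact ptOf_ptIdx s
  have := Set.ncard_le_ncard hsub (Set.toFinite _)
  rw [Set.ncard_coe_finset, card_fset hlt] at this
  exact this

/-- The product of the orbit lengths certified by a chain of orbit trees; each level is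
`(b, gens, tree)` where the generators fix the base points of the previous levels. -/
def chainProd : ℕ → List (ℕ × List ℕ × List (ℕ × ℕ × ℕ)) → ℕ
  | _, [] => 1
  | m, (b, gens, tree) :: rest =>
    if Nat.blt b 24 && gens.all (fun S => isPerm S && fixesMask S m) then
      popcF (treeRun gens (1 <<< b) tree &&& 16777215) * chainProd (m ||| (1 <<< b)) rest
    else 0

theorem chainProd_le (C : Subgroup (Equiv.Perm GolayPt)) :
    ∀ (levels : List (ℕ × List ℕ × List (ℕ × ℕ × ℕ))) (m : ℕ),
      (∀ lev ∈ levels, ∀ S ∈ lev.2.1, permC S ∈ C) →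
      chainProd m levels ≤ Nat.card (fixIn C m)
  | [], m, _ => Nat.card_pos
  | (b, gens, tree) :: rest, m, hmem => by
    unfold chainProd
    split
    · rename_i hcond
      rw [Bool.and_eq_true] at hcond
      have hb : b < 24 := Nat.le_of_ble_eq_true hcond.1
      have hgens : ∀ S ∈ gens, isPerm S = true ∧ permC S ∈ fixIn C m := by
        intro S hS
        have := List.all_eq_true.1 hcond.2 S hS
        rw [Bool.and_eq_true] at this
        exact ⟨this.1, permC_mem_fixIn this.1 (hmem _ List.mem_cons_self S hS) this.2⟩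
      have hstep := chain_step (fixIn C m) b hb gens hgens tree
      rw [← fixIn_or C m b hb] at hstep
      have ih := chainProd_le C rest (m ||| (1 <<< b))
        (fun lev hlev => hmem lev (List.mem_cons_of_mem _ hlev))
      exact le_trans (Nat.mul_le_mul_left _ ih) hstep
    · exact Nat.zero_le _

/-- All generators occurring in a chain. -/
def chainGens (levels : List (ℕ × List ℕ × List (ℕ × ℕ × ℕ))) : List ℕ :=
  levels.flatMap fun lev => lev.2.1

/-- The subgroup generated by a list of coded permutations. -/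
def genSubgroup (gens : List ℕ) : Subgroup (Equiv.Perm GolayPt) :=
  Subgroup.closure {g | ∃ S ∈ gens, g = permC S}

theorem permC_mem_genSubgroup {gens : List ℕ} {S : ℕ} (h : S ∈ gens) :
    permC S ∈ genSubgroup gens := Subgroup.subset_closure ⟨S, h, rfl⟩

theorem genSubgroup_le {gens : List ℕ} {H : Subgroup (Equiv.Perm GolayPt)}
    (h : ∀ S ∈ gens, permC S ∈ H) : genSubgroup gens ≤ H := by
  unfold genSubgroup
  rw [Subgroup.closure_le]
  rintro g ⟨S, hS, rfl⟩
  exact h S hS

theorem chainProd_le_card_genSubgroup (levels : List (ℕ × List ℕ × List (ℕ × ℕ × ℕ))) :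
    chainProd 0 levels ≤ Nat.card (genSubgroup (chainGens levels)) := by
  have := chainProd_le (genSubgroup (chainGens levels)) levels 0 (by
    intro lev hlev S hS
    apply permC_mem_genSubgroup
    unfold chainGens
    rw [List.mem_flatMap]
    exact ⟨lev, hlev, hS⟩)
  rw [fixIn_zero] at this
  exact this

/-! ### Stabilisers in `M24` as generated subgroups -/

variable {α : Type} [MulAction (Equiv.Perm GolayPt) α] {β : Type}

/-- The stabiliser in `M24` of an element of a set on which the permutations act. -/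
def stabM (x : α) : Subgroup (Equiv.Perm GolayPt) :=
  M24 ⊓ MulAction.stabilizer (Equiv.Perm GolayPt) x

theorem mem_stabM (x : α) (g : Equiv.Perm GolayPt) : g ∈ stabM x ↔ g ∈ M24 ∧ g • x = x := by
  unfold stabM
  rw [Subgroup.mem_inf]
  exact Iff.rfl

/-- The orbit of `x` under `M24`, as a set. -/
def orbM (x : α) : Set α := {y | ∃ g ∈ M24, g • x = y}

theorem card_M24_eq (x : α) : 244823040 = (orbM x).ncard * Nat.card (stabM x) := by
  rw [← card_M24]
  exact card_eq_ncard_mul_card_inf_stabilizer (G := Equiv.Perm GolayPt) M24 x (orbM x)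
    (fun k hk => ⟨k, hk, rfl⟩) (fun s hs => hs)

theorem permC_mem_stabM (E : Enc α β) {x₀ : β} (hx₀ : E.small x₀) {S : ℕ} (h1 : isAutC S = true)
    (h2 : E.beq (E.act S x₀) x₀ = true) : permC S ∈ stabM (E.dec x₀) := by
  rw [mem_stabM]
  refine ⟨permC_mem_M24 h1, ?_⟩
  rw [E.act_spec S (isPerm_of_isAutC h1) x₀ hx₀, E.beq_eq _ _ h2]

theorem stab_eq_gen (E : Enc α β) (x₀ : β) (hx₀ : E.small x₀)
    (orbitL : List β) (hnd : orbitL.Nodup) (hcanon : ∀ b ∈ orbitL, E.canon b = true)
    (mgens : List ℕ) (hmgens : ∀ S ∈ mgens, isAutC S = true)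
    (words : List (List ℕ)) (hreach : E.reachOK mgens x₀ orbitL words = true)
    (levels : List (ℕ × List ℕ × List (ℕ × ℕ × ℕ)))
    (hlev : ∀ S ∈ chainGens levels, isAutC S = true ∧ E.beq (E.act S x₀) x₀ = true)
    (hprod : orbitL.length * chainProd 0 levels = 244823040) :
    stabM (E.dec x₀) = genSubgroup (chainGens levels) ∧
      Nat.card (stabM (E.dec x₀)) = chainProd 0 levels ∧
      (orbM (E.dec x₀)).ncard = orbitL.length ∧
      ∀ y ∈ orbM (E.dec x₀), ∃ b ∈ orbitL, E.dec b = y := by
  -- the image of the list is inside the orbit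
  have hreach' := E.reach_spec mgens x₀ hx₀ M24
    (fun S hS => ⟨isPerm_of_isAutC (hmgens S hS), permC_mem_M24 (hmgens S hS)⟩) orbitL words hreach
  have himg : ({a | ∃ b ∈ orbitL, E.dec b = a} : Set α).ncard = orbitL.length :=
    ncard_eq_length E.dec orbitL hnd
      (fun x hx y hy h => E.dec_inj x y (hcanon x hx) (hcanon y hy) h) _ (fun a => Iff.rfl)
  have hsub : ({a | ∃ b ∈ orbitL, E.dec b = a} : Set α) ⊆ orbM (E.dec x₀) := by
    rintro a ⟨b, hb, rfl⟩
    exact hreach' b hb
  have hfin : (orbM (E.dec x₀)).Finite := by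
    have : Finite (Equiv.Perm GolayPt) := inferInstance
    have himage : orbM (E.dec x₀) ⊆ (fun g : Equiv.Perm GolayPt => g • E.dec x₀) '' Set.univ := by
      rintro y ⟨g, _, rfl⟩
      exact ⟨g, trivial, rfl⟩
    exact (Set.toFinite _).subset himage
  have hle1 : orbitL.length ≤ (orbM (E.dec x₀)).ncard := by
    rw [← himg]
    exact Set.ncard_le_ncard hsub hfin
  have hgen_le : genSubgroup (chainGens levels) ≤ stabM (E.dec x₀) :=
    genSubgroup_le (fun S hS => permC_mem_stabM E hx₀ (hlev S hS).1 (hlev S hS).2)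
  have hle2 : chainProd 0 levels ≤ Nat.card (genSubgroup (chainGens levels)) :=
    chainProd_le_card_genSubgroup levels
  have hle3 : Nat.card (genSubgroup (chainGens levels)) ≤ Nat.card (stabM (E.dec x₀)) :=
    Subgroup.card_le_of_le hgen_le
  have hM := card_M24_eq (E.dec x₀)
  have hpos : 0 < chainProd 0 levels := by
    rcases Nat.eq_zero_or_pos (chainProd 0 levels) with h | h
    · rw [h] at hprod; simp at hprod
    · exact h
  have hlpos : 0 < orbitL.length := by
    rcases Nat.eq_zero_or_pos orbitL.length with h | h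
    · rw [h] at hprod; simp at hprod
    · exact h
  set N := (orbM (E.dec x₀)).ncard with hN
  set c := chainProd 0 levels with hc
  set s := Nat.card (stabM (E.dec x₀)) with hs
  set k := Nat.card (genSubgroup (chainGens levels)) with hk
  have hcs : c ≤ s := le_trans hle2 hle3
  have h1 : orbitL.length * c ≤ N * c := Nat.mul_le_mul_right _ hle1
  have h2 : N * c ≤ N * s := Nat.mul_le_mul_left _ hcs
  have h3 : N * s = orbitL.length * c := by rw [← hM, hprod]
  have hNeq : N = orbitL.length := by
    have : N * c = orbitL.length * c := le_antisymm (by omega) h1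
    exact Nat.eq_of_mul_eq_mul_right hpos this
  have hseq : s = c := by
    have : N * s = N * c := by rw [h3, hNeq]
    exact Nat.eq_of_mul_eq_mul_left (by omega) this
  have hkeq : k = s := le_antisymm hle3 (by omega)
  refine ⟨?_, hseq, hNeq, ?_⟩
  · symm
    apply Subgroup.eq_of_le_of_card_ge hgen_le
    omega
  · intro y hy
    have heq : ({a | ∃ b ∈ orbitL, E.dec b = a} : Set α) = orbM (E.dec x₀) := by
      apply Set.eq_of_subset_of_ncard_le hsub _ hfin
      rw [himg]
      omega
    rw [← heq] at hy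
    exact hy

end Cfsg.Agent.Lib.Helper93.Golay
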