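import Cfsg.Agent.Lib.Helper93.NormTools

set_option autoImplicit false

/-!
The action of `SL(3, 4)` on the `21` points of the projective plane, labelled by the points of
indices `3, …, 23` of the Golay code, the points of indices `0, 1, 2` being fixed.
-/

namespace Cfsg.Agent.Lib.Helper93.PSL34

open Cfsg Cfsg.Agent.Lib.Helper93.Golay Matrix

/-- the field with four elements -/
abbrev K : Type := QuadraticAlgebra (ZMod 2) 1 1

instance decEqK : DecidableEq K := fun a b =>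
  decidable_of_iff (a.re = b.re ∧ a.im = b.im) QuadraticAlgebra.ext_iff.symm

instance fintypeK : Fintype K :=
  Fintype.ofEquiv _ (QuadraticAlgebra.equivProd (R := ZMod 2) 1 1).symm

instance factK : Fact (∀ r : ZMod 2, r ^ 2 ≠ 1 + 1 * r) := ⟨by decide⟩

theorem card_K : Fintype.card K = 4 := by decide +kernel

abbrev V3 : Type := Fin 3 → K
abbrev M3 : Type := Matrix (Fin 3) (Fin 3) K

/-- code of an element of the field -/
def kc (a : K) : ℕ := a.re.val + 2 * a.im.val

/-- the element of the field with a given code -/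
def kOf (n : ℕ) : K := ⟨(n % 2 : ℕ), (n / 2 % 2 : ℕ)⟩

def vcode (v : V3) : ℕ := kc (v 0) + 4 * kc (v 1) + 16 * kc (v 2)

def labTab : List ℕ := [0, 5, 5, 5, 4, 9, 18, 19, 4, 19, 9, 18, 4, 18, 19, 9, 3, 14, 23, 17, 12, 6, 13, 15, 10, 8, 22, 21, 7, 20, 16, 11, 3, 17, 14, 23, 7, 11, 20, 16, 12, 15, 6, 13, 10, 21, 8, 22, 3, 23, 17, 14, 10, 22, 21, 8, 7, 16, 11, 20, 12, 13, 15, 6]
def vecTab : List (ℕ × ℕ × ℕ) := [(0, 0, 0), (0, 0, 0), (0, 0, 0), (0, 0, 1), (0, 1, 0), (1, 0, 0), (1, 1, 1), (0, 1, 2), (1, 2, 1), (1, 1, 0), (0, 1, 3), (1, 1, 2), (0, 1, 1), (1, 3, 3), (1, 0, 1), (1, 2, 2), (1, 2, 3), (1, 0, 2), (1, 3, 0), (1, 2, 0), (1, 3, 1), (1, 3, 2), (1, 1, 3), (1, 0, 3)]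

/-- index of the projective point spanned by a vector -/
def labN (v : V3) : ℕ := labTab.getD (vcode v) 0

/-- representative of the projective point of a given index -/
def vecN (n : ℕ) : V3 :=
  let t := vecTab.getD n (0, 0, 0)
  ![kOf t.1, kOf t.2.1, kOf t.2.2]

theorem vec_eta (v : V3) : v = ![v 0, v 1, v 2] := by
  funext i
  fin_cases i <;> rfl

theorem labN_lt' : ∀ a b c : K, labN ![a, b, c] < 24 := by decide +kernel

theorem labN_lt (v : V3) : labN v < 24 := by
  rw [vec_eta v]; exact labN_lt' _ _ _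

theorem labN_ge' : ∀ a b c : K, ![a, b, c] ≠ 0 → 3 ≤ labN ![a, b, c] := by decide +kernel

theorem labN_ge {v : V3} (hv : v ≠ 0) : 3 ≤ labN v := by
  rw [vec_eta v] at hv ⊢; exact labN_ge' _ _ _ hv

theorem vecN_labN' : ∀ a b c : K, ![a, b, c] ≠ 0 →
    ∃ l : K, l ≠ 0 ∧ vecN (labN ![a, b, c]) = l • ![a, b, c] := by decide +kernel

theorem vecN_labN {v : V3} (hv : v ≠ 0) : ∃ l : K, l ≠ 0 ∧ vecN (labN v) = l • v := by
  rw [vec_eta v] at hv ⊢; exact vecN_labN' _ _ _ hv

theorem labN_smul' : ∀ l : K, l ≠ 0 → ∀ a b c : K, labN (l • ![a, b, c]) = labN ![a, b, c] := by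
  decide +kernel

theorem labN_smul {l : K} (hl : l ≠ 0) (v : V3) : labN (l • v) = labN v := by
  rw [vec_eta v]; exact labN_smul' l hl _ _ _

theorem labN_vecN : ∀ n : Fin 24, 3 ≤ n.val → vecN n ≠ 0 ∧ labN (vecN n) = n := by decide +kernel

/-- the action on indices -/
def actF (A : M3) (n : Fin 24) : Fin 24 :=
  if n.val < 3 then n else ⟨labN (A *ᵥ vecN n), labN_lt _⟩

theorem actF_lt {A : M3} {n : Fin 24} (h : n.val < 3) : actF A n = n := by
  unfold actF; rw [if_pos h]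

theorem actF_ge {A : M3} {n : Fin 24} (h : ¬ n.val < 3) :
    actF A n = ⟨labN (A *ᵥ vecN n), labN_lt _⟩ := by
  unfold actF; rw [if_neg h]

theorem actF_one (n : Fin 24) : actF 1 n = n := by
  by_cases h : n.val < 3
  · exact actF_lt h
  · rw [actF_ge h]
    apply Fin.ext
    simp only [one_mulVec]
    exact (labN_vecN n (by omega)).2

theorem actF_mul (A B : M3) (hB : ∀ v : V3, v ≠ 0 → B *ᵥ v ≠ 0) (n : Fin 24) :
    actF (A * B) n = actF A (actF B n) := by
  by_cases h : n.val < 3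
  · rw [actF_lt h, actF_lt h, actF_lt h]
  · have hv := (labN_vecN n (by omega)).1
    have hw := hB _ hv
    have h3 := labN_ge hw
    rw [actF_ge h, actF_ge h, actF_ge (by simp only; omega)]
    apply Fin.ext
    simp only
    obtain ⟨l, hl, hlv⟩ := vecN_labN hw
    rw [hlv, mulVec_smul, labN_smul hl, mulVec_mulVec]

end Cfsg.Agent.Lib.Helper93.PSL34
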