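import Cfsg.Agent.Lib.Helper93.PSL34A
import Cfsg.Agent.Lib.Helper5.SLGen

set_option autoImplicit false

/-!
The homomorphism from `SL(3, 4)` to the permutations of the Golay points: its image is the
stabiliser of three points in `M24`, its kernel is the centre.
-/

namespace Cfsg.Agent.Lib.Helper93.PSL34

open Cfsg Cfsg.Agent.Lib.Helper93.Golay Matrix

abbrev SL3 : Type := Matrix.SpecialLinearGroup (Fin 3) K

theorem sl_mulVec_ne_zero (g : SL3) (v : V3) (hv : v ≠ 0) : (g : M3) *ᵥ v ≠ 0 := by
  intro h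
  apply hv
  have h1 : ((g⁻¹ : SL3) : M3) *ᵥ ((g : M3) *ᵥ v) = v := by
    rw [mulVec_mulVec, ← Matrix.SpecialLinearGroup.coe_mul, inv_mul_cancel, Matrix.SpecialLinearGroup.coe_one,
      one_mulVec]
  rw [← h1, h, mulVec_zero]

/-- the action on the Golay points -/
def actP (g : SL3) (p : GolayPt) : GolayPt := ptOf (actF (g : M3) (ptIdx p))

theorem actP_one (p : GolayPt) : actP 1 p = p := by
  unfold actP
  rw [Matrix.SpecialLinearGroup.coe_one, actF_one, ptOf_ptIdx]

theorem actP_mul (g h : SL3) (p : GolayPt) : actP (g * h) p = actP g (actP h p) := by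
  unfold actP
  rw [Matrix.SpecialLinearGroup.coe_mul, actF_mul _ _ (sl_mulVec_ne_zero h), ptIdx_ptOf]

def toPerm (g : SL3) : Equiv.Perm GolayPt where
  toFun := actP g
  invFun := actP g⁻¹
  left_inv p := by rw [← actP_mul, inv_mul_cancel, actP_one]
  right_inv p := by rw [← actP_mul, mul_inv_cancel, actP_one]

theorem toPerm_apply (g : SL3) (p : GolayPt) : toPerm g p = actP g p := rfl

def toPermHom : SL3 →* Equiv.Perm GolayPt where
  toFun := toPerm
  map_one' := Equiv.ext actP_one
  map_mul' g h := Equiv.ext (actP_mul g h)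

theorem toPermHom_apply (g : SL3) : toPermHom g = toPerm g := rfl

theorem ptIdx_toPerm (g : SL3) (p : GolayPt) : ptIdx (toPerm g p) = actF (g : M3) (ptIdx p) := by
  rw [toPerm_apply]
  unfold actP
  rw [ptIdx_ptOf]

/-- a matrix acting as a coded permutation -/
theorem toPerm_eq_permC (g : SL3) (S : ℕ) (hS : isPerm S = true)
    (h : ∀ n : Fin 24, (actF (g : M3) n).val = papp S n) : toPerm g = permC S := by
  apply eq_of_ptIdx_eq
  intro p
  rw [ptIdx_toPerm, ptIdx_permC hS]
  exact h _

/-! ### The transvections -/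

def tvTab : List ℕ := [0, 0, 0, 0, 984818244535754528103549039458486304, 968708902336673183175954409307867168, 966182099583441531322624363496310816, 983548720921252936276249910206105632, 984818244535754528103549039458486304, 734314006698834082329304983377741856, 137935104962206912083219455161370656, 592348547565827762175298702812940320, 984818244535754528103549039458486304, 944319304547998642267612847938832416, 681942991418186671700734416290678816, 561475773312554808336860583768983584, 0, 0, 0, 0, 984818244535754528103549039458486304, 561225190495839078725639875070396448, 944397937647834838634175266627586080, 682115957483838439786319496335296544, 984818244535754528103549039458486304, 720981692062171673584743151055243296, 590072960059042287979885064796342304, 220213109803259289183002082616117280, 984818244535754528103549039458486304, 970499966350631336865513127433832480, 963721886883755259286232606933354528, 967812279691448225500382947153381408, 0, 0, 0, 0]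

def tvCode (i j : Fin 3) (c : K) : ℕ := tvTab.getD (12 * i.val + 4 * j.val + kc c) 0

set_option maxRecDepth 1000000 in
theorem tv_ok : ∀ i j : Fin 3, i ≠ j → ∀ c : K,
    isAutC (tvCode i j c) = true ∧ fixesMask (tvCode i j c) 7 = true ∧
    ∀ n : Fin 24, (actF (Matrix.transvection i j c) n).val = papp (tvCode i j c) n := by
  decide +kernel

theorem toPerm_transvection {i j : Fin 3} (hij : i ≠ j) (c : K) :
    toPerm (Matrix.SpecialLinearGroup.transvection hij c) = permC (tvCode i j c) :=
  toPerm_eq_permC _ _ (isPerm_of_isAutC (tv_ok i j hij c).1) (tv_ok i j hij c).2.2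

theorem toPerm_mem_Hfix (g : SL3) : toPermHom g ∈ Hfix 7 := by
  have h : (Hfix 7).comap toPermHom = ⊤ := by
    apply Cfsg.Agent.Lib.Helper5.eq_top_of_transvection_mem
    intro i j hij c
    rw [Subgroup.mem_comap, toPermHom_apply, toPerm_transvection hij c]
    exact permC_mem_Hfix (tv_ok i j hij c).1 (tv_ok i j hij c).2.1
  have : g ∈ (Hfix 7).comap toPermHom := by rw [h]; trivial
  exact this

/-! ### Surjectivity -/

def matTab : List (ℕ × List ℕ) := [(984818244535754528103549039458486304, [1, 0, 0, 0, 1, 0, 0, 0, 1]), (888233513990054241073186136518690848, [1, 1, 0, 1, 1, 3, 2, 0, 0]), (561522443421234221812993158224709664, [1, 3, 1, 1, 3, 0, 1, 2, 0]), (196378304979881302315086040428382240, [1, 1, 2, 3, 2, 2, 1, 3, 2]), (849900528551554922347717597864364064, [1, 0, 0, 0, 3, 1, 0, 0, 2]), (226401735758181211329360001571751968, [0, 2, 1, 1, 0, 2, 3, 1, 1]), (357929241303960710003833426886821920, [0, 0, 3, 1, 0, 3, 2, 2, 0]), (887425865467986078724213605788878880, [1, 0, 0, 0, 2, 1, 0,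 0, 3]), (269360011769429823298579892159219744, [0, 1, 3, 0, 3, 3, 1, 3, 1]), (668978072848716370024178055290161184, [1, 1, 0, 1, 2, 1, 0, 2, 1]), (194196682322620527320570502160222240, [1, 1, 2, 0, 0, 1, 3, 2, 1]), (811957173545432817755083890154211360, [0, 1, 1, 1, 1, 0, 3, 3, 1]), (192854249804078226385840869585946656, [1, 1, 2, 3, 2, 3, 2, 1, 3]), (396525845906080909954890668250236960, [1, 0, 1, 3, 2, 2, 2, 3, 3]), (837686699039984914252371557088790560, [1, 1, 1, 1, 1, 0, 3, 2, 2]), (135173670464309460712567090874746912, [1, 3, 2, 3, 1, 1, 1, 2, 0]), (670098673004153418075281443666888736, [0, 2, 3, 0, 1, 1, 1, 1, 0]), (931172009976103275874197319370541088, [1, 2, 3, 2, 0, 2, 0, 1, 3]), (590225064779608660462916610449639456, [1, 2, 3, 1, 1, 2, 0, 2, 1]), (673955992846291390531691129064851488, [1, 2, 1, 0, 0, 1, 3, 0, 3]), (476968001659028043503831948336007200, [1, 2, 3, 3, 1, 0, 0, 3, 2]), (852441003295549873710640981383153696, [1, 3, 0, 3, 0, 0, 3, 0, 3]), (559645842859716124415256460108335136,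 [1, 2, 0, 3, 2, 0, 2, 2, 2]), (551323685763938461512045114590070816, [1, 0, 0, 3, 1, 0, 0, 2, 1]), (443362320393821690161552608142133280, [0, 1, 0, 1, 2, 0, 0, 1, 1]), (772850733414001342043095304636565536, [1, 2, 0, 3, 2, 0, 1, 0, 2]), (474493651460382394456262016533366816, [1, 0, 0, 1, 2, 0, 0, 1, 3]), (645440243467284464743699169317849120, [1, 2, 0, 2, 2, 0, 1, 3, 1]), (362715784661808232351480238076692512, [1, 0, 0, 2, 2, 0, 3, 2, 3]), (383600524173773991763504723500566560, [1, 1, 0, 1, 3, 0, 2, 3, 3]), (767616166785615768369199104103909408, [1, 3, 0, 3, 0, 0, 2, 3, 3]), (610506130422959000540079983177074720, [1, 2, 0, 0, 3, 0, 0, 3, 2]), (222382256930366311075467998185752608, [1, 2, 0, 0, 3, 0, 1, 1, 2]), (462942853229716405051752920447551520, [1, 1, 0, 1, 0, 0, 1, 2, 1]), (219718492428687223786740469242890272, [1, 3, 0, 0, 2, 0, 2, 0, 3]), (276667846153740590981788949833418784, [1, 2, 0, 1, 3, 0, 2, 0, 1]), (590117122791109427593507738057017376, [1, 3, 0, 0, 2, 0, 3, 3, 3]), (798540390331450282711248258397734944,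 [1, 1, 0, 2, 3, 0, 3, 2, 1]), (183647775015652157257914367386683424, [0, 3, 0, 1, 3, 0, 1, 2, 2]), (919793950784214902168900111548123168, [1, 1, 0, 1, 0, 0, 0, 3, 1]), (608167165260361641911015062699608096, [1, 0, 0, 0, 3, 0, 0, 0, 2]), (725895487971383339971559185675552800, [1, 0, 0, 0, 2, 0, 0, 0, 3]), (260169027461259500880655131087046688, [1, 0, 0, 1, 3, 0, 0, 0, 2]), (484779504598900739471956968959215648, [1, 0, 0, 1, 2, 0, 0, 0, 3]), (944319304547998642267612847938832416, [1, 0, 0, 1, 1, 0, 0, 0, 1]), (592380006640023600238759116057708576, [1, 0, 0, 0, 2, 0, 3, 0, 3]), (220213109803259289183002082616117280, [1, 0, 0, 0, 1, 0, 3, 0, 1]), (734193695561696696727012081653614624, [1, 0, 0, 0, 3, 0, 3, 0, 2]), (233256162770680474255234529480509472, [1, 0, 0, 0, 2, 0, 2, 0, 3]), (590072960059042287979885064796342304, [1, 0, 0, 0, 1, 0, 2, 0, 1]), (972606645568131968584696805283956768, [1, 0, 0, 0, 3, 0, 2, 0, 2]), (645971039647582928216486911676614688, [1, 0, 0, 2, 2, 0, 0, 0, 3]), (681942991418186671700734416290678816,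 [1, 0, 0, 2, 1, 0, 0, 0, 1]), (341050705022823791076430286248052768, [1, 0, 0, 2, 3, 0, 0, 0, 2]), (812852730107173232200347929486133280, [1, 0, 0, 2, 1, 0, 3, 0, 1]), (637575554806371494695470741007206432, [1, 0, 0, 2, 3, 0, 3, 0, 2]), (351355605056243205221527583111350304, [1, 0, 0, 2, 2, 0, 3, 0, 3]), (358662142733855540651195105552730144, [1, 0, 0, 2, 1, 0, 2, 0, 1]), (693746729602969859613000454004377632, [1, 0, 0, 2, 3, 0, 2, 0, 2]), (796272651614488101787381665936541728, [1, 0, 0, 2, 2, 0, 2, 0, 3]), (479663310730678034207776437455390752, [1, 0, 0, 1, 1, 0, 1, 0, 1]), (399377704341898151808080305612490784, [1, 0, 0, 1, 3, 0, 1, 0, 2]), (930943920660663948730329567529633824, [1, 0, 0, 1, 2, 0, 1, 0, 3]), (231686213159500301704167581341026336, [1, 0, 0, 0, 3, 0, 1, 0, 2]), (976531636853126291160407323722221600, [1, 0, 0, 0, 2, 0, 1, 0, 3]), (720981692062171673584743151055243296, [1, 0, 0, 0, 1, 0, 1, 0, 1]), (380679813245078647833929983948064800, [1, 0, 0, 1, 1, 0, 3, 0, 1]), (477149684114315024567765310665492512,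 [1, 0, 0, 1, 3, 0, 3, 0, 2]), (275888336415583309645661167182514208, [1, 0, 0, 1, 2, 0, 3, 0, 3]), (894746484934289125327969612694915104, [1, 0, 0, 3, 3, 0, 3, 0, 2]), (839189432063784999460430720348031008, [1, 0, 0, 3, 2, 0, 3, 0, 3]), (772944516003414818434737759861180448, [1, 0, 0, 3, 1, 0, 3, 0, 1]), (570109986616782138932769284593649696, [1, 0, 0, 3, 3, 0, 2, 0, 2]), (760033286391170187665230726437111840, [1, 0, 0, 3, 2, 0, 2, 0, 3]), (841384528646309054241536335100872736, [1, 0, 0, 3, 1, 0, 2, 0, 1]), (569346817558524578111400892262615072, [1, 0, 0, 3, 2, 0, 1, 0, 3]), (892716570080838209712931004353710112, [1, 0, 0, 3, 1, 0, 1, 0, 1]), (754655545202909480824058658477410336, [1, 0, 0, 3, 3, 0, 1, 0, 2]), (886929711944160005978619293296855072, [1, 0, 0, 3, 2, 0, 0, 0, 3]), (561475773312554808336860583768983584, [1, 0, 0, 3, 1, 0, 0, 0, 1]), (849847670871825776943761462759884832, [1, 0, 0, 3, 3, 0, 0, 0, 2]), (695226755442639250267515720785037344, [1, 0, 0, 2, 2, 0, 1, 0, 3]), (651239579074641248992907580101724192,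 [1, 0, 0, 2, 1, 0, 1, 0, 1]), (801631358534969762014396067323414560, [1, 0, 0, 2, 3, 0, 1, 0, 2]), (398162063758950117529135096646436896, [1, 0, 0, 1, 2, 0, 2, 0, 3]), (268195153026948482477577069584812064, [1, 0, 0, 1, 1, 0, 2, 0, 1]), (935448248327800417350548951748675616, [1, 0, 0, 1, 3, 0, 2, 0, 2])]

def matOf (l : List ℕ) : M3 := fun i j => kOf (l.getD (3 * i.val + j.val) 0)

def det3 (A : M3) : K :=
  A 0 0 * A 1 1 * A 2 2 - A 0 0 * A 1 2 * A 2 1 - A 0 1 * A 1 0 * A 2 2 + A 0 1 * A 1 2 * A 2 0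
    + A 0 2 * A 1 0 * A 2 1 - A 0 2 * A 1 1 * A 2 0

theorem det3_eq (A : M3) : A.det = det3 A := Matrix.det_fin_three A

set_option maxRecDepth 1000000 in
theorem matTab_ok : matTab.all (fun t => decide (det3 (matOf t.2) = 1) &&
    (List.finRange 24).all fun n => Nat.beq (actF (matOf t.2) n).val (papp t.1 n.val)) = true := by
  decide +kernel

set_option maxRecDepth 1000000 in
theorem matTab_cover : (wList ++ vList ++ H5list).all
    (fun S => matTab.any (fun t => Nat.beq t.1 S)) = true := by
  decide +kernel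

theorem permC_mem_range {S : ℕ} (hS : S ∈ wList ++ vList ++ H5list) (hP : isPerm S = true) :
    permC S ∈ toPermHom.range := by
  have h1 := List.all_eq_true.1 matTab_cover S hS
  obtain ⟨t, ht, hts⟩ := List.any_eq_true.1 h1
  have hts' : t.1 = S := Nat.eq_of_beq_eq_true hts
  have h2 := List.all_eq_true.1 matTab_ok t ht
  rw [Bool.and_eq_true] at h2
  have hdet : (matOf t.2).det = 1 := by
    rw [det3_eq]
    exact of_decide_eq_true h2.1
  refine ⟨(⟨matOf t.2, hdet⟩ : Matrix.SpecialLinearGroup (Fin 3) K), ?_⟩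
  show toPerm _ = _
  apply toPerm_eq_permC _ _ hP
  intro n
  have h3 := List.all_eq_true.1 h2.2 n (List.mem_finRange n)
  rw [← hts']
  exact Nat.eq_of_beq_eq_true h3

theorem P0_mem : P 0 ∈ fset 7 := by rw [mem_fset_P]; decide
theorem P1_mem : P 1 ∈ fset 7 := by rw [mem_fset_P]; decide
theorem P2_mem : P 2 ∈ fset 7 := by rw [mem_fset_P]; decide

theorem range_eq : toPermHom.range = Hfix 7 := by
  apply le_antisymm
  · rintro _ ⟨g, rfl⟩
    exact toPerm_mem_Hfix g
  · intro g hg
    obtain ⟨W, hW, V, hV, S, hS, rfl⟩ :=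
      m21_complete hg.1 (hg.2 _ P0_mem) (hg.2 _ P1_mem) (hg.2 _ P2_mem)
    rw [prodC_cons, prodC_cons, prodC_cons, prodC_singleton, permC_idCode, one_mul]
    refine Subgroup.mul_mem _ ?_ (Subgroup.mul_mem _ ?_ ?_)
    · exact permC_mem_range (by simp [hW]) (isPerm_of_isAutC (wList_perm hW))
    · exact permC_mem_range (by simp [hV]) (isPerm_of_isAutC (vList_perm hV))
    · exact permC_mem_range (by simp [hS]) (isPerm_of_isAutC (H5list_perm hS))

/-! ### The kernel -/

theorem prop_of_labN_eq {u v : V3} (hu : u ≠ 0) (hv : v ≠ 0) (h : labN u = labN v) :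
    ∃ l : K, u = l • v := by
  obtain ⟨l, hl, hlu⟩ := vecN_labN hu
  obtain ⟨l', hl', hlv⟩ := vecN_labN hv
  rw [h, hlv] at hlu
  refine ⟨l⁻¹ * l', ?_⟩
  rw [mul_smul, hlu, smul_smul, inv_mul_cancel₀ hl, one_smul]

theorem eigen_of_ker {g : SL3} (hg : toPermHom g = 1) (n : Fin 24) (hn : 3 ≤ n.val) :
    ∃ l : K, (g : M3) *ᵥ vecN n = l • vecN n := by
  have hv := labN_vecN n hn
  have h1 : ptIdx (toPerm g (ptOf n)) = n := by
    rw [← toPermHom_apply, hg, Equiv.Perm.one_apply, ptIdx_ptOf]
  rw [ptIdx_toPerm, ptIdx_ptOf, actF_ge (by omega)] at h1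
  have h2 : labN ((g : M3) *ᵥ vecN n) = labN (vecN n) := by
    rw [hv.2]
    exact congrArg Fin.val h1
  exact prop_of_labN_eq (sl_mulVec_ne_zero g _ hv.1) hv.1 h2

theorem vecN_5 : vecN (5 : Fin 24) = ![1, 0, 0] := by decide +kernel
theorem vecN_4 : vecN (4 : Fin 24) = ![0, 1, 0] := by decide +kernel
theorem vecN_3 : vecN (3 : Fin 24) = ![0, 0, 1] := by decide +kernel
theorem vecN_6 : vecN (6 : Fin 24) = ![1, 1, 1] := by decide +kernel

theorem ker_eq : toPermHom.ker = Subgroup.center SL3 := by
  ext g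
  rw [MonoidHom.mem_ker, Matrix.SpecialLinearGroup.mem_center_iff]
  constructor
  · intro hg
    obtain ⟨l0, h0⟩ := eigen_of_ker hg 5 (by decide)
    obtain ⟨l1, h1⟩ := eigen_of_ker hg 4 (by decide)
    obtain ⟨l2, h2⟩ := eigen_of_ker hg 3 (by decide)
    obtain ⟨l, h3⟩ := eigen_of_ker hg 6 (by decide)
    rw [show ((5 : Fin 24) : ℕ) = (5 : Fin 24).val from rfl] at h0
    rw [vecN_5] at h0
    rw [vecN_4] at h1
    rw [vecN_3] at h2
    rw [vecN_6] at h3
    have e0 : ∀ i, (g : M3) i 0 = (l0 • ![(1 : K), 0, 0]) i := fun i => by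
      rw [← h0]; simp [mulVec, dotProduct, Fin.sum_univ_three]
    have e1 : ∀ i, (g : M3) i 1 = (l1 • ![(0 : K), 1, 0]) i := fun i => by
      rw [← h1]; simp [mulVec, dotProduct, Fin.sum_univ_three]
    have e2 : ∀ i, (g : M3) i 2 = (l2 • ![(0 : K), 0, 1]) i := fun i => by
      rw [← h2]; simp [mulVec, dotProduct, Fin.sum_univ_three]
    have e3 : ∀ i, (g : M3) i 0 + (g : M3) i 1 + (g : M3) i 2 = (l • ![(1 : K), 1, 1]) i := fun i => by
      rw [← h3]; simp [mulVec, dotProduct, Fin.sum_univ_three]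
    have a0 := e3 0
    have a1 := e3 1
    have a2 := e3 2
    rw [e0, e1, e2] at a0 a1 a2
    simp at a0 a1 a2
    have hmat : (g : M3) = scalar (Fin 3) l := by
      refine Matrix.ext fun i j => ?_
      fin_cases i <;> fin_cases j <;> simp [e0, e1, e2, a0, a1, a2, Matrix.diagonal]
    refine ⟨l, ?_, hmat.symm⟩
    have hd := g.det_coe
    rw [hmat] at hd
    simpa using hd
  · rintro ⟨r, hr, hrg⟩
    have hr0 : r ≠ 0 := by
      rintro rfl
      simp at hr
    rw [toPermHom_apply]
    apply eq_of_ptIdx_eq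
    intro p
    rw [ptIdx_toPerm, Equiv.Perm.one_apply]
    by_cases h : (ptIdx p).val < 3
    · rw [actF_lt h]
    · rw [actF_ge h]
      simp only
      rw [← hrg]
      have : (scalar (Fin 3) r) *ᵥ vecN (ptIdx p) = r • vecN (ptIdx p) := by
        rw [scalar_apply, ← smul_one_eq_diagonal, smul_mulVec, one_mulVec]
      rw [this, labN_smul hr0]
      exact (labN_vecN _ (by omega)).2

end Cfsg.Agent.Lib.Helper93.PSL34
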