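import Cfsg.Agent.Lib.Helper93.FixCounts

set_option autoImplicit false

namespace Cfsg.Agent.Lib.Helper93.Golay

open Cfsg
open scoped Pointwise

variable {α : Type} [MulAction (Equiv.Perm GolayPt) α] {β : Type}

/-- Relative orbit counting: distinct images of `root` under a subgroup `H` bound the order of
the stabiliser of `root` in `H`. -/
theorem Enc.inf_stab_card_le (E : Enc α β) (H : Subgroup (Equiv.Perm GolayPt)) (gens : List ℕ)
    (hgens : ∀ S ∈ gens, isPerm S = true ∧ permC S ∈ H)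
    (root : β) (hroot : E.small root) (targets : List β) (hnd : targets.Nodup)
    (hcanon : ∀ b ∈ targets, E.canon b = true) (words : List (List ℕ))
    (hreach : E.reachOK gens root targets words = true) :
    targets.length * Nat.card ↥(H ⊓ MulAction.stabilizer (Equiv.Perm GolayPt) (E.dec root)) ≤
      Nat.card H := by
  have hreach' := E.reach_spec gens root hroot H hgens targets words hreach
  have himg : ({a | ∃ b ∈ targets, E.dec b = a} : Set α).ncard = targets.length :=
    ncard_eq_length E.dec targets hnd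
      (fun x hx y hy h => E.dec_inj x y (hcanon x hx) (hcanon y hy) h) _ (fun a => Iff.rfl)
  have hcard := card_eq_ncard_mul_card_inf_stabilizer (G := Equiv.Perm GolayPt) H (E.dec root)
    {s | ∃ k ∈ H, k • (E.dec root) = s} (fun k hk => ⟨k, hk, rfl⟩) (fun s hs => hs)
  rw [hcard]
  apply Nat.mul_le_mul_right
  rw [← himg]
  have hfin : ({s | ∃ k ∈ H, k • (E.dec root) = s} : Set α).Finite := by
    have : Finite (Equiv.Perm GolayPt) := inferInstance
    have himage : ({s | ∃ k ∈ H, k • (E.dec root) = s} : Set α) ⊆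
        (fun g : Equiv.Perm GolayPt => g • E.dec root) '' Set.univ := by
      rintro y ⟨g, _, rfl⟩
      exact ⟨g, trivial, rfl⟩
    exact (Set.toFinite _).subset himage
  apply Set.ncard_le_ncard _ hfin
  rintro a ⟨b, hb, rfl⟩
  exact hreach' b hb

/-- The centraliser in `M24` of a permutation. -/
def centM (t : Equiv.Perm GolayPt) : Subgroup (Equiv.Perm GolayPt) where
  carrier := {c | c ∈ M24 ∧ c * t = t * c}
  mul_mem' := by
    rintro a b ⟨ha, ha'⟩ ⟨hb, hb'⟩
    refine ⟨M24.mul_mem ha hb, ?_⟩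
    rw [mul_assoc, hb', ← mul_assoc, ha', mul_assoc]
  one_mem' := ⟨M24.one_mem, by rw [one_mul, mul_one]⟩
  inv_mem' := by
    rintro a ⟨ha, ha'⟩
    refine ⟨M24.inv_mem ha, ?_⟩
    have : a⁻¹ * t = a⁻¹ * (t * a) * a⁻¹ := by group
    rw [this, ← ha']
    group

theorem mem_centM (t c : Equiv.Perm GolayPt) : c ∈ centM t ↔ c ∈ M24 ∧ c * t = t * c := Iff.rfl

theorem card_centM (t : Equiv.Perm GolayPt) :
    Nat.card {c : Equiv.Perm GolayPt // c ∈ M24 ∧ c * t = t * c} = Nat.card (centM t) := rfl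

/-- Conjugating the centraliser. -/
theorem mem_centM_conj (t z c : Equiv.Perm GolayPt) (hz : z ∈ M24) :
    c ∈ centM (z * t * z⁻¹) ↔ z⁻¹ * c * z ∈ centM t := by
  rw [mem_centM, mem_centM]
  constructor
  · rintro ⟨hc, hct⟩
    refine ⟨M24.mul_mem (M24.mul_mem (M24.inv_mem hz) hc) hz, ?_⟩
    have e1 : z⁻¹ * c * z * t = z⁻¹ * (c * (z * t * z⁻¹)) * z := by group
    have e2 : t * (z⁻¹ * c * z) = z⁻¹ * ((z * t * z⁻¹) * c) * z := by group
    rw [e1, e2, hct]
  · rintro ⟨hc, hct⟩
    refine ⟨?_, ?_⟩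
    · have : c = z * (z⁻¹ * c * z) * z⁻¹ := by group
      rw [this]
      exact M24.mul_mem (M24.mul_mem hz hc) (M24.inv_mem hz)
    · have e1 : c * (z * t * z⁻¹) = z * (z⁻¹ * c * z * t) * z⁻¹ := by group
      have e2 : z * t * z⁻¹ * c = z * (t * (z⁻¹ * c * z)) * z⁻¹ := by group
      rw [e1, e2, hct]

theorem card_centM_conj (t z : Equiv.Perm GolayPt) (hz : z ∈ M24) :
    Nat.card (centM (z * t * z⁻¹)) = Nat.card (centM t) :=
  card_subgroup_conj (centM t) (centM (z * t * z⁻¹)) z (fun c => mem_centM_conj t z c hz)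

theorem comm_of_commF {a b : Equiv.Perm GolayPt} {f f' : ℕ → ℕ}
    (ha : ∀ p, ((ptIdx (a p) : Fin 24) : ℕ) = f (ptIdx p))
    (hb : ∀ p, ((ptIdx (b p) : Fin 24) : ℕ) = f' (ptIdx p)) (h : commF f f' = true) :
    a * b = b * a := by
  apply eq_of_ptIdx_eq
  intro p
  rw [Equiv.Perm.mul_apply, Equiv.Perm.mul_apply, ha, hb, hb, ha]
  exact Nat.eq_of_beq_eq_true
    (List.all_eq_true.1 h (ptIdx p) (List.mem_range.2 (ptIdx p).isLt))

theorem fset_pair : ∀ i j : Fin 24,
    fset ((1 <<< (i : ℕ)) ||| (1 <<< (j : ℕ))) = {ptOf i, ptOf j} := by decide +kernel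

end Cfsg.Agent.Lib.Helper93.Golay
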