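import Cfsg.Agent.Lib.Helper93.RelOrbit

set_option autoImplicit false

/-! Relative version of `stab_eq_gen`: the stabiliser of a coded object inside a subgroup `H` of
known order, from an orbit list and a certified chain. -/

namespace Cfsg.Agent.Lib.Helper93.Golay

open Cfsg
open scoped Pointwise

variable {α : Type} [MulAction (Equiv.Perm GolayPt) α] {β : Type}

theorem rel_stab_eq_gen (E : Enc α β) (H : Subgroup (Equiv.Perm GolayPt)) (n : ℕ)
    (hH : Nat.card H ≤ n) (gens : List ℕ)
    (hgens : ∀ S ∈ gens, isPerm S = true ∧ permC S ∈ H)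
    (x₀ : β) (hx₀ : E.small x₀) (orbitL : List β) (hnd : orbitL.Nodup)
    (hcanon : ∀ b ∈ orbitL, E.canon b = true) (words : List (List ℕ))
    (hreach : E.reachOK gens x₀ orbitL words = true)
    (levels : List (ℕ × List ℕ × List (ℕ × ℕ × ℕ)))
    (hlev : ∀ S ∈ chainGens levels, isPerm S = true ∧ permC S ∈ H ∧
      E.beq (E.act S x₀) x₀ = true)
    (hprod : orbitL.length * chainProd 0 levels = n) (hn : 0 < n) :
    H ⊓ MulAction.stabilizer (Equiv.Perm GolayPt) (E.dec x₀) = genSubgroup (chainGens levels) ∧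
      Nat.card ↥(H ⊓ MulAction.stabilizer (Equiv.Perm GolayPt) (E.dec x₀)) =
        chainProd 0 levels ∧
      Nat.card H = n ∧
      ∀ h ∈ H, ∃ b ∈ orbitL, E.dec b = h • E.dec x₀ := by
  have hle1 := E.inf_stab_card_le H gens hgens x₀ hx₀ orbitL hnd hcanon words hreach
  have hgen_le : genSubgroup (chainGens levels) ≤
      H ⊓ MulAction.stabilizer (Equiv.Perm GolayPt) (E.dec x₀) := by
    apply genSubgroup_le
    intro S hS
    obtain ⟨h1, h2, h3⟩ := hlev S hS
    refine ⟨h2, ?_⟩
    show permC S ∈ MulAction.stabilizer (Equiv.Perm GolayPt) (E.dec x₀)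
    rw [MulAction.mem_stabilizer_iff, E.act_spec S h1 x₀ hx₀, E.beq_eq _ _ h3]
  have hle2 : chainProd 0 levels ≤ Nat.card (genSubgroup (chainGens levels)) :=
    chainProd_le_card_genSubgroup levels
  have hle3 : Nat.card (genSubgroup (chainGens levels)) ≤
      Nat.card ↥(H ⊓ MulAction.stabilizer (Equiv.Perm GolayPt) (E.dec x₀)) :=
    Subgroup.card_le_of_le hgen_le
  have hpos : 0 < chainProd 0 levels := by
    rcases Nat.eq_zero_or_pos (chainProd 0 levels) with h | h
    · rw [h] at hprod; omega
    · exact h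
  have hlpos : 0 < orbitL.length := by
    rcases Nat.eq_zero_or_pos orbitL.length with h | h
    · rw [h] at hprod; omega
    · exact h
  set c := chainProd 0 levels with hc
  set s := Nat.card ↥(H ⊓ MulAction.stabilizer (Equiv.Perm GolayPt) (E.dec x₀)) with hs
  set k := Nat.card (genSubgroup (chainGens levels)) with hk
  have hcs : c ≤ s := le_trans hle2 hle3
  have h1 : orbitL.length * c ≤ orbitL.length * s := Nat.mul_le_mul_left _ hcs
  have hseq : s = c := by
    have : orbitL.length * s = orbitL.length * c := by omega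
    exact Nat.eq_of_mul_eq_mul_left hlpos this
  have hHn : Nat.card H = n := by
    rw [hseq] at hle1
    omega
  have hkeq : k = s := le_antisymm hle3 (by omega)
  refine ⟨?_, hseq, hHn, ?_⟩
  · symm
    apply Subgroup.eq_of_le_of_card_ge hgen_le
    omega
  · -- orbit completeness
    have hreach' := E.reach_spec gens x₀ hx₀ H hgens orbitL words hreach
    have himg : ({a | ∃ b ∈ orbitL, E.dec b = a} : Set α).ncard = orbitL.length :=
      ncard_eq_length E.dec orbitL hnd
        (fun x hx y hy h => E.dec_inj x y (hcanon x hx) (hcanon y hy) h) _ (fun a => Iff.rfl)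
    have hcard := card_eq_ncard_mul_card_inf_stabilizer (G := Equiv.Perm GolayPt) H (E.dec x₀)
      {s | ∃ k ∈ H, k • (E.dec x₀) = s} (fun k hk => ⟨k, hk, rfl⟩) (fun s hs => hs)
    have hfin : ({s | ∃ k ∈ H, k • (E.dec x₀) = s} : Set α).Finite := by
      have : Finite (Equiv.Perm GolayPt) := inferInstance
      have himage : ({s | ∃ k ∈ H, k • (E.dec x₀) = s} : Set α) ⊆
          (fun g : Equiv.Perm GolayPt => g • E.dec x₀) '' Set.univ := by
        rintro y ⟨g, _, rfl⟩
        exact ⟨g, trivial, rfl⟩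
      exact (Set.toFinite _).subset himage
    have hsub : ({a | ∃ b ∈ orbitL, E.dec b = a} : Set α) ⊆
        {s | ∃ k ∈ H, k • (E.dec x₀) = s} := by
      rintro a ⟨b, hb, rfl⟩
      exact hreach' b hb
    have hNeq : ({s | ∃ k ∈ H, k • (E.dec x₀) = s} : Set α).ncard = orbitL.length := by
      rw [hHn, ← hs, hseq, ← hprod] at hcard
      exact (Nat.eq_of_mul_eq_mul_right hpos hcard).symm
    have heq : ({a | ∃ b ∈ orbitL, E.dec b = a} : Set α) =
        {s | ∃ k ∈ H, k • (E.dec x₀) = s} := by
      apply Set.eq_of_subset_of_ncard_le hsub _ hfin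
      rw [himg, hNeq]
    intro h hh
    have : h • E.dec x₀ ∈ ({s | ∃ k ∈ H, k • (E.dec x₀) = s} : Set α) := ⟨h, hh, rfl⟩
    rw [← heq] at this
    exact this

end Cfsg.Agent.Lib.Helper93.Golay
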