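import Cfsg.Agent.Lib.Helper93.Trios

set_option autoImplicit false

namespace Cfsg.Agent.Lib.Helper93.Golay

open Cfsg
open scoped Pointwise

/-! ### Sextets -/

/-- The check that a list of masks codes a sextet. -/
def sextetOK (l : List ℕ) : Bool :=
  Nat.beq l.length 6 && canonL l && l.all (fun t => Nat.beq (popcF t) 4) &&
    l.all (fun t => l.all (fun u => Nat.beq t u ||
      (isCodeF (t ||| u) && Nat.beq (popcF (t ||| u)) 8)))

theorem canonL_of_sextetOK {l : List ℕ} (h : sextetOK l = true) : canonL l = true := by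
  unfold sextetOK at h
  simp only [Bool.and_eq_true] at h
  exact h.1.1.2

theorem fset_union (m m' : ℕ) : fset m ∪ fset m' = fset (m ||| m') := by
  ext p
  rw [Finset.mem_union, mem_fset, mem_fset, mem_fset, Nat.testBit_or, Bool.or_eq_true]

theorem or_lt {m m' : ℕ} (h : m < 16777216) (h' : m' < 16777216) : m ||| m' < 16777216 := by
  have : (16777216 : ℕ) = 2 ^ 24 := by norm_num
  rw [this] at h h' ⊢
  exact Nat.or_lt_two_pow h h'

theorem decFF_mem_sextets {l : List ℕ} (h : sextetOK l = true) : decFF l ∈ sextets := by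
  unfold sextetOK at h
  simp only [Bool.and_eq_true] at h
  obtain ⟨⟨⟨hlen, hcanon⟩, h4⟩, hpairs⟩ := h
  refine ⟨?_, ?_, ?_⟩
  · rw [card_decFF hcanon]
    exact Nat.eq_of_beq_eq_true hlen
  · intro t ht
    rw [mem_decFF] at ht
    obtain ⟨m, hm, rfl⟩ := ht
    rw [card_fset (canonL_lt hcanon hm)]
    exact Nat.eq_of_beq_eq_true (List.all_eq_true.1 h4 m hm)
  · intro t ht u hu hne
    obtain ⟨m, hm, rfl⟩ := (mem_decFF _ _).1 ht
    obtain ⟨m', hm', rfl⟩ := (mem_decFF _ _).1 hu
    have := List.all_eq_true.1 (List.all_eq_true.1 hpairs m hm) m' hm'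
    rw [Bool.or_eq_true] at this
    rcases this with h | h
    · exact absurd (congrArg fset (Nat.eq_of_beq_eq_true h)) hne
    · rw [Bool.and_eq_true] at h
      rw [fset_union]
      exact fset_mem_octads (or_lt (canonL_lt hcanon hm) (canonL_lt hcanon hm')) h.1
        (Nat.eq_of_beq_eq_true h.2)

theorem smul_mem_sextets {g : Equiv.Perm GolayPt} (hg : g ∈ M24) {S : Finset (Finset GolayPt)}
    (hS : S ∈ sextets) : g • S ∈ sextets := by
  obtain ⟨hcard, h4, hun⟩ := hS
  refine ⟨by rw [Finset.card_smul_finset, hcard], ?_, ?_⟩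
  · intro t ht
    obtain ⟨t', ht', rfl⟩ := Finset.mem_smul_finset.1 ht
    rw [Finset.card_smul_finset]
    exact h4 t' ht'
  · intro t ht u hu hne
    obtain ⟨t', ht', rfl⟩ := Finset.mem_smul_finset.1 ht
    obtain ⟨u', hu', rfl⟩ := Finset.mem_smul_finset.1 hu
    rw [← Finset.smul_finset_union]
    exact smul_mem_octads_of_mem_M24 hg (hun t' ht' u' hu' (fun h => hne (by rw [h])))

/-- The base sextet, containing the tetrad of the points of indices 0, 1, 2, 3. -/
def S0code : List ℕ := [15, 5264, 622848, 3416064, 4196928, 8536096]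

theorem S0code_ok : sextetOK S0code = true := by decide +kernel

set_option maxRecDepth 100000 in
theorem octads_through_15 : octList.filter (fun o => Nat.beq (o &&& 15) 15) =
    [5279, 622863, 3416079, 4196943, 8536111] := by decide +kernel

theorem tetrads_disjoint {S : Finset (Finset GolayPt)} (hS : S ∈ sextets) {t u : Finset GolayPt}
    (ht : t ∈ S) (hu : u ∈ S) (hne : t ≠ u) : Disjoint t u := by
  obtain ⟨_, h4, hun⟩ := hS
  have h8 := (hun t ht u hu hne).2
  have := Finset.card_union_add_card_inter t u
  rw [h8, h4 t ht, h4 u hu] at this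
  rw [Finset.disjoint_iff_inter_eq_empty, ← Finset.card_eq_zero]
  omega

/-- A sextet containing the base tetrad is the base sextet. -/
theorem sextet_eq_of_mem {S : Finset (Finset GolayPt)} (hS : S ∈ sextets) (h : fset 15 ∈ S) :
    S = decFF S0code := by
  have hcanon := canonL_of_sextetOK S0code_ok
  apply Finset.eq_of_subset_of_card_le
  · intro u hu
    rw [mem_decFF]
    by_cases hu15 : u = fset 15
    · exact ⟨15, by decide, hu15.symm⟩
    · have hd := tetrads_disjoint hS h hu (Ne.symm hu15)
      have hoct := hS.2.2 (fset 15) h u hu (Ne.symm hu15)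
      have hmem := (fmask_mem_octList_iff _).2 hoct
      have hsd : u = symmDiff (fset 15 ∪ u) (fset 15) := by
        ext p
        rw [Finset.mem_symmDiff, Finset.mem_union]
        constructor
        · intro hp
          exact Or.inl ⟨Or.inr hp, fun h15 => Finset.disjoint_left.1 hd h15 hp⟩
        · rintro (⟨h1 | h1, h2⟩ | ⟨h1, h2⟩)
          · exact absurd h1 h2
          · exact h1
          · exact absurd (Or.inl h1) h2
      have hfu : fmask u = fmask (fset 15 ∪ u) ^^^ 15 := by
        conv_lhs => rw [hsd]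
        rw [fmask_symmDiff, fmask_fset' (by norm_num)]
      have hsub : fmask (fset 15 ∪ u) &&& 15 = 15 := by
        rw [fmask_union, fmask_fset' (by norm_num)]
        apply Nat.eq_of_testBit_eq
        intro i
        rw [Nat.testBit_and, Nat.testBit_or]
        cases (15 : ℕ).testBit i <;> simp
      have hfilt : fmask (fset 15 ∪ u) ∈ octList.filter (fun o => Nat.beq (o &&& 15) 15) := by
        rw [List.mem_filter]
        exact ⟨hmem, by rw [hsub]; rfl⟩
      rw [octads_through_15] at hfilt
      refine ⟨fmask u, ?_, fset_fmask u⟩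
      rw [hfu]
      simp only [List.mem_cons, List.mem_nil_iff, or_false] at hfilt
      rcases hfilt with h | h | h | h | h
      · rw [h]; decide
      · rw [h]; decide
      · rw [h]; decide
      · rw [h]; decide
      · rw [h]; decide
  · rw [card_decFF hcanon, hS.1]
    rfl

theorem fset_15 : fset 15 = {P 0, P 1, P 2, P 3} := by decide +kernel

/-- `M24` maps the base tetrad onto any 4-element set. -/
theorem exists_smul_tetrad_eq {t : Finset GolayPt} (ht : t.card = 4) :
    ∃ g ∈ M24, g • fset 15 = t := by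
  classical
  -- a point outside `t`
  have hex : ∃ e : GolayPt, e ∉ t := by
    by_contra hcon
    simp only [not_exists, not_not] at hcon
    have : t = Finset.univ := Finset.eq_univ_iff_forall.2 hcon
    rw [this] at ht
    have h24 : (Finset.univ : Finset GolayPt).card = 24 := rfl
    omega
  obtain ⟨e, he⟩ := hex
  let eq := Finset.equivFinOfCardEq ht
  let q : ℕ → GolayPt := fun i => if h : i < 4 then (eq.symm ⟨i, h⟩ : GolayPt) else e
  have hq4 : ∀ i (h : i < 4), q i ∈ t := by
    intro i h
    simp only [q, h, dite_true]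
    exact (eq.symm ⟨i, h⟩).2
  have hqinj : ∀ i j, i < 5 → j < 5 → q i = q j → i = j := by
    intro i j hi hj hij
    by_cases h1 : i < 4 <;> by_cases h2 : j < 4
    · simp only [q, h1, h2, dite_true] at hij
      have := eq.symm.injective (Subtype.ext hij)
      exact Fin.mk.inj_iff.1 this
    · have hj4 : q j = e := by simp only [q, h2, dite_false]
      rw [hj4] at hij
      exact absurd (hij ▸ hq4 i h1) he
    · have hi4 : q i = e := by simp only [q, h1, dite_false]
      rw [hi4] at hij
      exact absurd (hij.symm ▸ hq4 j h2) he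
    · omega
  obtain ⟨g, hg, hgq⟩ := exists_M24_map q hqinj 4 (by norm_num)
  refine ⟨g, hg, ?_⟩
  apply Finset.eq_of_subset_of_card_le
  · intro p hp
    rw [Finset.mem_smul_finset] at hp
    obtain ⟨x, hx, rfl⟩ := hp
    rw [fset_15] at hx
    simp only [Finset.mem_insert, Finset.mem_singleton] at hx
    rcases hx with rfl | rfl | rfl | rfl
    · show g (P 0) ∈ t
      rw [hgq 0 (by norm_num)]; exact hq4 0 (by norm_num)
    · show g (P 1) ∈ t
      rw [hgq 1 (by norm_num)]; exact hq4 1 (by norm_num)
    · show g (P 2) ∈ t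
      rw [hgq 2 (by norm_num)]; exact hq4 2 (by norm_num)
    · show g (P 3) ∈ t
      rw [hgq 3 (by norm_num)]; exact hq4 3 (by norm_num)
  · rw [Finset.card_smul_finset, ht, card_fset (by norm_num)]
    decide +kernel

/-- `M24` is transitive on sextets. -/
theorem exists_smul_S0_eq {S : Finset (Finset GolayPt)} (hS : S ∈ sextets) :
    ∃ g ∈ M24, g • decFF S0code = S := by
  have hne : S.Nonempty := by
    rw [← Finset.card_pos, hS.1]; norm_num
  obtain ⟨t, ht⟩ := hne
  obtain ⟨g, hg, hgt⟩ := exists_smul_tetrad_eq (hS.2.1 t ht)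
  have hS' : g⁻¹ • S ∈ sextets := smul_mem_sextets (M24.inv_mem hg) hS
  have hmem : fset 15 ∈ g⁻¹ • S := by
    rw [Finset.mem_smul_finset]
    exact ⟨t, ht, by rw [← hgt, inv_smul_smul]⟩
  have := sextet_eq_of_mem hS' hmem
  refine ⟨g, hg, ?_⟩
  rw [← this, smul_inv_smul]

end Cfsg.Agent.Lib.Helper93.Golay
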