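import Mathlib
import Cfsg.Prelude.Def_Sporadic_a

set_option autoImplicit false

namespace Cfsg.Agent.Lib.Helper93

open Finset

variable {α : Type*} [DecidableEq α]

/-- The number of `k`-subsets of `s` containing a fixed subset `t`. -/
theorem card_powersetCard_filter_subset (s t : Finset α) (hts : t ⊆ s) (k : ℕ) (hk : t.card ≤ k) :
    ((s.powersetCard k).filter (t ⊆ ·)).card = (s.card - t.card).choose (k - t.card) := by
  rw [← Finset.card_sdiff_of_subset hts, ← Finset.card_powersetCard]
  apply Finset.card_nbij' (fun J => J \ t) (fun K => K ∪ t)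
  · intro J hJ
    simp only [Finset.mem_coe, Finset.mem_filter, Finset.mem_powersetCard] at hJ
    simp only [Finset.mem_coe, Finset.mem_powersetCard]
    refine ⟨Finset.sdiff_subset_sdiff hJ.1.1 (le_refl t), ?_⟩
    rw [Finset.card_sdiff_of_subset hJ.2, hJ.1.2]
  · intro K hK
    simp only [Finset.mem_coe, Finset.mem_powersetCard] at hK
    simp only [Finset.mem_coe, Finset.mem_filter, Finset.mem_powersetCard]
    have hd : Disjoint K t := Finset.disjoint_of_subset_left hK.1 Finset.sdiff_disjoint
    refine ⟨⟨Finset.union_subset (hK.1.trans Finset.sdiff_subset) hts, ?_⟩, Finset.subset_union_right⟩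
    rw [Finset.card_union_of_disjoint hd, hK.2]
    omega
  · intro J hJ
    simp only [Finset.mem_coe, Finset.mem_filter, Finset.mem_powersetCard] at hJ
    exact Finset.sdiff_union_of_subset hJ.2
  · intro K hK
    simp only [Finset.mem_coe, Finset.mem_powersetCard] at hK
    have hd : Disjoint K t := Finset.disjoint_of_subset_left hK.1 Finset.sdiff_disjoint
    exact Finset.union_sdiff_cancel_right hd

/-- Double counting in a Steiner system: the number of blocks through a set `I` of at most `t`
points. -/
theorem steiner_card_containing [Fintype α] (t k : ℕ) (B : Set (Finset α))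
    (hB : Cfsg.IsSteinerSystem t k B) (I : Finset α) (hI : I.card ≤ t) :
    {b | b ∈ B ∧ I ⊆ b}.ncard * (k - I.card).choose (t - I.card) =
      (Fintype.card α - I.card).choose (t - I.card) := by
  classical
  let Bf : Finset (Finset α) := Finset.univ.filter fun b => b ∈ B ∧ I ⊆ b
  have hBf : {b | b ∈ B ∧ I ⊆ b} = (Bf : Set (Finset α)) := by
    ext b; simp [Bf]
  rw [hBf, Set.ncard_coe_finset]
  let P : Finset (Finset α) := (Finset.univ.powersetCard t).filter (I ⊆ ·)
  have hP : P.card = (Fintype.card α - I.card).choose (t - I.card) := by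
    have := card_powersetCard_filter_subset (Finset.univ : Finset α) I (Finset.subset_univ I) t hI
    rw [Finset.card_univ] at this
    exact this
  let blockOf : Finset α → Finset α := fun J =>
    if h : J.card = t then Classical.choose (hB.2 J h).exists else ∅
  have hblock : ∀ J, J.card = t → blockOf J ∈ B ∧ J ⊆ blockOf J := by
    intro J hJ
    simp only [blockOf, hJ, dite_true]
    exact Classical.choose_spec (hB.2 J hJ).exists
  have hblock_uniq : ∀ J, J.card = t → ∀ b, b ∈ B → J ⊆ b → blockOf J = b := by
    intro J hJ b hb hJb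
    exact (hB.2 J hJ).unique (hblock J hJ) ⟨hb, hJb⟩
  have hmaps : ∀ J ∈ P, blockOf J ∈ Bf := by
    intro J hJ
    simp only [P, Finset.mem_filter, Finset.mem_powersetCard] at hJ
    have := hblock J hJ.1.2
    simp only [Bf, Finset.mem_filter, Finset.mem_univ, true_and]
    exact ⟨this.1, hJ.2.trans this.2⟩
  rw [← hP, Finset.card_eq_sum_card_fiberwise hmaps]
  have hfib : ∀ b ∈ Bf, (P.filter fun J => blockOf J = b).card = (k - I.card).choose (t - I.card) := by
    intro b hb
    simp only [Bf, Finset.mem_filter, Finset.mem_univ, true_and] at hb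
    have hbk : b.card = k := hB.1 b hb.1
    rw [← hbk, ← card_powersetCard_filter_subset b I hb.2 t hI]
    congr 1
    ext J
    simp only [P, Finset.mem_filter, Finset.mem_powersetCard, Finset.subset_univ, true_and]
    constructor
    · rintro ⟨⟨hJt, hIJ⟩, hJb⟩
      refine ⟨⟨?_, hJt⟩, hIJ⟩
      rw [← hJb]
      exact (hblock J hJt).2
    · rintro ⟨⟨hJb, hJt⟩, hIJ⟩
      exact ⟨⟨hJt, hIJ⟩, hblock_uniq J hJt b hb.1 hJb⟩
  rw [Finset.sum_congr rfl hfib, Finset.sum_const, smul_eq_mul]

/-- Weighted count of the members of a family by their intersection with `Y`. -/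
theorem sum_choose_inter_eq (Bf : Finset (Finset α)) (Y : Finset α) (j : ℕ) :
    ∑ b ∈ Bf, ((b ∩ Y).card).choose j = ∑ X ∈ Y.powersetCard j, (Bf.filter (X ⊆ ·)).card := by
  have h := Finset.sum_card_bipartiteAbove_eq_sum_card_bipartiteBelow
    (s := Bf) (t := Y.powersetCard j) (fun (b X : Finset α) => X ⊆ b)
  simp only [Finset.bipartiteAbove, Finset.bipartiteBelow] at h
  rw [← h]
  refine Finset.sum_congr rfl fun b _ => ?_
  rw [← Finset.card_powersetCard]
  congr 1
  ext X
  simp only [Finset.mem_powersetCard, Finset.mem_filter, Finset.subset_inter_iff]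
  tauto

end Cfsg.Agent.Lib.Helper93
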