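import Mathlib
import Cfsg.Prelude.Def_KGroupFacts
import Cfsg.Agent.Lib.Helper89.SafePres2

/-!
# Stem extensions whose kernel is a quotient of the kernel of an explicit cover (helper93)

Generalisation of helper89's `SafePres2.card_ker_le_of_safe`: the kernels considered have exponent dividing
a number `e` prime to the orders of the generators (no reduction to `p`-groups), and the conclusion is a
surjection from the kernel of an explicit cover `sig : Gam →* G` (generated by lifts of the generators which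
satisfy the same power and conjugation relations, and as large as the presentation allows) onto the kernel
of any stem extension.
-/

set_option autoImplicit false

namespace Cfsg.Agent.Lib.Helper93.StemCyc

open Cfsg.Agent.Lib.Helper89.CosetCert Cfsg.Agent.Lib.Helper89.StemSafe
open Cfsg.Agent.Lib.Helper89.SafePres Cfsg.Agent.Lib.Helper89.SafePres2
open scoped commutatorElement

universe u

section Good

variable {Γ : Type*} {G : Type*} [Group Γ] [Group G] (σ : Γ →* G) (e : ℕ)

/-- uniqueness of lifts of order prime to the exponent of the kernel -/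
theorem good_unique' (hcen : σ.ker ≤ Subgroup.center Γ)
    (hek : ∀ z ∈ σ.ker, z ^ e = 1) {x y : Γ} {m m' : ℕ} (hxy : σ x = σ y)
    (hx : x ^ m = 1) (hy : y ^ m' = 1) (hm : m.Coprime e) (hm' : m'.Coprime e) : x = y := by
  set c : Γ := x⁻¹ * y with hc
  have hck : c ∈ σ.ker := by
    rw [MonoidHom.mem_ker, hc, map_mul, map_inv, hxy, inv_mul_cancel]
  have hcc := Subgroup.mem_center_iff.1 (hcen hck)
  have hyx : y = x * c := by rw [hc]; group
  have hcomm : Commute x c := (hcc x)
  have h1 : c ^ (m * m') = 1 := by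
    have h2 : y ^ (m * m') = 1 := by rw [mul_comm, pow_mul, hy, one_pow]
    rw [hyx, hcomm.mul_pow, pow_mul, hx, one_pow, one_mul] at h2
    exact h2
  have hn := hek c hck
  have hd1 := orderOf_dvd_of_pow_eq_one h1
  have hd2 := orderOf_dvd_of_pow_eq_one hn
  have hcop : (m * m').Coprime e := Nat.Coprime.mul_left hm hm'
  have : orderOf c = 1 := Nat.eq_one_of_dvd_coprimes hcop hd1 hd2
  rw [orderOf_eq_one_iff] at this
  rw [hyx, this, mul_one]

/-- existence of lifts of order prime to the exponent of the kernel -/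
theorem good_exists' (hsurj : Function.Surjective σ) (hcen : σ.ker ≤ Subgroup.center Γ)
    (hek : ∀ z ∈ σ.ker, z ^ e = 1) (he : 0 < e) (g : G) (n : ℕ) (hg : g ^ n = 1)
    (hn : n.Coprime e) : ∃ γ : Γ, σ γ = g ∧ γ ^ n = 1 := by
  obtain ⟨γ0, hγ0⟩ := hsurj g
  set k : Γ := γ0 ^ n with hk
  have hkk : k ∈ σ.ker := by rw [MonoidHom.mem_ker, hk, map_pow, hγ0, hg]
  have ha := hek k hkk
  by_cases h1 : e = 1
  · refine ⟨γ0, hγ0, ?_⟩
    rw [h1, pow_one] at ha
    exact ha
  · have hlt : 1 < e := by omega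
    obtain ⟨u, -, hu⟩ := Nat.exists_mul_mod_eq_one_of_coprime hn hlt
    have hkc := Subgroup.mem_center_iff.1 (hcen hkk)
    have hku : k ^ (n * u) = k := by
      rw [pow_eq_pow_mod (n * u) ha, hu, pow_one]
    set k' : Γ := (k ^ u)⁻¹ with hk'
    have hk'k : k' ∈ σ.ker := inv_mem (pow_mem hkk u)
    have hk'c := Subgroup.mem_center_iff.1 (hcen hk'k)
    refine ⟨γ0 * k', ?_, ?_⟩
    · rw [map_mul, hγ0, MonoidHom.mem_ker.1 hk'k, mul_one]
    · have hcomm : Commute γ0 k' := hk'c γ0
      rw [hcomm.mul_pow, ← hk, hk', inv_pow, ← pow_mul, mul_comm u n, hku, mul_inv_cancel]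

/-- conjugation relations between lifts of order prime to the exponent of the kernel lift -/
theorem safe_rel' (hcen : σ.ker ≤ Subgroup.center Γ)
    (hek : ∀ z ∈ σ.ker, z ^ e = 1) {ti tj W : Γ} {ni nj : ℕ}
    (hi : ti ^ ni = 1) (hj : tj ^ nj = 1) (hni : ni.Coprime e) (hnj : nj.Coprime e) (z : ℤ)
    (h : σ W * σ ti * (σ W)⁻¹ = σ tj ^ z) : W * ti * W⁻¹ = tj ^ z := by
  apply good_unique' σ e hcen hek (m := ni) (m' := nj) _ _ _ hni hnj
  · rw [map_mul, map_mul, map_inv, h, map_zpow]
  · rw [conj_pow, hi, mul_one, mul_inv_cancel]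
  · rw [← zpow_natCast, ← zpow_mul, mul_comm, zpow_mul, zpow_natCast, hj, one_zpow]

/-- conjugation relators lift to central extensions whose kernel has exponent prime to the orders -/
theorem lift_srel' (hcen : σ.ker ≤ Subgroup.center Γ) (hek : ∀ z ∈ σ.ker, z ^ e = 1)
    (t : ℕ → Γ) (ord : ℕ → ℕ) (ht : ∀ i, t i ^ ord i = 1) (hcop : ∀ i, (ord i).Coprime e)
    (r : SRel) (h : ev (fun i => σ (t i)) r.word = 1) : ev t r.word = 1 := by
  rw [ev_srel_eq_one_iff] at h ⊢
  rw [← ev_map_hom σ t r.W] at h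
  exact safe_rel' σ e hcen hek (ht r.i) (ht r.j) (hcop r.i) (hcop r.j) _ h

end Good

/-- **Main criterion.**  If `sig : Gam →* G` is a homomorphism from a group generated by lifts `tt i` of the
generators `g i` (of orders prime to `e`) satisfying the power and conjugation relations, and every finite group
generated by elements satisfying these relations has at most `|Gam|` elements, then the kernel of every finite
stem extension of `G` whose kernel has exponent dividing `e` is a homomorphic image of the kernel of `sig`. -/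
theorem exists_surj_ker {G : Type u} [Group G] [Finite G] (e : ℕ) (he : 0 < e)
    (k : ℕ) (g : ℕ → G) (ord : ℕ → ℕ)
    (hord : ∀ i, g i ^ ord i = 1) (hcop : ∀ i, (ord i).Coprime e)
    (hgen : Subgroup.closure {y | ∃ i < k, y = g i} = ⊤)
    (srels : List SRel) (hvalid : ∀ r ∈ srels, ev g r.word = 1)
    {Gam : Type u} [Group Gam] [Finite Gam] (sig : Gam →* G) (tt : ℕ → Gam)
    (hsig : ∀ i, sig (tt i) = g i) (htt : ∀ i, tt i ^ ord i = 1)
    (hstt : ∀ r ∈ srels, ev tt r.word = 1)
    (hgenGam : Subgroup.closure {y | ∃ i < k, y = tt i} = ⊤)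
    (hbound : ∀ (L : Type u) [Group L] [Finite L] (t : ℕ → L), (∀ i, t i ^ ord i = 1) →
      (∀ r ∈ srels, ev t r.word = 1) →
      Nat.card (Subgroup.closure {y | ∃ i < k, y = t i}) ≤ Nat.card Gam)
    {Γ : Type u} [Group Γ] [Finite Γ] (σ : Γ →* G) (hσ : Cfsg.IsStemExtension σ)
    (hek : ∀ z ∈ σ.ker, z ^ e = 1) :
    ∃ π : sig.ker →* σ.ker, Function.Surjective π := by
  obtain ⟨hsurj, hcen, hcomm⟩ := hσ
  have hex : ∀ i, ∃ γ : Γ, σ γ = g i ∧ γ ^ ord i = 1 := fun i =>
    good_exists' σ e hsurj hcen hek he (g i) (ord i) (hord i) (hcop i)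
  choose t hσt ht using hex
  have hfun : (fun i => σ (t i)) = g := funext hσt
  have hrelΓ : ∀ r ∈ srels, ev t r.word = 1 := by
    intro r hr
    apply lift_srel' σ e hcen hek t ord ht hcop r
    rw [hfun]
    exact hvalid r hr
  -- the diagonal subgroup
  let s : ℕ → Γ × Gam := fun i => (t i, tt i)
  have hs_pow : ∀ i, s i ^ ord i = 1 := by
    intro i
    apply Prod.ext
    · rw [Prod.pow_fst]; exact ht i
    · rw [Prod.pow_snd]; exact htt i
  have hs_rel : ∀ r ∈ srels, ev s r.word = 1 := by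
    intro r hr
    rw [show s = fun i => (t i, tt i) from rfl, ev_prod, hrelΓ r hr, hstt r hr]
    rfl
  set Δ : Subgroup (Γ × Gam) := Subgroup.closure {y | ∃ i < k, y = s i} with hΔ
  have hΔcard : Nat.card Δ ≤ Nat.card Gam := hbound (Γ × Gam) s hs_pow hs_rel
  have hmap2 : Δ.map (MonoidHom.snd Γ Gam) = ⊤ := by
    rw [hΔ, map_closure_eq (MonoidHom.snd Γ Gam) k s tt (fun i => rfl), hgenGam]
  set T : Subgroup Γ := Subgroup.closure {y | ∃ i < k, y = t i} with hT
  have hmap1 : Δ.map (MonoidHom.fst Γ Gam) = T := by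
    rw [hΔ, map_closure_eq (MonoidHom.fst Γ Gam) k s t (fun i => rfl)]
  have hmapT : T.map σ = ⊤ := by
    rw [hT, map_closure_eq σ k t g hσt, hgen]
  have hKT : σ.ker ≤ T := le_trans hcomm (commutator_le_of_map_eq_top σ hcen T hmapT)
  let p2 : Δ →* Gam := (MonoidHom.snd Γ Gam).comp Δ.subtype
  let p1 : Δ →* Γ := (MonoidHom.fst Γ Gam).comp Δ.subtype
  have hp2s : Function.Surjective p2 := by
    intro y
    have : y ∈ Δ.map (MonoidHom.snd Γ Gam) := by rw [hmap2]; trivial
    obtain ⟨x, hx, rfl⟩ := this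
    exact ⟨⟨x, hx⟩, rfl⟩
  have hp2b : Function.Bijective p2 := by
    have hge : Nat.card Gam ≤ Nat.card Δ := Nat.card_le_card_of_surjective p2 hp2s
    exact (Nat.bijective_iff_surjective_and_card p2).2 ⟨hp2s, le_antisymm hΔcard hge⟩
  -- the two maps to `G` agree on `Δ`
  have hagree : ∀ δ : Δ, σ (p1 δ) = sig (p2 δ) := by
    intro δ
    have hEq : Set.EqOn (σ.comp (MonoidHom.fst Γ Gam)) (sig.comp (MonoidHom.snd Γ Gam))
        {y | ∃ i < k, y = s i} := by
      rintro y ⟨i, _, rfl⟩
      show σ (t i) = sig (tt i)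
      rw [hσt, hsig]
    exact MonoidHom.eqOn_closure hEq δ.2
  let eqv : Δ ≃* Gam := MulEquiv.ofBijective p2 hp2b
  have heqv : ∀ δ : Δ, eqv δ = p2 δ := fun δ => rfl
  let φ : Gam →* Γ := p1.comp eqv.symm.toMonoidHom
  have hφ : ∀ x : Gam, σ (φ x) = sig x := by
    intro x
    show σ (p1 (eqv.symm x)) = sig x
    rw [hagree, ← heqv, MulEquiv.apply_symm_apply]
  have hφker : ∀ x : sig.ker, φ x.1 ∈ σ.ker := by
    intro x
    rw [MonoidHom.mem_ker, hφ]
    exact MonoidHom.mem_ker.1 x.2
  refine ⟨(φ.comp sig.ker.subtype).codRestrict σ.ker hφker, ?_⟩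
  rintro ⟨z, hz⟩
  have hzT : z ∈ Δ.map (MonoidHom.fst Γ Gam) := by rw [hmap1]; exact hKT hz
  obtain ⟨d, hd, hdz⟩ := hzT
  have hx : p2 ⟨d, hd⟩ ∈ sig.ker := by
    rw [MonoidHom.mem_ker, ← hagree]
    show σ ((MonoidHom.fst Γ Gam) d) = 1
    rw [hdz]
    exact MonoidHom.mem_ker.1 hz
  refine ⟨⟨p2 ⟨d, hd⟩, hx⟩, ?_⟩
  apply Subtype.ext
  show p1 (eqv.symm (p2 ⟨d, hd⟩)) = z
  rw [← heqv, MulEquiv.symm_apply_apply]
  exact hdz

/-- a surjection onto the base whose kernel is bounded by the order of a central element of the kernel lying in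
the commutator subgroup is a stem extension with cyclic kernel -/
theorem stem_of_central_elt {Gam : Type*} {G : Type*} [Group Gam] [Group G] [Finite Gam]
    (sig : Gam →* G) (hsurj : Function.Surjective sig) (z : Gam) (hzk : z ∈ sig.ker)
    (hzc : z ∈ Subgroup.center Gam) (hzd : z ∈ commutator Gam) (n : ℕ) (hn : orderOf z = n)
    (hcard : Nat.card sig.ker ≤ n) :
    Cfsg.IsStemExtension sig ∧ Nonempty (sig.ker ≃* Multiplicative (ZMod n)) := by
  have hle : Subgroup.zpowers z ≤ sig.ker := (Subgroup.zpowers_le).2 hzk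
  have hcz : Nat.card (Subgroup.zpowers z) = n := by rw [Nat.card_zpowers, hn]
  have heq : Subgroup.zpowers z = sig.ker :=
    Subgroup.eq_of_le_of_card_ge hle (by rw [hcz]; exact hcard)
  have hcardk : Nat.card sig.ker = n := by rw [← heq, hcz]
  refine ⟨⟨hsurj, ?_, ?_⟩, ?_⟩
  · rw [← heq]
    exact (Subgroup.zpowers_le).2 hzc
  · rw [← heq]
    exact (Subgroup.zpowers_le).2 hzd
  · have hcyc : IsCyclic sig.ker := by
      rw [← heq]
      infer_instance
    have e1 := zmodCyclicMulEquiv hcyc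
    rw [hcardk] at e1
    exact ⟨e1.symm⟩

/-- `Bool` test that for every generator there is a conjugation relation `W x_i W⁻¹ = x_i ^ f` with `f - 1`
prime to the order of `x_i` -/
def perfOK (srels : List SRel) (ord : ℕ → ℕ) (k : ℕ) : Bool :=
  (List.range k).all fun i => srels.any fun r =>
    (r.i == i) && (r.j == i) && !r.neg && decide (1 ≤ r.f) && (Nat.gcd (r.f - 1) (ord i) == 1)

/-- a group generated by elements satisfying such relations is perfect -/
theorem closure_le_commutator {L : Type*} [Group L] (t : ℕ → L) (ord : ℕ → ℕ) (k : ℕ)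
    (srels : List SRel) (ht : ∀ i, t i ^ ord i = 1) (hs : ∀ r ∈ srels, ev t r.word = 1)
    (hp : perfOK srels ord k = true) :
    Subgroup.closure {y | ∃ i < k, y = t i} ≤ commutator L := by
  rw [Subgroup.closure_le]
  rintro y ⟨i, hi, rfl⟩
  unfold perfOK at hp
  rw [List.all_eq_true] at hp
  have h1 := hp i (List.mem_range.2 hi)
  rw [List.any_eq_true] at h1
  obtain ⟨r, hr, h2⟩ := h1
  simp only [Bool.and_eq_true, beq_iff_eq, Bool.not_eq_true', decide_eq_true_eq] at h2
  obtain ⟨⟨⟨⟨hri, hrj⟩, hneg⟩, hf⟩, hg⟩ := h2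
  have hrel := (ev_srel_eq_one_iff t r).1 (hs r hr)
  rw [hneg, hri, hrj] at hrel
  simp only [Bool.false_eq_true, if_false, zpow_natCast] at hrel
  -- `W t_i W⁻¹ = t_i ^ f`, so `t_i ^ (f - 1)` is a commutator
  set W := ev t r.W with hW
  have hcm : t i ^ (r.f - 1) ∈ commutator L := by
    have : t i ^ (r.f - 1) = ⁅W, t i⁆ := by
      rw [commutatorElement_def, hrel]
      have : r.f = (r.f - 1) + 1 := by omega
      conv_rhs => rw [this, pow_succ, mul_assoc, mul_inv_cancel, mul_one]
    rw [this, commutator_def]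
    exact Subgroup.commutator_mem_commutator (Subgroup.mem_top _) (Subgroup.mem_top _)
  -- Bezout
  show t i ∈ commutator L
  have hcop : Nat.Coprime (r.f - 1) (ord i) := hg
  have hb := Nat.gcd_eq_gcd_ab (r.f - 1) (ord i)
  rw [hcop] at hb
  have : t i = (t i ^ (r.f - 1)) ^ (Nat.gcdA (r.f - 1) (ord i)) := by
    have e1 : t i = t i ^ (1 : ℤ) := (zpow_one _).symm
    have e2 : (1 : ℤ) = ((r.f - 1 : ℕ) : ℤ) * Nat.gcdA (r.f - 1) (ord i) +
        ((ord i : ℕ) : ℤ) * Nat.gcdB (r.f - 1) (ord i) := by exact_mod_cast hb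
    conv_lhs => rw [e1, e2, zpow_add, zpow_mul, zpow_mul, zpow_natCast, zpow_natCast, ht i, one_zpow,
      mul_one]
  rw [this]
  exact (commutator L).zpow_mem hcm _

end Cfsg.Agent.Lib.Helper93.StemCyc
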