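import Cfsg.Agent.Lib.Helper93.Syl24QChk

set_option autoImplicit false

/-! The Sylow 2-subgroup `S0` of `M24` modulo its centre `⟨z0⟩`: enumeration of `S0`, the subgroup
`Q0 = O_2(C(z0))` of order `2^7`, and two counting lemmas about subgroups of `S0` that commute
modulo `z0`. -/

namespace Cfsg.Agent.Lib.Helper93.Syl24Q

open Cfsg Cfsg.Agent.Lib.Helper93.Golay Cfsg.Agent.Lib.Helper93.Syl24
open scoped Pointwise

/-! ### Numerical facts on the commutation masks -/

/-- number of elements of `Q0` commuting modulo `z0` with all cosets in `J` -/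
def FJ (J : Finset ℕ) : ℕ :=
  ((Finset.range 128).filter (fun i => ∀ a ∈ J, (dm a).testBit i = true)).card

theorem N1 : ∀ J ∈ (Finset.range 8).powerset, 0 ∈ J → J ≠ {0} → FJ J * J.card < 128 := by
  decide +kernel

theorem N2 : ∀ J ∈ (Finset.range 8).powerset, 4 ≤ J.card → FJ J ≤ 16 := by decide +kernel

theorem N3 : ∀ a ∈ Finset.range 8, a ≠ 0 → FJ {a} ≤ 32 := by decide +kernel

/-! ### Basic objects -/

/-- the central involution -/
def z0 : Equiv.Perm GolayPt := permC zCode

/-- commuting modulo `⟨z0⟩` -/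
def CommZ (x y : Equiv.Perm GolayPt) : Prop := x * y = y * x ∨ x * y = y * x * z0

/-- `O_2(C(z0))`, as the kernel of the action of `S0` on two pairs of tetrads -/
def Q0 : Subgroup (Equiv.Perm GolayPt) :=
  S0 ⊓ MulAction.stabilizer (Equiv.Perm GolayPt) (encFam.dec f1Code) ⊓
    MulAction.stabilizer (Equiv.Perm GolayPt) (encFam.dec f2Code)

theorem Q0_le_S0 : Q0 ≤ S0 := fun _ hx => hx.1.1

theorem prodC_pair (c c' : ℕ) : prodC [c, c'] = permC c * permC c' := by
  rw [prodC_cons, prodC_singleton]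

theorem prodC_triple (c c' c'' : ℕ) : prodC [c, c', c''] = permC c * permC c' * permC c'' := by
  rw [prodC_cons, prodC_pair, mul_assoc]

theorem perm_pair {a b : ℕ} (ha : isPerm a = true) (hb : isPerm b = true) :
    ∀ S ∈ [a, b], isPerm S = true := by
  intro S hS
  simp only [List.mem_cons, List.not_mem_nil, or_false] at hS
  rcases hS with rfl | rfl
  · exact ha
  · exact hb

theorem perm_triple {a b c : ℕ} (ha : isPerm a = true) (hb : isPerm b = true)
    (hc : isPerm c = true) : ∀ S ∈ [a, b, c], isPerm S = true := by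
  intro S hS
  simp only [List.mem_cons, List.not_mem_nil, or_false] at hS
  rcases hS with rfl | rfl | rfl
  · exact ha
  · exact hb
  · exact hc

theorem z_perm : isPerm zCode = true := (inS0_spec z_ok.1).1

theorem z0_mem : z0 ∈ S0 := (inS0_spec z_ok.1).2

theorem z0_sq : z0 * z0 = 1 := by
  have := prodC_eq_of_eqW (perm_pair z_perm z_perm) (by simp) z_ok.2.1
  rw [prodC_pair, prodC_nil] at this
  exact this

theorem z0_inv : z0⁻¹ = z0 := inv_eq_of_mul_eq_one_left z0_sq

theorem z0_ne_one : z0 ≠ 1 := by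
  intro h
  have h1 : prodC [zCode] = prodC [] := by
    rw [prodC_singleton, prodC_nil]
    exact h
  have h2 := eqW_of_prodC_eq (ws := [zCode]) (ws' := []) (by
    intro S hS
    rw [List.mem_singleton] at hS
    rw [hS]
    exact z_perm) (by simp) h1
  rw [z_ok.2.2.1] at h2
  exact Bool.false_ne_true h2

theorem z0_central {x : Equiv.Perm GolayPt} (hx : x ∈ S0) : z0 * x = x * z0 := by
  have hle : S0 ≤ Subgroup.centralizer {z0} := by
    rw [S0_facts.1]
    apply genSubgroup_le
    intro s hs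
    rw [Subgroup.mem_centralizer_singleton_iff]
    have hsp := (sylGens_mem hs).1
    have h1 := List.all_eq_true.1 z_ok.2.2.2 s hs
    have h2 := prodC_eq_of_eqW (perm_pair z_perm hsp) (perm_pair hsp z_perm) h1
    rw [prodC_pair, prodC_pair] at h2
    exact h2.symm
  exact (Subgroup.mem_centralizer_singleton_iff.1 (hle hx)).symm

theorem commZ_spec {c c' : ℕ} (hc : isPerm c = true) (hc' : isPerm c' = true) :
    commZ c c' = true ↔ CommZ (permC c) (permC c') := by
  unfold commZ CommZ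
  rw [Bool.or_eq_true]
  constructor
  · rintro (h | h)
    · left
      have := prodC_eq_of_eqW (perm_pair hc hc') (perm_pair hc' hc) h
      rw [prodC_pair, prodC_pair] at this
      exact this
    · right
      have := prodC_eq_of_eqW (perm_pair hc hc') (perm_triple hc' hc z_perm) h
      rw [prodC_pair, prodC_triple] at this
      exact this
  · rintro (h | h)
    · left
      apply eqW_of_prodC_eq (perm_pair hc hc') (perm_pair hc' hc)
      rw [prodC_pair, prodC_pair]
      exact h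
    · right
      apply eqW_of_prodC_eq (perm_pair hc hc') (perm_triple hc' hc z_perm)
      rw [prodC_pair, prodC_triple]
      exact h

theorem CommZ.symm {x y : Equiv.Perm GolayPt} (h : CommZ x y) : CommZ y x := by
  rcases h with h | h
  · left
    exact h.symm
  · right
    rw [h, mul_assoc, z0_sq, mul_one]

/-- `CommZ` is compatible with products on the left, the second factor commuting with `z0`. -/
theorem CommZ.mul_left {r q' q : Equiv.Perm GolayPt} (hz : z0 * q' = q' * z0)
    (h1 : CommZ r q) (h2 : CommZ q' q) : CommZ (r * q') q := by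
  rcases h1 with h1 | h1 <;> rcases h2 with h2 | h2
  · left
    rw [mul_assoc, h2, ← mul_assoc, h1, mul_assoc]
  · right
    rw [mul_assoc, h2, ← mul_assoc, ← mul_assoc, h1]
    simp only [mul_assoc]
  · right
    rw [mul_assoc, h2, ← mul_assoc, h1]
    simp only [mul_assoc]
    rw [hz]
  · left
    rw [mul_assoc, h2, ← mul_assoc, ← mul_assoc, h1]
    simp only [mul_assoc]
    rw [← mul_assoc z0 q' z0, hz, mul_assoc q' z0 z0, z0_sq, mul_one]


/-! ### Enumeration of `S0` -/

theorem entry_facts {e : ℕ × ℕ × ℕ} (he : e ∈ entries) :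
    inS0 e.1 = true ∧ e.1 < 2 ^ 120 ∧ e.2.1 < 8 ∧ e.2.2 < 128 ∧
      permC (repCodes.getD e.2.1 0) * permC (qCodes.getD e.2.2 0) = permC e.1 ∧
      (e.2.1 = 0 → e.1 = qCodes.getD e.2.2 0) ∧ (inQ e.1 = true → e.2.1 = 0) := by
  have h := List.all_eq_true.1 entries_ok e he
  simp only [Bool.and_eq_true, Bool.or_eq_true, Bool.not_eq_true'] at h
  obtain ⟨⟨⟨⟨⟨⟨h1, h2⟩, h3⟩, h4⟩, h5⟩, h6⟩, h7⟩ := h
  have hk : e.2.1 < 8 := Nat.le_of_ble_eq_true h3
  have hq : e.2.2 < 128 := Nat.le_of_ble_eq_true h4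
  have hrp : isPerm (repCodes.getD e.2.1 0) = true :=
    (inS0_spec (List.all_eq_true.1 rep_ok.1 _ (getD_mem_of_lt (by rw [rep_ok.2]; exact hk)))).1
  have hqq := List.all_eq_true.1 qCodes_ok _ (getD_mem_of_lt (gens := qCodes) (j := e.2.2)
    (by rw [qCodes_length]; exact hq))
  simp only [Bool.and_eq_true] at hqq
  have hqp : isPerm (qCodes.getD e.2.2 0) = true := by
    have := hqq.1.1
    unfold inQ at this
    simp only [Bool.and_eq_true] at this
    exact (inS0_spec this.1.1).1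
  refine ⟨h1, Nat.le_of_ble_eq_true h2, hk, hq, ?_, ?_, ?_⟩
  · have := prodC_eq_of_eqW (perm_pair hrp hqp) (by
      intro S hS
      rw [List.mem_singleton] at hS
      rw [hS]
      exact (inS0_spec h1).1) h5
    rw [prodC_pair, prodC_singleton] at this
    exact this
  · intro h0
    rcases h6 with h6 | h6
    · rw [h0] at h6
      simp at h6
    · exact Nat.eq_of_beq_eq_true h6
  · intro hin
    rcases h7 with h7 | h7
    · rw [hin] at h7
      exact absurd h7 (by simp)
    · exact Nat.eq_of_beq_eq_true h7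

theorem elems_mem {c : ℕ} (hc : c ∈ elemsS) : inS0 c = true ∧ c < 2 ^ 120 := by
  unfold elemsS at hc
  obtain ⟨e, he, rfl⟩ := List.mem_map.1 hc
  exact ⟨(entry_facts he).1, (entry_facts he).2.1⟩

theorem exists_entry {x : Equiv.Perm GolayPt} (hx : x ∈ S0) :
    ∃ e ∈ entries, permC e.1 = x := by
  set S' : Set (Equiv.Perm GolayPt) := {a | ∃ c ∈ elemsS, permC c = a} with hS'
  have hcard : S'.ncard = elemsS.length :=
    ncard_eq_length permC elemsS (nodup_of_chainLt elems_chain)
      (fun c hc c' hc' he => code_inj (elems_mem hc).2 (elems_mem hc').2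
        (inS0_spec (elems_mem hc).1).1 (inS0_spec (elems_mem hc').1).1 he) S' (fun a => Iff.rfl)
  have hlen : elemsS.length = 1024 := by
    unfold elemsS
    rw [List.length_map, entries_length]
  have hsub : S' ⊆ (S0 : Set (Equiv.Perm GolayPt)) := by
    rintro a ⟨c, hc, rfl⟩
    exact (inS0_spec (elems_mem hc).1).2
  have hS0 : (S0 : Set (Equiv.Perm GolayPt)).ncard = 1024 := by
    rw [← Nat.card_coe_set_eq]
    exact card_S0
  have heq : S' = (S0 : Set (Equiv.Perm GolayPt)) :=
    Set.eq_of_subset_of_ncard_le hsub (by rw [hS0, hcard, hlen]) (Set.toFinite _)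
  have hx' : x ∈ S' := by
    rw [heq]
    exact hx
  obtain ⟨c, hc, rfl⟩ := hx'
  unfold elemsS at hc
  obtain ⟨e, he, rfl⟩ := List.mem_map.1 hc
  exact ⟨e, he, rfl⟩

open Classical in
/-- the entry of an element of `S0` -/
noncomputable def entOf (x : Equiv.Perm GolayPt) : ℕ × ℕ × ℕ :=
  if h : x ∈ S0 then Classical.choose (exists_entry h) else (0, 0, 0)

theorem entOf_spec {x : Equiv.Perm GolayPt} (hx : x ∈ S0) :
    entOf x ∈ entries ∧ permC (entOf x).1 = x := by
  unfold entOf
  rw [dif_pos hx]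
  exact Classical.choose_spec (exists_entry hx)

/-- the coset of `Q0` containing the element -/
noncomputable def kap (x : Equiv.Perm GolayPt) : ℕ := (entOf x).2.1

/-- the index of the `Q0`-part of the element -/
noncomputable def qix (x : Equiv.Perm GolayPt) : ℕ := (entOf x).2.2

theorem kap_lt {x : Equiv.Perm GolayPt} (hx : x ∈ S0) : kap x < 8 :=
  (entry_facts (entOf_spec hx).1).2.2.1

theorem qix_lt {x : Equiv.Perm GolayPt} (hx : x ∈ S0) : qix x < 128 :=
  (entry_facts (entOf_spec hx).1).2.2.2.1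

/-! ### The subgroup `Q0` -/

theorem inQ_spec {c : ℕ} (h : inQ c = true) : isPerm c = true ∧ permC c ∈ Q0 := by
  unfold inQ at h
  simp only [Bool.and_eq_true] at h
  obtain ⟨⟨h1, h2⟩, h3⟩ := h
  have hs := inS0_spec h1
  refine ⟨hs.1, ⟨hs.2, ?_⟩, ?_⟩
  · show permC c ∈ MulAction.stabilizer (Equiv.Perm GolayPt) (encFam.dec f1Code)
    rw [MulAction.mem_stabilizer_iff, encFam.act_spec c hs.1 f1Code
      (fun _ hm => canonL_lt f_canon.1 hm)]
    exact congrArg encFam.dec (beqL_eq _ _ h2)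
  · show permC c ∈ MulAction.stabilizer (Equiv.Perm GolayPt) (encFam.dec f2Code)
    rw [MulAction.mem_stabilizer_iff, encFam.act_spec c hs.1 f2Code
      (fun _ hm => canonL_lt f_canon.2 hm)]
    exact congrArg encFam.dec (beqL_eq _ _ h3)

theorem inQ_of_mem {c : ℕ} (hc : inS0 c = true) (hm : permC c ∈ Q0) : inQ c = true := by
  have hp := (inS0_spec hc).1
  unfold inQ
  simp only [Bool.and_eq_true]
  refine ⟨⟨hc, ?_⟩, ?_⟩
  · have h1 : permC c • encFam.dec f1Code = encFam.dec f1Code := hm.1.2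
    rw [encFam.act_spec c hp f1Code (fun _ hm => canonL_lt f_canon.1 hm)] at h1
    rw [encFam.dec_inj (actL c f1Code) f1Code (canonL_actL hp f_canon.1) f_canon.1 h1]
    exact beqL_refl _
  · have h1 : permC c • encFam.dec f2Code = encFam.dec f2Code := hm.2
    rw [encFam.act_spec c hp f2Code (fun _ hm => canonL_lt f_canon.2 hm)] at h1
    rw [encFam.dec_inj (actL c f2Code) f2Code (canonL_actL hp f_canon.2) f_canon.2 h1]
    exact beqL_refl _

theorem qCode_facts {i : ℕ} (hi : i < 128) :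
    qCodes.getD i 0 ∈ qCodes ∧ isPerm (qCodes.getD i 0) = true ∧
      permC (qCodes.getD i 0) ∈ Q0 ∧ qCodes.getD i 0 < 2 ^ 120 ∧
      (permC (qCodes.getD i 0) * permC (qCodes.getD i 0) = 1 ∨
        permC (qCodes.getD i 0) * permC (qCodes.getD i 0) = z0) := by
  have hm : qCodes.getD i 0 ∈ qCodes := getD_mem_of_lt (by rw [qCodes_length]; exact hi)
  have h := List.all_eq_true.1 qCodes_ok _ hm
  simp only [Bool.and_eq_true, Bool.or_eq_true] at h
  obtain ⟨⟨h1, h2⟩, h3⟩ := h
  have hs := inQ_spec h1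
  refine ⟨hm, hs.1, hs.2, Nat.le_of_ble_eq_true h2, ?_⟩
  rcases h3 with h3 | h3
  · left
    have := prodC_eq_of_eqW (perm_pair hs.1 hs.1) (by simp) h3
    rw [prodC_pair, prodC_nil] at this
    exact this
  · right
    have := prodC_eq_of_eqW (perm_pair hs.1 hs.1) (by
      intro S hS
      rw [List.mem_singleton] at hS
      rw [hS]
      exact z_perm) h3
    rw [prodC_pair, prodC_singleton] at this
    exact this

theorem rep_mul {x : Equiv.Perm GolayPt} (hx : x ∈ S0) :
    permC (repCodes.getD (kap x) 0) * permC (qCodes.getD (qix x) 0) = x := by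
  have h := (entry_facts (entOf_spec hx).1).2.2.2.2.1
  rw [(entOf_spec hx).2] at h
  exact h

theorem mem_Q0_iff_kap {x : Equiv.Perm GolayPt} (hx : x ∈ S0) : x ∈ Q0 ↔ kap x = 0 := by
  have hs := entOf_spec hx
  have hf := entry_facts hs.1
  constructor
  · intro hq
    apply hf.2.2.2.2.2.2
    apply inQ_of_mem hf.1
    rw [hs.2]
    exact hq
  · intro hk
    have h1 := hf.2.2.2.2.2.1 hk
    rw [← hs.2, h1]
    exact (qCode_facts hf.2.2.2.1).2.2.1

theorem eq_of_mem_Q0 {x : Equiv.Perm GolayPt} (hx : x ∈ Q0) :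
    permC (qCodes.getD (qix x) 0) = x := by
  have hxS := Q0_le_S0 hx
  have hs := entOf_spec hxS
  have hf := entry_facts hs.1
  have hk := (mem_Q0_iff_kap hxS).1 hx
  have h1 := hf.2.2.2.2.2.1 hk
  unfold qix
  rw [← h1, hs.2]

theorem inv_mul_mem_Q0 {x y : Equiv.Perm GolayPt} (hx : x ∈ S0) (hy : y ∈ S0)
    (h : kap x = kap y) : x⁻¹ * y ∈ Q0 := by
  have h1 := rep_mul hx
  have h2 := rep_mul hy
  rw [h] at h1
  have hqx := (qCode_facts (qix_lt hx)).2.2.1
  have hqy := (qCode_facts (qix_lt hy)).2.2.1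
  have : x⁻¹ * y = (permC (qCodes.getD (qix x) 0))⁻¹ * permC (qCodes.getD (qix y) 0) := by
    calc x⁻¹ * y = (permC (repCodes.getD (kap y) 0) * permC (qCodes.getD (qix x) 0))⁻¹ *
          (permC (repCodes.getD (kap y) 0) * permC (qCodes.getD (qix y) 0)) := by rw [h1, h2]
      _ = _ := by group
  rw [this]
  exact Q0.mul_mem (Q0.inv_mem hqx) hqy

theorem CommZ_Q0 {a b : Equiv.Perm GolayPt} (ha : a ∈ Q0) (hb : b ∈ Q0) : CommZ a b := by
  rw [← eq_of_mem_Q0 ha, ← eq_of_mem_Q0 hb]
  have h1 := qCode_facts (qix_lt (Q0_le_S0 ha))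
  have h2 := qCode_facts (qix_lt (Q0_le_S0 hb))
  rw [← commZ_spec h1.2.1 h2.2.1]
  exact List.all_eq_true.1 (List.all_eq_true.1 qq_ok _ h1.1) _ h2.1

theorem bit_of_commZ {x y : Equiv.Perm GolayPt} (hx : x ∈ S0) (hy : y ∈ Q0) (h : CommZ x y) :
    (dm (kap x)).testBit (qix y) = true := by
  have hr := rep_mul hx
  have hq := qCode_facts (qix_lt hx)
  have hy' := qCode_facts (qix_lt (Q0_le_S0 hy))
  set r := permC (repCodes.getD (kap x) 0) with hrdef
  set q' := permC (qCodes.getD (qix x) 0) with hq'def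
  have hrx : r = x * q'⁻¹ := by
    rw [← hr]
    group
  have hc : CommZ r y := by
    rw [hrx]
    apply CommZ.mul_left _ h (CommZ_Q0 (Q0.inv_mem hq.2.2.1) hy)
    exact z0_central (S0.inv_mem (Q0_le_S0 hq.2.2.1))
  have hrp : isPerm (repCodes.getD (kap x) 0) = true :=
    (inS0_spec (List.all_eq_true.1 rep_ok.1 _
      (getD_mem_of_lt (by rw [rep_ok.2]; exact kap_lt hx)))).1
  rw [← eq_of_mem_Q0 hy, hrdef, ← commZ_spec hrp hy'.2.1] at hc
  have ht := List.all_eq_true.1 (List.all_eq_true.1 dtab_ok (kap x)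
    (List.mem_range.2 (kap_lt hx))) (qix y) (List.mem_range.2 (qix_lt (Q0_le_S0 hy)))
  rw [hc] at ht
  simpa using ht


/-! ### Counting -/

theorem qCodes_mem_facts {c : ℕ} (hc : c ∈ qCodes) :
    isPerm c = true ∧ permC c ∈ Q0 ∧ c < 2 ^ 120 := by
  have h := List.all_eq_true.1 qCodes_ok _ hc
  simp only [Bool.and_eq_true] at h
  have hs := inQ_spec h.1.1
  exact ⟨hs.1, hs.2, Nat.le_of_ble_eq_true h.1.2⟩

theorem card_Q0 : Nat.card Q0 = 128 := by
  have h := ncard_eq_length permC qCodes (nodup_of_chainLt qCodes_chain)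
    (fun c hc c' hc' he => code_inj (qCodes_mem_facts hc).2.2 (qCodes_mem_facts hc').2.2
      (qCodes_mem_facts hc).1 (qCodes_mem_facts hc').1 he)
    (Q0 : Set (Equiv.Perm GolayPt)) (by
      intro a
      constructor
      · intro ha
        exact ⟨_, (qCode_facts (qix_lt (Q0_le_S0 ha))).1, eq_of_mem_Q0 ha⟩
      · rintro ⟨c, hc, rfl⟩
        exact (qCodes_mem_facts hc).2.1)
  rw [qCodes_length] at h
  rw [← h, ← Nat.card_coe_set_eq]
  rfl

theorem card_le_FJ (K : Subgroup (Equiv.Perm GolayPt)) (hK : K ≤ Q0) (J : Finset ℕ)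
    (hJ : ∀ a ∈ J, ∃ x ∈ S0, kap x = a ∧ ∀ y ∈ K, CommZ x y) : Nat.card K ≤ FJ J := by
  have h0 : Nat.card K = (K : Set (Equiv.Perm GolayPt)).ncard := by
    rw [← Nat.card_coe_set_eq]
    rfl
  rw [h0]
  unfold FJ
  rw [← Set.ncard_coe_finset]
  apply Set.ncard_le_ncard_of_injOn qix
  · intro y hy
    simp only [Finset.coe_filter, Finset.mem_range, Set.mem_ofPred_eq]
    refine ⟨qix_lt (Q0_le_S0 (hK hy)), ?_⟩
    intro a ha
    obtain ⟨x, hxS, rfl, hc⟩ := hJ a ha
    exact bit_of_commZ hxS (hK hy) (hc y hy)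
  · intro y hy y' hy' he
    rw [← eq_of_mem_Q0 (hK hy), ← eq_of_mem_Q0 (hK hy'), he]

open Classical in
theorem natCard_eq_filter (K : Subgroup (Equiv.Perm GolayPt)) :
    Nat.card K = (Finset.univ.filter (· ∈ K)).card := by
  rw [Nat.card_eq_fintype_card, Fintype.card_subtype]

open Classical in
theorem card_le_fiber (H : Subgroup (Equiv.Perm GolayPt)) (hH : H ≤ S0) :
    Nat.card H ≤ Nat.card ↥(H ⊓ Q0) * ((Finset.univ.filter (· ∈ H)).image kap).card := by
  rw [natCard_eq_filter H, natCard_eq_filter (H ⊓ Q0)]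
  apply Finset.card_le_mul_card_image
  intro a ha
  obtain ⟨x1, hx1, rfl⟩ := Finset.mem_image.1 ha
  rw [Finset.mem_filter] at hx1
  apply Finset.card_le_card_of_injOn (fun x => x1⁻¹ * x)
  · intro x hx
    simp only [Finset.coe_filter, Finset.mem_filter, Finset.mem_univ, true_and,
      Set.mem_ofPred_eq] at hx ⊢
    exact ⟨H.mul_mem (H.inv_mem hx1.2) hx.1, inv_mul_mem_Q0 (hH hx1.2) (hH hx.1) hx.2.symm⟩
  · intro x _ y _ h
    exact mul_left_cancel h

open Classical in
/-- A subgroup of `S0` of order `2^7` that is commutative modulo `z0` lies in `Q0`. -/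
theorem le_Q0_of_card (H : Subgroup (Equiv.Perm GolayPt)) (hH : H ≤ S0)
    (hcard : Nat.card H = 128) (hab : ∀ x ∈ H, ∀ y ∈ H, CommZ x y) : H ≤ Q0 := by
  set J := (Finset.univ.filter (· ∈ H)).image kap with hJ
  have hJsub : J ∈ (Finset.range 8).powerset := by
    rw [Finset.mem_powerset]
    intro a ha
    obtain ⟨x, hx, rfl⟩ := Finset.mem_image.1 ha
    rw [Finset.mem_filter] at hx
    exact Finset.mem_range.2 (kap_lt (hH hx.2))
  have h0 : 0 ∈ J := by
    refine Finset.mem_image.2 ⟨1, ?_, ?_⟩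
    · rw [Finset.mem_filter]
      exact ⟨Finset.mem_univ _, H.one_mem⟩
    · exact (mem_Q0_iff_kap S0.one_mem).1 Q0.one_mem
  have h1 : Nat.card H ≤ Nat.card ↥(H ⊓ Q0) * J.card := card_le_fiber H hH
  have h2 : Nat.card ↥(H ⊓ Q0) ≤ FJ J := by
    apply card_le_FJ _ inf_le_right
    intro a ha
    obtain ⟨x, hx, rfl⟩ := Finset.mem_image.1 ha
    rw [Finset.mem_filter] at hx
    exact ⟨x, hH hx.2, rfl, fun y hy => hab x hx.2 y hy.1⟩
  by_cases hJ0 : J = {0}
  · intro x hx
    rw [mem_Q0_iff_kap (hH hx)]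
    have : kap x ∈ J := by
      refine Finset.mem_image.2 ⟨x, ?_, rfl⟩
      rw [Finset.mem_filter]
      exact ⟨Finset.mem_univ _, hx⟩
    rw [hJ0, Finset.mem_singleton] at this
    exact this
  · exfalso
    have h3 := N1 J hJsub h0 hJ0
    have h4 : Nat.card H ≤ FJ J * J.card := le_trans h1 (Nat.mul_le_mul_right _ h2)
    omega

theorem FJ_empty : FJ ∅ = 128 := by decide +kernel

open Classical in
/-- In a subgroup `H` of `S0` of order `2^9`, the elements commuting modulo `z0` with all of `H`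
form a set of at most 16 elements. -/
theorem card_le_sixteen (H C : Subgroup (Equiv.Perm GolayPt)) (hH : H ≤ S0)
    (hcard : Nat.card H = 512) (hC : ∀ x ∈ C, x ∈ H ∧ ∀ y ∈ H, CommZ x y) :
    Nat.card C ≤ 16 := by
  set J := (Finset.univ.filter (· ∈ H)).image kap with hJ
  have hJsub' : J ⊆ Finset.range 8 := by
    intro a ha
    obtain ⟨x, hx, rfl⟩ := Finset.mem_image.1 ha
    rw [Finset.mem_filter] at hx
    exact Finset.mem_range.2 (kap_lt (hH hx.2))
  have hJsub : J ∈ (Finset.range 8).powerset := Finset.mem_powerset.2 hJsub'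
  have h1 : Nat.card H ≤ Nat.card ↥(H ⊓ Q0) * J.card := card_le_fiber H hH
  have hJ8 : J.card ≤ 8 := by
    have := Finset.card_le_card hJsub'
    rwa [Finset.card_range] at this
  have hn128 : Nat.card ↥(H ⊓ Q0) ≤ 128 := by
    have := card_le_FJ (H ⊓ Q0) inf_le_right ∅ (by simp)
    rwa [FJ_empty] at this
  have e1 : Nat.card ↥(H ⊓ Q0) * J.card ≤ Nat.card ↥(H ⊓ Q0) * 8 := Nat.mul_le_mul_left _ hJ8
  have e2 : Nat.card ↥(H ⊓ Q0) * J.card ≤ 128 * J.card := Nat.mul_le_mul_right _ hn128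
  have hn64 : 64 ≤ Nat.card ↥(H ⊓ Q0) := by omega
  have hJ4 : 4 ≤ J.card := by omega
  have hCQ : C ≤ Q0 := by
    intro x hx
    obtain ⟨hxH, hxc⟩ := hC x hx
    have hxS := hH hxH
    rw [mem_Q0_iff_kap hxS]
    by_contra hk
    have h2 : Nat.card ↥(H ⊓ Q0) ≤ FJ {kap x} := by
      apply card_le_FJ _ inf_le_right
      intro a ha
      rw [Finset.mem_singleton] at ha
      exact ⟨x, hxS, ha.symm, fun y hy => hxc y hy.1⟩
    have h3 := N3 (kap x) (Finset.mem_range.2 (kap_lt hxS)) hk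
    omega
  have h4 : Nat.card C ≤ FJ J := by
    apply card_le_FJ C hCQ
    intro a ha
    obtain ⟨y, hy, rfl⟩ := Finset.mem_image.1 ha
    rw [Finset.mem_filter] at hy
    exact ⟨y, hH hy.2, rfl, fun x hx => ((hC x hx).2 y hy.2).symm⟩
  exact le_trans h4 (N2 J hJsub hJ4)

end Cfsg.Agent.Lib.Helper93.Syl24Q
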