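import Cfsg.Agent.Lib.Helper93.Syl24QData
import Cfsg.Agent.Lib.Helper93.NormTools

set_option autoImplicit false

/-! The Sylow 2-subgroup `S0` of `M24`: complete list of its elements, its centre `{1, z}`, the
subgroup `Q0 = O_2(C(z))` of order `2^7`, and the two counting lemmas on subgroups of `S0` that are
abelian modulo the centre. -/

namespace Cfsg.Agent.Lib.Helper93.Syl24Q

open Cfsg Cfsg.Agent.Lib.Helper93.Golay Cfsg.Agent.Lib.Helper93.Syl24
open scoped Pointwise

/-! ### Codes are determined by their permutation -/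

theorem testBit_papp (c i r : ℕ) (hr : r < 5) : (papp c i).testBit r = c.testBit (5 * i + r) := by
  unfold papp
  rw [Nat.testBit_and, Nat.testBit_shiftRight]
  have h31 : (31 : ℕ).testBit r = true := by
    interval_cases r <;> decide
  rw [h31, Bool.and_true]

theorem eq_of_papp_eq {c c' : ℕ} (h : c < 2 ^ 120) (h' : c' < 2 ^ 120)
    (hp : ∀ i < 24, papp c i = papp c' i) : c = c' := by
  apply Nat.eq_of_testBit_eq
  intro j
  by_cases hj : j < 120
  · have h1 := testBit_papp c (j / 5) (j % 5) (Nat.mod_lt _ (by norm_num))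
    have h2 := testBit_papp c' (j / 5) (j % 5) (Nat.mod_lt _ (by norm_num))
    rw [Nat.div_add_mod] at h1 h2
    rw [← h1, ← h2, hp (j / 5) (by omega)]
  · have hj' : 120 ≤ j := by omega
    have e1 : c < 2 ^ j := lt_of_lt_of_le h (Nat.pow_le_pow_right (by norm_num) hj')
    have e2 : c' < 2 ^ j := lt_of_lt_of_le h' (Nat.pow_le_pow_right (by norm_num) hj')
    rw [Nat.testBit_lt_two_pow e1, Nat.testBit_lt_two_pow e2]

theorem code_inj {c c' : ℕ} (h : c < 2 ^ 120) (h' : c' < 2 ^ 120) (hc : isPerm c = true)
    (hc' : isPerm c' = true) (he : permC c = permC c') : c = c' := by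
  apply eq_of_papp_eq h h'
  intro i hi
  have h1 := ptIdx_permC hc (ptOf ⟨i, hi⟩)
  have h2 := ptIdx_permC hc' (ptOf ⟨i, hi⟩)
  rw [ptIdx_ptOf] at h1 h2
  simp only at h1 h2
  rw [← h1, ← h2, he]

/-! ### Computational facts -/

/-- `x y = y x` or `x y = y x z` on codes -/
def commZ (c c' : ℕ) : Bool := eqW [c, c'] [c', c] || eqW [c, c'] [c', c, zCode]

/-- membership test for `Q0` -/
def inQ (c : ℕ) : Bool :=
  inS0 c && beqL (actL c f1Code) f1Code && beqL (actL c f2Code) f2Code

def elemsS : List ℕ := entries.map Prod.fst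

def dm (a : ℕ) : ℕ := dmTab.getD a 0

set_option maxRecDepth 1000000 in
theorem elems_chain : chainLt elemsS = true := by decide +kernel

set_option maxRecDepth 1000000 in
theorem entries_length : entries.length = 1024 := by decide +kernel

set_option maxRecDepth 1000000 in
theorem entries_ok : entries.all (fun e => inS0 e.1 && Nat.blt e.1 (2 ^ 120) && Nat.blt e.2.1 8 &&
    Nat.blt e.2.2 128 && eqW [repCodes.getD e.2.1 0, qCodes.getD e.2.2 0] [e.1] &&
    (!(Nat.beq e.2.1 0) || Nat.beq e.1 (qCodes.getD e.2.2 0)) &&
    (!(inQ e.1) || Nat.beq e.2.1 0)) = true := by decide +kernel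

theorem qCodes_ok : qCodes.all (fun q => inQ q && Nat.blt q (2 ^ 120) &&
    (eqW [q, q] [] || eqW [q, q] [zCode])) = true := by decide +kernel

theorem qCodes_chain : chainLt qCodes = true := by decide +kernel

theorem qCodes_length : qCodes.length = 128 := by decide +kernel

theorem z_ok : inS0 zCode = true ∧ eqW [zCode, zCode] [] = true ∧ eqW [zCode] [] = false ∧
    sylGens.all (fun g => eqW [zCode, g] [g, zCode]) = true := by decide +kernel

set_option maxRecDepth 1000000 in
theorem center_chk : entries.all (fun e => eqW [e.1] [] || eqW [e.1] [zCode] ||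
    sylGens.any (fun g => !(eqW [e.1, g] [g, e.1]))) = true := by decide +kernel

theorem f_canon : canonL f1Code = true ∧ canonL f2Code = true := by decide +kernel

set_option maxRecDepth 1000000 in
theorem qq_ok : qCodes.all (fun q => qCodes.all (fun q' => commZ q q')) = true := by decide +kernel

theorem dtab_ok : (List.range 8).all (fun a => (List.range 128).all (fun i =>
    commZ (repCodes.getD a 0) (qCodes.getD i 0) == (dm a).testBit i)) = true := by decide +kernel

theorem rep_ok : repCodes.all inS0 = true ∧ repCodes.length = 8 := by decide +kernel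

end Cfsg.Agent.Lib.Helper93.Syl24Q
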