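import Cfsg.Agent.Lib.Helper93.Syl24Q
import Cfsg.Agent.Lib.Helper2.PGroup
import Cfsg.Prelude.Def_Transfer

set_option autoImplicit false

/-! The quotient of the Sylow 2-subgroup `S0` of `M24` by its centre: centres of maximal subgroups
have order at most 8, there is an elementary abelian subgroup of order 64, and it is the only
abelian subgroup of order 64. Also a transport lemma along isomorphisms. -/

namespace Cfsg.Agent.Lib.Helper93.Syl24Q

open Cfsg Cfsg.Agent.Lib.Helper93.Golay Cfsg.Agent.Lib.Helper93.Syl24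

theorem z_inQ : inQ zCode = true := by decide +kernel

theorem z0_mem_Q0 : z0 ∈ Q0 := (inQ_spec z_inQ).2

theorem perm_single {a : ℕ} (ha : isPerm a = true) : ∀ S ∈ [a], isPerm S = true := by
  intro S hS
  rw [List.mem_singleton] at hS
  rw [hS]
  exact ha

theorem mem_center_iff_coe (x : ↥S0) :
    x ∈ Subgroup.center ↥S0 ↔
      (x : Equiv.Perm GolayPt) = 1 ∨ (x : Equiv.Perm GolayPt) = z0 := by
  constructor
  · intro hx
    rw [Subgroup.mem_center_iff] at hx
    have hs := entOf_spec x.2
    have hf := entry_facts hs.1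
    have hp := (inS0_spec hf.1).1
    have hc := List.all_eq_true.1 center_chk _ hs.1
    simp only [Bool.or_eq_true, List.any_eq_true, Bool.not_eq_true'] at hc
    rcases hc with (h | h) | ⟨g, hg, hne⟩
    · left
      have := prodC_eq_of_eqW (perm_single hp) (by simp) h
      rw [prodC_singleton, prodC_nil, hs.2] at this
      exact this
    · right
      have := prodC_eq_of_eqW (perm_single hp) (perm_single z_perm) h
      rw [prodC_singleton, prodC_singleton, hs.2] at this
      exact this
    · exfalso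
      have hgm := sylGens_mem hg
      have h1 := hx ⟨permC g, hgm.2⟩
      have h2 : permC g * (x : Equiv.Perm GolayPt) = (x : Equiv.Perm GolayPt) * permC g :=
        congrArg Subtype.val h1
      have h3 : prodC [(entOf (x : Equiv.Perm GolayPt)).1, g] =
          prodC [g, (entOf (x : Equiv.Perm GolayPt)).1] := by
        rw [prodC_pair, prodC_pair, hs.2]
        exact h2.symm
      have h4 := eqW_of_prodC_eq (perm_pair hp hgm.1) (perm_pair hgm.1 hp) h3
      rw [hne] at h4
      exact Bool.false_ne_true h4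
  · rintro (h | h)
    · have : x = 1 := Subtype.ext h
      rw [this]
      exact Subgroup.one_mem _
    · rw [Subgroup.mem_center_iff]
      intro g
      apply Subtype.ext
      show (g : Equiv.Perm GolayPt) * (x : Equiv.Perm GolayPt) =
        (x : Equiv.Perm GolayPt) * (g : Equiv.Perm GolayPt)
      rw [h]
      exact (z0_central g.2).symm

theorem card_center : Nat.card (Subgroup.center ↥S0) = 2 := by
  rw [Nat.card_eq_two_iff]
  refine ⟨1, ⟨⟨z0, z0_mem⟩, (mem_center_iff_coe _).2 (Or.inr rfl)⟩, ?_, ?_⟩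
  · intro h
    have := congrArg (fun t : Subgroup.center ↥S0 => ((t : ↥S0) : Equiv.Perm GolayPt)) h
    exact z0_ne_one this.symm
  · ext t
    simp only [Set.mem_insert_iff, Set.mem_singleton_iff, Set.mem_univ, iff_true]
    rcases (mem_center_iff_coe (t : ↥S0)).1 t.2 with h | h
    · left
      exact Subtype.ext (Subtype.ext h)
    · right
      exact Subtype.ext (Subtype.ext h)

/-- the quotient of `S0` by its centre -/
abbrev TQ : Type := ↥S0 ⧸ Subgroup.center ↥S0

theorem mk_comm_iff (x y : ↥S0) :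
    (QuotientGroup.mk x : TQ) * QuotientGroup.mk y = QuotientGroup.mk y * QuotientGroup.mk x ↔
      CommZ (x : Equiv.Perm GolayPt) (y : Equiv.Perm GolayPt) := by
  rw [← QuotientGroup.mk_mul, ← QuotientGroup.mk_mul, eq_comm, QuotientGroup.eq, mem_center_iff_coe]
  show ((y : Equiv.Perm GolayPt) * x)⁻¹ * ((x : Equiv.Perm GolayPt) * y) = 1 ∨
    ((y : Equiv.Perm GolayPt) * x)⁻¹ * ((x : Equiv.Perm GolayPt) * y) = z0 ↔ _
  unfold CommZ
  constructor
  · rintro (h | h)
    · left
      exact (inv_mul_eq_one.1 h).symm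
    · right
      rw [← h]
      group
  · rintro (h | h)
    · left
      rw [h]
      group
    · right
      rw [h]
      group

/-- preimage in `S0` of a subgroup of the quotient -/
def lift (A : Subgroup TQ) : Subgroup (Equiv.Perm GolayPt) :=
  (A.comap (QuotientGroup.mk' (Subgroup.center ↥S0))).map S0.subtype

theorem mem_lift {A : Subgroup TQ} {x : Equiv.Perm GolayPt} :
    x ∈ lift A ↔ ∃ h : x ∈ S0, (QuotientGroup.mk (⟨x, h⟩ : ↥S0) : TQ) ∈ A := by
  unfold lift
  constructor
  · rintro ⟨y, hy, rfl⟩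
    exact ⟨y.2, hy⟩
  · rintro ⟨h, hA⟩
    exact ⟨⟨x, h⟩, hA, rfl⟩

theorem lift_le (A : Subgroup TQ) : lift A ≤ S0 := by
  intro x hx
  obtain ⟨h, _⟩ := mem_lift.1 hx
  exact h

theorem card_TQ : Nat.card TQ = 512 := by
  have h : 2 ^ 10 = Nat.card TQ * 2 := by
    have h := Subgroup.card_eq_card_quotient_mul_card_subgroup (Subgroup.center ↥S0)
    rw [card_center, card_S0] at h
    exact h
  omega

theorem card_lift (A : Subgroup TQ) : Nat.card (lift A) = 2 * Nat.card A := by
  unfold lift
  rw [Subgroup.card_map_of_injective S0.subtype_injective]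
  have e1 := Subgroup.card_mul_index (A.comap (QuotientGroup.mk' (Subgroup.center ↥S0)))
  have e2 := Subgroup.card_mul_index A
  have e3 := Subgroup.index_comap_of_surjective A
    (QuotientGroup.mk'_surjective (Subgroup.center ↥S0))
  rw [e3, card_S0] at e1
  rw [card_TQ] at e2
  have hpos : 0 < A.index := by
    rcases Nat.eq_zero_or_pos A.index with h | h
    · rw [h] at e2
      omega
    · exact h
  have h4 : Nat.card (A.comap (QuotientGroup.mk' (Subgroup.center ↥S0))) * A.index =
      (2 * Nat.card A) * A.index := by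
    rw [e1, mul_assoc, e2]
    norm_num
  exact Nat.eq_of_mul_eq_mul_right hpos h4

theorem lift_injective {A B : Subgroup TQ} (h : lift A = lift B) : A = B := by
  unfold lift at h
  have h1 := Subgroup.map_injective S0.subtype_injective h
  exact Subgroup.comap_injective (QuotientGroup.mk'_surjective _) h1

theorem lift_eq_Q0 {A : Subgroup TQ} (hc : IsMulCommutative ↥A) (h64 : Nat.card A = 64) :
    lift A = Q0 := by
  have hle : lift A ≤ Q0 := by
    apply le_Q0_of_card _ (lift_le A) (by rw [card_lift, h64])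
    intro x hx y hy
    obtain ⟨hxS, hxA⟩ := mem_lift.1 hx
    obtain ⟨hyS, hyA⟩ := mem_lift.1 hy
    rw [← mk_comm_iff ⟨x, hxS⟩ ⟨y, hyS⟩]
    have := hc.is_comm.comm ⟨_, hxA⟩ ⟨_, hyA⟩
    exact congrArg Subtype.val this
  exact Subgroup.eq_of_le_of_card_ge hle (by rw [card_Q0, card_lift, h64])

/-- the image of `Q0` in the quotient -/
def Abar : Subgroup TQ := (Q0.subgroupOf S0).map (QuotientGroup.mk' (Subgroup.center ↥S0))

theorem lift_Abar : lift Abar = Q0 := by
  have hker : (QuotientGroup.mk' (Subgroup.center ↥S0)).ker ≤ Q0.subgroupOf S0 := by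
    rw [QuotientGroup.ker_mk']
    intro x hx
    rw [Subgroup.mem_subgroupOf]
    rcases (mem_center_iff_coe x).1 hx with h | h
    · rw [h]
      exact Q0.one_mem
    · rw [h]
      exact z0_mem_Q0
  unfold lift Abar
  rw [Subgroup.comap_map_eq_self hker, Subgroup.subgroupOf_map_subtype, inf_eq_left.2 Q0_le_S0]

theorem card_Abar : Nat.card Abar = 64 := by
  have h := card_lift Abar
  rw [lift_Abar, card_Q0] at h
  omega

theorem Abar_elem : IsElementaryAbelian 2 Abar := by
  constructor
  · refine ⟨⟨fun a b => ?_⟩⟩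
    obtain ⟨x, hx, hxa⟩ := a.2
    obtain ⟨y, hy, hyb⟩ := b.2
    apply Subtype.ext
    show (a : TQ) * (b : TQ) = (b : TQ) * (a : TQ)
    rw [← hxa, ← hyb]
    exact (mk_comm_iff x y).2
      (CommZ_Q0 (Subgroup.mem_subgroupOf.1 hx) (Subgroup.mem_subgroupOf.1 hy))
  · intro a ha
    obtain ⟨x, hx, rfl⟩ := ha
    have hxQ : (x : Equiv.Perm GolayPt) ∈ Q0 := Subgroup.mem_subgroupOf.1 hx
    rw [← map_pow]
    show (QuotientGroup.mk (x ^ 2) : TQ) = 1
    rw [QuotientGroup.eq_one_iff, mem_center_iff_coe]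
    have h := (qCode_facts (qix_lt (Q0_le_S0 hxQ))).2.2.2.2
    rw [eq_of_mem_Q0 hxQ] at h
    show (x : Equiv.Perm GolayPt) ^ 2 = 1 ∨ (x : Equiv.Perm GolayPt) ^ 2 = z0
    rw [pow_two]
    exact h

theorem center_coatom_le (M : Subgroup TQ) (hM : IsCoatom M) :
    Nat.card (Subgroup.center ↥M) ≤ 8 := by
  have : Fact (Nat.Prime 2) := ⟨Nat.prime_two⟩
  have hP : IsPGroup 2 TQ := IsPGroup.of_card (n := 9) (by rw [card_TQ]; norm_num)
  have hn := Cfsg.Agent.Lib.Helper2.coatom_normal hP M hM
  have hq := Cfsg.Agent.Lib.Helper2.coatom_card_quotient hP M hM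
  have hM256 : Nat.card M = 256 := by
    have h := Subgroup.card_eq_card_quotient_mul_card_subgroup M
    rw [card_TQ, hq] at h
    omega
  set Cm : Subgroup TQ := (Subgroup.center ↥M).map M.subtype with hCmdef
  have hCm : Nat.card Cm = Nat.card (Subgroup.center ↥M) :=
    Subgroup.card_map_of_injective M.subtype_injective
  have h16 : Nat.card (lift Cm) ≤ 16 := by
    apply card_le_sixteen (lift M) (lift Cm) (lift_le M) (by rw [card_lift, hM256])
    intro x hx
    obtain ⟨hxS, hxC⟩ := mem_lift.1 hx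
    obtain ⟨m, hm, hme⟩ := hxC
    refine ⟨mem_lift.2 ⟨hxS, ?_⟩, ?_⟩
    · rw [← hme]
      exact m.2
    · intro y hy
      obtain ⟨hyS, hyM⟩ := mem_lift.1 hy
      rw [← mk_comm_iff ⟨x, hxS⟩ ⟨y, hyS⟩, ← hme]
      have h1 := (Subgroup.mem_center_iff.1 hm) ⟨_, hyM⟩
      exact (congrArg Subtype.val h1).symm
  rw [card_lift, hCm] at h16
  omega

/-- the three facts about `S0` modulo its centre -/
theorem main_TQ :
    (∀ M : Subgroup TQ, IsCoatom M → Nat.card ↥(Subgroup.center ↥M) ≤ 8) ∧
      (∃ A : Subgroup TQ, Cfsg.IsElementaryAbelian 2 A ∧ Nat.card ↥A = 64) ∧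
      ∀ A B : Subgroup TQ, IsMulCommutative ↥A → Nat.card ↥A = 64 → IsMulCommutative ↥B →
        Nat.card ↥B = 64 → A = B :=
  ⟨center_coatom_le, ⟨Abar, Abar_elem, card_Abar⟩, fun A B hA hA64 hB hB64 =>
    lift_injective ((lift_eq_Q0 hA hA64).trans (lift_eq_Q0 hB hB64).symm)⟩


/-! ### Transport along isomorphisms -/

theorem mem_center_equiv {G G' : Type*} [Group G] [Group G'] (f : G ≃* G') (x : G) :
    x ∈ Subgroup.center G ↔ f x ∈ Subgroup.center G' := by
  rw [Subgroup.mem_center_iff, Subgroup.mem_center_iff]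
  constructor
  · intro h g'
    obtain ⟨g, rfl⟩ := f.surjective g'
    rw [← map_mul, ← map_mul, h g]
  · intro h g
    apply f.injective
    rw [map_mul, map_mul]
    exact h (f g)

theorem card_center_congr {G G' : Type*} [Group G] [Group G'] (f : G ≃* G') :
    Nat.card (Subgroup.center G) = Nat.card (Subgroup.center G') :=
  Nat.card_congr (Equiv.subtypeEquiv f.toEquiv (fun x => mem_center_equiv f x))

theorem map_center_equiv {G G' : Type*} [Group G] [Group G'] (f : G ≃* G') :
    (Subgroup.center G).map (f : G →* G') = Subgroup.center G' := by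
  ext y
  constructor
  · rintro ⟨x, hx, rfl⟩
    exact (mem_center_equiv f x).1 hx
  · intro hy
    refine ⟨f.symm y, ?_, f.apply_symm_apply y⟩
    apply (mem_center_equiv f (f.symm y)).2
    rw [f.apply_symm_apply]
    exact hy

theorem transport {T T' : Type*} [Group T] [Group T'] (e : T ≃* T')
    (h : (∀ M : Subgroup T', IsCoatom M → Nat.card ↥(Subgroup.center ↥M) ≤ 8) ∧
      (∃ A : Subgroup T', Cfsg.IsElementaryAbelian 2 A ∧ Nat.card ↥A = 64) ∧
      ∀ A B : Subgroup T', IsMulCommutative ↥A → Nat.card ↥A = 64 → IsMulCommutative ↥B →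
        Nat.card ↥B = 64 → A = B) :
    (∀ M : Subgroup T, IsCoatom M → Nat.card ↥(Subgroup.center ↥M) ≤ 8) ∧
      (∃ A : Subgroup T, Cfsg.IsElementaryAbelian 2 A ∧ Nat.card ↥A = 64) ∧
      ∀ A B : Subgroup T, IsMulCommutative ↥A → Nat.card ↥A = 64 → IsMulCommutative ↥B →
        Nat.card ↥B = 64 → A = B := by
  obtain ⟨h1, ⟨A', hA', hA'64⟩, h3⟩ := h
  have hcomm : ∀ A : Subgroup T, IsMulCommutative ↥A →
      IsMulCommutative ↥(A.map (e : T →* T')) := by
    intro A hA
    refine ⟨⟨fun a b => ?_⟩⟩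
    obtain ⟨x, hx, hxa⟩ := a.2
    obtain ⟨y, hy, hyb⟩ := b.2
    apply Subtype.ext
    show (a : T') * (b : T') = (b : T') * (a : T')
    rw [← hxa, ← hyb, ← map_mul, ← map_mul]
    have := hA.is_comm.comm ⟨x, hx⟩ ⟨y, hy⟩
    exact congrArg (fun t : ↥A => (e : T →* T') (t : T)) this
  refine ⟨?_, ?_, ?_⟩
  · intro M hM
    have hM' : IsCoatom (M.map (e : T →* T')) :=
      (OrderIso.isCoatom_iff e.mapSubgroup M).2 hM
    rw [card_center_congr (e.subgroupMap M)]
    exact h1 _ hM'
  · refine ⟨A'.map (e.symm : T' →* T), ⟨?_, ?_⟩, ?_⟩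
    · refine ⟨⟨fun a b => ?_⟩⟩
      obtain ⟨x, hx, hxa⟩ := a.2
      obtain ⟨y, hy, hyb⟩ := b.2
      apply Subtype.ext
      show (a : T) * (b : T) = (b : T) * (a : T)
      rw [← hxa, ← hyb, ← map_mul, ← map_mul]
      have := hA'.1.is_comm.comm ⟨x, hx⟩ ⟨y, hy⟩
      exact congrArg (fun t : ↥A' => (e.symm : T' →* T) (t : T')) this
    · rintro a ⟨x, hx, rfl⟩
      rw [← map_pow, hA'.2 x hx, map_one]
    · rw [Subgroup.card_map_of_injective e.symm.injective]
      exact hA'64
  · intro A B hA hA64 hB hB64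
    have := h3 (A.map (e : T →* T')) (B.map (e : T →* T')) (hcomm A hA)
      (by rw [Subgroup.card_map_of_injective e.injective]; exact hA64) (hcomm B hB)
      (by rw [Subgroup.card_map_of_injective e.injective]; exact hB64)
    exact Subgroup.map_injective e.injective this

end Cfsg.Agent.Lib.Helper93.Syl24Q
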