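import Mathlib

set_option autoImplicit false

namespace Cfsg.Agent.Lib.Helper93

/-! ### Groups of order 72 with a normal elementary abelian Sylow 3-subgroup and quaternion
Sylow 2-subgroups -/

section Quat

variable {G : Type*} [Group G]

theorem fact72_3 : (72 : ℕ).factorization 3 = 2 := by
  have h : (72 : ℕ) = 3 ^ 2 * 8 := by norm_num
  rw [h, Nat.factorization_mul (by norm_num) (by norm_num), Nat.Prime.factorization_pow (by norm_num)]
  simp
  rw [Nat.factorization_eq_zero_of_not_dvd (by norm_num)]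

theorem fact72_2 : (72 : ℕ).factorization 2 = 3 := by
  have h : (72 : ℕ) = 2 ^ 3 * 9 := by norm_num
  rw [h, Nat.factorization_mul (by norm_num) (by norm_num), Nat.Prime.factorization_pow (by norm_num)]
  simp
  rw [Nat.factorization_eq_zero_of_not_dvd (by norm_num)]

/-- The map from the quaternion group of order 8 determined by `x` and `y`. -/
def quatFun (x y : G) : QuaternionGroup 2 → G
  | QuaternionGroup.a i => x ^ i.val
  | QuaternionGroup.xa i => y * x ^ i.val

theorem pow_mod4 {x : G} (hx4 : x ^ 4 = 1) (n : ℕ) : x ^ n = x ^ (n % 4) :=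
  pow_eq_pow_mod n hx4

theorem x_pow_mul_y {x y : G} (hxy : x * y = y * x ^ 3) (n : ℕ) :
    x ^ n * y = y * x ^ (3 * n) := by
  induction n with
  | zero => simp
  | succ n ih =>
    rw [pow_succ, mul_assoc, hxy, ← mul_assoc, ih, mul_assoc, ← pow_add]
    rfl

theorem val_add4 : ∀ i j : ZMod 4, (i + j).val = (i.val + j.val) % 4 := by decide
theorem val_sub4 : ∀ i j : ZMod 4, (j - i).val = (3 * i.val + j.val) % 4 := by decide
theorem val_two_add_sub4 : ∀ i j : ZMod 4,
    (((2 : ℕ) : ZMod 4) + j - i).val = (2 + (3 * i.val + j.val)) % 4 := by decide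

theorem quatFun_mul {x y : G} (hx4 : x ^ 4 = 1) (hy : y ^ 2 = x ^ 2) (hxy : x * y = y * x ^ 3)
    (g h : QuaternionGroup 2) : quatFun x y (g * h) = quatFun x y g * quatFun x y h := by
  rcases g with i | i <;> rcases h with j | j
  · rw [QuaternionGroup.a_mul_a]
    show x ^ (i + j).val = x ^ i.val * x ^ j.val
    rw [val_add4, ← pow_add, ← pow_mod4 hx4]
  · rw [QuaternionGroup.a_mul_xa]
    show y * x ^ (j - i).val = x ^ i.val * (y * x ^ j.val)
    rw [← mul_assoc, x_pow_mul_y hxy, mul_assoc, ← pow_add, val_sub4, ← pow_mod4 hx4]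
  · rw [QuaternionGroup.xa_mul_a]
    show y * x ^ (i + j).val = y * x ^ i.val * x ^ j.val
    rw [mul_assoc, ← pow_add, val_add4, ← pow_mod4 hx4]
  · rw [QuaternionGroup.xa_mul_xa]
    show x ^ (((2 : ℕ) : ZMod 4) + j - i).val = y * x ^ i.val * (y * x ^ j.val)
    rw [val_two_add_sub4, ← pow_mod4 hx4]
    have : y * x ^ i.val * (y * x ^ j.val) = y * (x ^ i.val * y) * x ^ j.val := by group
    rw [this, x_pow_mul_y hxy, ← mul_assoc, ← pow_two, hy, mul_assoc, ← pow_add, ← pow_add]

/-- The homomorphism from the quaternion group. -/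
def quatHom (x y : G) (hx4 : x ^ 4 = 1) (hy : y ^ 2 = x ^ 2) (hxy : x * y = y * x ^ 3) :
    QuaternionGroup 2 →* G :=
  MonoidHom.mk' (quatFun x y) (quatFun_mul hx4 hy hxy)

theorem quat_cases : ∀ g : QuaternionGroup 2,
    g = 1 ∨ g = QuaternionGroup.a 2 ∨ g ^ 2 = QuaternionGroup.a 2 := by decide

theorem quatHom_injective (x y : G) (hx4 : x ^ 4 = 1) (hx2 : x ^ 2 ≠ 1) (hy : y ^ 2 = x ^ 2)
    (hxy : x * y = y * x ^ 3) : Function.Injective (quatHom x y hx4 hy hxy) := by
  rw [injective_iff_map_eq_one]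
  intro g hg
  have ha2 : quatHom x y hx4 hy hxy (QuaternionGroup.a 2) = x ^ 2 := rfl
  rcases quat_cases g with h | h | h
  · exact h
  · rw [h, ha2] at hg
    exact absurd hg hx2
  · have : quatHom x y hx4 hy hxy (g ^ 2) = 1 := by rw [map_pow, hg, one_pow]
    rw [h, ha2] at this
    exact absurd this hx2

end Quat

theorem sylow_facts_72 {G : Type*} [Group G] [Finite G] (hcard : Nat.card G = 72)
    (hA1 : ∀ g : G, g ^ 9 = 1 → g ^ 3 = 1) (hA2 : {g : G | g ^ 3 = 1}.ncard ≤ 9)
    (x y : G) (hx4 : x ^ 4 = 1) (hx2 : x ^ 2 ≠ 1) (hy : y ^ 2 = x ^ 2) (hxy : x * y = y * x ^ 3) :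
    (∀ Q : Sylow 3 G, (Q : Subgroup G).Normal ∧ Nat.card ↥Q = 9 ∧
      ∀ g ∈ (Q : Subgroup G), g ^ 3 = 1) ∧
    ∀ P : Sylow 2 G, Nonempty (↥P ≃* QuaternionGroup 2) := by
  have : Fact (Nat.Prime 3) := ⟨by norm_num⟩
  have : Fact (Nat.Prime 2) := ⟨by norm_num⟩
  constructor
  · intro Q
    have hQ9 : Nat.card ↥(Q : Subgroup G) = 9 := by
      have := Sylow.card_eq_multiplicity Q
      rw [hcard, fact72_3] at this
      rw [this]; norm_num
    have h3 : ∀ g ∈ (Q : Subgroup G), g ^ 3 = 1 := by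
      intro g hg
      apply hA1
      have := pow_card_eq_one' (G := ↥(Q : Subgroup G)) (x := ⟨g, hg⟩)
      rw [hQ9] at this
      exact congrArg Subtype.val this
    have hsub : ((Q : Subgroup G) : Set G) ⊆ {g : G | g ^ 3 = 1} := fun g hg => h3 g hg
    have hncard : ((Q : Subgroup G) : Set G).ncard = 9 := by
      rw [← hQ9]; rfl
    have heq : ((Q : Subgroup G) : Set G) = {g : G | g ^ 3 = 1} :=
      Set.eq_of_subset_of_ncard_le hsub (by rw [hncard]; exact hA2) (Set.toFinite _)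
    refine ⟨⟨?_⟩, hQ9, h3⟩
    intro g hg n
    have hg3 : g ^ 3 = 1 := h3 g hg
    have : n * g * n⁻¹ ∈ ((Q : Subgroup G) : Set G) := by
      rw [heq]
      show (n * g * n⁻¹) ^ 3 = 1
      rw [conj_pow, hg3]; group
    exact this
  · intro P
    let f := quatHom x y hx4 hy hxy
    have hinj := quatHom_injective x y hx4 hx2 hy hxy
    have hrange : Nat.card f.range = 2 ^ (Nat.card G).factorization 2 := by
      rw [hcard, fact72_2]
      rw [← Nat.card_congr (MonoidHom.ofInjective hinj).toEquiv, Nat.card_eq_fintype_card,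
        QuaternionGroup.card]
      norm_num
    let P0 : Sylow 2 G := Sylow.ofCard f.range hrange
    have e1 : ↥P ≃* ↥P0 := Sylow.equiv P P0
    have e2 : QuaternionGroup 2 ≃* ↥P0 := MonoidHom.ofInjective hinj
    exact ⟨e1.trans e2.symm⟩

/-- Transfer of the hypotheses along an isomorphism. -/
theorem sylow_facts_72_of_equiv {K G : Type*} [Group K] [Group G] [Finite G] (ψ : K ≃* G)
    (hcard : Nat.card K = 72)
    (hA1 : ∀ g : K, g ^ 9 = 1 → g ^ 3 = 1) (hA2 : {g : K | g ^ 3 = 1}.ncard ≤ 9)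
    (x y : K) (hx4 : x ^ 4 = 1) (hx2 : x ^ 2 ≠ 1) (hy : y ^ 2 = x ^ 2) (hxy : x * y = y * x ^ 3) :
    (∀ Q : Sylow 3 G, (Q : Subgroup G).Normal ∧ Nat.card ↥Q = 9 ∧
      ∀ g ∈ (Q : Subgroup G), g ^ 3 = 1) ∧
    ∀ P : Sylow 2 G, Nonempty (↥P ≃* QuaternionGroup 2) := by
  apply sylow_facts_72 (by rw [← hcard]; exact Nat.card_congr ψ.symm.toEquiv) _ _ (ψ x) (ψ y)
  · rw [← map_pow, hx4, map_one]
  · intro h
    apply hx2
    apply ψ.injective
    rw [map_pow, h, map_one]
  · rw [← map_pow, ← map_pow, hy]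
  · rw [← map_pow, ← map_mul, ← map_mul, hxy]
  · intro g hg
    have h9 : (ψ.symm g) ^ 9 = 1 := by rw [← map_pow, hg, map_one]
    have h3 := hA1 _ h9
    have := congrArg ψ h3
    rw [map_pow, map_one, MulEquiv.apply_symm_apply] at this
    exact this
  · have himg : {g : G | g ^ 3 = 1} = ψ '' {k : K | k ^ 3 = 1} := by
      ext g
      constructor
      · intro hg
        refine ⟨ψ.symm g, ?_, ψ.apply_symm_apply g⟩
        show (ψ.symm g) ^ 3 = 1
        rw [← map_pow, show g ^ 3 = 1 from hg, map_one]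
      · rintro ⟨k, hk, rfl⟩
        show (ψ k) ^ 3 = 1
        rw [← map_pow, show k ^ 3 = 1 from hk, map_one]
    rw [himg, Set.ncard_image_of_injective _ ψ.injective]
    exact hA2

/-- The number of values of a function on a list. -/
theorem ncard_image_list_le {α β : Type*} (f : β → α) (L : List β) :
    ({a | ∃ b ∈ L, f b = a} : Set α).ncard ≤ L.length := by
  classical
  have hS : ({a | ∃ b ∈ L, f b = a} : Set α) = f '' (↑L.toFinset : Set β) := by
    ext a
    simp
  rw [hS]
  refine le_trans (Set.ncard_image_le (Set.toFinite _)) ?_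
  rw [Set.ncard_coe_finset]
  exact List.toFinset_card_le L

end Cfsg.Agent.Lib.Helper93
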