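import Mathlib
import Cfsg.Prelude.Def_GeometricClasses

set_option autoImplicit false

namespace Cfsg.Agent.Lib.Helper93

open Matrix

/-- The matrix `1 + v ⊗ c` acts as `x ↦ x + (c ⬝ᵥ x) • v`. -/
theorem one_add_vecMulVec_mulVec {F : Type*} [Field F] {n : ℕ} (v c x : Fin n → F) :
    (1 + Matrix.vecMulVec v c) *ᵥ x = x + (c ⬝ᵥ x) • v := by
  rw [Matrix.add_mulVec, Matrix.one_mulVec, Matrix.vecMulVec_mulVec]
  congr 1
  ext i
  simp [mul_comm, MulOpposite.smul_eq_mul_unop]

theorem det_one_add_vecMulVec' {F : Type*} [Field F] {n : ℕ} (v c : Fin n → F) :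
    (1 + Matrix.vecMulVec v c).det = 1 + c ⬝ᵥ v := by
  rw [Matrix.vecMulVec_eq Unit, Matrix.det_one_add_replicateCol_mul_replicateRow]

/-- Transvection existence: for a subspace `A`, `v ∈ A` and `u ∉ A` there is an element of
the special linear group fixing `A` pointwise and sending `u` to `u + v`. -/
theorem exists_transvection {F : Type*} [Field F] {n : ℕ} (A : Submodule F (Fin n → F))
    (u v : Fin n → F) (hv : v ∈ A) (hu : u ∉ A) :
    ∃ g : GL (Fin n) F, g ∈ Cfsg.Geo.specialLinear (Fin n) F ∧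
      (∀ a ∈ A, (g : Matrix (Fin n) (Fin n) F) *ᵥ a = a) ∧
      (g : Matrix (Fin n) (Fin n) F) *ᵥ u = u + v := by
  obtain ⟨f, hfu, hfA⟩ := Submodule.exists_dual_map_eq_bot_of_notMem hu inferInstance
  have hA : ∀ a ∈ A, f a = 0 := by
    intro a ha
    have : f a ∈ A.map f := Submodule.mem_map_of_mem ha
    rw [hfA] at this
    simpa using this
  -- coefficient vector of the functional, rescaled so that it takes value 1 at u
  let c : Fin n → F := fun i => (f u)⁻¹ * f (Pi.single i 1)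
  have hc : ∀ x : Fin n → F, c ⬝ᵥ x = (f u)⁻¹ * f x := by
    intro x
    have hx : x = ∑ i, x i • (Pi.single i (1 : F) : Fin n → F) := by
      ext j
      simp [Finset.sum_apply, Pi.single_apply]
    conv_rhs => rw [hx]
    rw [map_sum, Finset.mul_sum]
    simp only [dotProduct, c, map_smul, smul_eq_mul]
    refine Finset.sum_congr rfl fun i _ => ?_
    ring
  have hcv : c ⬝ᵥ v = 0 := by rw [hc, hA v hv, mul_zero]
  have hcu : c ⬝ᵥ u = 1 := by rw [hc, inv_mul_cancel₀ hfu]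
  have hdet : (1 + Matrix.vecMulVec v c).det = 1 := by
    rw [det_one_add_vecMulVec', hcv, add_zero]
  refine ⟨Matrix.GeneralLinearGroup.mkOfDetNeZero (1 + Matrix.vecMulVec v c) (by rw [hdet]; exact one_ne_zero),
    ?_, ?_, ?_⟩
  · show Matrix.GeneralLinearGroup.det _ = 1
    ext
    simp [Matrix.GeneralLinearGroup.mkOfDetNeZero, hdet]
  · intro a ha
    show (1 + Matrix.vecMulVec v c) *ᵥ a = a
    rw [one_add_vecMulVec_mulVec, hc, hA a ha, mul_zero, zero_smul, add_zero]
  · show (1 + Matrix.vecMulVec v c) *ᵥ u = u + v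
    rw [one_add_vecMulVec_mulVec, hcu, one_smul]

/-- An invertible matrix fixing a subspace pointwise lies in its stabiliser. -/
theorem mem_subspaceStabilizer_of_fix {F : Type*} [Field F] {n : ℕ} (W : Submodule F (Fin n → F))
    (g : GL (Fin n) F) (hg : ∀ a ∈ W, (g : Matrix (Fin n) (Fin n) F) *ᵥ a = a) :
    g ∈ Cfsg.Geo.subspaceStabilizer W := by
  show ∀ v, v ∈ (W : Set (Fin n → F)) ↔ (Cfsg.glToMat (Fin n) F g) *ᵥ v ∈ (W : Set (Fin n → F))
  intro v
  constructor
  · intro hv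
    have : (g : Matrix (Fin n) (Fin n) F) *ᵥ v = v := hg v hv
    show (g : Matrix (Fin n) (Fin n) F) *ᵥ v ∈ W
    rw [this]; exact hv
  · intro hv
    have hv' : (g : Matrix (Fin n) (Fin n) F) *ᵥ v ∈ W := hv
    have h1 := hg _ hv'
    have h2 : ((g⁻¹ : GL (Fin n) F) : Matrix (Fin n) (Fin n) F) *ᵥ
        ((g : Matrix (Fin n) (Fin n) F) *ᵥ ((g : Matrix (Fin n) (Fin n) F) *ᵥ v)) =
        ((g⁻¹ : GL (Fin n) F) : Matrix (Fin n) (Fin n) F) *ᵥ ((g : Matrix (Fin n) (Fin n) F) *ᵥ v) := by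
      rw [h1]
    have h3 : ∀ x : Fin n → F, ((g⁻¹ : GL (Fin n) F) : Matrix (Fin n) (Fin n) F) *ᵥ
        ((g : Matrix (Fin n) (Fin n) F) *ᵥ x) = x := by
      intro x
      rw [Matrix.mulVec_mulVec, ← Units.val_mul, inv_mul_cancel, Units.val_one, Matrix.one_mulVec]
    rw [h3, h3] at h2
    show v ∈ W
    rw [← h2]; exact hv'

theorem not_mem_subspaceStabilizer {F : Type*} [Field F] {n : ℕ} (W : Submodule F (Fin n → F))
    (g : GL (Fin n) F) (w : Fin n → F) (hw : w ∈ W) (hgw : (g : Matrix (Fin n) (Fin n) F) *ᵥ w ∉ W) :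
    g ∉ Cfsg.Geo.subspaceStabilizer W := by
  intro hg
  have : ∀ v, v ∈ (W : Set (Fin n → F)) ↔ (Cfsg.glToMat (Fin n) F g) *ᵥ v ∈ (W : Set (Fin n → F)) := hg
  exact hgw ((this w).1 hw)

/-- Some element of the special linear group does not stabilise a given proper nonzero subspace. -/
theorem exists_specialLinear_not_stab {F : Type*} [Field F] {n : ℕ} (W : Submodule F (Fin n → F))
    (hW0 : W ≠ ⊥) (hW1 : W ≠ ⊤) :
    ∃ g : GL (Fin n) F, g ∈ Cfsg.Geo.specialLinear (Fin n) F ∧ g ∉ Cfsg.Geo.subspaceStabilizer W := by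
  obtain ⟨w, hwW, hw0⟩ := Submodule.exists_mem_ne_zero_of_ne_bot hW0
  obtain ⟨v, hv⟩ : ∃ v : Fin n → F, v ∉ W := by
    by_contra h
    exact hW1 (eq_top_iff.2 fun x _ => not_not.1 fun hx => h ⟨x, hx⟩)
  have hwA : w ∉ Submodule.span F {v} := by
    intro h
    obtain ⟨c, rfl⟩ := Submodule.mem_span_singleton.1 h
    have hc : c ≠ 0 := by
      rintro rfl
      exact hw0 (zero_smul _ _)
    apply hv
    have : v = c⁻¹ • (c • v) := by rw [smul_smul, inv_mul_cancel₀ hc, one_smul]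
    rw [this]
    exact W.smul_mem _ hwW
  obtain ⟨g, hgS, -, hgu⟩ := exists_transvection (Submodule.span F {v}) w v
    (Submodule.mem_span_singleton_self v) hwA
  refine ⟨g, hgS, not_mem_subspaceStabilizer W g w hwW ?_⟩
  rw [hgu]
  intro h
  apply hv
  have : v = (w + v) - w := by abel
  rw [this]
  exact W.sub_mem h hwW

end Cfsg.Agent.Lib.Helper93
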