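import Cfsg.Agent.Lib.Helper93.OctadPairs

set_option autoImplicit false

namespace Cfsg.Agent.Lib.Helper93.Golay

open Cfsg
open scoped Pointwise

theorem disjoint_smul_iff (g : Equiv.Perm GolayPt) (s t : Finset GolayPt) :
    Disjoint (g • s) (g • t) ↔ Disjoint s t := by
  rw [Finset.disjoint_iff_inter_eq_empty, Finset.disjoint_iff_inter_eq_empty,
    ← Finset.smul_finset_inter, Finset.smul_finset_eq_empty]

/-! ### Trios -/

/-- The check that a list of masks codes a trio. -/
def trioOK : List ℕ → Bool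
  | [a, b, c] => canonL [a, b, c] &&
      [a, b, c].all (fun m => isCodeF m && Nat.beq (popcF m) 8) &&
      Nat.beq (a &&& b) 0 && Nat.beq (a &&& c) 0 && Nat.beq (b &&& c) 0
  | _ => false

theorem canonL_of_trioOK {l : List ℕ} (h : trioOK l = true) : canonL l = true := by
  match l, h with
  | [a, b, c], h =>
    unfold trioOK at h
    simp only [Bool.and_eq_true] at h
    exact h.1.1.1.1

theorem decFF_mem_trios {l : List ℕ} (h : trioOK l = true) : decFF l ∈ trios := by
  match l, h with
  | [a, b, c], h =>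
    unfold trioOK at h
    simp only [Bool.and_eq_true] at h
    obtain ⟨⟨⟨⟨hcanon, hall⟩, hab⟩, hac⟩, hbc⟩ := h
    have hab' := Nat.eq_of_beq_eq_true hab
    have hac' := Nat.eq_of_beq_eq_true hac
    have hbc' := Nat.eq_of_beq_eq_true hbc
    refine ⟨?_, ?_, ?_⟩
    · rw [card_decFF hcanon]; rfl
    · intro o ho
      rw [mem_decFF] at ho
      obtain ⟨m, hm, rfl⟩ := ho
      have := List.all_eq_true.1 hall m hm
      rw [Bool.and_eq_true] at this
      exact fset_mem_octads (canonL_lt hcanon hm) this.1 (Nat.eq_of_beq_eq_true this.2)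
    · intro o ho o' ho' hne
      rw [mem_decFF] at ho ho'
      obtain ⟨m, hm, rfl⟩ := ho
      obtain ⟨m', hm', rfl⟩ := ho'
      apply disjoint_fset
      simp only [List.mem_cons, List.mem_nil_iff, or_false] at hm hm'
      rcases hm with rfl | rfl | rfl <;> rcases hm' with rfl | rfl | rfl
      · exact absurd rfl hne
      · exact hab'
      · exact hac'
      · rw [Nat.and_comm]; exact hab'
      · exact absurd rfl hne
      · exact hbc'
      · rw [Nat.and_comm]; exact hac'
      · rw [Nat.and_comm]; exact hbc'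
      · exact absurd rfl hne

theorem smul_mem_trios {g : Equiv.Perm GolayPt} (hg : g ∈ M24) {T : Finset (Finset GolayPt)}
    (hT : T ∈ trios) : g • T ∈ trios := by
  obtain ⟨hcard, hoct, hdisj⟩ := hT
  refine ⟨?_, ?_, ?_⟩
  · rw [Finset.card_smul_finset, hcard]
  · intro o ho
    rw [Finset.mem_smul_finset] at ho
    obtain ⟨t, ht, rfl⟩ := ho
    exact smul_mem_octads_of_mem_M24 hg (hoct t ht)
  · intro o ho o' ho' hne
    rw [Finset.mem_smul_finset] at ho ho'
    obtain ⟨t, ht, rfl⟩ := ho
    obtain ⟨t', ht', rfl⟩ := ho'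
    rw [disjoint_smul_iff]
    exact hdisj t ht t' ht' (fun h => hne (by rw [h]))

/-- A trio containing two given octads is determined. -/
theorem trio_eq_of_mem {T : Finset (Finset GolayPt)} (hT : T ∈ trios) {a b : ℕ}
    (ha : a < 16777216) (hb : b < 16777216) (hne : a ≠ b) (hA : fset a ∈ T) (hB : fset b ∈ T) :
    T = decFF [a, b, 16777215 ^^^ a ^^^ b] := by
  obtain ⟨hcard, hoct, hdisj⟩ := hT
  have hAB : fset a ≠ fset b := fun h => hne (fset_injOn ha hb h)
  -- the third member
  have hcard2 : ((T.erase (fset a)).erase (fset b)).card = 1 := by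
    rw [Finset.card_erase_of_mem, Finset.card_erase_of_mem hA, hcard]
    rw [Finset.mem_erase]
    exact ⟨hAB.symm, hB⟩
  obtain ⟨C, hC⟩ := Finset.card_eq_one.1 hcard2
  have hCmem : C ∈ (T.erase (fset a)).erase (fset b) := by rw [hC]; exact Finset.mem_singleton_self C
  rw [Finset.mem_erase, Finset.mem_erase] at hCmem
  obtain ⟨hCB, hCA, hCT⟩ := hCmem
  have dAB := hdisj _ hA _ hB hAB
  have dAC := hdisj _ hA _ hCT (Ne.symm hCA)
  have dBC := hdisj _ hB _ hCT (Ne.symm hCB)
  have hCeq : C = (fset a ∪ fset b)ᶜ := by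
    apply Finset.eq_of_subset_of_card_le
    · intro p hp
      rw [Finset.mem_compl, Finset.mem_union]
      rintro (h | h)
      · exact Finset.disjoint_left.1 dAC h hp
      · exact Finset.disjoint_left.1 dBC h hp
    · rw [Finset.card_compl, Finset.card_union_of_disjoint dAB, (hoct _ hA).2, (hoct _ hB).2,
        (hoct _ hCT).2]
      rfl
  have hceq : fmask C = 16777215 ^^^ a ^^^ b := by
    have := congrArg fmask hCeq
    rw [fmask_compl, ← Finset.sup_eq_union, ← Disjoint.symmDiff_eq_sup dAB,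
      fmask_symmDiff, fmask_fset' ha, fmask_fset' hb, ← Nat.xor_assoc] at this
    exact this
  have hCfset : C = fset (16777215 ^^^ a ^^^ b) := by rw [← hceq, fset_fmask]
  ext o
  rw [mem_decFF]
  constructor
  · intro ho
    by_cases h1 : o = fset a
    · exact ⟨a, by simp, h1.symm⟩
    · by_cases h2 : o = fset b
      · exact ⟨b, by simp, h2.symm⟩
      · have : o ∈ (T.erase (fset a)).erase (fset b) := by
          rw [Finset.mem_erase, Finset.mem_erase]
          exact ⟨h2, h1, ho⟩
        rw [hC, Finset.mem_singleton] at this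
        exact ⟨16777215 ^^^ a ^^^ b, by simp, by rw [this, hCfset]⟩
  · rintro ⟨m, hm, rfl⟩
    simp only [List.mem_cons, List.mem_nil_iff, or_false] at hm
    rcases hm with rfl | rfl | rfl
    · exact hA
    · exact hB
    · rw [← hCfset]; exact hCT

/-- The base trio. -/
def T0code : List ℕ := [5279, 1009728, 15762208]

theorem T0code_ok : trioOK T0code = true := by decide +kernel

/-- `M24` is transitive on trios. -/
theorem exists_smul_T0_eq {T : Finset (Finset GolayPt)} (hT : T ∈ trios) :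
    ∃ g ∈ M24, g • decFF T0code = T := by
  have hcard := hT.1
  have hne : T.Nonempty := by
    rw [← Finset.card_pos, hcard]; norm_num
  obtain ⟨A, hA⟩ := hne
  obtain ⟨g₁, hg₁, hgA⟩ := exists_smul_O0_eq (hT.2.1 A hA)
  have hT' : g₁⁻¹ • T ∈ trios := smul_mem_trios (M24.inv_mem hg₁) hT
  have hO0 : O0 ∈ g₁⁻¹ • T := by
    rw [Finset.mem_smul_finset]
    exact ⟨A, hA, by rw [← hgA, inv_smul_smul]⟩
  obtain ⟨B, hB, hBne⟩ := Finset.exists_mem_ne (by rw [hT'.1]; norm_num) O0
  have hBoct := hT'.2.1 B hB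
  have hdisj := hT'.2.2 O0 hO0 B hB hBne.symm
  have h0 : (O0 ∩ B).card = 0 := by
    rw [Finset.disjoint_iff_inter_eq_empty.1 hdisj]; rfl
  obtain ⟨h, hh, hhO, hhB⟩ := exists_pair_map0 O0_mem hBoct h0
  have hT'' : h⁻¹ • g₁⁻¹ • T ∈ trios := smul_mem_trios (M24.inv_mem hh) hT'
  have m1 : fset 5279 ∈ h⁻¹ • g₁⁻¹ • T := by
    rw [Finset.mem_smul_finset]
    refine ⟨O0, hO0, ?_⟩
    rw [inv_smul_eq_iff]
    exact hhO.symm
  have m2 : fset octRep0 ∈ h⁻¹ • g₁⁻¹ • T := by
    rw [Finset.mem_smul_finset]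
    exact ⟨B, hB, by rw [inv_smul_eq_iff, hhB]⟩
  have := trio_eq_of_mem hT'' (a := 5279) (b := octRep0) (by norm_num) (by decide) (by decide)
    m1 m2
  refine ⟨g₁ * h, M24.mul_mem hg₁ hh, ?_⟩
  have e : decFF T0code = h⁻¹ • g₁⁻¹ • T := by
    rw [this]
    rfl
  rw [e, mul_smul, smul_inv_smul, smul_inv_smul]

end Cfsg.Agent.Lib.Helper93.Golay
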